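import Groth.Agent.Resolve13.Principal
import Groth.Agent.SDiv28.BlowUp
import Groth.Agent.Models7.PointBlowUpIso
import Groth.Agent.Models7.ContractionSeq
import Groth.Agent.Models7.Factor
import Groth.Agent.AlgSpLib.DimBasic
import Groth.Agent.CurvesLib24.Basic
import Groth.Prelude.Def_ResolveSeq

/-!
# Resolving a curve with finite normalization by point blow-ups
-/

set_option autoImplicit false
set_option linter.style.haveILetI false
set_option backward.isDefEq.respectTransparency false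
set_option maxHeartbeats 1000000

universe u

open CategoryTheory CategoryTheory.Limits AlgebraicGeometry TopologicalSpace IsLocalRing Opposite
open Groth.Agent.Misc15.DivDescent Groth.Agent.SDiv28.CartierPart

namespace Groth.Agent.Resolve13

theorem point_support_ne {X : Scheme.{u}} [IrreducibleSpace X] (z : X) (hz : IsClosed ({z} : Set X))
    (hz0 : z ≠ genericPoint X) :
    genericPoint X ∈ (Scheme.IdealSheafData.vanishingIdeal ⟨{z}, hz⟩).support.compl :=
  fun h => hz0 (Set.mem_singleton_iff.1 ((Scheme.IdealSheafData.coe_support_vanishingIdeal _).le h)).symm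

/-- The blow-up of an integral scheme in an ideal not vanishing at the generic point is integral. -/
theorem isIntegral_blowUp {X X' : Scheme.{u}} [IsIntegral X] {I : X.IdealSheafData} {b : X' ⟶ X}
    (hb : BlowUp.IsBlowUp b I) (hη : genericPoint X ∈ I.support.compl) : IsIntegral X' := by
  haveI := SDiv28.isIso_off_center hb
  let V : X'.Opens := SDiv28.offCenter b I
  haveI : Nonempty (Scheme.Opens.toScheme (X := X) I.support.compl) := ⟨⟨_, hη⟩⟩
  let e : V.toScheme ≅ Scheme.Opens.toScheme (X := X) I.support.compl := asIso (b ∣_ I.support.compl)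
  haveI : IrreducibleSpace V.toScheme := e.inv.homeomorph.surjective.irreducibleSpace e.inv.continuous
  haveI : IsReduced V.toScheme := isReduced_of_isOpenImmersion e.hom
  have hred : ∀ U : X'.Opens, _root_.IsReduced Γ(X', U) := fun U => ⟨fun s hs => by
    refine SDiv28.isDenseOpen_offCenter hb U s ?_
    have hle : U ⊓ V ≤ V := inf_le_right
    haveI : IsReduced (U ⊓ V : X'.Opens).toScheme := isReduced_of_isOpenImmersion (X'.homOfLE hle)
    haveI : _root_.IsReduced Γ((U ⊓ V : X'.Opens).toScheme, ⊤) := inferInstance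
    haveI : _root_.IsReduced Γ(X', U ⊓ V) :=
      isReduced_of_injective (U ⊓ V).topIso.inv.hom (ConcreteCategory.bijective_of_isIso (U ⊓ V).topIso.inv).1
    exact IsNilpotent.eq_zero (hs.map _)⟩
  haveI : IsReduced X' := ⟨hred⟩
  have hVirr : IsIrreducible (V : Set X') := by
    have h := (IrreducibleSpace.isIrreducible_univ V.toScheme).image V.ι V.ι.continuous.continuousOn
    rwa [Set.image_univ, Scheme.Opens.range_ι] at h
  have hd : Dense (V : Set X') := by
    rw [dense_iff_inter_open]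
    intro O hO hne
    by_contra hempty
    rw [Set.not_nonempty_iff_eq_empty] at hempty
    let O' : X'.Opens := ⟨O, hO⟩
    have hbot : O' ⊓ SDiv28.offCenter b I = ⊥ := Opens.ext hempty
    have hsub : Subsingleton Γ(X', O' ⊓ SDiv28.offCenter b I) := by rw [hbot]; infer_instance
    have h1 := SDiv28.isDenseOpen_offCenter hb O' 1 (Subsingleton.elim _ _)
    obtain ⟨x, hx⟩ := hne
    exact one_ne_zero (α := X'.presheaf.stalk x)
      (by rw [← map_one (X'.presheaf.germ O' x hx).hom, h1, map_zero])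
  have h := hVirr.closure
  rw [hd.closure_eq] at h
  haveI : IrreducibleSpace X' := irreducibleSpace_def (X := X') |>.2 h
  exact isIntegral_of_irreducibleSpace_of_isReduced _

theorem appLE_injective {N Y : Scheme.{u}} [IsIntegral N] [IsIntegral Y] (f : N ⟶ Y)
    (hgen : f (genericPoint N) = genericPoint Y) (U : Y.Opens) (hU : genericPoint Y ∈ U) (W : N.Opens)
    (hW : genericPoint N ∈ W) (e : W ≤ f ⁻¹ᵁ U) : Function.Injective (f.appLE U W e) := by
  intro a a' h
  have hfU : f (genericPoint N) ∈ U := e hW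
  have h0 := congrArg (N.presheaf.germ W _ hW) h
  rw [Scheme.Hom.appLE, CommRingCat.comp_apply, CommRingCat.comp_apply, TopCat.Presheaf.germ_res_apply,
    TopCat.Presheaf.germ_res_apply, ← Scheme.Hom.germ_stalkMap_apply f U (genericPoint N) hfU,
    ← Scheme.Hom.germ_stalkMap_apply f U (genericPoint N) hfU] at h0
  haveI : Nonempty U := ⟨⟨_, hU⟩⟩
  have key : ∀ (z : Y) (hz : z ∈ U), z = genericPoint Y →
      ∀ (φ : Y.presheaf.stalk z →+* N.functionField),
        φ (Y.presheaf.germ U z hz a) = φ (Y.presheaf.germ U z hz a') → a = a' := by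
    rintro z hz rfl φ hφ
    exact Y.germToFunctionField_injective U (φ.injective hφ)
  exact key _ hfU hgen (f.stalkMap (genericPoint N)).hom h0

/-- A finite morphism bijective on the sections over affine opens covering the target is an isomorphism. -/
theorem isIso_of_app_bijective {X Y : Scheme.{u}} (f : X ⟶ Y) [IsAffineHom f] {ι : Type*} (V : ι → Y.Opens)
    (hV : ∀ i, IsAffineOpen (V i)) (hcov : ⨆ i, V i = ⊤) (h : ∀ i, Function.Bijective (f.app (V i))) : IsIso f := by
  rw [← MorphismProperty.isomorphisms.iff]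
  refine (IsZariskiLocalAtTarget.iff_of_iSup_eq_top (P := MorphismProperty.isomorphisms Scheme.{u}) V hcov).2 fun i => ?_
  rw [MorphismProperty.isomorphisms.iff]
  haveI : IsIso (f.app (V i)) := (ConcreteCategory.isIso_iff_bijective _).2 (h i)
  haveI : IsAffine (V i).toScheme := hV i
  haveI : IsAffine (f ⁻¹ᵁ V i).toScheme := (hV i).preimage _
  have hiso : IsIso (f ∣_ V i).appTop := by
    rw [morphismRestrict_appTop]
    have h1 : IsIso (f.app ((V i).ι ''ᵁ ⊤)) := by rw [(V i).ι_image_top]; infer_instance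
    exact @IsIso.comp_isIso _ _ _ _ _ _ _ h1 (Functor.map_isIso _ _)
  exact ((MorphismProperty.arrow_mk_iso_iff (MorphismProperty.isomorphisms Scheme.{u})
    (arrowIsoSpecΓOfIsAffine (f ∣_ V i))).mpr
      (inferInstanceAs (IsIso (Spec.map (f ∣_ V i).appTop))) :)

theorem pre_le {N Y Y' : Scheme.{u}} {g : N ⟶ Y} {h : N ⟶ Y'} {r : Y' ⟶ Y} (hg : h ≫ r = g) (U : Y.Opens) :
    g ⁻¹ᵁ U ≤ h ⁻¹ᵁ (r ⁻¹ᵁ U) := by
  subst hg; rfl

theorem exists_submodule {N Y Y' : Scheme.{u}} (g : N ⟶ Y) (h : N ⟶ Y') (r : Y' ⟶ Y) (hg : h ≫ r = g)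
    (U : Y.Opens) :
    letI := (g.app U).hom.toAlgebra
    ∃ M : Submodule Γ(Y, U) Γ(N, g ⁻¹ᵁ U),
      (M : Set Γ(N, g ⁻¹ᵁ U)) = Set.range (h.appLE (r ⁻¹ᵁ U) (g ⁻¹ᵁ U) (by subst hg; rfl)) := by
  letI := (g.app U).hom.toAlgebra
  subst hg
  refine ⟨{ carrier := Set.range (h.appLE (r ⁻¹ᵁ U) ((h ≫ r) ⁻¹ᵁ U) le_rfl), add_mem' := ?_, zero_mem' := ?_, smul_mem' := ?_ }, rfl⟩
  · rintro _ _ ⟨a, rfl⟩ ⟨c, rfl⟩; exact ⟨a + c, map_add _ _ _⟩
  · exact ⟨0, map_zero _⟩
  · rintro c _ ⟨a, rfl⟩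
    refine ⟨r.app U c * a, ?_⟩
    show _ = (h ≫ r).app U c * _
    rw [map_mul]
    refine congrArg (· * _) ?_
    rw [Scheme.Hom.comp_app, CommRingCat.comp_apply, Scheme.Hom.app_eq_appLE h]
    rfl

/-- A curve with a finite birational map from a regular one becomes regular after point blow-ups. -/
theorem exists_ptBlowupSeq_regular {N Y : Scheme.{u}} [IsIntegral N] [IsIntegral Y] [IsNoetherian Y]
    (hdim : topologicalKrullDim Y ≤ 1) (g : N ⟶ Y) [IsFinite g] (hgen : g (genericPoint N) = genericPoint Y)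
    (hN : ∀ x : N, IsRegularLocalRing (N.presheaf.stalk x)) :
    ∃ (Y' : Scheme.{u}) (r : Y' ⟶ Y), Resolve.IsPtBlowupSeq r ∧
      ∀ y : Y', IsRegularLocalRing (Y'.presheaf.stalk y) := by
  classical
  haveI : IsLocallyNoetherian N := LocallyOfFiniteType.isLocallyNoetherian g
  have hdN : topologicalKrullDim N ≤ 1 := (AlgSpLib.topologicalKrullDim_le_of_isIntegralHom g).trans hdim
  have hloc : ∀ y : Y, ∃ U : Y.affineOpens, y ∈ U.1 := fun y => by
    obtain ⟨_, ⟨U, hU, rfl⟩, hyU, -⟩ := Y.isBasis_affineOpens.exists_subset_of_mem_open (Set.mem_univ y) isOpen_univ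
    exact ⟨⟨U, hU⟩, hyU⟩
  choose U hyU using hloc
  obtain ⟨t, ht⟩ := isCompact_univ.elim_finite_subcover (fun y => ((U y).1 : Set Y)) (fun y => (U y).1.2)
    (fun y _ => Set.mem_iUnion.2 ⟨y, hyU y⟩)
  have hηU : ∀ y, genericPoint Y ∈ (U y).1 := fun y => (genericPoint_specializes y).mem_open (U y).1.2 (hyU y)
  have hηN : ∀ y, genericPoint N ∈ g ⁻¹ᵁ (U y).1 := fun y => by show g _ ∈ (U y).1; rw [hgen]; exact hηU y
  letI alg : ∀ y : t, Algebra Γ(Y, (U y.1).1) Γ(N, g ⁻¹ᵁ (U y.1).1) := fun y => (g.app (U y.1).1).hom.toAlgebra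
  haveI hfin : ∀ y : t, Module.Finite Γ(Y, (U y.1).1) Γ(N, g ⁻¹ᵁ (U y.1).1) := fun y => g.finite_app _ (U y.1).2
  haveI hnr : ∀ y : t, IsNoetherianRing Γ(Y, (U y.1).1) := fun y => IsLocallyNoetherian.component_noetherian (U y.1)
  let P := ∀ y : t, (Submodule Γ(Y, (U y.1).1) Γ(N, g ⁻¹ᵁ (U y.1).1))ᵒᵈ
  haveI : ∀ y : t, WellFoundedLT (Submodule Γ(Y, (U y.1).1) Γ(N, g ⁻¹ᵁ (U y.1).1))ᵒᵈ := fun y => inferInstance
  suffices main : ∀ (M : P) (Y' : Scheme.{u}) (h : N ⟶ Y') (r : Y' ⟶ Y) (hhr : h ≫ r = g) [IsIntegral Y']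
      [IsFinite r], h (genericPoint N) = genericPoint Y' → Resolve.IsPtBlowupSeq r →
      (∀ y : t, ((OrderDual.ofDual (α := Submodule Γ(Y, (U y.1).1) Γ(N, g ⁻¹ᵁ (U y.1).1)) (M y) : Submodule Γ(Y, (U y.1).1) Γ(N, g ⁻¹ᵁ (U y.1).1)) : Set Γ(N, g ⁻¹ᵁ (U y.1).1)) =
        Set.range (h.appLE (r ⁻¹ᵁ (U y.1).1) (g ⁻¹ᵁ (U y.1).1) (pre_le hhr _))) →
      ∃ (Y'' : Scheme.{u}) (r' : Y'' ⟶ Y), Resolve.IsPtBlowupSeq r' ∧
        ∀ y : Y'', IsRegularLocalRing (Y''.presheaf.stalk y) by
    choose M hM using fun y : t => exists_submodule g g (𝟙 Y) (Category.comp_id g) (U y.1).1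
    exact main (fun y => OrderDual.toDual (M y)) Y g (𝟙 Y) (Category.comp_id g) hgen
      (Resolve.IsPtBlowupSeq.iso (Iso.refl Y)) hM
  intro M
  induction M using WellFoundedLT.induction with
  | _ M ih =>
    intro Y' h r hhr _ _ hgen' hr hM
    by_cases hreg : ∀ y : Y', IsRegularLocalRing (Y'.presheaf.stalk y)
    · exact ⟨Y', r, hr, hreg⟩
    push Not at hreg
    obtain ⟨z, hzreg⟩ := hreg
    haveI : IsLocallyNoetherian Y' := LocallyOfFiniteType.isLocallyNoetherian r
    have hd' : topologicalKrullDim Y' ≤ 1 := (AlgSpLib.topologicalKrullDim_le_of_isIntegralHom r).trans hdim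
    have hz0 : z ≠ genericPoint Y' := by
      intro hz
      subst hz
      exact hzreg (inferInstanceAs (IsRegularLocalRing Y'.functionField))
    have hz : IsClosed ({z} : Set Y') := (CurvesLib24.eq_genericPoint_or_isClosed hd' z).resolve_left hz0
    let I := Scheme.IdealSheafData.vanishingIdeal ⟨{z}, hz⟩
    have hη : genericPoint Y' ∈ I.support.compl := point_support_ne z hz hz0
    obtain ⟨Y₁, b, hb⟩ := BlowUpLib.exists_isBlowUp I
    haveI : IsIntegral Y₁ := isIntegral_blowUp hb hη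
    have hcart : BlowUp.IsEffCartierIdeal (I.comap h) := by
      refine Inters29.isEffCartier_of_stk _ fun w => ⟨?_, stk_ne_bot _ (fun h0 => ?_) w⟩
      · haveI := CurvesLib24.isPrincipalIdealRing_stalk hdN w (Models7.isNormalScheme_of_regular hN w).2
        exact IsPrincipalIdealRing.principal _
      · have h1 : stk (I.comap h) (genericPoint N) = ⊥ := by
          obtain ⟨_, ⟨W, hW, rfl⟩, hwW, -⟩ :=
            N.isBasis_affineOpens.exists_subset_of_mem_open (Set.mem_univ (genericPoint N)) isOpen_univ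
          rw [h0, stk_eq _ ⟨W, hW⟩ hwW, Scheme.IdealSheafData.ideal_bot]
          exact Ideal.map_bot
        rw [stk_comap, stk_eq_top (show h (genericPoint N) ∉ I.support from hgen' ▸ hη), Ideal.map_top] at h1
        exact top_ne_bot h1
    obtain ⟨h₁, hh₁, -⟩ := hb.2 N h hcart
    change h₁ ≫ b = h at hh₁
    haveI : IsProper b := BlowUpLib.isProper_of_isBlowUp hb (FlatMorAdm.isFiniteTypeIdeal_of_noetherian I)
    haveI : IsFinite (h ≫ r) := hhr.symm ▸ inferInstanceAs (IsFinite g)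
    haveI : IsFinite h := IsFinite.of_comp h r
    haveI : IsFinite (h₁ ≫ b) := hh₁.symm ▸ inferInstanceAs (IsFinite h)
    haveI : IsFinite h₁ := IsFinite.of_comp h₁ b
    haveI := SDiv28.isIso_off_center hb
    obtain ⟨hbgen, -⟩ := Coherent.birational_of_isIso_morphismRestrict b I.support.compl ⟨_, hη⟩
    have hgen₁ : h₁ (genericPoint N) = genericPoint Y₁ := by
      have e : b (h₁ (genericPoint N)) = genericPoint Y' := by rw [← Scheme.Hom.comp_apply, hh₁, hgen']
      have m1 : h₁ (genericPoint N) ∈ b ⁻¹ᵁ I.support.compl := (show b (h₁ (genericPoint N)) ∈ I.support.compl from e.symm ▸ hη)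
      have m2 : genericPoint Y₁ ∈ b ⁻¹ᵁ I.support.compl := (show b (genericPoint Y₁) ∈ I.support.compl from hbgen.symm ▸ hη)
      have h2 : (b ∣_ I.support.compl) ⟨_, m1⟩ = (b ∣_ I.support.compl) ⟨_, m2⟩ :=
        Subtype.ext (((morphismRestrict_base_coe b _ _).trans (e.trans hbgen.symm)).trans
          (morphismRestrict_base_coe b _ _).symm)
      exact congrArg Subtype.val ((b ∣_ I.support.compl).homeomorph.injective h2)
    haveI : Surjective h₁ := ⟨fun v => (genericPoint_specializes v).mem_closed h₁.isClosedMap.isClosed_range ⟨_, hgen₁⟩⟩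
    haveI : LocallyQuasiFinite b := LocallyQuasiFinite.of_finite_preimage_singleton b fun v => by
      refine ((h.finite_preimage_singleton v).image h₁.base).subset fun w hw => ?_
      obtain ⟨n, rfl⟩ := h₁.surjective w
      exact ⟨n, by show h n = v; rw [← hh₁, Scheme.Hom.comp_apply]; exact hw, rfl⟩
    haveI : IsFinite b := IsFinite.of_isProper_of_locallyQuasiFinite b
    have hhr₁ : h₁ ≫ b ≫ r = g := by rw [← Category.assoc, hh₁, hhr]
    choose M₁ hM₁ using fun y : t => exists_submodule g h₁ (b ≫ r) hhr₁ (U y.1).1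
    have hcompo : ∀ (y : t) (a : Γ(Y', r ⁻¹ᵁ (U y.1).1)),
        h.appLE (r ⁻¹ᵁ (U y.1).1) (g ⁻¹ᵁ (U y.1).1) (pre_le hhr _) a =
          h₁.appLE ((b ≫ r) ⁻¹ᵁ (U y.1).1) (g ⁻¹ᵁ (U y.1).1) (pre_le hhr₁ _) (b.app (r ⁻¹ᵁ (U y.1).1) a) := by
      intro y a
      rw [Scheme.Hom.app_eq_appLE b]
      refine Eq.trans ?_ (ConcreteCategory.congr_hom (Scheme.Hom.appLE_comp_appLE h₁ b (r ⁻¹ᵁ (U y.1).1) _ _ le_rfl (pre_le hhr₁ _)) a).symm
      simp only [hh₁]
    have hle : ∀ y : t, M y ≥ OrderDual.toDual (M₁ y) := fun y x hx => by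
      obtain ⟨a, rfl⟩ := (hM y).le hx
      exact (hM₁ y).ge ⟨_, (hcompo y a).symm⟩
    refine ih (fun y => OrderDual.toDual (M₁ y)) (lt_of_le_not_ge hle fun hge => ?_) Y₁ h₁ (b ≫ r) hhr₁ hgen₁
      (Resolve.IsPtBlowupSeq.step b r z hz hb hr) hM₁
    have hiso : IsIso b := by
      refine isIso_of_app_bijective b (fun y : t => r ⁻¹ᵁ (U y.1).1) (fun y => (U y.1).2.preimage r) ?_ fun y => ⟨?_, fun c => ?_⟩
      · refine top_le_iff.1 fun v _ => ?_
        obtain ⟨y, hy, hv⟩ : ∃ y ∈ t, r v ∈ (U y).1 := by simpa using ht (Set.mem_univ (r v))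
        exact Opens.mem_iSup.2 ⟨⟨y, hy⟩, hv⟩
      · intro a a' haa
        have hm : genericPoint N ∈ h ⁻¹ᵁ r ⁻¹ᵁ (U y.1).1 := pre_le hhr _ (hηN y.1)
        refine appLE_injective h hgen' _ (by rw [← hgen']; exact hm) (g ⁻¹ᵁ (U y.1).1) (hηN y.1) (pre_le hhr _) ?_
        rw [hcompo, hcompo, haa]
      · obtain ⟨a, ha⟩ := (hM y).le (hge y ((hM₁ y).ge ⟨c, rfl⟩))
        refine ⟨a, appLE_injective h₁ hgen₁ _ ?_ (g ⁻¹ᵁ (U y.1).1) (hηN y.1) (pre_le hhr₁ _) ((hcompo y a).symm.trans ha)⟩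
        rw [← hgen₁]
        exact pre_le hhr₁ _ (hηN y.1)
    haveI := hiso
    have hI : BlowUp.IsEffCartierIdeal I := by
      have h := FlatMor12.BlowUpDisjoint.isEffCartierIdeal_comap (I.comap b) hb.1 (inv b)
      rwa [← Scheme.IdealSheafData.comap_comp, IsIso.inv_hom_id, Scheme.IdealSheafData.comap_id] at h
    obtain ⟨d, -, hd⟩ := exists_gen hI z
    rw [Models7.stk_vanishingIdeal_point z hz] at hd
    haveI : IsNoetherianRing (Y'.presheaf.stalk z) := inferInstance
    haveI : IsPrincipalIdealRing (Y'.presheaf.stalk z) :=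
      ((tfae_of_isNoetherianRing_of_isLocalRing_of_isDomain (Y'.presheaf.stalk z)).out 4 0 rfl rfl).1 ⟨d, hd⟩
    exact hzreg inferInstance

theorem ptBlowupSeq_invariant {Y' Y : Scheme.{u}} {r : Y' ⟶ Y} (hr : Resolve.IsPtBlowupSeq r) :
    IsIntegral Y → IsLocallyNoetherian Y → (∀ [IrreducibleSpace Y], ¬ IsClosed ({genericPoint Y} : Set Y)) →
      IsIntegral Y' ∧ IsLocallyNoetherian Y' ∧ IsProper r ∧
        (∀ [IrreducibleSpace Y'], ¬ IsClosed ({genericPoint Y'} : Set Y')) ∧
        ∃ V : Y.Opens, (V : Set Y).Nonempty ∧ IsIso (r ∣_ V) := by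
  induction hr with
  | @iso W X e =>
    intro hint hnoe hgc
    haveI := hint
    haveI : Nonempty W := ⟨e.inv (genericPoint X)⟩
    haveI : IsIntegral W := isIntegral_of_isOpenImmersion e.hom
    refine ⟨inferInstance, LocallyOfFiniteType.isLocallyNoetherian e.hom, inferInstance, fun {_} h => ?_,
      ⊤, ⟨genericPoint X, trivial⟩, inferInstance⟩
    apply hgc
    have h' := e.hom.isClosedMap _ h
    rwa [Set.image_singleton, genericPoint_eq_of_isOpenImmersion e.hom] at h'
  | @step W Z X b r z hz hb _ ih =>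
    intro hint hnoe hgc
    obtain ⟨hZ, hZn, hrp, hgcZ, V, hV, hiso⟩ := ih hint hnoe hgc
    haveI := hint
    haveI := hZ
    haveI := hZn
    haveI := hrp
    haveI := hiso
    have hz0 : z ≠ genericPoint Z := fun h => hgcZ (h ▸ hz)
    let I := Scheme.IdealSheafData.vanishingIdeal ⟨{z}, hz⟩
    have hη : genericPoint Z ∈ I.support.compl := point_support_ne z hz hz0
    haveI : IsIntegral W := isIntegral_blowUp hb hη
    haveI : IsProper b := BlowUpLib.isProper_of_isBlowUp hb (FlatMorAdm.isFiniteTypeIdeal_of_noetherian I)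
    haveI hoff := SDiv28.isIso_off_center hb
    obtain ⟨hgen, -⟩ := Coherent.birational_of_isIso_morphismRestrict b I.support.compl ⟨_, hη⟩
    obtain ⟨hrgen, -⟩ := Coherent.birational_of_isIso_morphismRestrict r V hV
    refine ⟨inferInstance, LocallyOfFiniteType.isLocallyNoetherian b, inferInstance, fun {_} h => hgcZ ?_, ?_⟩
    · have h' := b.isClosedMap _ h
      rwa [Set.image_singleton, hgen] at h'
    have hηX : genericPoint X ∈ V := ((genericPoint_spec X).mem_open_set_iff V.2).mpr (by simpa using hV)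
    have hne : r z ≠ genericPoint X := fun h => by
      apply hgc
      have h' := r.isClosedMap _ hz
      rwa [Set.image_singleton, h] at h'
    have hcl : IsClosed ({r z} : Set X) := by
      have h' := r.isClosedMap _ hz
      rwa [Set.image_singleton] at h'
    let V' : X.Opens := V ⊓ ⟨{r z}ᶜ, hcl.isOpen_compl⟩
    refine ⟨V', ⟨genericPoint X, hηX, hne.symm⟩, ?_⟩
    haveI : IsIso (r ∣_ V') := Models7.isIso_restrict_of_le r (U := V) inf_le_left
    haveI : IsIso (b ∣_ (r ⁻¹ᵁ V')) := Models7.isIso_restrict_of_le b (U := I.support.compl) fun w hw h => by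
      have := Set.mem_singleton_iff.1 ((Scheme.IdealSheafData.coe_support_vanishingIdeal _).le h)
      subst this
      exact hw.2 rfl
    rw [morphismRestrict_comp]
    infer_instance

end Groth.Agent.Resolve13
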