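import Groth.Agent.InjMod14.Kosz.TwistedChart
import Groth.Agent.InjMod14.Kosz.AffineHom
import Groth.Agent.ModPairLib.EffCartier
import Groth.Agent.MorProj.OmegaAffine
import Groth.Agent.Coherent.FiniteType
import Groth.Agent.Clifford24.Lipman.GG
import Groth.Agent.Coherent.ProjSpaceFinite

/-!
# Sections of powers of an invertible ideal generated by global functions

If an effective Cartier ideal `I` is generated by finitely many global functions and the scheme has no
`H¹` of `O` and no `H²`, then `H¹(I^n) = 0` and `Γ(I^{n+1}) = ∑ x_i Γ(I^n)` for `n ≥ 1`.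
-/

set_option autoImplicit false
set_option backward.isDefEq.respectTransparency.types false
universe u
open CategoryTheory CategoryTheory.Limits AlgebraicGeometry Opposite TopologicalSpace
open Groth.Agent.Coherent Groth.Agent.InjMod14.Kosz Groth.Agent.AmpleLib

namespace Groth.Agent.Resolve13.IdealPow

variable {X : Scheme.{u}}

local notation "rs" => Groth.Agent.ModPairLib.res

theorem ival_inj (J : X.IdealSheafData) (U : X.Opens) : Function.Injective (ival J U) :=
  have := mono_idealModι J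
  app_injective_of_mono (ClSub.idealModι J) U

theorem ival_resM (J : X.IdealSheafData) {U V : X.Opens} (h : V ≤ U) (k : Γ(ClSub.idealMod J, U)) :
    ival J V (resM _ h k) = rs h (ival J U k) :=
  app_resM (ClSub.idealModι J) h k

theorem ival_smul (J : X.IdealSheafData) (U : X.Opens) (r : Γ(X, U)) (k : Γ(ClSub.idealMod J, U)) :
    ival J U (r • k) = r * ival J U k :=
  Scheme.Modules.Hom.app_smul (ClSub.idealModι J) r k

theorem ival_sum (J : X.IdealSheafData) (U : X.Opens) {κ : Type*} (s : Finset κ)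
    (k : κ → Γ(ClSub.idealMod J, U)) : ival J U (∑ i ∈ s, k i) = ∑ i ∈ s, ival J U (k i) :=
  map_sum ((ClSub.idealModι J).app U).hom k s

theorem exists_top (J : X.IdealSheafData) (a : Γ(X, ⊤))
    (h : ∀ W : X.affineOpens, rs (le_top : W.1 ≤ ⊤) a ∈ J.ideal W) : ∃ k, ival J ⊤ k = a := by
  refine (mem_range_idealModι J ⊤ a).2 ?_
  show (show Γ(ClSub.quotMod J, (⊤ : X.Opens)) from (ClSub.toSubscheme J).app ⊤ a) = 0
  refine sec_ext_affine fun V hV => ?_
  rw [← app_resM, map_zero]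
  show J.subschemeι.app V.1 (rs (le_top : V.1 ≤ ⊤) a) = 0
  exact RingHom.mem_ker.1 ((J.ker_subschemeι_app V).symm ▸ h V)

/-- Multiplication by a global function. -/
noncomputable def mulBy (a : Γ(X, ⊤)) : Coh.structureModule X ⟶ Coh.structureModule X :=
  unitDesc (Coh.structureModule X) a

theorem mulBy_app (a : Γ(X, ⊤)) (U : X.Opens) (r : Γ(X, U)) :
    (mulBy a).app U r = r * rs (le_top : U ≤ ⊤) a := by
  rw [mulBy, app_unit, unitVal_unitDesc]
  rfl

theorem mulBy_comp_eq_zero (J K : X.IdealSheafData) (a : Γ(X, ⊤))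
    (h : ∀ (W : X.affineOpens) (b : Γ(X, W.1)), b ∈ J.ideal W → b * rs (le_top : W.1 ≤ ⊤) a ∈ K.ideal W) :
    (ClSub.idealModι J ≫ mulBy a) ≫ ClSub.toSubscheme K = 0 := by
  refine InjMod14.Kosz.hom_ext_affine _ _ fun U k => ?_
  show (ClSub.toSubscheme K).app U.1 ((mulBy a).app U.1 (ival J U.1 k)) = 0
  rw [mulBy_app]
  show K.subschemeι.app U.1 (ival J U.1 k * rs (le_top : U.1 ≤ ⊤) a) = 0
  exact RingHom.mem_ker.1 ((K.ker_subschemeι_app U).symm ▸ h U _ (ival_mem J U k))

/-- Multiplication by a global function between ideal modules. -/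
noncomputable def mulHom (J K : X.IdealSheafData) (a : Γ(X, ⊤))
    (h : ∀ (W : X.affineOpens) (b : Γ(X, W.1)), b ∈ J.ideal W → b * rs (le_top : W.1 ≤ ⊤) a ∈ K.ideal W) :
    ClSub.idealMod J ⟶ ClSub.idealMod K :=
  kernel.lift (ClSub.toSubscheme K) (ClSub.idealModι J ≫ mulBy a) (mulBy_comp_eq_zero J K a h)

theorem ival_mulHom (J K : X.IdealSheafData) (a : Γ(X, ⊤))
    (h : ∀ (W : X.affineOpens) (b : Γ(X, W.1)), b ∈ J.ideal W → b * rs (le_top : W.1 ≤ ⊤) a ∈ K.ideal W)
    (U : X.Opens) (z : Γ(ClSub.idealMod J, U)) :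
    ival K U ((mulHom J K a h).app U z) = ival J U z * rs (le_top : U ≤ ⊤) a := by
  have e : mulHom J K a h ≫ ClSub.idealModι K = ClSub.idealModι J ≫ mulBy a := kernel.lift_ι _ _ _
  refine (ConcreteCategory.congr_hom (congrArg (fun φ => Scheme.Modules.Hom.app φ U) e) z).trans ?_
  exact mulBy_app a U (ival J U z)

variable (I : X.IdealSheafData) {t : ℕ} (x : Fin t → Γ(X, ⊤))

/-- `I` is generated by the global functions `x`. -/
def GenBy : Prop :=
  ∀ W : X.affineOpens, I.ideal W = Ideal.span (Set.range fun i => rs (le_top : W.1 ≤ ⊤) (x i))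

/-- Monomials. -/
noncomputable def mono {n : ℕ} (g : Fin n → Fin t) : Γ(X, ⊤) := ∏ j, x (g j)

theorem mono_cons {n : ℕ} (i : Fin t) (g : Fin n → Fin t) :
    mono x (Fin.cons i g) = x i * mono x g := by
  rw [mono, Fin.prod_univ_succ]
  simp [mono]

variable {I x}

theorem ideal_pow_eq (hI : GenBy I x) (W : X.affineOpens) : ∀ n : ℕ,
    (I ^ n).ideal W = Ideal.span (Set.range fun g : Fin n → Fin t => rs (le_top : W.1 ≤ ⊤) (mono x g))
  | 0 => by
    rw [Scheme.IdealSheafData.ideal_pow, Pi.pow_apply, pow_zero, Ideal.one_eq_top]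
    symm
    rw [Ideal.eq_top_iff_one]
    exact Ideal.subset_span ⟨Fin.elim0, by simp [mono]⟩
  | n + 1 => by
    have ih := ideal_pow_eq hI W n
    rw [Scheme.IdealSheafData.ideal_pow, Pi.pow_apply] at ih ⊢
    rw [pow_succ', ih, hI W, Ideal.span_mul_span']
    refine congrArg Ideal.span (Set.ext fun r => ⟨?_, ?_⟩)
    · intro hr
      obtain ⟨_, ⟨i, rfl⟩, _, ⟨g, rfl⟩, rfl⟩ := Set.mem_mul.1 hr
      exact ⟨Fin.cons i g, by simp only [mono_cons, map_mul]⟩
    · rintro ⟨g, rfl⟩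
      refine ⟨_, ⟨g 0, rfl⟩, _, ⟨Fin.tail g, rfl⟩, ?_⟩
      show _ * _ = _
      rw [← map_mul, ← mono_cons, Fin.cons_self_tail]

theorem mono_mem (hI : GenBy I x) {n : ℕ} (g : Fin n → Fin t) (W : X.affineOpens) :
    rs (le_top : W.1 ≤ ⊤) (mono x g) ∈ (I ^ n).ideal W := by
  rw [ideal_pow_eq hI W n]
  exact Ideal.subset_span ⟨g, rfl⟩

/-- The section of `I^n` given by a monomial. -/
noncomputable def kMono (hI : GenBy I x) {n : ℕ} (g : Fin n → Fin t) : Γ(ClSub.idealMod (I ^ n), ⊤) :=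
  (exists_top (I ^ n) (mono x g) (mono_mem hI g)).choose

theorem ival_kMono (hI : GenBy I x) {n : ℕ} (g : Fin n → Fin t) :
    ival (I ^ n) ⊤ (kMono hI g) = mono x g :=
  (exists_top (I ^ n) (mono x g) (mono_mem hI g)).choose_spec

theorem ival_kMono_res (hI : GenBy I x) {n : ℕ} (g : Fin n → Fin t) (U : X.Opens) :
    ival (I ^ n) U (resM _ le_top (kMono hI g)) = rs (le_top : U ≤ ⊤) (mono x g) := by
  rw [ival_resM, ival_kMono]

theorem exists_sum_kMono (hI : GenBy I x) (n : ℕ) (W : X.affineOpens) (z : Γ(ClSub.idealMod (I ^ n), W.1)) :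
    ∃ c : (Fin n → Fin t) → Γ(X, W.1), z = ∑ g, c g • resM _ le_top (kMono hI g) := by
  have hz := ival_mem (I ^ n) W z
  rw [ideal_pow_eq hI W n, Ideal.mem_span_range_iff_exists_fun] at hz
  obtain ⟨c, hc⟩ := hz
  refine ⟨c, ival_inj _ _ ?_⟩
  rw [ival_sum, ← hc]
  exact Finset.sum_congr rfl fun g _ => by rw [ival_smul, ival_kMono_res]

/-- Powers of the ideal have no `H¹`. -/
theorem subsingleton_H1_pow (hI : GenBy I x) (hv : Lipman24.NoH2 X)
    (h1 : Subsingleton (Coh.HH X (Coh.structureModule X) 1)) (n : ℕ) :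
    Subsingleton (Coh.HH X (ClSub.idealMod (I ^ n)) 1) := by
  refine Lipman24.subsingleton_H1_of_jointlyEpi hv isQCoh_structureModule h1 Finset.univ
    (MorProj.isQCoh_idealMod (I ^ n)) (fun g => unitDesc _ (kMono hI g)) fun {Q} π hπ => ?_
  refine InjMod14.Kosz.hom_ext_affine _ _ fun W z => ?_
  obtain ⟨c, rfl⟩ := exists_sum_kMono hI n W z
  show π.app W.1 (∑ g, c g • resM _ le_top (kMono hI g)) = 0
  rw [map_sum]
  refine Finset.sum_eq_zero fun g hg => ?_
  have h := congrArg (fun φ => φ.app W.1 (1 : Γ(X, W.1))) (hπ g hg)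
  have h' : π.app W.1 (unitVal (unitDesc _ (kMono hI g)) W.1) = 0 := h
  rw [unitVal_unitDesc] at h'
  rw [Scheme.Modules.Hom.app_smul, h', smul_zero]

section Mul

variable (hI : GenBy I x)
include hI

theorem mul_mem_succ (m : ℕ) (i : Fin t) (W : X.affineOpens) (b : Γ(X, W.1)) (hb : b ∈ (I ^ m).ideal W) :
    b * rs (le_top : W.1 ≤ ⊤) (x i) ∈ (I ^ (m + 1)).ideal W := by
  rw [Scheme.IdealSheafData.ideal_pow, Pi.pow_apply] at hb ⊢
  rw [pow_succ]
  exact Ideal.mul_mem_mul hb (by rw [hI W]; exact Ideal.subset_span ⟨i, rfl⟩)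

/-- The summand maps. -/
noncomputable def xHom (m : ℕ) (i : Fin t) : ClSub.idealMod (I ^ m) ⟶ ClSub.idealMod (I ^ (m + 1)) :=
  mulHom _ _ (x i) (mul_mem_succ hI m i)

/-- `⊕ I^m → I^{m+1}`. -/
noncomputable def mulMap (m : ℕ) :
    (∐ fun _ : Fin t => ClSub.idealMod (I ^ m)) ⟶ ClSub.idealMod (I ^ (m + 1)) :=
  Limits.Sigma.desc (xHom hI m)

theorem ι_mulMap (m : ℕ) (i : Fin t) (U : X.Opens) (z : Γ(ClSub.idealMod (I ^ m), U)) :
    (mulMap hI m).app U ((Limits.Sigma.ι (fun _ : Fin t => ClSub.idealMod (I ^ m)) i).app U z) =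
      (xHom hI m i).app U z :=
  ConcreteCategory.congr_hom (congrArg (fun φ => Scheme.Modules.Hom.app φ U)
    (Limits.Sigma.ι_desc (f := fun _ : Fin t => ClSub.idealMod (I ^ m)) (xHom hI m) i)) z

theorem epi_mulMap (m : ℕ) : Epi (mulMap hI m) := by
  refine Preadditive.epi_of_cancel_zero _ fun {Q} π hπ => InjMod14.Kosz.hom_ext_affine _ _ fun W z => ?_
  obtain ⟨c, rfl⟩ := exists_sum_kMono hI (m + 1) W z
  show π.app W.1 (∑ g, c g • resM _ le_top (kMono hI g)) = 0
  rw [map_sum]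
  refine Finset.sum_eq_zero fun g _ => ?_
  rw [Scheme.Modules.Hom.app_smul]
  have e : resM (ClSub.idealMod (I ^ (m + 1))) (le_top : W.1 ≤ ⊤) (kMono hI g) =
      (mulMap hI m).app W.1 ((Limits.Sigma.ι (fun _ : Fin t => ClSub.idealMod (I ^ m)) (g 0)).app W.1
        (resM _ le_top (kMono hI (Fin.tail g)))) := ival_inj _ _ (by
    rw [ι_mulMap, xHom, ival_mulHom, ival_kMono_res, ival_kMono_res, ← map_mul, mul_comm, ← mono_cons,
      Fin.cons_self_tail])
  rw [e]
  refine (congrArg _ ?_).trans (smul_zero _)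
  exact ConcreteCategory.congr_hom (congrArg (fun φ => Scheme.Modules.Hom.app φ W.1) hπ) _

/-- The Koszul relations. -/
noncomputable def rel (m : ℕ) (i j : Fin t) (g : Fin m → Fin t) :
    Γ(∐ fun _ : Fin t => ClSub.idealMod (I ^ (m + 1)), ⊤) :=
  (Limits.Sigma.ι (fun _ : Fin t => ClSub.idealMod (I ^ (m + 1))) i).app ⊤ (kMono hI (Fin.cons j g)) -
    (Limits.Sigma.ι (fun _ : Fin t => ClSub.idealMod (I ^ (m + 1))) j).app ⊤ (kMono hI (Fin.cons i g))

theorem mulMap_rel (m : ℕ) (i j : Fin t) (g : Fin m → Fin t) :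
    (mulMap hI (m + 1)).app ⊤ (rel hI m i j g) = 0 := by
  rw [rel, map_sub, ι_mulMap, ι_mulMap, sub_eq_zero]
  refine ival_inj _ _ ?_
  rw [xHom, xHom, ival_mulHom, ival_mulHom, ival_kMono, ival_kMono, mono_cons, mono_cons]
  simp [ModPairLib.res]
  ring

theorem relHom_zero (m : ℕ) (i j : Fin t) (g : Fin m → Fin t) :
    unitDesc _ (rel hI m i j g) ≫ mulMap hI (m + 1) = 0 := by
  refine InjMod14.Kosz.hom_ext_affine _ _ fun W r => ?_
  show (mulMap hI (m + 1)).app W.1 ((unitDesc _ (rel hI m i j g)).app W.1 r) = 0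
  rw [app_unit, unitVal_unitDesc, Scheme.Modules.Hom.app_smul, app_resM, mulMap_rel, map_zero, smul_zero]

/-- The kernel of `⊕ I^{m+1} → I^{m+2}` is generated by the Koszul relations. -/
theorem relations_jointly_epi (hE : BlowUp.IsEffCartierIdeal I) (m : ℕ) {Q : X.Modules}
    (π : kernel (mulMap hI (m + 1)) ⟶ Q)
    (hπ : ∀ (i j : Fin t) (g : Fin m → Fin t),
      kernel.lift _ (unitDesc _ (rel hI m i j g)) (relHom_zero hI m i j g) ≫ π = 0) : π = 0 := by
  classical
  refine InjMod14.Kosz.hom_ext_affine _ _ fun W z => ?_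
  show π.app W.1 z = 0
  refine sec_ext fun y hy => ?_
  obtain ⟨U, hyU, f, hf, hU⟩ := hE y
  obtain ⟨V, hV, hyV, hVle⟩ := exists_isAffineOpen_mem_and_subset (x := y) (U := W.1 ⊓ U.1) ⟨hy, hyU⟩
  let V' : X.affineOpens := ⟨V, hV⟩
  have hVU : V'.1 ≤ U.1 := fun w hw => (hVle hw).2
  have hIV := ModPairLib.ideal_restrict I hVU hU
  have hfV := ModPairLib.res_mem_nonZeroDivisors hVU hf
  -- a generator among the `x`
  have hxm : ∀ i, ∃ c, c * rs hVU f = rs (le_top : V'.1 ≤ ⊤) (x i) := fun i =>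
    Ideal.mem_span_singleton'.1 (hIV ▸ (hI V').symm ▸ Ideal.subset_span ⟨i, rfl⟩)
  choose c hc using hxm
  obtain ⟨e, he⟩ := Ideal.mem_span_range_iff_exists_fun.1
    ((hI V').subst (motive := fun J => rs hVU f ∈ J) (hIV ▸ Ideal.mem_span_singleton_self _))
  have hsum : ∑ i, e i * c i = 1 := (mul_cancel_right_mem_nonZeroDivisors hfV).1 (by
    rw [Finset.sum_mul, one_mul]
    refine Eq.trans ?_ he
    exact Finset.sum_congr rfl fun i _ => by rw [mul_assoc, hc])
  obtain ⟨l, hl⟩ : ∃ l, y ∈ X.basicOpen (c l) := by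
    by_contra hno
    simp only [not_exists] at hno
    have hm : X.presheaf.germ V'.1 y hyV (∑ i, e i * c i) ∈
        IsLocalRing.maximalIdeal (X.presheaf.stalk y) := by
      rw [map_sum]
      refine Ideal.sum_mem _ fun i _ => ?_
      rw [map_mul]
      refine Ideal.mul_mem_left _ _ ?_
      rw [IsLocalRing.mem_maximalIdeal, mem_nonunits_iff]
      exact fun hu => hno i ((X.mem_basicOpen _ _ hyV).2 hu)
    rw [hsum, map_one] at hm
    exact (IsLocalRing.maximalIdeal.isMaximal _).ne_top ((Ideal.eq_top_iff_one _).2 hm)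
  let D : X.affineOpens := ⟨X.basicOpen (c l), hV.basicOpen (c l)⟩
  have hDV : D.1 ≤ V'.1 := X.basicOpen_le _
  have hDW : D.1 ≤ W.1 := fun w hw => (hVle (hDV hw)).1
  refine ⟨D.1, hDW, hl, ?_⟩
  rw [map_zero, ← app_resM π hDW z]
  generalize resM (kernel (mulMap hI (m + 1))) hDW z = z'
  let p := rs hDV (rs hVU f)
  let X' := fun i => rs (le_top : D.1 ≤ ⊤) (x i)
  have hp : p ∈ nonZeroDivisors Γ(X, D.1) := ModPairLib.res_mem_nonZeroDivisors (U := V') (V := D) hDV hfV
  have hID : I.ideal D = Ideal.span {p} := ModPairLib.ideal_restrict I (U := V') (V := D) hDV hIV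
  obtain ⟨u, hu⟩ : IsUnit (rs hDV (c l)) := RingedSpace.isUnit_res_basicOpen X.toLocallyRingedSpace.toRingedSpace (c l)
  have hX : ∀ i, rs hDV (c i) * p = X' i := fun i => by
    rw [← map_mul, hc]
    exact ModPairLib.res_res _ _ _
  let d : Fin t → Γ(X, D.1) := fun i => rs hDV (c i) * ↑u⁻¹
  have hd : ∀ i, d i * X' l = X' i := fun i => by
    rw [← hX l, ← hu, ← hX i]
    calc d i * (↑u * p) = rs hDV (c i) * (↑u⁻¹ * ↑u) * p := by ring
      _ = _ := by rw [Units.inv_mul, mul_one]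
  have hspan : I.ideal D = Ideal.span {X' l} := by
    rw [hID, ← hX l, Ideal.span_singleton_mul_left_unit (hu ▸ u.isUnit)]
  have hXl : X' l ∈ nonZeroDivisors Γ(X, D.1) := by
    rw [← hX l, ← hu]
    exact mul_mem (IsUnit.mem_nonZeroDivisors u.isUnit) hp
  -- coordinates
  let L : Fin t → X.Modules := fun _ => ClSub.idealMod (I ^ (m + 1))
  let w : Γ(∐ L, D.1) := (kernel.ι (mulMap hI (m + 1))).app D.1 z'
  have hw : (mulMap hI (m + 1)).app D.1 w = 0 :=
    kernel_ι_app_zero (mulMap hI (m + 1)) D.1 z'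
  let a : Fin t → Γ(ClSub.idealMod (I ^ (m + 1)), D.1) := fun i => (sigmaProj L i).app D.1 w
  have hwsum : w = ∑ i, (Limits.Sigma.ι L i).app D.1 (a i) := by
    have : (∑ j, sigmaProj L j ≫ Limits.Sigma.ι L j).app D.1 w = w := by rw [sigma_total]; rfl
    rw [InjMod14.Kosz.app_sum] at this
    exact this.symm
  let g₀ : Fin (m + 1) → Fin t := fun _ => l
  let k₀ : Γ(ClSub.idealMod (I ^ (m + 1)), D.1) := resM _ le_top (kMono hI g₀)
  have hk₀ : ival (I ^ (m + 1)) D.1 k₀ = X' l ^ (m + 1) := by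
    rw [ival_kMono_res]
    simp [mono, g₀, X']
  have hb : ∀ i, ∃ b, a i = b • k₀ := fun i => by
    have h := ival_mem (I ^ (m + 1)) D (a i)
    rw [Scheme.IdealSheafData.ideal_pow, Pi.pow_apply, hspan, Ideal.span_singleton_pow,
      Ideal.mem_span_singleton'] at h
    obtain ⟨b, hb⟩ := h
    exact ⟨b, ival_inj _ _ (by rw [ival_smul, hk₀, hb])⟩
  choose b hb using hb
  have hbd : ∑ i, b i * d i = 0 := by
    have h0 := hw
    rw [hwsum, map_sum] at h0
    have h1 := congrArg (ival (I ^ (m + 1 + 1)) D.1) h0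
    rw [ival_sum] at h1
    have hz : ival (I ^ (m + 1 + 1)) D.1 0 = 0 := map_zero ((ClSub.idealModι (I ^ (m + 1 + 1))).app D.1).hom
    rw [hz] at h1
    refine (mul_cancel_right_mem_nonZeroDivisors (pow_mem hXl (m + 1 + 1))).1 ?_
    rw [zero_mul, ← h1, Finset.sum_mul]
    refine Finset.sum_congr rfl fun i _ => ?_
    rw [ι_mulMap, xHom, ival_mulHom, hb i, ival_smul, hk₀]
    show _ = b i * X' l ^ (m + 1) * X' i
    rw [← hd i]
    ring
  let r : Fin t → Γ(∐ L, D.1) := fun i => resM _ le_top (rel hI m i l fun _ => l)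
  have hr : ∀ i, r i = (Limits.Sigma.ι L i).app D.1 k₀ - d i • (Limits.Sigma.ι L l).app D.1 k₀ := fun i => by
    show resM _ _ (rel hI m i l fun _ => l) = _
    rw [rel, map_sub, ← app_resM, ← app_resM, ← Scheme.Modules.Hom.app_smul]
    refine congrArg₂ (fun p q => (Limits.Sigma.ι L i).app D.1 p - (Limits.Sigma.ι L l).app D.1 q)
      (ival_inj _ _ ?_) (ival_inj _ _ ?_)
    · rw [ival_kMono_res, hk₀, mono_cons]
      simp [mono, X', pow_succ']
    · rw [ival_kMono_res, ival_smul, hk₀, mono_cons, mono, Finset.prod_const, Finset.card_univ,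
        Fintype.card_fin, map_mul, map_pow, pow_succ']
      show X' i * X' l ^ m = _
      rw [← hd i]
      ring
  let φ : Fin t → (Coh.structureModule X ⟶ kernel (mulMap hI (m + 1))) := fun i =>
    kernel.lift _ (unitDesc _ (rel hI m i l fun _ => l)) (relHom_zero hI m i l fun _ => l)
  have hz' : z' = ∑ i, b i • unitVal (φ i) D.1 := by
    refine app_injective_of_mono (kernel.ι (mulMap hI (m + 1))) D.1 ?_
    rw [map_sum]
    have e : ∀ i, (kernel.ι (mulMap hI (m + 1))).app D.1 (b i • unitVal (φ i) D.1) = b i • r i := fun i => by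
      rw [Scheme.Modules.Hom.app_smul]
      refine congrArg (b i • ·) ?_
      refine Eq.trans ?_ (unitVal_unitDesc _ (rel hI m i l fun _ => l) D.1)
      exact ConcreteCategory.congr_hom (congrArg (fun ψ => Scheme.Modules.Hom.app ψ D.1)
        (kernel.lift_ι (mulMap hI (m + 1)) _ (relHom_zero hI m i l fun _ => l))) _
    rw [Finset.sum_congr rfl fun i _ => e i]
    show w = _
    simp only [hr, smul_sub, smul_smul, Finset.sum_sub_distrib, ← Finset.sum_smul, hbd, zero_smul, sub_zero]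
    rw [hwsum]
    exact Finset.sum_congr rfl fun i _ => by rw [hb i, Scheme.Modules.Hom.app_smul]
  rw [hz', map_sum]
  refine Finset.sum_eq_zero fun i _ => ?_
  rw [Scheme.Modules.Hom.app_smul]
  refine (congrArg _ ?_).trans (smul_zero _)
  exact ConcreteCategory.congr_hom (congrArg (fun ψ => Scheme.Modules.Hom.app ψ D.1) (hπ i l fun _ => l)) _

/-- `Γ(I^{m+2}) = ∑ x_i Γ(I^{m+1})`. -/
theorem exists_sum_of_sections (hE : BlowUp.IsEffCartierIdeal I) (hv : Lipman24.NoH2 X)
    (h1 : Subsingleton (Coh.HH X (Coh.structureModule X) 1)) (m : ℕ) (a : Γ(X, ⊤))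
    (ha : ∀ W : X.affineOpens, rs (le_top : W.1 ≤ ⊤) a ∈ (I ^ (m + 2)).ideal W) :
    ∃ b : Fin t → Γ(X, ⊤), a = ∑ i, b i * x i ∧
      ∀ i (W : X.affineOpens), rs (le_top : W.1 ≤ ⊤) (b i) ∈ (I ^ (m + 1)).ideal W := by
  classical
  haveI : ∀ _ : Fin t, Coh.IsQCoh (ClSub.idealMod (I ^ (m + 1))) := fun _ => MorProj.isQCoh_idealMod _
  haveI : HasFiniteBiproducts X.Modules := HasFiniteBiproducts.of_hasFiniteProducts
  have hqS : Coh.IsQCoh (∐ fun _ : Fin t => ClSub.idealMod (I ^ (m + 1))) :=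
    isQCoh_of_iso (biproduct.isoCoproduct _) (h := isQCoh_biproduct (fun _ : Fin t => ClSub.idealMod (I ^ (m + 1))) fun _ => MorProj.isQCoh_idealMod _)
  haveI := hqS
  haveI := MorProj.isQCoh_idealMod (I ^ (m + 1 + 1))
  haveI := epi_mulMap hI (m + 1)
  let T : ShortComplex X.Modules :=
    ShortComplex.mk (kernel.ι (mulMap hI (m + 1))) (mulMap hI (m + 1)) (kernel.condition _)
  have hT : T.ShortExact := { exact := ShortComplex.exact_kernel (mulMap hI (m + 1)) }
  have hK : Subsingleton (Coh.HH X (kernel (mulMap hI (m + 1))) 1) :=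
    Lipman24.subsingleton_H1_of_jointlyEpi hv isQCoh_structureModule h1
      (Finset.univ : Finset (Fin t × Fin t × (Fin m → Fin t))) (isQCoh_kernel (mulMap hI (m + 1)))
      (fun p => kernel.lift _ (unitDesc _ (rel hI m p.1 p.2.1 p.2.2)) (relHom_zero hI m p.1 p.2.1 p.2.2))
      fun {Q} π hπ => relations_jointly_epi hI hE m π fun i j g => hπ (i, j, g) (Finset.mem_univ _)
  obtain ⟨k, hk⟩ := exists_top (I ^ (m + 1 + 1)) a ha
  obtain ⟨w, hw⟩ := Lipman24.surjective_app_top hT hK k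
  let L : Fin t → X.Modules := fun _ => ClSub.idealMod (I ^ (m + 1))
  let z : Fin t → Γ(ClSub.idealMod (I ^ (m + 1)), ⊤) := fun i => (sigmaProj L i).app ⊤ w
  refine ⟨fun i => ival (I ^ (m + 1)) ⊤ (z i), ?_, fun i W => ?_⟩
  · have hwsum : w = ∑ i, (Limits.Sigma.ι L i).app ⊤ (z i) := by
      have : (∑ j, sigmaProj L j ≫ Limits.Sigma.ι L j).app ⊤ w = w := by rw [sigma_total]; rfl
      rw [InjMod14.Kosz.app_sum] at this
      exact this.symm
    rw [← hk, ← hw]
    show ival (I ^ (m + 1 + 1)) ⊤ ((mulMap hI (m + 1)).app ⊤ w) = _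
    rw [hwsum, map_sum, ival_sum]
    refine Finset.sum_congr rfl fun i _ => ?_
    rw [ι_mulMap, xHom, ival_mulHom]
    show _ * rs (le_refl (⊤ : X.Opens)) (x i) = _
    simp [ModPairLib.res]
  · rw [← ival_resM]
    exact ival_mem _ W _

end Mul

end Groth.Agent.Resolve13.IdealPow
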