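import Groth.Agent.Resolve13.CurveLift
import Groth.Agent.Misc15.DivDescentSheaf
import Groth.Agent.ModPairLib.EffCartier

/-!
# Strict transforms of curves under the blow-up of a regular point of the curve
-/

set_option autoImplicit false
set_option linter.style.haveILetI false
set_option backward.isDefEq.respectTransparency false
set_option maxHeartbeats 1000000

universe u

open CategoryTheory CategoryTheory.Limits AlgebraicGeometry TopologicalSpace IsLocalRing Opposite
open Groth.Agent.Misc15.DivDescent Groth.Agent.SDiv28.CartierPart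

namespace Groth.Agent.Resolve13

variable {X Y : Scheme.{u}}

theorem stk_mono {J K : X.IdealSheafData} (h : J ≤ K) (x : X) : stk J x ≤ stk K x := by
  obtain ⟨_, ⟨U, hU, rfl⟩, hxU, -⟩ := X.isBasis_affineOpens.exists_subset_of_mem_open (Set.mem_univ x) isOpen_univ
  rw [stk_eq J ⟨U, hU⟩ hxU, stk_eq K ⟨U, hU⟩ hxU]
  exact Ideal.map_mono (h ⟨U, hU⟩)

theorem ker_stalkMap_eq_stk (j : Y ⟶ X) [IsClosedImmersion j] (y : Y) :
    RingHom.ker (j.stalkMap y).hom = stk j.ker (j y) := by
  obtain ⟨_, ⟨U, hU, rfl⟩, hxU, -⟩ :=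
    X.isBasis_affineOpens.exists_subset_of_mem_open (Set.mem_univ (j y)) isOpen_univ
  haveI : IsClosedImmersion (j ∣_ U) := inferInstance
  rw [CAlgH.RegImmStalk.ker_stalkMap_eq j y hU hxU, stk_eq j.ker ⟨U, hU⟩ hxU, Scheme.Hom.ker_apply]

/-- The length of the local ring of a closed subscheme. -/
theorem length_stalk_subscheme (J : X.IdealSheafData) (z : J.subscheme) :
    Module.length (J.subscheme.presheaf.stalk z) (J.subscheme.presheaf.stalk z) =
      Module.length (X.presheaf.stalk (J.subschemeι z)) (X.presheaf.stalk (J.subschemeι z) ⧸ stk J (J.subschemeι z)) := by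
  let R := X.presheaf.stalk (J.subschemeι z)
  let φ := (J.subschemeι.stalkMap z).hom
  letI : Algebra R (J.subscheme.presheaf.stalk z) := φ.toAlgebra
  have hsurj : Function.Surjective φ := J.subschemeι.stalkMap_surjective z
  rw [← Module.length_eq_of_surjective (S := R) hsurj]
  have hk : RingHom.ker (Algebra.ofId R (J.subscheme.presheaf.stalk z)) = stk J (J.subschemeι z) := by
    show RingHom.ker φ = _
    rw [ker_stalkMap_eq_stk, Scheme.IdealSheafData.ker_subschemeι]
  exact (((Ideal.quotientEquivAlgOfEq R hk).symm.trans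
    (Ideal.quotientKerAlgEquivOfSurjective (f := Algebra.ofId R (J.subscheme.presheaf.stalk z)) hsurj)).toLinearEquiv.length_eq).symm

/-- Lengths of quotients can be computed on a closed subscheme containing them. -/
theorem length_quot_stk (j : Y ⟶ X) [IsClosedImmersion j] (J : X.IdealSheafData) (h : j.ker ≤ J) (y : Y) :
    Module.length (X.presheaf.stalk (j y)) (X.presheaf.stalk (j y) ⧸ stk J (j y)) =
      Module.length (Y.presheaf.stalk y) (Y.presheaf.stalk y ⧸ stk (J.comap j) y) := by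
  let R := X.presheaf.stalk (j y)
  let φ := (j.stalkMap y).hom
  letI : Algebra R (Y.presheaf.stalk y) := φ.toAlgebra
  have hsurj : Function.Surjective φ := j.stalkMap_surjective y
  rw [← Module.length_eq_of_surjective (S := R) (R := Y.presheaf.stalk y) hsurj]
  have hk : RingHom.ker (IsScalarTower.toAlgHom R R (Y.presheaf.stalk y ⧸ stk (J.comap j) y)) = stk J (j y) := by
    show RingHom.ker ((Ideal.Quotient.mk (stk (J.comap j) y)).comp φ) = _
    rw [← RingHom.comap_ker, Ideal.mk_ker, stk_comap, Ideal.comap_map_of_surjective φ hsurj,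
      ← RingHom.ker_eq_comap_bot, ker_stalkMap_eq_stk]
    exact sup_eq_left.2 (stk_mono h _)
  exact ((Ideal.quotientEquivAlgOfEq R hk).symm.trans
    (Ideal.quotientKerAlgEquivOfSurjective (f := IsScalarTower.toAlgHom R R (Y.presheaf.stalk y ⧸ stk (J.comap j) y))
      (Ideal.Quotient.mk_surjective.comp hsurj))).toLinearEquiv.length_eq

theorem length_subscheme_eq (j : Y ⟶ X) [IsClosedImmersion j] (J : X.IdealSheafData) (h : j.ker ≤ J) (y : Y)
    (z : J.subscheme) (hz : J.subschemeι z = j y) :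
    Module.length (J.subscheme.presheaf.stalk z) (J.subscheme.presheaf.stalk z) =
      Module.length (Y.presheaf.stalk y) (Y.presheaf.stalk y ⧸ stk (J.comap j) y) := by
  rw [length_stalk_subscheme, ← length_quot_stk j J h y]
  exact congrArg (fun x => Module.length (X.presheaf.stalk x) (X.presheaf.stalk x ⧸ stk J x)) hz

theorem comap_ker_self (j : Y ⟶ X) : j.ker.comap j = ⊥ :=
  le_bot_iff.1 (Scheme.IdealSheafData.le_map_iff_comap_le.1 (Scheme.IdealSheafData.map_bot j).ge)

theorem le_ker_of_comap_eq_bot (f : Y ⟶ X) (J : X.IdealSheafData) (h : J.comap f = ⊥) : J ≤ f.ker :=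
  (Scheme.IdealSheafData.le_map_iff_comap_le.2 h.le).trans (Scheme.IdealSheafData.map_bot f).le

theorem stk_bot_eq (x : X) : stk (⊥ : X.IdealSheafData) x = ⊥ := by
  obtain ⟨_, ⟨U, hU, rfl⟩, hxU, -⟩ := X.isBasis_affineOpens.exists_subset_of_mem_open (Set.mem_univ x) isOpen_univ
  rw [stk_eq _ ⟨U, hU⟩ hxU, Scheme.IdealSheafData.ideal_bot]
  exact Ideal.map_bot

theorem ne_bot_of_notMem [IsIntegral Y] (J : Y.IdealSheafData) {x : Y} (hx : x ∉ J.support) : J ≠ ⊥ := fun h => by
  have h1 : stk J x = ⊥ := by rw [h]; exact stk_bot_eq x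
  rw [stk_eq_top hx] at h1
  exact top_ne_bot h1

/-- A dense open of an integral scheme does not change the scheme theoretic image. -/
theorem ker_comp_opens [IsIntegral Y] [IsLocallyNoetherian Y] (f : Y ⟶ X) [QuasiCompact f] (W : Y.Opens)
    (hW : genericPoint Y ∈ W) : (W.ι ≫ f).ker = f.ker := by
  haveI : QuasiCompact (W.ι ≫ f) := inferInstance
  refine le_antisymm (fun U a ha => ?_) (Scheme.Hom.le_ker_comp _ _)
  rw [Scheme.Hom.ker_apply] at ha ⊢
  rw [RingHom.mem_ker] at ha ⊢
  rcases ((f ⁻¹ᵁ U.1 : Y.Opens) : Set Y).eq_empty_or_nonempty with hE | ⟨y, hy⟩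
  · haveI : Subsingleton Γ(Y, f ⁻¹ᵁ U.1) := by
      rw [show f ⁻¹ᵁ U.1 = ⊥ from Opens.ext hE]
      exact inferInstanceAs (Subsingleton Γ(Y, ⊥))
    exact Subsingleton.elim _ _
  have hηV : genericPoint Y ∈ f ⁻¹ᵁ U.1 := (genericPoint_specializes y).mem_open (f ⁻¹ᵁ U.1).2 hy
  haveI : Nonempty (f ⁻¹ᵁ U.1 : Y.Opens) := ⟨⟨_, hηV⟩⟩
  refine Y.germToFunctionField_injective (f ⁻¹ᵁ U.1) ?_
  rw [map_zero]
  have h0 : W.ι.app (f ⁻¹ᵁ U.1) (f.app U.1 a) = 0 := by
    rw [← ha, Scheme.Hom.comp_app, CommRingCat.comp_apply]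
    rfl
  have hw : (⟨genericPoint Y, hW⟩ : W.toScheme) ∈ W.ι ⁻¹ᵁ f ⁻¹ᵁ U.1 := hηV
  have h1 := Scheme.Hom.germ_stalkMap_apply W.ι (f ⁻¹ᵁ U.1) ⟨genericPoint Y, hW⟩ hw (f.app U.1 a)
  rw [h0, map_zero] at h1
  exact (ConcreteCategory.bijective_of_isIso (W.ι.stalkMap ⟨genericPoint Y, hW⟩)).1 (h1.trans (map_zero _).symm)

variable {X' : Scheme.{u}}

/-- An ideal divisible by a Cartier divisor and killed away from it. -/
theorem stk_le_mul_ker {V : Scheme.{u}} (v : V ⟶ X') [QuasiCompact v] (K IE : X'.IdealSheafData)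
    (hIE : BlowUp.IsEffCartierIdeal IE) (hle : K ≤ IE) (hK : K ≤ v.ker) (hoff : ∀ w, v w ∉ IE.support) (q : X') :
    stk K q ≤ stk IE q * stk v.ker q := by
  obtain ⟨U, hqU, e, he, hU⟩ := hIE q
  rw [stk_eq K U hqU, stk_eq IE U hqU, stk_eq v.ker U hqU, hU, Ideal.map_span, Set.image_singleton,
    Ideal.map_le_iff_le_comap]
  intro a ha
  have ha2 : a ∈ Ideal.span {e} := hU ▸ (Scheme.IdealSheafData.le_def.1 hle U ha)
  obtain ⟨y, hy⟩ := Ideal.mem_span_singleton'.1 ha2
  subst hy
  let γ : Γ(X', U.1) →+* X'.presheaf.stalk q := (X'.presheaf.germ U.1 q hqU).hom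
  show γ (y * e) ∈ Ideal.span {γ e} * (v.ker.ideal U).map γ
  rw [map_mul γ y e, mul_comm (γ y) (γ e)]
  refine Ideal.mul_mem_mul (Ideal.mem_span_singleton_self _) (Ideal.mem_map_of_mem γ (?_ : y ∈ v.ker.ideal U))
  have h0 : v.app U.1 (y * e) = 0 := RingHom.mem_ker.1 ((Scheme.Hom.ker_apply v U).le (hK U ha))
  rw [Scheme.Hom.ker_apply, RingHom.mem_ker]
  have hu : IsUnit (v.app U.1 e) := by
    refine V.toRingedSpace.isUnit_of_isUnit_germ _ _ fun w hw => ?_
    rw [← Scheme.Hom.germ_stalkMap_apply v U.1 w hw]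
    refine IsUnit.map _ ?_
    have htop : stk IE (v w) = ⊤ := stk_eq_top (hoff w)
    rw [stk_span IE U hU hw, Ideal.span_singleton_eq_top] at htop
    exact htop
  rw [map_mul] at h0
  exact hu.mul_left_eq_zero.1 h0

/-- Off the exceptional divisor the total transform dies in the strict transform. -/
theorem stk_comap_le_mul [IsLocallyNoetherian X'] (b : X' ⟶ X) (IZ : X.IdealSheafData) (IE : X'.IdealSheafData)
    (hIE : BlowUp.IsEffCartierIdeal IE) (hle : IZ.comap b ≤ IE) (q : X') :
    stk (IZ.comap b) q ≤ stk IE q *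
      stk (Scheme.Hom.ker ((((IZ.comap b).subschemeι ⁻¹ᵁ IE.support.compl).ι) ≫ (IZ.comap b).subschemeι)) q := by
  haveI : IsLocallyNoetherian (IZ.comap b).subscheme :=
    LocallyOfFiniteType.isLocallyNoetherian (IZ.comap b).subschemeι
  refine stk_le_mul_ker _ _ IE hIE hle ?_ (fun w h => ?_) q
  · exact ((Scheme.IdealSheafData.ker_subschemeι _).ge).trans (Scheme.Hom.le_ker_comp _ _)
  · rw [Scheme.Hom.comp_apply] at h
    exact w.2 h

/-- The data of the blow-up of a closed point lying on a curve at which the curve is regular. -/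
theorem exists_curve_lift [IsLocallyNoetherian X] (j : Y ⟶ X) [IsClosedImmersion j] [IsIntegral Y]
    (hdim : topologicalKrullDim Y = 1) (y : Y) (hy : IsClosed ({j y} : Set X))
    [IsRegularLocalRing (Y.presheaf.stalk y)] (b : X' ⟶ X)
    (hb : BlowUp.IsBlowUp b (Scheme.IdealSheafData.vanishingIdeal ⟨{j y}, hy⟩)) :
    ∃ (hy' : IsClosed ({y} : Set Y)) (s : Y ⟶ X'), IsClosedImmersion s ∧ s ≫ b = j ∧ y ≠ genericPoint Y ∧
      ((Scheme.IdealSheafData.vanishingIdeal ⟨{j y}, hy⟩).comap b).comap s =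
        Scheme.IdealSheafData.vanishingIdeal ⟨{y}, hy'⟩ ∧
      IsDiscreteValuationRing (Y.presheaf.stalk y) := by
  haveI : IsLocallyNoetherian Y := LocallyOfFiniteType.isLocallyNoetherian j
  have hy' : IsClosed ({y} : Set Y) := by
    have : ({y} : Set Y) = j.base ⁻¹' {j y} :=
      Set.ext fun w => ⟨fun h => by rw [Set.mem_singleton_iff.1 h]; rfl, fun h => j.isClosedEmbedding.injective h⟩
    rw [this]
    exact hy.preimage j.continuous
  have hy0 : y ≠ genericPoint Y := fun h => CurvesLib24.not_isClosed_genericPoint hdim (h ▸ hy')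
  haveI : UniqueFactorizationMonoid (Y.presheaf.stalk y) := CAlgH3.ufm_of_regular _
  haveI : IsPrincipalIdealRing (Y.presheaf.stalk y) :=
    CurvesLib24.isPrincipalIdealRing_stalk hdim.le y inferInstance
  have hm : maximalIdeal (Y.presheaf.stalk y) ≠ ⊥ := fun h => by
    refine hy0 ?_
    let A := Y.presheaf.stalk y
    let P : Spec A := ⟨⊥, Ideal.isPrime_bot⟩
    have hP : P = closedPoint A := PrimeSpectrum.ext h.symm
    obtain ⟨Q, hQ⟩ : genericPoint Y ∈ Set.range (Y.fromSpecStalk y) :=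
      Scheme.range_fromSpecStalk.ge (genericPoint_specializes _)
    have hPQ : P ⤳ Q := (PrimeSpectrum.le_iff_specializes P Q).1 bot_le
    have h1 : Y.fromSpecStalk y P = genericPoint Y :=
      ((hQ ▸ hPQ.map (Y.fromSpecStalk y).continuous).antisymm (genericPoint_specializes _)).eq
    rw [← h1, hP]
    exact Scheme.fromSpecStalk_closedPoint.symm
  haveI hdvr : IsDiscreteValuationRing (Y.presheaf.stalk y) :=
    { not_a_field' := hm }
  have hv : (Scheme.IdealSheafData.vanishingIdeal ⟨{j y}, hy⟩).comap j =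
      Scheme.IdealSheafData.vanishingIdeal ⟨{y}, hy'⟩ := comap_vanishingIdeal_point_closed j y hy' hy
  have hcart : BlowUp.IsEffCartierIdeal ((Scheme.IdealSheafData.vanishingIdeal ⟨{j y}, hy⟩).comap j) := by
    rw [hv]
    refine Inters29.isEffCartier_of_stk _ fun w => ?_
    by_cases hw : w = y
    · subst hw
      rw [Models7.stk_vanishingIdeal_point w hy']
      exact ⟨IsPrincipalIdealRing.principal _, hm⟩
    · rw [stk_eq_top (fun h => hw (Set.mem_singleton_iff.1 ((Scheme.IdealSheafData.coe_support_vanishingIdeal _).le h)))]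
      exact ⟨⟨1, Ideal.span_singleton_one.symm⟩, top_ne_bot⟩
  obtain ⟨s, hs, -⟩ := hb.2 Y j hcart
  change s ≫ b = j at hs
  haveI : IsProper b := BlowUpLib.isProper_of_isBlowUp hb (FlatMorAdm.isFiniteTypeIdeal_of_noetherian _)
  haveI : IsClosedImmersion (s ≫ b) := hs.symm ▸ inferInstanceAs (IsClosedImmersion j)
  exact ⟨hy', s, IsClosedImmersion.of_comp s b, hs, hy0, by rw [← Scheme.IdealSheafData.comap_comp, hs, hv], hdvr⟩

/-- The strict transform of a curve through a regular point is the lifted curve. -/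
theorem ker_strict_eq [IsLocallyNoetherian X'] {I : X.IdealSheafData} {b : X' ⟶ X} (hb : BlowUp.IsBlowUp b I)
    (j : Y ⟶ X) [IsClosedImmersion j] [IsIntegral Y] [IsLocallyNoetherian Y] (s : Y ⟶ X') [IsClosedImmersion s]
    (hs : s ≫ b = j) (hη : j (genericPoint Y) ∉ I.support) :
    Scheme.Hom.ker ((((j.ker.comap b).subschemeι ⁻¹ᵁ (I.comap b).support.compl).ι) ≫ (j.ker.comap b).subschemeι) =
      s.ker := by
  let K := j.ker.comap b
  let Ec : X'.Opens := (I.comap b).support.compl
  let O : K.subscheme.Opens := K.subschemeι ⁻¹ᵁ Ec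
  haveI : IsLocallyNoetherian K.subscheme := LocallyOfFiniteType.isLocallyNoetherian K.subschemeι
  have hsupp : ∀ w : X', w ∈ Ec ↔ b w ∉ I.support := fun w => by
    show w ∉ (((I.comap b).support : Set X')) ↔ _
    rw [Scheme.IdealSheafData.support_comap]; rfl
  let W : Y.Opens := s ⁻¹ᵁ Ec
  have hηW : genericPoint Y ∈ W := (hsupp _).2 (by rw [← Scheme.Hom.comp_apply, hs]; exact hη)
  have hKs : K ≤ s.ker := le_ker_of_comap_eq_bot s K (by
    show (j.ker.comap b).comap s = ⊥
    rw [← Scheme.IdealSheafData.comap_comp, hs, comap_ker_self])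
  refine le_antisymm ?_ ?_
  · rw [← ker_comp_opens s W hηW]
    let t := IsClosedImmersion.lift K.subschemeι (W.ι ≫ s) (by
      rw [Scheme.IdealSheafData.ker_subschemeι]
      exact hKs.trans (Scheme.Hom.le_ker_comp _ _))
    have ht : t ≫ K.subschemeι = W.ι ≫ s := IsClosedImmersion.lift_fac _ _ _
    have hr : Set.range t.base ⊆ Set.range O.ι.base := by
      rw [Scheme.Opens.range_ι]
      rintro _ ⟨w, rfl⟩
      show K.subschemeι (t w) ∈ Ec
      rw [← Scheme.Hom.comp_apply, ht]
      exact w.2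
    rw [← ht, ← IsOpenImmersion.lift_fac O.ι t hr, Category.assoc]
    exact Scheme.Hom.le_ker_comp _ _
  · have hK0 : (j.ker.comap b).comap K.subschemeι = ⊥ :=
      (congrArg (fun J : X'.IdealSheafData => J.comap K.subschemeι) K.ker_subschemeι.symm).trans
        (comap_ker_self K.subschemeι)
    have hv0 : j.ker.comap ((O.ι ≫ K.subschemeι) ≫ b) = ⊥ := by
      rw [Category.assoc, Scheme.IdealSheafData.comap_comp, Scheme.IdealSheafData.comap_comp, hK0,
        Scheme.IdealSheafData.comap_bot]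
    let c := IsClosedImmersion.lift j ((O.ι ≫ K.subschemeι) ≫ b) (le_ker_of_comap_eq_bot _ _ hv0)
    have hc : c ≫ j = (O.ι ≫ K.subschemeι) ≫ b := IsClosedImmersion.lift_fac _ _ _
    have hv : O.ι ≫ K.subschemeι = c ≫ s := by
      haveI := SDiv28.isOpenImmersion_offCenter hb
      have hEc : SDiv28.offCenter b I = Ec := TopologicalSpace.Opens.ext (Set.ext fun w => (hsupp w).symm)
      haveI : IsOpenImmersion (Ec.ι ≫ b) := hEc ▸ SDiv28.isOpenImmersion_offCenter hb
      have h1 : Set.range (O.ι ≫ K.subschemeι).base ⊆ Set.range Ec.ι.base := by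
        rw [Scheme.Opens.range_ι]
        rintro _ ⟨w, rfl⟩
        exact w.2
      have h2 : Set.range (c ≫ s).base ⊆ Set.range Ec.ι.base := by
        rw [Scheme.Opens.range_ι]
        rintro _ ⟨w, rfl⟩
        refine (hsupp _).2 ?_
        rw [← Scheme.Hom.comp_apply, Category.assoc, hs, hc, Category.assoc, Scheme.Hom.comp_apply, Scheme.Hom.comp_apply]
        exact (hsupp _).1 w.2
      rw [← IsOpenImmersion.lift_fac Ec.ι (O.ι ≫ K.subschemeι) h1, ← IsOpenImmersion.lift_fac Ec.ι (c ≫ s) h2]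
      refine congrArg (· ≫ Ec.ι) ((cancel_mono (Ec.ι ≫ b)).1 ?_)
      rw [IsOpenImmersion.lift_fac_assoc, IsOpenImmersion.lift_fac_assoc, Category.assoc c s b, hs, hc]
    rw [hv]
    exact Scheme.Hom.le_ker_comp _ _

end Groth.Agent.Resolve13
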