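import Groth.Agent.Models7.PointBlowUp
import Groth.Agent.CAlgH.KoszulRegular
import Groth.Agent.CAlgH.KoszulH1
import Groth.Agent.CAlgH3.RegularCore

/-!
# Generators of the ideal of a regular closed point of dimension two near the point
-/

set_option autoImplicit false
set_option linter.style.haveILetI false
set_option backward.isDefEq.respectTransparency false
set_option maxHeartbeats 1000000

universe u

open CategoryTheory CategoryTheory.Limits AlgebraicGeometry TopologicalSpace IsLocalRing Opposite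
open Groth.Agent.Misc15.DivDescent Groth.Agent.SDiv28.CartierPart
open Groth.Agent.CAlgH.KoszulRegular

namespace Groth.Agent.Resolve13

/-- Near a regular closed point of dimension two the ideal of the point has two Koszul regular generators. -/
theorem exists_local_gen {Z : Scheme.{u}} [IsLocallyNoetherian Z] (z : Z) (hz : IsClosed ({z} : Set Z))
    [IsRegularLocalRing (Z.presheaf.stalk z)] (hdim : ringKrullDim (Z.presheaf.stalk z) = 2) :
    ∃ (U : Z.affineOpens) (_ : z ∈ U.1) (g : Fin (1 + 1) → Γ(Z, U.1)),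
      (Scheme.IdealSheafData.vanishingIdeal ⟨{z}, hz⟩).ideal U = Ideal.span (Set.range g) ∧ KReg g ∧
      (Ideal.span (Set.range g)).IsMaximal := by
  classical
  let I := Scheme.IdealSheafData.vanishingIdeal ⟨{z}, hz⟩
  have hsupp : (I.support : Set Z) = {z} := Scheme.IdealSheafData.coe_support_vanishingIdeal _
  obtain ⟨_, ⟨W, hW, rfl⟩, hzW, -⟩ := Z.isBasis_affineOpens.exists_subset_of_mem_open (Set.mem_univ z) isOpen_univ
  letI := (Z.presheaf.germ W z hzW).hom.toAlgebra
  haveI : IsNoetherianRing Γ(Z, W) := IsLocallyNoetherian.component_noetherian ⟨W, hW⟩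
  haveI := hW.isLocalization_stalk ⟨z, hzW⟩
  let P := (hW.primeIdealOf ⟨z, hzW⟩).asIdeal
  let S := Z.presheaf.stalk z
  -- a regular sequence at the point
  obtain ⟨rs, hlen, hm, hrs⟩ := CAlgH3.exists_isRegular_ofList_eq_maximalIdeal (R := S)
  have hlen2 : rs.length = 2 := by
    have h := IsRegularLocalRing.spanFinrank_maximalIdeal (R := S)
    rw [hdim, ← hlen] at h
    exact_mod_cast h
  let r : Fin (1 + 1) → S := fun i => rs.get (i.cast hlen2.symm)
  have hl : List.ofFn r = rs :=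
    ((List.ofFn_congr hlen2.symm r).trans (congrArg List.ofFn (funext fun _ => rfl))).trans (List.ofFn_get rs)
  have hrm : Ideal.span (Set.range r) = maximalIdeal S := by
    rw [← hm, ← hl]
    exact congrArg Ideal.span (by ext y; simp [eq_comm])
  have hstk : (I.ideal ⟨W, hW⟩).map (algebraMap Γ(Z, W) S) = maximalIdeal S :=
    (stk_eq I ⟨W, hW⟩ hzW).symm.trans (Models7.stk_vanishingIdeal_point z hz)
  -- clear the denominators
  have hnum : ∀ i, ∃ a ∈ I.ideal ⟨W, hW⟩, ∃ s : P.primeCompl, algebraMap Γ(Z, W) S a = r i * algebraMap _ S (s : Γ(Z, W)) := by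
    intro i
    have h : r i ∈ (I.ideal ⟨W, hW⟩).map (algebraMap Γ(Z, W) S) := hstk.ge (hrm ▸ Ideal.subset_span ⟨i, rfl⟩)
    rw [IsLocalization.mem_map_algebraMap_iff P.primeCompl] at h
    obtain ⟨⟨⟨a, ha⟩, s⟩, e⟩ := h
    exact ⟨a, ha, s, e.symm⟩
  choose a ha sd hsd using hnum
  have hspanS : (Ideal.span (Set.range a)).map (algebraMap Γ(Z, W) S) = maximalIdeal S := by
    rw [← hrm, Ideal.map_span, ← Set.range_comp]
    refine le_antisymm (Ideal.span_le.2 ?_) (Ideal.span_le.2 ?_)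
    · rintro _ ⟨i, rfl⟩
      show algebraMap _ S (a i) ∈ _
      rw [hsd]
      exact Ideal.mul_mem_right _ _ (Ideal.subset_span ⟨i, rfl⟩)
    · rintro _ ⟨i, rfl⟩
      obtain ⟨v, hv⟩ := IsLocalization.map_units S (sd i)
      have : r i = algebraMap _ S (a i) * ((v⁻¹ : Sˣ) : S) := by
        rw [hsd, ← hv, mul_assoc, Units.mul_inv, mul_one]
      rw [this]
      exact Ideal.mul_mem_right _ _ (Ideal.subset_span ⟨i, rfl⟩)
  -- shrink
  obtain ⟨t, ht⟩ : (I.ideal ⟨W, hW⟩).FG := IsNoetherian.noetherian _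
  have hden : ∀ x ∈ t, ∃ s : P.primeCompl, (s : Γ(Z, W)) * x ∈ Ideal.span (Set.range a) := by
    intro x hx
    have h : algebraMap Γ(Z, W) S x ∈ (Ideal.span (Set.range a)).map (algebraMap Γ(Z, W) S) := by
      rw [hspanS, ← hstk]
      exact Ideal.mem_map_of_mem _ (ht ▸ Submodule.subset_span hx)
    rw [IsLocalization.mem_map_algebraMap_iff P.primeCompl] at h
    obtain ⟨⟨⟨y, hy⟩, s⟩, e⟩ := h
    rw [← map_mul] at e
    obtain ⟨c, hc⟩ := (IsLocalization.eq_iff_exists P.primeCompl S).1 e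
    refine ⟨c * s, ?_⟩
    have hcy : (c : Γ(Z, W)) * y ∈ Ideal.span (Set.range a) := Ideal.mul_mem_left _ _ hy
    rw [← hc] at hcy
    rwa [Submonoid.coe_mul, show (c : Γ(Z, W)) * s * x = c * (x * s) by ring]
  choose! σ hσ using hden
  let s₀ : P.primeCompl := ∏ x ∈ t, σ x
  have hs₀ : ∀ x ∈ I.ideal ⟨W, hW⟩, (s₀ : Γ(Z, W)) * x ∈ Ideal.span (Set.range a) := by
    have hle : I.ideal ⟨W, hW⟩ ≤ Submodule.comap (LinearMap.mulLeft Γ(Z, W) (s₀ : Γ(Z, W))) (Ideal.span (Set.range a)) := by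
      rw [← ht, Submodule.span_le]
      intro x hx
      show (s₀ : Γ(Z, W)) * x ∈ Ideal.span (Set.range a)
      obtain ⟨c, hc⟩ : σ x ∣ s₀ := Finset.dvd_prod_of_mem σ hx
      rw [hc, Submonoid.coe_mul, mul_right_comm]
      exact Ideal.mul_mem_right _ _ (hσ x hx)
    exact fun x hx => hle hx
  have hzU : z ∈ Z.basicOpen (s₀ : Γ(Z, W)) := by
    rw [Scheme.mem_basicOpen _ _ _ hzW]
    exact IsLocalization.map_units S s₀
  let U : Z.affineOpens := ⟨Z.basicOpen (s₀ : Γ(Z, W)), hW.basicOpen _⟩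
  letI := (Z.presheaf.map (homOfLE (Z.basicOpen_le (s₀ : Γ(Z, W)))).op).hom.toAlgebra
  haveI : IsLocalization.Away (s₀ : Γ(Z, W)) Γ(Z, U.1) := hW.isLocalization_basicOpen _
  let g : Fin (1 + 1) → Γ(Z, U.1) := fun i => algebraMap Γ(Z, W) Γ(Z, U.1) (a i)
  have hIU : I.ideal U = Ideal.span (Set.range g) := by
    rw [← I.map_ideal (U := U) (V := ⟨W, hW⟩) (Z.basicOpen_le _)]
    refine le_antisymm (Ideal.map_le_iff_le_comap.2 fun x hx => ?_) ?_
    · have h := Ideal.mem_map_of_mem (algebraMap Γ(Z, W) Γ(Z, U.1)) (hs₀ x hx)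
      rw [Ideal.map_span, ← Set.range_comp, map_mul] at h
      obtain ⟨v, hv⟩ := IsLocalization.Away.algebraMap_isUnit (S := Γ(Z, U.1)) (s₀ : Γ(Z, W))
      have h2 := Ideal.mul_mem_left _ ((v⁻¹ : Γ(Z, U.1)ˣ) : Γ(Z, U.1)) h
      rw [← hv, Units.inv_mul_cancel_left] at h2
      exact h2
    · rw [Ideal.span_le]
      rintro _ ⟨i, rfl⟩
      exact Ideal.mem_map_of_mem _ (ha i)
  let PU := (U.2.primeIdealOf ⟨z, hzU⟩).asIdeal
  letI := (Z.presheaf.germ U.1 z hzU).hom.toAlgebra
  haveI hlocU : IsLocalization.AtPrime S PU := U.2.isLocalization_stalk ⟨z, hzU⟩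
  have hIP : I.ideal U ≤ PU := fun x hx => by
    rw [← IsLocalization.AtPrime.to_map_mem_maximal_iff S PU x, ← Models7.stk_vanishingIdeal_point z hz,
      stk_eq I U hzU]
    exact Ideal.mem_map_of_mem _ hx
  have huniq : ∀ q : Ideal Γ(Z, U.1), q.IsPrime → Ideal.span (Set.range g) ≤ q → q = PU := by
    intro q hq hle
    let qp : Spec Γ(Z, U.1) := ⟨q, hq⟩
    have hmem : U.2.fromSpec qp ∈ (U.1 : Set Z) := U.2.range_fromSpec ▸ ⟨qp, rfl⟩
    have h1 : U.2.fromSpec qp ∈ Z.zeroLocus (U := U.1) (I.ideal U : Set Γ(Z, U.1)) := by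
      have : qp ∈ U.2.fromSpec.base ⁻¹' Z.zeroLocus (U := U.1) (I.ideal U : Set Γ(Z, U.1)) := by
        rw [U.2.fromSpec_preimage_zeroLocus]
        exact hIU.le.trans hle
      exact this
    have h2 : U.2.fromSpec qp = z := Set.mem_singleton_iff.1 (hsupp.le ((I.coe_support_inter U).ge ⟨h1, hmem⟩).1)
    have h3 : qp = U.2.primeIdealOf ⟨z, hzU⟩ := U.2.fromSpec.isOpenEmbedding.injective
      (h2.trans (U.2.fromSpec_primeIdealOf ⟨z, hzU⟩).symm)
    exact congrArg PrimeSpectrum.asIdeal h3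
  have hmax : (Ideal.span (Set.range g)).IsMaximal := by
    have hne : Ideal.span (Set.range g) ≠ ⊤ := fun h => by
      have h1 : PU = ⊤ := top_le_iff.1 (h ▸ (hIU.ge.trans hIP))
      exact (U.2.primeIdealOf ⟨z, hzU⟩).isPrime.ne_top h1
    obtain ⟨m, hm', hle⟩ := Ideal.exists_le_maximal _ hne
    have hmP : m = PU := huniq m hm'.isPrime hle
    have hrad : PU ≤ (Ideal.span (Set.range g)).radical := by
      rw [Ideal.radical_eq_sInf]
      exact le_sInf fun q ⟨hq, hq'⟩ => (huniq q hq' hq).ge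
    have hI : (Ideal.span (Set.range g)).radical ≤ Ideal.span (Set.range g) := by
      rw [← hIU, show I.ideal U = _ from Scheme.IdealSheafData.vanishingIdeal_ideal _ U]
      exact (PrimeSpectrum.isRadical_vanishingIdeal _)
    exact (le_antisymm (hle.trans hmP.le) (hrad.trans hI)).symm ▸ (hmP ▸ hm' : PU.IsMaximal)
  refine ⟨U, hzU, g, hIU, ?_, hmax⟩
  refine kreg_of_local g fun q hq hle => ?_
  obtain rfl := huniq q hq.isPrime hle
  let L := Localization.AtPrime PU
  let e : S ≃ₐ[Γ(Z, U.1)] L := IsLocalization.algEquiv PU.primeCompl S L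
  let eR : S →+* L := e.toRingEquiv.toRingHom
  have hreg : KReg fun i => eR (r i) := by
    letI := eR.toAlgebra
    haveI : Module.Flat S L := RingHom.flat_algebraMap_iff.1 (RingHom.Flat.of_bijective e.bijective)
    exact KReg.map (CAlgH.KoszulH1.kreg_of_isWeaklyRegular (hl.symm ▸ hrs.toIsWeaklyRegular))
  refine kreg_of_span_eq hreg ?_
  have hgS : Ideal.span (Set.range fun i => algebraMap Γ(Z, U.1) S (g i)) = maximalIdeal S := by
    rw [← Models7.stk_vanishingIdeal_point z hz, stk_eq I U hzU, hIU, Ideal.map_span, ← Set.range_comp]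
    rfl
  have h := congrArg (Ideal.map eR) (hgS.trans hrm.symm)
  rw [Ideal.map_span, Ideal.map_span, ← Set.range_comp, ← Set.range_comp] at h
  refine Eq.trans (congrArg (fun f => Ideal.span (Set.range f)) (funext fun i => ?_)) h
  exact (e.commutes (g i)).symm

end Groth.Agent.Resolve13
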