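import Groth.Agent.Models7.Elimination
import Groth.Agent.Inters29.PrimeDiv
import Groth.Prelude.Def_ModelsG

/-!
# Principalisation of an ideal on a regular surface by point blow-ups
-/

set_option autoImplicit false
set_option linter.style.haveILetI false
set_option backward.isDefEq.respectTransparency false
set_option maxHeartbeats 1000000

universe u

open CategoryTheory CategoryTheory.Limits AlgebraicGeometry TopologicalSpace IsLocalRing Opposite
open Groth.Agent.Misc15.DivDescent Groth.Agent.SDiv28.CartierPart Groth.Agent.Models7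

namespace Groth.Agent.Resolve13

theorem stk_ne_bot {X : Scheme.{u}} [IsIntegral X] (I : X.IdealSheafData) (hI : I ≠ ⊥) (x : X) : stk I x ≠ ⊥ := by
  intro h
  have hsp : ∀ (U : X.affineOpens) (hU : (U.1 : Set X).Nonempty), genericPoint X ∈ U.1 := fun U hU =>
    ((genericPoint_spec X).mem_open_set_iff U.1.2).mpr (by simpa using hU)
  have hη : stk I (genericPoint X) = ⊥ := by
    obtain ⟨_, ⟨U, hU, rfl⟩, hxU, -⟩ := X.isBasis_affineOpens.exists_subset_of_mem_open (Set.mem_univ x) isOpen_univ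
    have h0 : I.ideal ⟨U, hU⟩ = ⊥ := by
      rw [stk_eq I ⟨U, hU⟩ hxU] at h
      haveI : Nonempty (Scheme.Opens.toScheme U) := ⟨⟨x, hxU⟩⟩
      exact (Ideal.map_eq_bot_iff_of_injective (germ_injective_of_isIntegral X x hxU)).1 h
    rw [stk_eq I ⟨U, hU⟩ (hsp ⟨U, hU⟩ ⟨x, hxU⟩), h0, Ideal.map_bot]
  refine hI (le_bot_iff.1 fun V => ?_)
  by_cases hV : (V.1 : Set X).Nonempty
  · haveI : Nonempty (Scheme.Opens.toScheme V.1) := ⟨⟨hV.some, hV.some_mem⟩⟩
    rw [stk_eq I V (hsp V hV)] at hη
    rw [(Ideal.map_eq_bot_iff_of_injective (germ_injective_of_isIntegral X _ (hsp V hV))).1 hη]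
    exact bot_le
  · haveI : IsEmpty V.1 := ⟨fun v => hV ⟨v.1, v.2⟩⟩
    intro a ha
    rw [Scheme.IdealSheafData.ideal_bot]
    haveI : Subsingleton Γ(X, V.1) := by
      rw [show V.1 = ⊥ from Opens.ext (Set.not_nonempty_iff_eq_empty.1 hV)]
      exact CommRingCat.subsingleton_of_isTerminal X.sheaf.isTerminalOfEmpty
    rw [Subsingleton.elim a 0]
    exact Ideal.zero_mem _

/-- In a finite set of elements that are pairwise comparable for divisibility one divides all the others. -/
theorem exists_dvd_all {R : Type*} [CommRing R] {ι : Type*} (s : Finset ι) (hs : s.Nonempty) (v : ι → R)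
    (h : ∀ i ∈ s, ∀ j ∈ s, v i ∣ v j ∨ v j ∣ v i) : ∃ i ∈ s, ∀ j ∈ s, v i ∣ v j := by
  classical
  induction hs using Finset.Nonempty.cons_induction with
  | singleton a => exact ⟨a, Finset.mem_singleton_self a, fun j hj => Finset.mem_singleton.1 hj ▸ dvd_rfl⟩
  | cons a t ha ht ih =>
    obtain ⟨i, hi, hall⟩ := ih fun p hp q hq => h p (Finset.mem_cons_of_mem hp) q (Finset.mem_cons_of_mem hq)
    rcases h a (Finset.mem_cons_self a t) i (Finset.mem_cons_of_mem hi) with hd | hd
    · refine ⟨a, Finset.mem_cons_self a t, fun j hj => ?_⟩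
      rcases Finset.mem_cons.1 hj with rfl | hj
      · exact dvd_rfl
      · exact hd.trans (hall j hj)
    · refine ⟨i, Finset.mem_cons_of_mem hi, fun j hj => ?_⟩
      rcases Finset.mem_cons.1 hj with rfl | hj
      · exact hd
      · exact hall j hj

/-- A nonzero ideal on a regular surface becomes invertible after blowing up points. -/
theorem exists_ptSeq_effCartier {X : Scheme.{u}} [IsIntegral X] (hX : RegSurf X) (I : X.IdealSheafData)
    (hI : I ≠ ⊥) :
    ∃ (X' : Scheme.{u}) (b : X' ⟶ X), RegSurf X' ∧ PtSeq b ∧ IsProper b ∧ BlowUp.IsEffCartierIdeal (I.comap b) := by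
  classical
  haveI := hX.noeth
  haveI := hX.compact
  have hloc : ∀ x : X, ∃ U : X.affineOpens, x ∈ U.1 ∧ ∃ s : Finset Γ(X, U.1), Ideal.span (s : Set _) = I.ideal U := by
    intro x
    obtain ⟨_, ⟨U, hU, rfl⟩, hxU, -⟩ := X.isBasis_affineOpens.exists_subset_of_mem_open (Set.mem_univ x) isOpen_univ
    haveI : IsNoetherianRing Γ(X, U) := IsLocallyNoetherian.component_noetherian ⟨U, hU⟩
    exact ⟨⟨U, hU⟩, hxU, IsNoetherian.noetherian (I.ideal ⟨U, hU⟩)⟩
  choose U hxU s hs using hloc
  obtain ⟨t, ht⟩ := isCompact_univ.elim_finite_subcover (fun x => ((U x).1 : Set X)) (fun x => (U x).1.2)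
    (fun x _ => Set.mem_iUnion.2 ⟨x, hxU x⟩)
  have hη : ∀ x, genericPoint X ∈ (U x).1 := fun x =>
    ((genericPoint_spec X).mem_open_set_iff (U x).1.2).mpr (by simpa using ⟨x, hxU x⟩)
  let g : ∀ x, Γ(X, (U x).1) → X.functionField := fun x a => X.presheaf.germ (U x).1 (genericPoint X) (hη x) a
  let S : Finset X.functionField := t.biUnion fun x => (s x ×ˢ s x).image fun p => g x p.1 / g x p.2
  obtain ⟨X', b, hX', hint, e', hgen, hP, hprop, he, hgood⟩ := exists_good hX (RingEquiv.refl X.functionField) S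
  haveI := hint
  haveI := hX'.noeth
  refine ⟨X', b, hX', hP, hprop, Inters29.isEffCartier_of_stk _ fun y => ?_⟩
  obtain ⟨x, hxt, hyU⟩ : ∃ x ∈ t, b y ∈ (U x).1 := by simpa using ht (Set.mem_univ (b y))
  let α : Γ(X, (U x).1) →+* X'.presheaf.stalk y := (b.stalkMap y).hom.comp (X.presheaf.germ (U x).1 (b y) hyU).hom
  let spec := X'.presheaf.stalkSpecializes (genericPoint_specializes y)
  have hspec : ∀ a, spec (α a) = e' (g x a) := fun a => by
    rw [he]
    refine (ffMap_germ b hgen y (X.presheaf.germ (U x).1 (b y) hyU a)).trans (congrArg (ffMap b hgen) ?_)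
    exact TopCat.Presheaf.germ_stalkSpecializes_apply _ _ _ _
  have hinj : Function.Injective spec := IsFractionRing.injective (X'.presheaf.stalk y) X'.functionField
  have hI' : stk (I.comap b) y = Ideal.span (α '' (s x)) := by
    rw [stk_comap, stk_eq I (U x) hyU, Ideal.map_map, ← hs x, Ideal.map_span]
  have hne : stk (I.comap b) y ≠ ⊥ := by
    intro h0
    refine stk_ne_bot I hI (genericPoint X) ?_
    rw [stk_eq I (U x) (hη x), ← hs x, Ideal.map_span, Ideal.span_eq_bot]
    rintro _ ⟨a, ha, rfl⟩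
    have h1 : α a = 0 := (Ideal.span_eq_bot.1 (hI'.symm.trans h0)) _ ⟨a, ha, rfl⟩
    have h2 := hspec a
    rw [h1, map_zero] at h2
    exact e'.map_eq_zero_iff.1 h2.symm
  refine ⟨?_, hne⟩
  have hsne : (s x).Nonempty := Finset.nonempty_of_ne_empty fun h => hne (by
    rw [hI', h]; simp)
  have hcomp : ∀ a ∈ s x, ∀ c ∈ s x, α a ∣ α c ∨ α c ∣ α a := by
    intro a ha c hc
    by_cases hc0 : g x c = 0
    · refine Or.inl ?_
      rw [show α c = 0 from hinj (by rw [hspec, hc0, map_zero, map_zero])]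
      exact dvd_zero _
    by_cases ha0 : g x a = 0
    · refine Or.inr ?_
      rw [show α a = 0 from hinj (by rw [hspec, ha0, map_zero, map_zero])]
      exact dvd_zero _
    have hzS : g x a / g x c ∈ S :=
      Finset.mem_biUnion.2 ⟨x, hxt, Finset.mem_image.2 ⟨(a, c), Finset.mem_product.2 ⟨ha, hc⟩, rfl⟩⟩
    have hnb : ¬ IsBadAt (g x a / g x c) (stalkRing e' y) := fun hbad =>
      (hgood _ hzS).le (show y ∈ badSet e' _ from hbad)
    by_cases h1 : g x a / g x c ∈ stalkRing e' y
    · obtain ⟨w, hw⟩ := (mem_stalkRing e' y _).1 h1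
      refine Or.inr ⟨w, hinj ?_⟩
      rw [map_mul, hspec, hspec, show spec w = e' (g x a / g x c) from hw, ← map_mul]
      exact congrArg e' (by field_simp)
    · obtain ⟨w, hw⟩ := (mem_stalkRing e' y _).1 (not_not.1 fun h2 => hnb ⟨h1, h2⟩)
      refine Or.inl ⟨w, hinj ?_⟩
      rw [map_mul, hspec, hspec, show spec w = e' (g x a / g x c)⁻¹ from hw, ← map_mul]
      exact congrArg e' (by field_simp)
  obtain ⟨a, ha, hall⟩ := exists_dvd_all (s x) hsne α hcomp
  refine ⟨α a, hI'.trans (le_antisymm (Ideal.span_le.2 ?_) (Ideal.span_mono (Set.singleton_subset_iff.2 ⟨a, ha, rfl⟩)))⟩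
  rintro _ ⟨c, hc, rfl⟩
  exact Ideal.mem_span_singleton.2 (hall c hc)

end Groth.Agent.Resolve13
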