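import Groth.Agent.Resolve13.PointExc
import Groth.Agent.Resolve13.Principal
import Groth.Agent.SDiv28.BlowUp
import Groth.Agent.SDiv28.StalkCartier
import Groth.Agent.VarietyLib.AffineNhd
import Groth.Agent.Props12.Stalks
import Groth.Agent.CAlgH3.RegularHom
import Groth.Agent.Models7.Factor
import Groth.Agent.Models7.ExcTransfer

/-!
# Lifting point blow-ups from the local ring of a point to the scheme
-/

set_option autoImplicit false
set_option linter.style.haveILetI false
set_option backward.isDefEq.respectTransparency false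
set_option maxHeartbeats 1000000

universe u

open CategoryTheory CategoryTheory.Limits AlgebraicGeometry TopologicalSpace IsLocalRing Opposite
open Groth.Agent.Misc15.DivDescent Groth.Agent.SDiv28.CartierPart Groth.Agent.Models7

namespace Groth.Agent.Resolve13

theorem contractionSeq_trans {W Y : Scheme.{u}} {s : W ⟶ Y} (hs : Models.IsContractionSeq s) :
    ∀ {X : Scheme.{u}} {r : Y ⟶ X}, Models.IsContractionSeq r → Models.IsContractionSeq (s ≫ r) := by
  induction hs with
  | iso e =>
    intro X r hr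
    rename_i W' Y'
    induction hr generalizing W' with
    | iso e' => exact (Iso.trans_hom e e') ▸ Models.IsContractionSeq.iso (e ≪≫ e')
    | step ι b r hι hE hb hr _ =>
      rw [← Category.assoc]
      obtain ⟨hN, hp, y, hy, hr', hreg, hdim, hbl⟩ := hb
      haveI := hι
      haveI := hp
      haveI := hN
      haveI := hreg
      obtain ⟨E', ι', hι', hE', hc⟩ := exists_isContractionOf y hy hdim (e.hom ≫ b)
        (Models7.isBlowUp_iso_comp e hbl)
      exact Models.IsContractionSeq.step ι' (e.hom ≫ b) r hι' hE' hc hr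
  | step ι b r hι hE hb _ ih =>
    intro X r' hr'
    rw [Category.assoc]
    exact Models.IsContractionSeq.step ι b _ hι hE hb (ih hr')

/-- A blow-up of a closed point of dimension at most one on a regular surface is an isomorphism. -/
theorem isIso_pointBlowUp_of_dim_ne {Z Y : Scheme.{u}} (hZ : RegSurf Z) (z : Z) (hz : IsClosed ({z} : Set Z))
    [IrreducibleSpace Z] (hz1 : z ≠ genericPoint Z) (hdim : ringKrullDim (Z.presheaf.stalk z) ≠ 2) (b : Y ⟶ Z)
    (hb : BlowUp.IsBlowUp b (Scheme.IdealSheafData.vanishingIdeal ⟨{z}, hz⟩)) : IsIso b := by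
  haveI := hZ.integral
  haveI := hZ.noeth
  haveI := hZ.regular z
  have hle : ringKrullDim (Z.presheaf.stalk z) ≤ 2 := (CurvesLib24.stalk_dim_le_topologicalKrullDim z).trans hZ.dim
  have h1 : (maximalIdeal (Z.presheaf.stalk z)).spanFinrank ≤ 1 := by
    have h2 := IsRegularLocalRing.spanFinrank_maximalIdeal (R := Z.presheaf.stalk z)
    have h3 : (maximalIdeal (Z.presheaf.stalk z)).spanFinrank ≤ 2 := by exact_mod_cast h2.trans_le hle
    have h4 : (maximalIdeal (Z.presheaf.stalk z)).spanFinrank ≠ 2 := fun h => hdim (by rw [← h2, h]; rfl)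
    omega
  refine Models7.isIso_blowUp_of_effCartier hb (Inters29.isEffCartier_of_stk _ fun x => ?_)
  by_cases hx : x = z
  · subst hx
    rw [Models7.stk_vanishingIdeal_point x hz]
    obtain ⟨s, hs, hspan⟩ := Submodule.FG.exists_span_set_encard_eq_spanFinrank
      (IsNoetherian.noetherian (maximalIdeal (Z.presheaf.stalk x)))
    refine ⟨?_, fun h0 => hz1 ?_⟩
    · have hle1 : s.encard ≤ 1 := by rw [hs]; exact_mod_cast h1
      rcases Set.encard_le_one_iff_eq.1 hle1 with rfl | ⟨d, rfl⟩
      · exact ⟨0, by rw [← hspan]; simp⟩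
      · exact ⟨d, hspan.symm⟩
    · let A := Z.presheaf.stalk x
      let P : Spec A := ⟨⊥, Ideal.isPrime_bot⟩
      have hP : P = closedPoint A := PrimeSpectrum.ext h0.symm
      obtain ⟨Q, hQ⟩ : genericPoint Z ∈ Set.range (Z.fromSpecStalk x) :=
        Scheme.range_fromSpecStalk.ge (genericPoint_specializes _)
      have hPQ : P ⤳ Q := (PrimeSpectrum.le_iff_specializes P Q).1 bot_le
      have h1 : Z.fromSpecStalk x P = genericPoint Z :=
        ((hQ ▸ hPQ.map (Z.fromSpecStalk x).continuous).antisymm (genericPoint_specializes _)).eq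
      rw [← h1, hP]
      exact Scheme.fromSpecStalk_closedPoint.symm
  · rw [stk_eq_top (fun h => hx ((Scheme.IdealSheafData.coe_support_vanishingIdeal _).le h))]
    exact ⟨⟨1, Ideal.span_singleton_one.symm⟩, top_ne_bot⟩

theorem isIso_stalkMap {T X : Scheme.{u}} (j : T ⟶ X) [Flat j] [IsPreimmersion j] (t : T) : IsIso (j.stalkMap t) :=
  VarietyLib.isIso_stalkMap_of_flat_of_isPreimmersion j t

theorem comap_vanishingIdeal_point {T X : Scheme.{u}} (j : T ⟶ X) [Flat j] [IsPreimmersion j] (t : T)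
    (ht : IsClosed ({t} : Set T)) (hx : IsClosed ({j t} : Set X)) :
    (Scheme.IdealSheafData.vanishingIdeal ⟨{j t}, hx⟩).comap j = Scheme.IdealSheafData.vanishingIdeal ⟨{t}, ht⟩ := by
  let I := Scheme.IdealSheafData.vanishingIdeal ⟨{j t}, hx⟩
  haveI : IsReduced I.subscheme := Props12.isReduced_subscheme_vanishingIdeal _
  haveI : IsPreimmersion (pullback.snd j I.subschemeι) := MorphismProperty.pullback_snd _ _ inferInstance
  haveI : Flat (pullback.snd j I.subschemeι) := MorphismProperty.pullback_snd _ _ inferInstance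
  haveI : IsReduced (pullback j I.subschemeι) := by
    haveI : ∀ w, _root_.IsReduced ((pullback j I.subschemeι).presheaf.stalk w) := fun w => by
      haveI := isIso_stalkMap (pullback.snd j I.subschemeι) w
      exact isReduced_of_injective (asIso ((pullback.snd j I.subschemeι).stalkMap w)).commRingCatIsoToRingEquiv.symm.toRingHom
        (asIso ((pullback.snd j I.subschemeι).stalkMap w)).commRingCatIsoToRingEquiv.symm.injective
    exact isReduced_of_isReduced_stalk _
  haveI : IsReduced (I.comap j).subscheme := isReduced_of_isOpenImmersion (I.comapIso j).hom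
  rw [eq_vanishingIdeal_of_isReduced (I.comap j)]
  congr 1
  refine Closeds.ext ?_
  show ((I.comap j).support : Set T) = {t}
  rw [Scheme.IdealSheafData.support_comap]
  show j.base ⁻¹' (I.support : Set X) = {t}
  rw [show (I.support : Set X) = {j t} from Scheme.IdealSheafData.coe_support_vanishingIdeal _]
  exact Set.ext fun w => ⟨fun h => j.isEmbedding.injective h, fun h => by rw [Set.mem_singleton_iff.1 h]; rfl⟩

/-- Point blow-ups of the local surface at a closed point lift to the scheme. -/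
theorem exists_lift {S' S₀ : Scheme.{u}} {r : S' ⟶ S₀} (hr : PtSeq r) :
    RegSurf S₀ → ∀ {X : Scheme.{u}} [IsNoetherian X] (j : S₀ ⟶ X) [Flat j] [IsPreimmersion j] (x : X)
      (hx : IsClosed ({x} : Set X)), (∀ s : S₀, IsClosed ({s} : Set S₀) → j s = x) → x ∈ Set.range j.base →
      ∃ (X' : Scheme.{u}) (g : X' ⟶ X) (j' : S' ⟶ X'), IsNoetherian X' ∧ IsProper g ∧ Models.IsContractionSeq g ∧
        IsIso (g ∣_ (⟨{x}ᶜ, hx.isOpen_compl⟩ : X.Opens)) ∧ Flat j' ∧ IsPreimmersion j' ∧ j' ≫ g = r ≫ j ∧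
        g.base ⁻¹' {x} ⊆ Set.range j'.base := by
  induction hr with
  | @iso Y' X' e =>
    intro hS X _ j _ _ x hx hjc hxj
    refine ⟨X, 𝟙 X, e.hom ≫ j, inferInstance, inferInstance, Models.IsContractionSeq.iso (Iso.refl X), inferInstance,
      inferInstance, inferInstance, by rw [Category.comp_id], ?_⟩
    intro w hw
    obtain ⟨s, hs⟩ := hxj
    refine ⟨e.inv s, ?_⟩
    show (e.hom ≫ j) (e.inv s) = w
    rw [← Scheme.Hom.comp_apply, e.inv_hom_id_assoc]
    exact hs.trans (Set.mem_singleton_iff.1 hw).symm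
  | @step Y' Z' X' b r z hz hz0 hb hr ih =>
    intro hS X _ j _ _ x hx hjc hxj
    obtain ⟨Xn, g, jn, hNn, hgp, hgs, hgiso, hjf, hjp, hcomm, hrange⟩ := ih hS j x hx hjc hxj
    obtain ⟨hZ, hrp, -⟩ := contractionSeq_of_ptSeq hr hS
    haveI := hNn; haveI := hgp; haveI := hjf; haveI := hjp; haveI := hrp
    haveI := hZ.integral
    haveI := hZ.noeth
    haveI := hZ.regular z
    have hz1 : z ≠ genericPoint Z' := hz0
    by_cases hdim : ringKrullDim (Z'.presheaf.stalk z) = 2
    swap
    · haveI := isIso_pointBlowUp_of_dim_ne hZ z hz hz1 hdim b hb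
      refine ⟨Xn, g, b ≫ jn, hNn, hgp, hgs, hgiso, inferInstance, inferInstance,
        by rw [Category.assoc, hcomm, Category.assoc], fun w hw => ?_⟩
      obtain ⟨s, hs⟩ := hrange hw
      refine ⟨(inv b) s, ?_⟩
      rw [← Scheme.Hom.comp_apply, IsIso.inv_hom_id_assoc]
      exact hs
    have hgz : g (jn z) = x := by
      rw [← Scheme.Hom.comp_apply, hcomm, Scheme.Hom.comp_apply]
      refine hjc _ ?_
      have h := r.isClosedMap _ hz
      rwa [Set.image_singleton] at h
    have hz' : IsClosed ({jn z} : Set Xn) := by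
      have hF : IsClosed (g.base ⁻¹' {x}) := hx.preimage g.continuous
      refine closure_eq_iff_isClosed.1 (Set.Subset.antisymm (fun w hw => ?_) subset_closure)
      have hwF : w ∈ g.base ⁻¹' {x} := closure_minimal (Set.singleton_subset_iff.2 (show jn z ∈ g.base ⁻¹' {x} from hgz)) hF hw
      obtain ⟨s, rfl⟩ := hrange hwF
      have hs : z ⤳ s := jn.isEmbedding.isInducing.specializes_iff.1 (specializes_iff_mem_closure.2 hw)
      rw [show s = z from hs.mem_closed hz rfl]
      exact rfl
    haveI : IsRegularLocalRing (Xn.presheaf.stalk (jn z)) :=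
      haveI := isIso_stalkMap jn z
      IsRegularLocalRing.of_ringEquiv (R := Z'.presheaf.stalk z) (asIso (jn.stalkMap z)).commRingCatIsoToRingEquiv.symm
    have hdim' : ringKrullDim (Xn.presheaf.stalk (jn z)) = 2 := by
      haveI := isIso_stalkMap jn z
      rw [ringKrullDim_eq_of_ringEquiv (asIso (jn.stalkMap z)).commRingCatIsoToRingEquiv]
      exact hdim
    let I := Scheme.IdealSheafData.vanishingIdeal ⟨{jn z}, hz'⟩
    obtain ⟨X₁, β, hβ⟩ := BlowUpLib.exists_isBlowUp I
    haveI : IsProper β := BlowUpLib.isProper_of_isBlowUp hβ (FlatMorAdm.isFiniteTypeIdeal_of_noetherian I)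
    haveI : IsLocallyNoetherian X₁ := LocallyOfFiniteType.isLocallyNoetherian β
    haveI : CompactSpace X₁ := QuasiCompact.compactSpace_of_compactSpace β
    haveI : IsNoetherian X₁ := {}
    obtain ⟨E, ι, hι, hE, hc⟩ := exists_isContractionOf (jn z) hz' hdim' β hβ
    have hbase : BlowUp.IsBlowUp (pullback.fst jn β) (Scheme.IdealSheafData.vanishingIdeal ⟨{z}, hz⟩) := by
      rw [← comap_vanishingIdeal_point jn z hz hz']
      exact SDiv28.isBlowUp_flat_baseChange hβ jn
    obtain ⟨φ, hφ⟩ := BlowUpLib.exists_iso_of_isBlowUp hb hbase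
    haveI : Flat (pullback.snd jn β) := MorphismProperty.pullback_snd _ _ inferInstance
    haveI : IsPreimmersion (pullback.snd jn β) := MorphismProperty.pullback_snd _ _ inferInstance
    refine ⟨X₁, β ≫ g, φ.hom ≫ pullback.snd jn β, inferInstance, inferInstance,
      Models.IsContractionSeq.step ι β g hι hE hc hgs, ?_, inferInstance, inferInstance, ?_, ?_⟩
    · let V : X.Opens := ⟨{x}ᶜ, hx.isOpen_compl⟩
      haveI : IsIso (g ∣_ V) := hgiso
      haveI : IsIso (β ∣_ (g ⁻¹ᵁ V)) := by
        haveI : IsIso (β ∣_ (⟨{jn z}ᶜ, hz'.isOpen_compl⟩ : Xn.Opens)) := ProjLib.isIso_morphismRestrict hβ _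
          (Set.disjoint_left.mpr fun _ h h' => h' ((Scheme.IdealSheafData.coe_support_vanishingIdeal _).le h))
        refine Models7.isIso_restrict_of_le β (U := (⟨{jn z}ᶜ, hz'.isOpen_compl⟩ : Xn.Opens))
          (fun w (hw : g w ∈ V) (h : w = jn z) => hw ?_)
        rw [h]; exact hgz
      show IsIso ((β ≫ g) ∣_ V)
      rw [morphismRestrict_comp]
      infer_instance
    · rw [Category.assoc, ← pullback.condition_assoc, ← Category.assoc, hφ, hcomm, Category.assoc]
    · intro w hw
      obtain ⟨s, hs⟩ := hrange (show β w ∈ g.base ⁻¹' {x} from hw)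
      have : w ∈ Set.range (pullback.snd jn β).base := by
        rw [Scheme.Pullback.range_snd]
        exact ⟨s, hs⟩
      obtain ⟨p, hp⟩ := this
      exact ⟨φ.inv p, by rw [← Scheme.Hom.comp_apply, Iso.inv_hom_id_assoc]; exact hp⟩

/-- The local ideal is generated by a nonzerodivisor. -/
def CartierAt {X : Scheme.{u}} (I : X.IdealSheafData) (x : X) : Prop :=
  ∃ g : X.presheaf.stalk x, g ∈ nonZeroDivisors (X.presheaf.stalk x) ∧ stk I x = Ideal.span {g}

theorem cartierAt_of_notMem {X : Scheme.{u}} {I : X.IdealSheafData} {x : X} (h : x ∉ I.support) : CartierAt I x :=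
  ⟨1, one_mem _, by rw [stk_eq_top h, Ideal.span_singleton_one]⟩

theorem cartierAt_comap_iff {T X : Scheme.{u}} (I : X.IdealSheafData) (f : T ⟶ X) (t : T) [IsIso (f.stalkMap t)] :
    CartierAt (I.comap f) t ↔ CartierAt I (f t) := by
  let e := (asIso (f.stalkMap t)).commRingCatIsoToRingEquiv
  constructor
  · rintro ⟨g, hg, hspan⟩
    refine ⟨e.symm g, (MulEquivClass.map_nonZeroDivisors e.symm) ▸ ⟨g, hg, rfl⟩, ?_⟩
    rw [stk_comap] at hspan
    have h := congrArg (Ideal.map e.symm.toRingHom) hspan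
    rw [Ideal.map_map, Ideal.map_span, Set.image_singleton] at h
    refine Eq.trans ?_ h
    conv_lhs => rw [← Ideal.map_id (stk I (f t))]
    exact congrArg (fun φ : X.presheaf.stalk (f t) →+* X.presheaf.stalk (f t) => (stk I (f t)).map φ)
      (RingHom.ext fun a => (e.symm_apply_apply a).symm)
  · rintro ⟨g, hg, hspan⟩
    refine ⟨e g, (MulEquivClass.map_nonZeroDivisors e) ▸ ⟨g, hg, rfl⟩, ?_⟩
    rw [stk_comap, hspan, Ideal.map_span, Set.image_singleton]
    rfl

theorem isEffCartier_of_cartierAt {X : Scheme.{u}} [IsLocallyNoetherian X] (I : X.IdealSheafData)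
    (h : ∀ x ∈ I.support, CartierAt I x) : BlowUp.IsEffCartierIdeal I :=
  SDiv28.StalkCartier.isEffCartierIdeal_of_stalks I fun x hx U hxU => by
    obtain ⟨g, hg, hspan⟩ := h x hx
    exact ⟨g, hg, (stk_eq I U hxU).symm.trans hspan⟩

theorem regSurf_spec (A : Type u) [CommRing A] [IsRegularLocalRing A] (hdim : ringKrullDim A ≤ 2) :
    RegSurf (Spec (CommRingCat.of A)) := by
  haveI := CAlgH3.isDomain_of_isRegularLocalRing A
  haveI : IsDomain (CommRingCat.of A : CommRingCat.{u}) := ‹IsDomain A›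
  refine ⟨inferInstance, inferInstance, inferInstance, fun p => ?_, (PrimeSpectrum.topologicalKrullDim_eq_ringKrullDim A).le.trans hdim⟩
  haveI := CAlgH3.isRegularLocalRing_localization (R := A) p.asIdeal
  exact IsRegularLocalRing.of_ringEquiv (R := Localization.AtPrime p.asIdeal)
    (Spec.stalkIso (CommRingCat.of A) p).commRingCatIsoToRingEquiv.symm

/-- Local principalisation at a regular closed point of dimension two. -/
theorem exists_cartier_at_point (X : Scheme.{u}) [IsNoetherian X] (I : X.IdealSheafData) (x : X)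
    (hx : IsClosed ({x} : Set X)) [IsRegularLocalRing (X.presheaf.stalk x)]
    (hdim : ringKrullDim (X.presheaf.stalk x) = 2) (hne : stk I x ≠ ⊥) :
    ∃ (X' : Scheme.{u}) (g : X' ⟶ X), IsNoetherian X' ∧ IsProper g ∧ Models.IsContractionSeq g ∧
      IsIso (g ∣_ (⟨{x}ᶜ, hx.isOpen_compl⟩ : X.Opens)) ∧ ∀ w : X', g w = x → CartierAt (I.comap g) w := by
  let A := X.presheaf.stalk x
  have hS : RegSurf (Spec A) := regSurf_spec A hdim.le
  haveI := hS.integral
  let j := X.fromSpecStalk x
  let c : Spec A := closedPoint A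
  have hne0 : I.comap j ≠ ⊥ := fun h => by
    have h1 : stk (I.comap j) c = ⊥ := by
      obtain ⟨_, ⟨U, hU, rfl⟩, hcU, -⟩ :=
        (Spec A).isBasis_affineOpens.exists_subset_of_mem_open (Set.mem_univ c) isOpen_univ
      rw [h, stk_eq _ ⟨U, hU⟩ hcU, Scheme.IdealSheafData.ideal_bot]
      exact Ideal.map_bot
    haveI := isIso_stalkMap j c
    rw [stk_comap, Ideal.map_eq_bot_iff_of_injective
      (ConcreteCategory.bijective_of_isIso (j.stalkMap c)).1] at h1
    have key : ∀ y : X, stk I y = ⊥ → y = x → stk I x = ⊥ := fun y hy e => e ▸ hy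
    exact hne (key _ h1 Scheme.fromSpecStalk_closedPoint)
  obtain ⟨S', b, hS', hP, hbp, hcart⟩ := exists_ptSeq_effCartier hS (I.comap j) hne0
  obtain ⟨X', g, j', hN, hgp, hgs, hgiso, hjf, hjp, hcomm, hrange⟩ := exists_lift hP hS j x hx
    (fun s hs => by
      have : s = c := PrimeSpectrum.ext (eq_maximalIdeal ((PrimeSpectrum.isClosed_singleton_iff_isMaximal _).1 hs))
      rw [this]; exact Scheme.fromSpecStalk_closedPoint)
    ⟨c, Scheme.fromSpecStalk_closedPoint⟩
  refine ⟨X', g, hN, hgp, hgs, hgiso, fun w hw => ?_⟩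
  obtain ⟨s, rfl⟩ := hrange hw
  haveI := hjf
  haveI := hjp
  haveI := isIso_stalkMap j' s
  refine (cartierAt_comap_iff (I.comap g) j' s).1 ?_
  haveI := hS'.integral
  haveI := hS'.noeth
  rw [← Scheme.IdealSheafData.comap_comp, hcomm, Scheme.IdealSheafData.comap_comp]
  obtain ⟨a, ha, hspan⟩ := exists_gen hcart s
  exact ⟨a, ha, hspan⟩

/-- An ideal which is locally free outside finitely many regular points of dimension two becomes invertible. -/
theorem exists_cartier_everywhere : ∀ (n : ℕ) (X : Scheme.{u}) [IsNoetherian X] (T : Finset X) (I : X.IdealSheafData),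
    T.card = n → (∀ x : X, x ∉ T → CartierAt I x) →
    (∀ x ∈ T, IsClosed ({x} : Set X) ∧ IsRegularLocalRing (X.presheaf.stalk x) ∧
      ringKrullDim (X.presheaf.stalk x) = 2 ∧ stk I x ≠ ⊥) →
    ∃ (X' : Scheme.{u}) (g : X' ⟶ X), IsNoetherian X' ∧ Models.IsContractionSeq g ∧
      (∀ (V : X.Opens), (∀ x ∈ T, x ∉ V) → IsIso (g ∣_ V)) ∧ ∀ w, CartierAt (I.comap g) w := by
  classical
  intro n
  induction n with
  | zero =>
    intro X _ T I hT hoff _
    refine ⟨X, 𝟙 X, inferInstance, Models.IsContractionSeq.iso (Iso.refl X), fun V _ => inferInstance, fun w => ?_⟩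
    rw [Scheme.IdealSheafData.comap_id]
    exact hoff w (by rw [Finset.card_eq_zero.1 hT]; exact Finset.notMem_empty _)
  | succ m ih =>
    intro X _ T I hT hoff hon
    obtain ⟨x, hxT⟩ : T.Nonempty := Finset.card_pos.1 (by omega)
    obtain ⟨hx, hreg, hdim, hne⟩ := hon x hxT
    haveI := hreg
    obtain ⟨Z, g₁, hN, hp, hs₁, hiso₁, hc₁⟩ := exists_cartier_at_point X I x hx hdim hne
    haveI := hN
    let V₀ : X.Opens := ⟨{x}ᶜ, hx.isOpen_compl⟩
    haveI : IsIso (g₁ ∣_ V₀) := hiso₁
    have hstalk : ∀ w : Z, g₁ w ≠ x → IsIso (g₁.stalkMap w) := fun w hw =>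
      Models7.isIso_stalkMap_of_isIso_restrict g₁ V₀ w hw
    have hpre : ∀ y ∈ T.erase x, ∃ w : Z, g₁ w = y := fun y hy => by
      obtain ⟨⟨w, hw⟩, hw'⟩ := (g₁ ∣_ V₀).homeomorph.surjective ⟨y, (Finset.mem_erase.1 hy).1⟩
      exact ⟨w, (morphismRestrict_base_coe g₁ V₀ _).symm.trans (congrArg Subtype.val hw')⟩
    choose w hw using hpre
    have hinj : ∀ a c : Z, g₁ a = g₁ c → g₁ a ≠ x → a = c := fun a c h hax => by
      have hcx : g₁ c ≠ x := h ▸ hax
      have h2 : (g₁ ∣_ V₀) ⟨a, hax⟩ = (g₁ ∣_ V₀) ⟨c, hcx⟩ :=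
        Subtype.ext (((morphismRestrict_base_coe g₁ V₀ _).trans h).trans (morphismRestrict_base_coe g₁ V₀ _).symm)
      exact congrArg Subtype.val ((g₁ ∣_ V₀).homeomorph.injective h2)
    let T' : Finset Z := (T.erase x).attach.image fun y => w y.1 y.2
    have hT' : T'.card = m := by
      rw [Finset.card_image_of_injective _ (fun a c h => Subtype.ext (by rw [← hw a.1 a.2, ← hw c.1 c.2]; exact congrArg g₁ h)),
        Finset.card_attach, Finset.card_erase_of_mem hxT, hT]
      omega
    have hmem : ∀ v : Z, v ∈ T' ↔ g₁ v ∈ T.erase x := fun v => by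
      refine ⟨fun h => ?_, fun h => ?_⟩
      · obtain ⟨y, -, rfl⟩ := Finset.mem_image.1 h
        rw [hw]; exact y.2
      · refine Finset.mem_image.2 ⟨⟨g₁ v, h⟩, Finset.mem_attach _ _, (hinj v _ (hw _ h).symm ?_).symm⟩
        exact (Finset.mem_erase.1 h).1
    obtain ⟨X', g₂, hN', hs₂, hiso₂, hc₂⟩ := ih Z T' (I.comap g₁) hT' (fun v hv => by
        by_cases hvx : g₁ v = x
        · exact hc₁ v hvx
        · haveI := hstalk v hvx
          exact (cartierAt_comap_iff I g₁ v).2 (hoff _ fun h => hv ((hmem v).2 (Finset.mem_erase.2 ⟨hvx, h⟩))))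
      fun v hv => by
        obtain ⟨hvx, hvT⟩ := Finset.mem_erase.1 ((hmem v).1 hv)
        obtain ⟨hy, hreg', hdim', hne'⟩ := hon _ hvT
        haveI := hstalk v hvx
        refine ⟨?_, IsRegularLocalRing.of_ringEquiv (R := X.presheaf.stalk (g₁ v))
          (asIso (g₁.stalkMap v)).commRingCatIsoToRingEquiv,
          (ringKrullDim_eq_of_ringEquiv (asIso (g₁.stalkMap v)).commRingCatIsoToRingEquiv).symm.trans hdim', fun h => ?_⟩
        · have : ({v} : Set Z) = g₁.base ⁻¹' {g₁ v} := Set.ext fun a => ⟨fun h => by rw [Set.mem_singleton_iff.1 h]; rfl,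
            fun h => (hinj v a (Set.mem_singleton_iff.1 h).symm hvx).symm⟩
          rw [this]
          exact hy.preimage g₁.continuous
        · rw [stk_comap, Ideal.map_eq_bot_iff_of_injective
            (ConcreteCategory.bijective_of_isIso (g₁.stalkMap v)).1] at h
          exact hne' h
    refine ⟨X', g₂ ≫ g₁, hN', contractionSeq_trans hs₂ hs₁, fun V hV => ?_, fun v => ?_⟩
    · haveI : IsIso (g₁ ∣_ V) := Models7.isIso_restrict_of_le g₁ (U := V₀)
        fun a (ha : a ∈ V) (h : a = x) => hV x hxT (h ▸ ha)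
      haveI : IsIso (g₂ ∣_ (g₁ ⁻¹ᵁ V)) :=
        hiso₂ _ fun a ha (ha' : g₁ a ∈ V) => hV _ (Finset.mem_erase.1 ((hmem a).1 ha)).2 ha'
      rw [morphismRestrict_comp]
      infer_instance
    · rw [Scheme.IdealSheafData.comap_comp]
      exact hc₂ v

/-- An ideal supported at finitely many regular closed points of positive dimension is nonzero there. -/
theorem stk_ne_bot_of_support {X : Scheme.{u}} (I : X.IdealSheafData) (T : Set X) (hI : (I.support : Set X) ⊆ T)
    (x : X) (hTc : ∀ t ∈ T, IsClosed ({t} : Set X)) [IsRegularLocalRing (X.presheaf.stalk x)]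
    (hdim : ringKrullDim (X.presheaf.stalk x) = 2) : stk I x ≠ ⊥ := by
  intro h
  let A := X.presheaf.stalk x
  haveI := CAlgH3.isDomain_of_isRegularLocalRing A
  let P : Spec A := ⟨⊥, Ideal.isPrime_bot⟩
  let η := X.fromSpecStalk x P
  have hspec : η ⤳ x := Scheme.range_fromSpecStalk.le ⟨P, rfl⟩
  have hne : η ≠ x := fun he => by
    have hP : P = closedPoint A := (X.fromSpecStalk x).isEmbedding.injective
      (he.trans Scheme.fromSpecStalk_closedPoint.symm)
    have hm : maximalIdeal A = ⊥ := (congrArg PrimeSpectrum.asIdeal hP).symm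
    rw [ringKrullDim_eq_zero_of_isField (IsLocalRing.isField_iff_maximalIdeal_eq.2 hm)] at hdim
    exact absurd hdim (by decide)
  have hη : η ∉ T := fun hT => hne (hspec.mem_closed (hTc η hT) rfl).symm
  obtain ⟨_, ⟨U, hU, rfl⟩, hxU, -⟩ := X.isBasis_affineOpens.exists_subset_of_mem_open (Set.mem_univ x) isOpen_univ
  have hηU : η ∈ U := hspec.mem_open U.isOpen hxU
  have h1 : stk I η = ⊥ := by
    rw [stk_eq I ⟨U, hU⟩ hxU] at h
    rw [stk_eq I ⟨U, hU⟩ hηU, show (X.presheaf.germ U η hηU).hom =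
      (X.presheaf.stalkSpecializes hspec).hom.comp (X.presheaf.germ U x hxU).hom from
      congrArg CommRingCat.Hom.hom (TopCat.Presheaf.germ_stalkSpecializes X.presheaf hxU hspec).symm,
      ← Ideal.map_map, h, Ideal.map_bot]
  rw [stk_eq_top (fun hs => hη (hI hs))] at h1
  exact top_ne_bot h1

end Groth.Agent.Resolve13
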