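import Groth.Agent.Models7.ContractStep
import Groth.Agent.Models7.ContractCotangent
import Groth.Agent.PicLib.PicMonoid
import Groth.Agent.FlatMorStrat.Supported
import Groth.Agent.CurveLib.ProjLine
import Groth.Prelude.Def_ModelsG

/-!
# Degrees on an exceptional curve do not depend on the parametrisation
-/

set_option autoImplicit false
set_option linter.style.haveILetI false
set_option backward.isDefEq.respectTransparency.types false
set_option maxHeartbeats 1000000

universe u

open CategoryTheory CategoryTheory.Limits AlgebraicGeometry TopologicalSpace Opposite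
open Groth.Agent.Coherent Groth.Agent.PicLib Groth.Agent.AmpleLib Groth.Agent.Models7 Groth.Agent.EulerLib

namespace Groth.Agent.Resolve13

/-- A nonnegative degree is independent of the parametrisation of the line. -/
theorem hasDeg_of_hasDeg {E : Scheme.{u}} {k k' : Type u} [Field k] [Field k'] (e' : CohB1.ProjSpace 1 k' ≅ E)
    (e : CohB1.ProjSpace 1 k ≅ E) {M : E.Modules} (hM : PicF.IsInvertible M) {m : ℕ} (h : P1Deg.HasDeg e' M (m : ℤ)) :
    P1Deg.HasDeg e M (m : ℤ) := by
  obtain ⟨a, ha⟩ := P1Deg.exists_hasDeg e hM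
  haveI := CurveLib.isIntegral_projSpace k 1
  obtain ⟨s, hs⟩ := (h.gl e' (Int.natCast_nonneg m)) (e.hom (genericPoint _))
  obtain ⟨b, rfl⟩ := Int.eq_ofNat_of_zero_le (ha.nonneg e hM hs)
  have h1 := (P1Deg.HasDeg.rank_sections e hM ha).symm.trans (P1Deg.HasDeg.rank_sections e' hM h)
  have h2 : b + 1 = m + 1 := Nat.cast_injective h1
  rwa [show m = b by omega]

/-- The conormal sheaf of an exceptional curve has degree one. -/
theorem hasDeg_conormal {E X : Scheme.{u}} {ι : E ⟶ X} (hE : Models.IsExcCurve ι) {k : Type u} [Field k]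
    (e : CohB1.ProjSpace 1 k ≅ E) :
    P1Deg.HasDeg e ((Scheme.Modules.pullback ι).obj (ClSub.idealMod ι.ker)) (1 : ℤ) := by
  obtain ⟨hD, k', hk', e', ⟨φ⟩⟩ := hE
  have hI := FlatMor12.IdealModGen.isInvertible_idealMod ι.ker hD
  exact hasDeg_of_hasDeg e' e (PicLoc.isInvertible_pullback ι hI) (m := 1)
    ⟨(Scheme.Modules.pullbackComp e'.hom ι).app _ ≪≫ φ⟩

/-- The vanishing of `H¹` of the middle term of a restriction sequence. -/
theorem subsingleton_H1_of_restrict {X : Scheme.{u}} (J : X.IdealSheafData) {M : X.Modules} (hM : PicF.IsInvertible M)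
    (h1 : Subsingleton (Coh.HH X (CohB1.tensorMod (ClSub.idealMod J) M) 1))
    (h2 : Subsingleton (Coh.HH J.subscheme ((Scheme.Modules.pullback J.subschemeι).obj M) 1)) :
    Subsingleton (Coh.HH X M 1) := by
  let T := twistSeq (ShortComplex.mk (ClSub.idealModι J) (ClSub.toSubscheme J)
    (kernel.condition (ClSub.toSubscheme J))) M
  have hT : T.ShortExact := twistSeq_shortExact hM (CurveRR24.shortExact_ideal J)
  let ι := J.subschemeι
  let O := Coh.structureModule J.subscheme
  let N := (Scheme.Modules.pullback ι).obj M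
  have hN : PicF.IsInvertible N := PicLoc.isInvertible_pullback ι hM
  haveI : Coh.IsQCoh O := isQCoh_structureModule (X := J.subscheme)
  have hMF : FlatMod.IsFinLocFree M := fun x =>
    let ⟨U, hx, e⟩ := isFinLocFreeOfRank_one hM x; ⟨U, 1, hx, e⟩
  let A' := CohB1.tensorMod N O
  haveI : Coh.IsQCoh A' := isQCoh_of_isInvertible (isInvertible_tensorMod hN isInvertible_structureModule)
  let ec : CohB1.tensorMod (ClSub.quotMod J) M ≅ (Coh.push ι).obj A' :=
    tensorComm _ _ ≪≫ (projIso (f := ι) hMF).app O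
  let eA : A' ≅ N := tensorComm _ O ≪≫ unitTensorIso N
  have h3 : Subsingleton (Coh.HH X T.X₃ 1) := FlatMorStrat.subsingleton_HH_of_iso ec.symm 1
    ((HHAffinePushEquiv ι A' 1).toEquiv.subsingleton_congr.1 (FlatMorStrat.subsingleton_HH_of_iso eA.symm 1 h2))
  exact FlatMorStrat.subsingleton_HH_of_iso (unitTensorIso M) 1 (EulerLib.subsingleton_HH_X₂ hT 1 h1 h3)

end Groth.Agent.Resolve13
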