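import Groth.Agent.Resolve13.Contraction
import Groth.Agent.CubeLib.FibrewiseTriv
import Groth.Agent.AmpleLib.Local
import Groth.Agent.Models7.ContractLocal
import Groth.Agent.Resolve13.ExcDegree
import Groth.Agent.PicLib.FlatTriv

/-!
# Functions and invertible modules on a contraction
-/

set_option autoImplicit false
set_option linter.style.haveILetI false
set_option backward.isDefEq.respectTransparency.types false
set_option maxHeartbeats 1000000

universe u

open CategoryTheory CategoryTheory.Limits AlgebraicGeometry TopologicalSpace Opposite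
open Groth.Agent.Coherent Groth.Agent.PicLib Groth.Agent.AmpleLib Groth.Agent.EulerLib Groth.Agent.Models7

namespace Groth.Agent.Resolve13

variable {X Y : Scheme.{u}} {b : X ⟶ Y}

set_option backward.isDefEq.respectTransparency false in
theorem isIso_app_of_appBasis (hB : AppBasis b) (U : Y.Opens) : IsIso (b.app U) := by
  let φ : Y.sheaf ⟶ (TopCat.Sheaf.pushforward CommRingCat b.base).obj X.sheaf := ⟨b.c⟩
  let B : {V : Y.Opens // IsIso (b ∣_ V).appTop} → Y.Opens := fun V => V.1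
  have hB' : Opens.IsBasis (Set.range B) := by
    rw [Opens.isBasis_iff_nbhd]
    intro W z hz
    obtain ⟨V, hV, hzV, hle⟩ := Opens.isBasis_iff_nbhd.mp hB hz
    exact ⟨V, ⟨⟨V, hV⟩, rfl⟩, hzV, hle⟩
  have hφ : IsIso φ := TopCat.Sheaf.isIso_iff_isIso_basis (B := B) hB' fun ⟨V, hV⟩ => by
    show IsIso (b.app V)
    have h : IsIso (b.app (V.ι ''ᵁ ⊤)) := by
      haveI := hV
      rw [morphismRestrict_appTop] at hV
      haveI := hV
      exact IsIso.of_isIso_comp_right _ (X.presheaf.map (eqToHom (image_morphismRestrict_preimage b V ⊤)).op)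
    rwa [Scheme.Opens.ι_image_top] at h
  exact inferInstanceAs (IsIso (((sheafToPresheaf _ _).map φ).app (op U)))

/-- An invertible module is the direct image of its pullback when the functions agree. -/
theorem nonempty_iso_push_pull (hb : ∀ U : Y.Opens, IsIso (b.app U)) {L : Y.Modules} (hL : PicF.IsInvertible L) :
    Nonempty (L ≅ (Scheme.Modules.pushforward b).obj ((Scheme.Modules.pullback b).obj L)) := by
  let η := (Scheme.Modules.pullbackPushforwardAdjunction b).unit.app L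
  have h : ∀ U, IsIso (η.app U) := fun U => (ConcreteCategory.isIso_iff_bijective _).2
    (bijective_pullSec_of_le b hL U fun V _ => (haveI := hb V; ConcreteCategory.bijective_of_isIso (b.app V)))
  haveI : IsIso η := Scheme.Modules.Hom.isIso_iff_isIso_app.2 h
  exact ⟨asIso η⟩

theorem nonempty_iso_of_pullback_iso (hb : ∀ U : Y.Opens, IsIso (b.app U)) {L₁ L₂ : Y.Modules}
    (h₁ : PicF.IsInvertible L₁) (h₂ : PicF.IsInvertible L₂)
    (h : Nonempty ((Scheme.Modules.pullback b).obj L₁ ≅ (Scheme.Modules.pullback b).obj L₂)) : Nonempty (L₁ ≅ L₂) := by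
  obtain ⟨φ⟩ := h
  obtain ⟨e₁⟩ := nonempty_iso_push_pull hb h₁
  obtain ⟨e₂⟩ := nonempty_iso_push_pull hb h₂
  exact ⟨e₁ ≪≫ (Scheme.Modules.pushforward b).mapIso φ ≪≫ e₂.symm⟩


/-- The blow-down of a projective line, seen over an affine neighbourhood of its image. -/
theorem exists_lineContraction [IsLocallyNoetherian Y] (g : X ⟶ Y) [IsProper g]
    (happ : ∀ U : Y.Opens, IsIso (g.app U)) (hfib : ∀ w : Y, topologicalKrullDim ↥(g.fiber w) ≤ 1)
    (J : X.IdealSheafData) (hJ : BlowUp.IsEffCartierIdeal J) {k : Type u} [Field k]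
    (e : CohB1.ProjSpace 1 k ≅ J.subscheme) {d : ℕ}
    (hd : P1Deg.HasDeg e ((Scheme.Modules.pullback J.subschemeι).obj (ClSub.idealMod J)) (d : ℤ))
    (y : Y) (hy : IsClosed ({y} : Set Y)) (hpre : g.base ⁻¹' {y} = (J.support : Set X))
    (hfin : ∀ w : Y, w ≠ y → (g.base ⁻¹' {w}).Finite) :
    ∃ (V : Y.Opens) (hV : IsAffineOpen V) (hyV : y ∈ V) (p : Ideal Γ(Y, V)) (_ : p.IsMaximal)
      (f : (g ⁻¹ᵁ V).toScheme ⟶ Spec (CommRingCat.of Γ(Y, V)))
      (σ : (J.comap (g ⁻¹ᵁ V).ι).subscheme ≅ J.subscheme),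
      σ.hom ≫ J.subschemeι = (J.comap (g ⁻¹ᵁ V).ι).subschemeι ≫ (g ⁻¹ᵁ V).ι ∧
      f = (g ∣_ V) ≫ hV.isoSpec.hom ∧
      Function.Bijective (Coh.toGlobal f) ∧ LineContraction f (J.comap (g ⁻¹ᵁ V).ι) (e ≪≫ σ.symm) (d : ℤ) p := by
  obtain ⟨V, hV, hyV, -⟩ := exists_isAffineOpen_mem_and_subset (x := y) (U := ⊤) trivial
  haveI : IsAffine V.toScheme := hV
  let A := Γ(Y, V)
  haveI : IsNoetherianRing A := IsLocallyNoetherian.component_noetherian ⟨V, hV⟩
  let U := g ⁻¹ᵁ V
  let ε := hV.isoSpec.hom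
  let g' : U.toScheme ⟶ Spec (CommRingCat.of A) := (g ∣_ V) ≫ ε
  haveI : IsProper (g ∣_ V) := IsZariskiLocalAtTarget.restrict ‹_› V
  haveI : IsProper g' := inferInstanceAs (IsProper ((g ∣_ V) ≫ ε))
  have hA : Function.Bijective (Coh.toGlobal g') := by
    haveI : IsIso (g ∣_ V).appTop := by rw [morphismRestrict_appTop]; exact IsIso.comp_isIso' (happ _) (Functor.map_isIso X.presheaf _)
    haveI : IsIso ε.appTop := inferInstanceAs (IsIso (ε.app ⊤))
    haveI : IsIso g'.appTop := by rw [Scheme.Hom.comp_appTop]; infer_instance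
    exact (ConcreteCategory.bijective_of_isIso g'.appTop).comp
      (ConcreteCategory.bijective_of_isIso (Scheme.ΓSpecIso (CommRingCat.of A)).inv)
  let p : PrimeSpectrum A := hV.primeIdealOf ⟨y, hyV⟩
  have hp : IsClosed ({p} : Set (PrimeSpectrum A)) := by
    have h1 : IsClosed ({⟨y, hyV⟩} : Set V.toScheme) := by
      convert hy.preimage V.ι.continuous using 1
      ext z
      exact ⟨fun h => h ▸ rfl, fun h => Subtype.ext h⟩
    have h2 := ε.homeomorph.isClosedMap _ h1
    rw [Set.image_singleton] at h2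
    exact h2
  haveI : p.asIdeal.IsMaximal := (PrimeSpectrum.isClosed_singleton_iff_isMaximal p).1 hp
  have hbase : ∀ z : U.toScheme, ∀ w : V.toScheme, g' z = ε w ↔ g z.1 = w.1 := fun z w => by
    show ε ((g ∣_ V) z) = ε w ↔ _
    have h1 : ((g ∣_ V) z).1 = g z.1 := morphismRestrict_base_coe g V z
    constructor
    · intro h
      rw [← h1]
      exact congrArg Subtype.val (ε.homeomorph.injective h)
    · intro h
      exact congrArg ε (Subtype.ext (h1.trans h))
  have hfibre : ∀ q : ↥(Spec (CommRingCat.of A)), ∃ w : Y, U.ι.base '' (g'.base ⁻¹' {q}) ⊆ g.base ⁻¹' {w} ∧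
      (q ≠ p → w ≠ y) := fun q => by
    obtain ⟨w, rfl⟩ := ε.homeomorph.surjective q
    refine ⟨w.1, ?_, fun hne h => hne ?_⟩
    · rintro _ ⟨z, hz, rfl⟩
      exact (hbase z w).1 hz
    · exact congrArg ε (Subtype.ext h : w = ⟨y, hyV⟩)
  let J' := J.comap U.ι
  have hJ' : BlowUp.IsEffCartierIdeal J' := by
    haveI := ModPairLib.isAffineHom_interior hJ
    exact ModPairLib.isEffCartier_comap_of_dense hJ U.ι
      (ModPairLib.IsDenseOpen.preimage_openImmersion U.ι _ (ModPairLib.isDenseOpen_interior hJ))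
  have hsub : Set.range J.subschemeι ⊆ (U : Set X) := by
    rw [J.range_subschemeι, ← hpre]
    intro z hz
    show g z ∈ V
    rwa [Set.mem_singleton_iff.1 hz]
  let snd := pullback.snd U.ι J.subschemeι
  haveI : IsIso snd := isIso_of_isOpenImmersion_of_opensRange_eq_top snd (by
    refine Opens.ext ((Scheme.Pullback.range_snd U.ι J.subschemeι).trans ?_)
    rw [Scheme.Opens.range_ι]
    exact Set.eq_univ_of_forall fun z => hsub ⟨z, rfl⟩)
  let σ : J'.subscheme ≅ J.subscheme := J.comapIso U.ι ≪≫ asIso snd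
  have hσ : σ.hom ≫ J.subschemeι = J'.subschemeι ≫ U.ι := by
    show ((J.comapIso U.ι).hom ≫ snd) ≫ _ = _
    rw [Category.assoc, ← pullback.condition, ← Category.assoc, Scheme.IdealSheafData.comapIso_hom_fst]
  obtain ⟨t⟩ := Inters29.nonempty_pullback_idealMod_iso U.ι J hJ hJ'
  have hd' : P1Deg.HasDeg (e ≪≫ σ.symm) ((Scheme.Modules.pullback J'.subschemeι).obj (ClSub.idealMod J')) (d : ℤ) :=
    (hd.transfer e σ).of_iso _ ((Scheme.Modules.pullbackComp σ.hom J.subschemeι).app _ ≪≫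
      (Scheme.Modules.pullbackCongr hσ).app _ ≪≫
      ((Scheme.Modules.pullbackComp J'.subschemeι U.ι).app _).symm ≪≫
      (Scheme.Modules.pullback J'.subschemeι).mapIso t)
  have hLC : LineContraction g' J' (e ≪≫ σ.symm) (d : ℤ) p.asIdeal := by
    refine ⟨inferInstance, fun q => ?_, FlatMor12.IdealModGen.isInvertible_idealMod J' hJ', hd', Int.natCast_nonneg d, ?_, fun n hn hne => ?_⟩
    · obtain ⟨w, hw, -⟩ := hfibre q
      let θ : g'.fiber q → g.fiber w := fun z => (g.fiberHomeo w).symm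
        ⟨U.ι ((g'.fiberHomeo q z).1), hw ⟨_, (g'.fiberHomeo q z).2, rfl⟩⟩
      have hθ : Topology.IsInducing θ := (g.fiberHomeo w).symm.isInducing.comp
        (Topology.IsInducing.codRestrict ((U.ι.isOpenEmbedding.isInducing.comp Topology.IsInducing.subtypeVal).comp
          (g'.fiberHomeo q).isInducing) _)
      exact hθ.topologicalKrullDim_le.trans (hfib w)
    · show ((J.comap U.ι).support : Set U.toScheme) = _
      rw [Scheme.IdealSheafData.support_comap]
      ext z
      show U.ι z ∈ (J.support : Set X) ↔ g' z = ε ⟨y, hyV⟩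
      rw [hbase, ← hpre]
      exact Iff.rfl
    · obtain ⟨w, hw, hwy⟩ := hfibre (⟨n, hn.isPrime⟩ : PrimeSpectrum A)
      refine Set.Finite.of_finite_image ((hfin w (hwy fun h => hne (congrArg PrimeSpectrum.asIdeal h))).subset hw) ?_
      exact U.ι.isOpenEmbedding.injective.injOn
  exact ⟨V, hV, hyV, p.asIdeal, inferInstance, g', σ, hσ, rfl, hA, hLC⟩

/-- An invertible module trivial on a contracted line has a generator over a neighbourhood of the image. -/
theorem exists_gen_near [IsLocallyNoetherian Y] (g : X ⟶ Y) [IsProper g]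
    (happ : ∀ U : Y.Opens, IsIso (g.app U)) (hfib : ∀ w : Y, topologicalKrullDim ↥(g.fiber w) ≤ 1)
    (J : X.IdealSheafData) (hJ : BlowUp.IsEffCartierIdeal J) {k : Type u} [Field k]
    (e : CohB1.ProjSpace 1 k ≅ J.subscheme) {d : ℕ}
    (hd : P1Deg.HasDeg e ((Scheme.Modules.pullback J.subschemeι).obj (ClSub.idealMod J)) (d : ℤ))
    (y : Y) (hy : IsClosed ({y} : Set Y)) (hpre : g.base ⁻¹' {y} = (J.support : Set X))
    (hfin : ∀ w : Y, w ≠ y → (g.base ⁻¹' {w}).Finite) {L : X.Modules} (hL : PicF.IsInvertible L)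
    (htriv : Nonempty ((Scheme.Modules.pullback J.subschemeι).obj L ≅ Coh.structureModule J.subscheme)) :
    ∃ V : Y.Opens, y ∈ V ∧ ∃ s : Γ(L, g ⁻¹ᵁ V), IsGen L _ s := by
  obtain ⟨V, hV, hyV, p, hp, f, σ, hσ, hf, -, hLC⟩ := exists_lineContraction g happ hfib J hJ e hd y hy hpre hfin
  haveI := hp
  haveI : IsNoetherianRing Γ(Y, V) := IsLocallyNoetherian.component_noetherian ⟨V, hV⟩
  haveI := hLC.isLocallyNoetherian
  let U := g ⁻¹ᵁ V
  let J' := J.comap U.ι
  let L' := (Scheme.Modules.pullback U.ι).obj L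
  have hL' : PicF.IsInvertible L' := PicLoc.isInvertible_pullback U.ι hL
  obtain ⟨τ⟩ := htriv
  obtain ⟨t₀⟩ := exists_pullStructureIso (X := J.subscheme) σ.hom
  let τ' : (Scheme.Modules.pullback J'.subschemeι).obj L' ≅ Coh.structureModule J'.subscheme :=
    (Scheme.Modules.pullbackComp J'.subschemeι U.ι).app L ≪≫ (Scheme.Modules.pullbackCongr hσ.symm).app L ≪≫
      ((Scheme.Modules.pullbackComp σ.hom J.subschemeι).app L).symm ≪≫
      (Scheme.Modules.pullback σ.hom).mapIso τ ≪≫ t₀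
  have hd0 : P1Deg.HasDeg (e ≪≫ σ.symm) ((Scheme.Modules.pullback J'.subschemeι).obj L') 0 :=
    (P1Deg.hasDeg_structure (e ≪≫ σ.symm)).of_iso _ τ'.symm
  have h1 : Subsingleton (Coh.HH U.toScheme (CohB1.tensorMod (ClSub.idealMod J') L') 1) := by
    obtain ⟨t⟩ := exists_pullTensorIso J'.subschemeι hLC.invertible hL'
    exact hLC.subsingleton_H1 (isInvertible_tensorMod hLC.invertible hL') (l := (d : ℤ) + 0) (by omega)
      ((hLC.deg.tensor _ (PicLoc.isInvertible_pullback _ hLC.invertible) (PicLoc.isInvertible_pullback _ hL') hd0).of_iso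
        _ t.symm)
  obtain ⟨s, hs⟩ := Lipman24.surjective_pullSec_of_H1 J'.subschemeι
    (Lipman24.subsingleton_H1_kernel_clUnit J' hLC.noH2 hL' h1) (τ'.inv.app ⊤ (oneSec ⊤))
  let O := glocus L' s
  have hO : ∀ z : J'.subscheme, J'.subschemeι z ∈ O := fun z => by
    have h2 : (⊤ : J'.subscheme.Opens) ≤ glocus _ (pullSec J'.subschemeι s) := by
      rw [le_glocus_iff, hs]
      rw [resM_self]
      exact isGen_app_iso τ'.symm (isGen_oneSec ⊤)
    have h3 := h2 (show z ∈ ⊤ from trivial)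
    rw [glocus_pullSec J'.subschemeι hL'] at h3
    exact h3
  let W : Y.Opens := V ⊓ ⟨(g.base '' ((U.ι ''ᵁ O : X.Opens) : Set X)ᶜ)ᶜ,
    (g.isClosedMap _ (U.ι ''ᵁ O).isOpen.isClosed_compl).isOpen_compl⟩
  have hyW : y ∈ W := by
    refine ⟨hyV, ?_⟩
    rintro ⟨x, hx, hxy⟩
    refine hx ?_
    have hxJ : x ∈ (J.support : Set X) := hpre.le (show g x ∈ ({y} : Set Y) from hxy)
    have hxU : x ∈ U := show g x ∈ V by rw [show g x = y from hxy]; exact hyV
    have hx' : (⟨x, hxU⟩ : U.toScheme) ∈ (J'.support : Set U.toScheme) := by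
      rw [Scheme.IdealSheafData.support_comap]; exact hxJ
    rw [← J'.range_subschemeι] at hx'
    obtain ⟨z, hz⟩ := hx'
    exact ⟨⟨x, hxU⟩, hz ▸ hO z, rfl⟩
  have hgs : IsGen L' O (resM L' le_top s) := isGen_glocus s
  let e' : L' ≅ L.restrict U.ι := ((Scheme.Modules.restrictFunctorIsoPullback U.ι).app L).symm
  obtain ⟨t, ht⟩ := exists_isGen_of_restrict L U (isGen_app_iso e' hgs)
  have hle : g ⁻¹ᵁ W ≤ U.ι ''ᵁ O := fun x hx => by_contra fun hn => hx.2 ⟨x, hn, rfl⟩
  exact ⟨W, hyW, resM L hle t, ht.restrict hle⟩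

end Groth.Agent.Resolve13
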