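import Groth.Agent.Resolve13.ModBase
import Groth.Agent.Coherent.RpushStalk
import Groth.Agent.Props12.Stalks
import Groth.Agent.FlatMorStrat.Supported
import Groth.Agent.BMLib.PointIso
import Groth.Agent.CommAlg4.SupportZero
import Groth.Agent.CAlgH.PicPunctCriteria
import Mathlib

/-!
# Modifications restricted to a local ring of the base
-/

set_option autoImplicit false
set_option backward.isDefEq.respectTransparency.types false
universe u
open CategoryTheory CategoryTheory.Limits AlgebraicGeometry TopologicalSpace Opposite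

namespace Groth.Agent.Resolve13.LocalBase

variable {X Y : Scheme.{u}} [IsIntegral X] [IsIntegral Y] (g : X ⟶ Y) (y : Y)

/-- The range of the first projection consists of the points over generisations of `y`. -/
theorem mem_range_fst {z : X} (h : g z ⤳ y) : z ∈ Set.range (pullback.fst g (Y.fromSpecStalk y)) := by
  rw [Scheme.Pullback.range_fst]
  show g z ∈ Set.range (Y.fromSpecStalk y)
  rw [Scheme.range_fromSpecStalk]
  exact h

/-- Integrality and the generic point of the localised modification. -/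
theorem isIntegral (hξ : g (genericPoint X) = genericPoint Y) :
    ∃ _ : IsIntegral (pullback g (Y.fromSpecStalk y)),
      pullback.fst g (Y.fromSpecStalk y) (genericPoint _) = genericPoint X := by
  let p := pullback.fst g (Y.fromSpecStalk y)
  have : IsPreimmersion p := MorphismProperty.pullback_fst _ _ inferInstance
  obtain ⟨ζ, hζ⟩ := mem_range_fst g y (z := genericPoint X) (hξ.symm ▸ genericPoint_specializes y)
  have hspec : ∀ w, ζ ⤳ w := fun w =>
    p.isEmbedding.isInducing.specializes_iff.1 (by rw [hζ]; exact genericPoint_specializes _)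
  have : IrreducibleSpace ↥(pullback g (Y.fromSpecStalk y)) := by
    rw [irreducibleSpace_def]
    have : (⊤ : Set ↥(pullback g (Y.fromSpecStalk y))) = closure {ζ} :=
      (Set.eq_univ_of_forall fun w => specializes_iff_mem_closure.1 (hspec w)).symm
    rw [this]
    exact isIrreducible_singleton.closure
  have : ∀ t : ↥(pullback g (Y.fromSpecStalk y)), _root_.IsReduced ((pullback g (Y.fromSpecStalk y)).presheaf.stalk t) :=
    fun t => by
      have := Props12.isIso_stalkMap_fst g y t
      exact isReduced_of_injective (inv (p.stalkMap t)).hom (ConcreteCategory.bijective_of_isIso (inv (p.stalkMap t))).1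
  have : IsReduced (pullback g (Y.fromSpecStalk y)) := isReduced_of_isReduced_stalk _
  have hint : IsIntegral (pullback g (Y.fromSpecStalk y)) := isIntegral_of_irreducibleSpace_of_isReduced _
  refine ⟨hint, ?_⟩
  rw [← hζ]
  exact congrArg p ((genericPoint_spec _).eq (show IsGenericPoint ζ Set.univ from
    Set.eq_univ_of_forall fun w => specializes_iff_mem_closure.1 (hspec w)))

omit [IsIntegral X] [IsIntegral Y] in
/-- Normality passes to the localised modification. -/
theorem isNormal (hX : Pi1.IsNormalScheme X) : Pi1.IsNormalScheme (pullback g (Y.fromSpecStalk y)) := by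
  intro t
  have := Props12.isIso_stalkMap_fst g y t
  let e := (asIso ((pullback.fst g (Y.fromSpecStalk y)).stalkMap t)).commRingCatIsoToRingEquiv
  have := (hX (pullback.fst g (Y.fromSpecStalk y) t)).1
  have := (hX (pullback.fst g (Y.fromSpecStalk y) t)).2
  exact ⟨e.symm.toMulEquiv.isDomain, IsIntegrallyClosed.of_equiv e⟩

omit [IsIntegral X] [IsIntegral Y] in
/-- Birationality of the localised modification. -/
theorem exists_isIso_restrict (V : Y.Opens) [IsIso (g ∣_ V)] :
    IsIso (pullback.snd g (Y.fromSpecStalk y) ∣_ (Y.fromSpecStalk y ⁻¹ᵁ V)) := by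
  let s := Y.fromSpecStalk y
  let p := pullback.fst g s
  let q := pullback.snd g s
  have e : p ≫ g = q ≫ s := pullback.condition
  have hpre : q ⁻¹ᵁ (s ⁻¹ᵁ V) = p ⁻¹ᵁ (g ⁻¹ᵁ V) := by
    rw [← Scheme.Hom.comp_preimage, ← Scheme.Hom.comp_preimage, e]
  have h1 : IsPullback ((q ⁻¹ᵁ (s ⁻¹ᵁ V)).ι ≫ p) (q ∣_ (s ⁻¹ᵁ V)) g ((s ⁻¹ᵁ V).ι ≫ s) :=
    (isPullback_morphismRestrict q (s ⁻¹ᵁ V)).flip.paste_horiz (IsPullback.of_hasPullback g s)
  have h2 : IsPullback (g ⁻¹ᵁ V).ι (g ∣_ V) g V.ι := (isPullback_morphismRestrict g V).flip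
  have hle : q ⁻¹ᵁ (s ⁻¹ᵁ V) ≤ p ⁻¹ᵁ (g ⁻¹ᵁ V) := hpre.le
  let k : (q ⁻¹ᵁ (s ⁻¹ᵁ V)).toScheme ⟶ (g ⁻¹ᵁ V).toScheme := p.resLE (g ⁻¹ᵁ V) _ hle
  have hk : k ≫ (g ⁻¹ᵁ V).ι = (q ⁻¹ᵁ (s ⁻¹ᵁ V)).ι ≫ p := Scheme.Hom.resLE_comp_ι _ _
  rw [← hk, ← morphismRestrict_ι s V] at h1
  have h3 : IsPullback k (q ∣_ (s ⁻¹ᵁ V)) (g ∣_ V) (s ∣_ V) := by
    refine IsPullback.of_right h1 ?_ h2
    rw [← cancel_mono V.ι, Category.assoc, Category.assoc, morphismRestrict_ι, morphismRestrict_ι,
      morphismRestrict_ι_assoc]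
    rw [← Category.assoc, hk, Category.assoc, e]
  exact MorphismProperty.of_isPullback (P := MorphismProperty.isomorphisms Scheme) h3
    (inferInstanceAs (IsIso (g ∣_ V)))

omit [IsIntegral X] [IsIntegral Y] in
/-- Vanishing of a stalk of a higher direct image is vanishing of cohomology over the local ring. -/
theorem subsingleton_HH [QuasiCompact g] [QuasiSeparated g] [HasInjectiveResolutions X.Modules] (p : ℕ)
    (h : Subsingleton (((Coh.Rpush g p).obj (Coh.structureModule X)).presheaf.stalk y)) :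
    Subsingleton (Coh.HH (pullback g (Y.fromSpecStalk y))
      (Coh.structureModule (pullback g (Y.fromSpecStalk y))) p) := by
  letI : (pullback g (Y.fromSpecStalk y)).Over (Spec (CommRingCat.of (Y.presheaf.stalk y))) :=
    ⟨pullback.snd g (Y.fromSpecStalk y)⟩
  haveI : Coh.IsQCoh (Coh.structureModule X) := Coherent.isQCoh_structureModule
  obtain ⟨e⟩ := Coherent.nonempty_stalk_rpush_equiv g (Coh.structureModule X) p y
    (pullback g (Y.fromSpecStalk y)) (pullback.fst g (Y.fromSpecStalk y)) (IsPullback.of_hasPullback g _)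
  have h1 := e.toEquiv.symm.subsingleton
  obtain ⟨i⟩ := CAlgH.PicPunct.nonempty_pullback_unit (pullback.fst g (Y.fromSpecStalk y))
  exact FlatMorStrat.subsingleton_HH_of_iso i p h1

omit [IsIntegral X] in
/-- A globally generated module without global sections is zero. -/
theorem isZero_of_globallyGenerated {M : X.Modules} (hgg : Curv2.IsGloballyGenerated M)
    (h0 : ∀ σ : Γ(M, ⊤), σ = 0) : IsZero M := by
  obtain ⟨ι, p, hp⟩ := hgg
  have hp0 : p = 0 := by
    refine (M.freeHomEquiv).injective (funext fun i => ?_)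
    refine Subtype.ext (funext fun U => ?_)
    have h1 := (M.freeHomEquiv p i).2 (homOfLE (le_top : U.unop ≤ ⊤)).op
    have h2 : (M.freeHomEquiv p i).1 (op ⊤) = 0 := h0 _
    rw [h2] at h1
    exact h1.symm.trans (map_zero (M.presheaf.map (homOfLE (le_top : U.unop ≤ ⊤)).op).hom)
  haveI := hp
  exact (IsZero.iff_id_eq_zero _).2 ((cancel_epi p).1 (by rw [hp0, zero_comp, zero_comp]))

end Groth.Agent.Resolve13.LocalBase
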