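import Groth.Agent.Resolve13.ToProjLine
import Groth.Agent.CurveLib.ProjLine
import Groth.Prelude.Def_ModelsG

/-!
# The exceptional divisor of the blow-up of a regular point of an affine surface
-/

set_option autoImplicit false
set_option linter.style.haveILetI false
set_option backward.isDefEq.respectTransparency.types false
set_option maxHeartbeats 1000000

universe u

open CategoryTheory CategoryTheory.Limits AlgebraicGeometry TopologicalSpace Opposite
open Groth.Agent.CAlgH.KoszulRegular

namespace Groth.Agent.Resolve13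

/-- The blow-up in a maximal ideal with two Koszul regular generators: it sits in the line, and the exceptional
divisor is a line over the residue field with conormal module `O(1)`. -/
theorem exists_excCurve_affine {B : Type u} [CommRing B] {X : Scheme.{u}}
    (I : (Spec (CommRingCat.of B)).IdealSheafData) (b : X ⟶ Spec (CommRingCat.of B)) (hb : BlowUp.IsBlowUp b I)
    [CompactSpace X] [QuasiCompact b] (g : Fin (1 + 1) → B)
    (hI : I.ideal ⟨⊤, isAffineOpen_top _⟩ =
      Ideal.span (Set.range fun i => (Scheme.ΓSpecIso (CommRingCat.of B)).inv.hom (g i)))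
    (hg : KReg fun i => (Scheme.ΓSpecIso (CommRingCat.of B)).inv.hom (g i))
    (hM : (Ideal.span (Set.range g)).IsMaximal) :
    (∃ r : X ⟶ CohB1.ProjSpace 1 B, IsClosedImmersion r ∧ r ≫ CohB1.ProjSpace.toSpec 1 B = b ∧
      Nonempty ((Scheme.Modules.pullback r).obj (Twist.twistProjSpace 1 B 1) ≅ ClSub.idealMod (I.comap b))) ∧
    Models.IsExcCurve (I.comap b).subschemeι := by
  classical
  obtain ⟨r, hr, hrb, hτ, hsurj⟩ := exists_toProjLine I b hb g hI hg
  refine ⟨⟨r, hr, hrb, hτ⟩, by rw [Scheme.IdealSheafData.ker_subschemeι]; exact hb.1, ?_⟩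
  let M : Ideal B := Ideal.span (Set.range g)
  haveI : M.IsMaximal := hM
  let k := B ⧸ M
  let J := I.comap b
  let ι := J.subschemeι
  let c : Spec (CommRingCat.of k) ⟶ Spec (CommRingCat.of B) :=
    Spec.map (CommRingCat.ofHom (algebraMap B k))
  haveI : IsClosedImmersion c := IsClosedImmersion.spec_of_surjective _ Ideal.Quotient.mk_surjective
  let T : (Spec (CommRingCat.of B)).affineOpens := ⟨⊤, isAffineOpen_top _⟩
  -- the structure map of the divisor
  have hkill : ∀ x ∈ M, ProjUP.toGlobal (ι ≫ b) x = 0 := by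
    have h0 : ∀ i, ProjUP.toGlobal (ι ≫ b) (g i) = 0 := fun i => by
      have h1 : (Scheme.ΓSpecIso (CommRingCat.of B)).inv.hom (g i) ∈ I.ideal T := hI ▸ Ideal.subset_span ⟨i, rfl⟩
      have h2 := Scheme.IdealSheafData.le_def.1 (I.le_map_comap b) T h1
      rw [Scheme.IdealSheafData.map, Scheme.Hom.ker_apply, RingHom.mem_ker] at h2
      exact h2
    intro x hx
    refine (Ideal.span_le (I := RingHom.ker (ProjUP.toGlobal (ι ≫ b)))).2 ?_ hx
    rintro _ ⟨i, rfl⟩
    exact h0 i
  let h : J.subscheme ⟶ Spec (CommRingCat.of k) :=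
    J.subscheme.toSpecΓ ≫ Spec.map (CommRingCat.ofHom (Ideal.Quotient.lift M (ProjUP.toGlobal (ι ≫ b)) hkill))
  have hh : h ≫ c = ι ≫ b :=
    (Category.assoc _ _ _).trans ((congrArg (J.subscheme.toSpecΓ ≫ ·) ((Spec.map_comp _ _).symm.trans
      (congrArg Spec.map (CommRingCat.hom_ext (Ideal.Quotient.lift_comp_mk M (ProjUP.toGlobal (ι ≫ b)) hkill))))).trans
      (UPLib.eq_toSpecΓ_toGlobal (ι ≫ b)))
  let P := CohB1.ProjSpace 1 k
  let pr : P ⟶ CohB1.ProjSpace 1 B := Quot8.projChange 1 B k
  have pb : IsPullback pr (CohB1.ProjSpace.toSpec 1 k) (CohB1.ProjSpace.toSpec 1 B) c :=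
    Coherent.isPullback_projSpace 1 B k
  haveI : IsClosedImmersion pr := MorphismProperty.of_isPullback pb.flip inferInstance
  let l : J.subscheme ⟶ P := pb.lift (ι ≫ r) h (by rw [Category.assoc, hrb, hh])
  have hl : l ≫ pr = ι ≫ r := pb.lift_fst _ _ _
  haveI : IsClosedImmersion l := by
    haveI : IsClosedImmersion (l ≫ pr) := by rw [hl]; infer_instance
    exact IsClosedImmersion.of_comp l pr
  haveI : IsIntegral P := @CurveLib.isIntegral_projSpace k (Ideal.Quotient.field M) 1
  -- over the closed point everything lies on the divisor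
  have hpt : ∀ y : P, ∀ i, CohB1.ProjSpace.toSpec 1 B (pr y) ∉ PrimeSpectrum.basicOpen (g i) := by
    intro y i hy
    have h1 : CohB1.ProjSpace.toSpec 1 B (pr y) = c (CohB1.ProjSpace.toSpec 1 k y) := by
      rw [← Scheme.Hom.comp_apply, pb.w, Scheme.Hom.comp_apply]
    rw [h1] at hy
    refine hy ?_
    show g i ∈ Ideal.comap (algebraMap B k) (CohB1.ProjSpace.toSpec 1 k y).asIdeal
    rw [Ideal.mem_comap, show algebraMap B k (g i) = 0 from
      Ideal.Quotient.eq_zero_iff_mem.2 (Ideal.subset_span ⟨i, rfl⟩)]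
    exact Ideal.zero_mem _
  haveI : Surjective l := by
    refine ⟨fun y => ?_⟩
    obtain ⟨x, hx⟩ := hsurj (pr y) (hpt y)
    have hxJ : x ∈ (J.support : Set X) := by
      show x ∈ ((I.comap b).support : Set X)
      rw [Scheme.IdealSheafData.support_comap]
      show b x ∈ (I.support : Set _)
      have hbx : b x = CohB1.ProjSpace.toSpec 1 B (pr y) := by
        rw [← hx, ← Scheme.Hom.comp_apply, hrb]
      refine ((I.coe_support_inter T).ge ⟨?_, trivial⟩).1
      refine (Scheme.mem_zeroLocus_iff _ _ _).2 fun a ha hmem => ?_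
      rw [basicOpen_eq_of_affine', hbx] at hmem
      refine hmem ?_
      have ha' : (Scheme.ΓSpecIso (CommRingCat.of B)).hom a ∈ M := by
        rw [SetLike.mem_coe, hI] at ha
        refine (Ideal.span_le (I := M.comap (Scheme.ΓSpecIso (CommRingCat.of B)).hom.hom)).2 ?_ ha
        rintro _ ⟨i, rfl⟩
        show (Scheme.ΓSpecIso (CommRingCat.of B)).hom.hom ((Scheme.ΓSpecIso (CommRingCat.of B)).inv.hom (g i)) ∈ M
        rw [show (Scheme.ΓSpecIso (CommRingCat.of B)).hom.hom ((Scheme.ΓSpecIso (CommRingCat.of B)).inv.hom (g i)) = g i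
          from ConcreteCategory.congr_hom (Scheme.ΓSpecIso (CommRingCat.of B)).inv_hom_id (g i)]
        exact Ideal.subset_span ⟨i, rfl⟩
      exact (Ideal.span_le.2 (by
        rintro _ ⟨i, rfl⟩
        exact not_not.1 (hpt y i))) ha'
    obtain ⟨e, he⟩ := J.range_subschemeι.ge hxJ
    refine ⟨e, pr.isClosedEmbedding.injective ?_⟩
    rw [← Scheme.Hom.comp_apply, hl, Scheme.Hom.comp_apply, he, hx]
  haveI : IsIso l := isIso_of_isClosedImmersion_of_surjective l
  obtain ⟨τ⟩ := hτ
  obtain ⟨q⟩ := Quot8.nonempty_pullback_twistProjSpace 1 B k 1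
  refine ⟨k, Ideal.Quotient.field M, (asIso l).symm, ⟨?_⟩⟩
  have e1 : (asIso l).symm.hom ≫ ι ≫ r = pr := by
    rw [Iso.symm_hom, asIso_inv, ← hl, IsIso.inv_hom_id_assoc]
  exact (Scheme.Modules.pullback ((asIso l).symm.hom ≫ ι)).mapIso
      (eqToIso (congrArg ClSub.idealMod J.ker_subschemeι) ≪≫ τ.symm) ≪≫
    (Scheme.Modules.pullbackComp _ r).app _ ≪≫
    (Scheme.Modules.pullbackCongr ((Category.assoc _ _ _).trans e1)).app _ ≪≫ q

end Groth.Agent.Resolve13
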