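import Groth.Agent.Resolve13.LocalGen
import Groth.Agent.Resolve13.PointExcAffine
import Groth.Agent.Models7.ContractionSeq
import Groth.Agent.BlowUpKoszul.PointBlowUp

/-!
# The exceptional curve of the blow-up of a regular closed point of dimension two
-/

set_option autoImplicit false
set_option linter.style.haveILetI false
set_option backward.isDefEq.respectTransparency false
set_option maxHeartbeats 1000000

universe u

open CategoryTheory CategoryTheory.Limits AlgebraicGeometry TopologicalSpace IsLocalRing Opposite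
open Groth.Agent.Misc15.DivDescent Groth.Agent.SDiv28.CartierPart
open Groth.Agent.CAlgH.KoszulRegular

namespace Groth.Agent.Resolve13

theorem ideal_comap_fromSpec {Z : Scheme.{u}} (I : Z.IdealSheafData) (U : Z.affineOpens) :
    (I.comap U.2.fromSpec).ideal ⟨⊤, isAffineOpen_top _⟩ =
      (I.ideal U).map (Scheme.ΓSpecIso Γ(Z, U.1)).inv.hom := by
  rw [ProjLib.comap_ideal_eq I U.2.fromSpec U ⟨⊤, isAffineOpen_top _⟩ U.2.fromSpec_preimage_self.ge]
  refine congrArg (fun φ : Γ(Z, U.1) ⟶ Γ(Spec Γ(Z, U.1), ⊤) => (I.ideal U).map φ.hom) ?_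
  rw [Scheme.Hom.appLE, U.2.fromSpec_app_self, Category.assoc, ← Functor.map_comp]
  exact (congrArg _ ((congrArg _ (Subsingleton.elim _ (𝟙 _))).trans (CategoryTheory.Functor.map_id _ _))).trans (Category.comp_id _)

/-- The exceptional curve of the blow-up of a regular closed point of dimension two. -/
theorem exists_excCurve_point {Z X : Scheme.{u}} [IsLocallyNoetherian Z] (z : Z) (hz : IsClosed ({z} : Set Z))
    [IsRegularLocalRing (Z.presheaf.stalk z)] (hdim : ringKrullDim (Z.presheaf.stalk z) = 2) (b : X ⟶ Z)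
    (hb : BlowUp.IsBlowUp b (Scheme.IdealSheafData.vanishingIdeal ⟨{z}, hz⟩)) :
    ∃ (E : Scheme.{u}) (ι : E ⟶ X), IsClosedImmersion ι ∧ Models.IsExcCurve ι ∧
      Set.range ι.base = b.base ⁻¹' {z} ∧ Set.range (ι ≫ b).base = {z} ∧
      ι.ker = (Scheme.IdealSheafData.vanishingIdeal ⟨{z}, hz⟩).comap b := by
  obtain ⟨V, hzU, g, hIV, hg, hmax⟩ := exists_local_gen z hz hdim
  obtain ⟨U, hU⟩ := V
  let I := Scheme.IdealSheafData.vanishingIdeal ⟨{z}, hz⟩
  have hsupp : (I.support : Set Z) = {z} := Scheme.IdealSheafData.coe_support_vanishingIdeal _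
  let O : X.Opens := b ⁻¹ᵁ U
  let τ := hU.isoSpec
  let J₀ := I.comap hU.fromSpec
  have hJ₀ : J₀.comap τ.hom = I.comap U.ι := by
    rw [← Scheme.IdealSheafData.comap_comp]
    exact congrArg I.comap (by rw [← hU.isoSpec_inv_ι, Iso.hom_inv_id_assoc])
  let b' : O.toScheme ⟶ Spec Γ(Z, U) := (b ∣_ U) ≫ τ.hom
  have hb' : BlowUp.IsBlowUp b' J₀ :=
    BlowUpLib.isBlowUp_of_iso_right τ.hom J₀ hJ₀ (BlowUpLib.isBlowUp_restrict hb U)
  haveI : IsProper b := BlowUpLib.isProper_of_isBlowUp hb (FlatMorAdm.isFiniteTypeIdeal_of_noetherian I)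
  haveI : IsProper b' := inferInstanceAs (IsProper ((b ∣_ U) ≫ τ.hom))
  haveI : CompactSpace O.toScheme := QuasiCompact.compactSpace_of_compactSpace b'
  have hexc : Models.IsExcCurve (J₀.comap b').subschemeι := by
    refine (exists_excCurve_affine J₀ b' hb' g ?_ ?_ hmax).2
    · refine (ideal_comap_fromSpec I ⟨U, hU⟩).trans ?_
      rw [hIV, Ideal.map_span, ← Set.range_comp]
      rfl
    · exact BlowUpKoszul.kreg_equiv _ (Scheme.ΓSpecIso Γ(Z, U)).symm.commRingCatIsoToRingEquiv g hg
  -- back to the surface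
  let J := I.comap b
  let ΓU : (J₀.comap b').subscheme ⟶ O.toScheme := (J₀.comap b').subschemeι
  haveI : IsClosedImmersion ΓU := inferInstanceAs (IsClosedImmersion (J₀.comap b').subschemeι)
  have hJO : J.comap O.ι = ΓU.ker := by
    refine Eq.trans ?_ (Scheme.IdealSheafData.ker_subschemeι _).symm
    show _ = J₀.comap ((b ∣_ U) ≫ τ.hom)
    rw [Scheme.IdealSheafData.comap_comp, hJ₀, BlowUpCoh.comap_restrict]
  have hJsupp : (J.support : Set X) = b.base ⁻¹' {z} := by
    show ((I.comap b).support : Set X) = _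
    rw [Scheme.IdealSheafData.support_comap, ← hsupp]; rfl
  let ι : (J₀.comap b').subscheme ⟶ X := ΓU ≫ O.ι
  haveI : IsPreimmersion ι := inferInstanceAs (IsPreimmersion (ΓU ≫ O.ι))
  have hrange : Set.range ι.base = b.base ⁻¹' {z} := by
    have h1 : Set.range ΓU.base = (ΓU.ker.support : Set O.toScheme) := by
      rw [Scheme.Hom.support_ker]
      exact ΓU.isClosedEmbedding.isClosed_range.closure_eq.symm
    show Set.range (ΓU ≫ O.ι).base = _
    rw [Scheme.Hom.comp_base, TopCat.coe_comp, Set.range_comp, h1, ← hJO, Scheme.IdealSheafData.support_comap]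
    show O.ι.base '' (O.ι.base ⁻¹' (J.support : Set X)) = _
    rw [Set.image_preimage_eq_inter_range, hJsupp, Scheme.Opens.range_ι, Set.inter_eq_left]
    intro w hw
    show b w ∈ U
    rw [Set.mem_singleton_iff.1 hw]; exact hzU
  haveI : IsClosedImmersion ι := IsClosedImmersion.of_isPreimmersion _ (hrange ▸ hz.preimage b.continuous)
  have hιker : ι.ker = J := by
    refine le_antisymm ?_ ?_
    · have hr : Set.range J.subschemeι.base ⊆ Set.range O.ι.base := by
        rw [J.range_subschemeι, hJsupp, Scheme.Opens.range_ι]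
        intro w hw
        show b w ∈ U
        rw [Set.mem_singleton_iff.1 hw]; exact hzU
      let k := IsOpenImmersion.lift O.ι J.subschemeι hr
      have hk : k ≫ O.ι = J.subschemeι := IsOpenImmersion.lift_fac _ _ _
      haveI : IsClosedImmersion k := by
        haveI : IsClosedImmersion (k ≫ O.ι) := by rw [hk]; infer_instance
        exact IsClosedImmersion.of_comp k O.ι
      have hle : ΓU.ker ≤ k.ker := by
        rw [← hJO]
        refine Scheme.IdealSheafData.le_map_iff_comap_le.1 ?_
        show J ≤ (k.ker.subschemeι ≫ O.ι).ker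
        rw [← Scheme.Hom.ker_comp_of_isIso k.toImage, ← Category.assoc]
        show J ≤ ((k.toImage ≫ k.imageι) ≫ O.ι).ker
        rw [Scheme.Hom.toImage_imageι, hk, Scheme.IdealSheafData.ker_subschemeι]
      calc ι.ker ≤ (IsClosedImmersion.lift ΓU k hle ≫ ι).ker := Scheme.Hom.le_ker_comp _ _
        _ = J := by
          show (_ ≫ ΓU ≫ O.ι).ker = _
          rw [IsClosedImmersion.lift_fac_assoc, hk, Scheme.IdealSheafData.ker_subschemeι]
    · refine (J.le_map_comap O.ι).trans ?_
      show ((J.comap O.ι).subschemeι ≫ O.ι).ker ≤ (ΓU ≫ O.ι).ker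
      rw [hJO]
      conv_rhs => rw [← ΓU.toImage_imageι, Category.assoc]
      exact Scheme.Hom.le_ker_comp _ _
  refine ⟨_, ι, inferInstance, ?_, hrange, ?_, hιker⟩
  · obtain ⟨hD, k, hk, e, ⟨φ⟩⟩ := hexc
    refine ⟨by rw [hιker]; exact hb.1, k, hk, e, ?_⟩
    obtain ⟨ψ⟩ := Inters29.nonempty_pullback_idealMod_iso O.ι J hb.1 (by rw [hJO]; exact hD)
    rw [hιker]
    exact ⟨((Scheme.Modules.pullbackCongr (Category.assoc e.hom ΓU O.ι)).symm.app _) ≪≫
      ((Scheme.Modules.pullbackComp (e.hom ≫ ΓU) O.ι).symm.app _) ≪≫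
      (Scheme.Modules.pullback (e.hom ≫ ΓU)).mapIso (ψ ≪≫ eqToIso (congrArg ClSub.idealMod hJO)) ≪≫ φ⟩
  · obtain ⟨-, k, hk, e, -⟩ := hexc
    haveI := CurveLib.isIntegral_projSpace k 1
    rw [Scheme.Hom.comp_base, TopCat.coe_comp, Set.range_comp, hrange]
    refine Set.eq_singleton_iff_nonempty_unique_mem.2 ⟨?_, fun w hw => ?_⟩
    · exact ⟨_, ι (e.hom (genericPoint (CohB1.ProjSpace 1 k))), hrange.le ⟨_, rfl⟩, rfl⟩
    · obtain ⟨x, hx, rfl⟩ := hw
      exact hx

/-- The blow-up of a regular closed point of dimension two contracts an exceptional curve. -/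
theorem exists_isContractionOf {Z X : Scheme.{u}} [IsNoetherian Z] (z : Z) (hz : IsClosed ({z} : Set Z))
    [IsRegularLocalRing (Z.presheaf.stalk z)] (hdim : ringKrullDim (Z.presheaf.stalk z) = 2) (b : X ⟶ Z)
    (hb : BlowUp.IsBlowUp b (Scheme.IdealSheafData.vanishingIdeal ⟨{z}, hz⟩)) :
    ∃ (E : Scheme.{u}) (ι : E ⟶ X), IsClosedImmersion ι ∧ Models.IsExcCurve ι ∧ Models.IsContractionOf ι b := by
  obtain ⟨E, ι, hι, hE, -, hr, -⟩ := exists_excCurve_point z hz hdim b hb
  exact ⟨E, ι, hι, hE, inferInstance,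
    BlowUpLib.isProper_of_isBlowUp hb (FlatMorAdm.isFiniteTypeIdeal_of_noetherian _), z, hz, hr, inferInstance, hdim, hb⟩

/-- A composite of point blow-ups of a regular surface is a composite of contractions. -/
theorem contractionSeq_of_ptSeq {Y X : Scheme.{u}} {r : Y ⟶ X} (hr : Models7.PtSeq r) :
    Models7.RegSurf X → Models7.RegSurf Y ∧ IsProper r ∧
      ∀ {W : Scheme.{u}} (e : W ≅ Y), Models.IsContractionSeq (e.hom ≫ r) := by
  induction hr with
  | @iso Y' X' e' =>
    intro hX
    haveI := hX.integral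
    haveI : Nonempty Y' := ⟨e'.inv (genericPoint X')⟩
    haveI := hX.noeth
    haveI : IsIntegral Y' := isIntegral_of_isOpenImmersion e'.hom
    refine ⟨⟨inferInstance, LocallyOfFiniteType.isLocallyNoetherian e'.hom,
      haveI := hX.compact; e'.inv.homeomorph.compactSpace, fun y => ?_, ?_⟩, inferInstance,
      fun e => (Iso.trans_hom e e') ▸ Models.IsContractionSeq.iso (e ≪≫ e')⟩
    · haveI := hX.regular (e'.hom y)
      exact IsRegularLocalRing.of_ringEquiv (R := X'.presheaf.stalk (e'.hom y))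
        (asIso (e'.hom.stalkMap y)).commRingCatIsoToRingEquiv
    · exact (e'.hom.homeomorph.isHomeomorph.topologicalKrullDim_eq _).le.trans hX.dim
  | @step Y' Z' X' b r z hz hz0 hb hr ih =>
    intro hX
    obtain ⟨hZ, hrp, hseq⟩ := ih hX
    haveI := hZ.integral
    haveI := hrp
    have hz1 : z ≠ genericPoint Z' := hz0
    obtain ⟨hY, hbp, -⟩ := hZ.pointBlowUp z hz hz1 b hb
    haveI := hbp
    haveI := hY.integral
    haveI := hZ.noeth
    haveI := hZ.compact
    haveI := hZ.regular z
    refine ⟨hY, inferInstance, fun {W} e => ?_⟩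
    have hle : ringKrullDim (Z'.presheaf.stalk z) ≤ 2 := (CurvesLib24.stalk_dim_le_topologicalKrullDim z).trans hZ.dim
    by_cases hdim : ringKrullDim (Z'.presheaf.stalk z) = 2
    · haveI : IsNoetherian Z' := {}
      obtain ⟨E, ι, hι, hE, hc⟩ := exists_isContractionOf z hz hdim (e.hom ≫ b) (Models7.isBlowUp_iso_comp e hb)
      rw [← Category.assoc]
      refine Models.IsContractionSeq.step ι (e.hom ≫ b) r hι hE hc ?_
      have h := hseq (Iso.refl Z')
      rwa [Iso.refl_hom, Category.id_comp] at h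
    · have h1 : (maximalIdeal (Z'.presheaf.stalk z)).spanFinrank ≤ 1 := by
        have h2 := IsRegularLocalRing.spanFinrank_maximalIdeal (R := Z'.presheaf.stalk z)
        have h3 : (maximalIdeal (Z'.presheaf.stalk z)).spanFinrank ≤ 2 := by exact_mod_cast h2.trans_le hle
        have h4 : (maximalIdeal (Z'.presheaf.stalk z)).spanFinrank ≠ 2 := fun h => hdim (by rw [← h2, h]; rfl)
        omega
      have hIc : BlowUp.IsEffCartierIdeal (Scheme.IdealSheafData.vanishingIdeal ⟨{z}, hz⟩) := by
        refine Inters29.isEffCartier_of_stk _ fun x => ?_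
        by_cases hx : x = z
        · subst hx
          rw [Models7.stk_vanishingIdeal_point x hz]
          obtain ⟨s, hs, hspan⟩ := Submodule.FG.exists_span_set_encard_eq_spanFinrank
            (IsNoetherian.noetherian (maximalIdeal (Z'.presheaf.stalk x)))
          refine ⟨?_, fun h0 => hz1 ?_⟩
          · have hle1 : s.encard ≤ 1 := by rw [hs]; exact_mod_cast h1
            rcases Set.encard_le_one_iff_eq.1 hle1 with rfl | ⟨d, rfl⟩
            · exact ⟨0, by rw [← hspan]; simp⟩
            · exact ⟨d, hspan.symm⟩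
          · let A := Z'.presheaf.stalk x
            let P : Spec A := ⟨⊥, Ideal.isPrime_bot⟩
            have hP : P = closedPoint A := PrimeSpectrum.ext h0.symm
            obtain ⟨Q, hQ⟩ : genericPoint Z' ∈ Set.range (Z'.fromSpecStalk x) :=
              Scheme.range_fromSpecStalk.ge (genericPoint_specializes _)
            have hPQ : P ⤳ Q := (PrimeSpectrum.le_iff_specializes P Q).1 bot_le
            have h1 : Z'.fromSpecStalk x P = genericPoint Z' :=
              ((hQ ▸ hPQ.map (Z'.fromSpecStalk x).continuous).antisymm (genericPoint_specializes _)).eq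
            rw [← h1, hP]
            exact Scheme.fromSpecStalk_closedPoint.symm
        · rw [stk_eq_top (fun h => hx ((Scheme.IdealSheafData.coe_support_vanishingIdeal _).le h))]
          exact ⟨⟨1, Ideal.span_singleton_one.symm⟩, top_ne_bot⟩
      haveI := Models7.isIso_blowUp_of_effCartier hb hIc
      have h := hseq (e ≪≫ asIso b)
      rwa [Iso.trans_hom, asIso_hom, Category.assoc] at h

end Groth.Agent.Resolve13
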