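import Groth.Agent.Resolve13.Desc
import Groth.Agent.Resolve13.LocalGen
import Groth.Agent.Resolve13.PointExc
import Groth.Agent.BlowUpCoh.Regular
import Groth.Agent.CurveLib.ProjLine
import Groth.Agent.CurvesLib24.Basic

/-!
# The universal property of the contraction of an exceptional curve
-/

set_option autoImplicit false
set_option linter.style.haveILetI false
set_option backward.isDefEq.respectTransparency false
set_option maxHeartbeats 1000000

universe u

open CategoryTheory CategoryTheory.Limits AlgebraicGeometry TopologicalSpace IsLocalRing Opposite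
open Groth.Agent.BlowUpCoh

namespace Groth.Agent.Resolve13

theorem appBasis_pointBlowUp {Z X : Scheme.{u}} [IsLocallyNoetherian Z] (z : Z) (hz : IsClosed ({z} : Set Z))
    [IsRegularLocalRing (Z.presheaf.stalk z)] (hdim : ringKrullDim (Z.presheaf.stalk z) = 2) (b : X ⟶ Z)
    (hb : BlowUp.IsBlowUp b (Scheme.IdealSheafData.vanishingIdeal ⟨{z}, hz⟩)) : AppBasis b := by
  obtain ⟨U, hzU, g, hIU, hg, -⟩ := exists_local_gen z hz hdim
  have hsupp : ((Scheme.IdealSheafData.vanishingIdeal ⟨{z}, hz⟩).support : Set Z) = {z} :=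
    Scheme.IdealSheafData.coe_support_vanishingIdeal _
  have hI : KoszulBasis (Scheme.IdealSheafData.vanishingIdeal ⟨{z}, hz⟩) 0 := koszulBasis_of_local fun x hx => by
    rw [Set.mem_singleton_iff.1 (hsupp.le hx)]
    exact ⟨U, 1, g, hzU, Nat.zero_le _, hIU, hg⟩
  refine Opens.isBasis_iff_nbhd.mpr fun {W x} hx => ?_
  obtain ⟨(V : Z.Opens), hVmem, hxV, hVW⟩ := Opens.isBasis_iff_nbhd.mp hI hx
  obtain ⟨hV, n, f, -, hf, hk⟩ := id hVmem
  refine ⟨V, ?_, hxV, hVW⟩
  haveI : IsAffine (V : Scheme.{u}) := hV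
  obtain ⟨f', hf', hk', hsep⟩ := exists_restrict_data hb hI hV hf hk
  let T := twistO (((Scheme.IdealSheafData.vanishingIdeal ⟨{z}, hz⟩).comap V.ι).comap (b ∣_ V))
  let ξ : Γ(Coh.structureModule (b ⁻¹ᵁ V : X.Opens).toScheme, ⊤) := (1 : Γ((b ⁻¹ᵁ V : X.Opens).toScheme, ⊤))
  have h := bijective_global (b ∣_ V) f' (BlowUpLib.isBlowUp_restrict hb V) hf' hk' 0 (Nat.zero_le _) T ξ
    (fun W a _ _ => by
      rw [pow_zero]
      exact map_one ((b ⁻¹ᵁ V : X.Opens).toScheme.presheaf.map (homOfLE le_top).op).hom)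
  show IsIso (b ∣_ V).appTop
  rw [ConcreteCategory.isIso_iff_bijective]
  have heq : ∀ r : Γ((V : Scheme.{u}), ⊤), ((b ∣_ V).appLE ⊤ ⊤ le_top).hom r = (b ∣_ V).appTop.hom r := fun r => by
    rw [Scheme.Hom.appTop, Scheme.Hom.app_eq_appLE]
    rfl
  refine ⟨fun r r' he => h.1 ?_, fun x => ?_⟩
  · show ((b ∣_ V).appLE ⊤ ⊤ le_top).hom r • ξ = ((b ∣_ V).appLE ⊤ ⊤ le_top).hom r' • ξ
    rw [heq, heq]
    exact congrArg (· • ξ) he
  · obtain ⟨r, hr⟩ := h.2 x
    refine ⟨r, ?_⟩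
    refine ((heq r).symm.trans ?_).trans hr
    exact (mul_one _).symm

theorem two_points_projLine (k : Type u) [Field k] :
    ∃ p q : CohB1.ProjSpace 1 k, p ≠ q ∧ p ⤳ q ∧ (haveI := CurveLib.isIntegral_projSpace k 1; p = genericPoint _) := by
  haveI := CurveLib.isIntegral_projSpace k 1
  have hd : topologicalKrullDim ↥(CohB1.ProjSpace 1 k) = 1 := by
    simpa using DimLib.PN.topologicalKrullDim_projSpace 1 k
  by_contra hc
  refine CurvesLib24.not_isClosed_genericPoint hd (closure_eq_iff_isClosed.1 (Set.Subset.antisymm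
    (fun q hq => ?_) subset_closure))
  by_contra hne
  exact hc ⟨_, q, Ne.symm hne, specializes_iff_mem_closure.2 hq, rfl⟩

/-- A contracted exceptional curve is the whole fibre over the point. -/
theorem range_eq_fibre {E X X' : Scheme.{u}} (ι : E ⟶ X) [IsClosedImmersion ι] (hE : Models.IsExcCurve ι)
    (b : X ⟶ X') (hb : Models.IsContractionOf ι b) :
    ∃ (y : X') (hy : IsClosed ({y} : Set X')), b.base ⁻¹' {y} = Set.range ι.base ∧ y ∈ Set.range b.base ∧
      IsRegularLocalRing (X'.presheaf.stalk y) ∧ ringKrullDim (X'.presheaf.stalk y) = 2 ∧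
      BlowUp.IsBlowUp b (Scheme.IdealSheafData.vanishingIdeal ⟨{y}, hy⟩) := by
  obtain ⟨hN, -, y, hy, hr, hreg, hdim, hbl⟩ := hb
  obtain ⟨E', ι', hι', hE', hr', -, -⟩ := exists_excCurve_point y hy hdim b hbl
  refine ⟨y, hy, ?_, ?_, hreg, hdim, hbl⟩
  swap
  · obtain ⟨e, he⟩ := hr.ge (Set.mem_singleton y)
    exact ⟨ι e, he⟩
  have hsub : Set.range ι.base ⊆ b.base ⁻¹' {y} := fun x ⟨e, he⟩ => he ▸ hr.le ⟨e, rfl⟩
  obtain ⟨-, k, hk, e, -⟩ := hE
  obtain ⟨-, k', hk', e', -⟩ := hE'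
  haveI := CurveLib.isIntegral_projSpace k' 1
  obtain ⟨p, q, hpq, hsp, -⟩ := two_points_projLine k
  obtain ⟨a₁, ha₁⟩ := hr'.ge (hsub ⟨e.hom p, rfl⟩)
  obtain ⟨c, rfl⟩ : ∃ c, e'.hom c = a₁ := ⟨e'.inv a₁, by rw [← Scheme.Hom.comp_apply, e'.inv_hom_id]; rfl⟩
  have hd' : topologicalKrullDim ↥(CohB1.ProjSpace 1 k') ≤ 1 := by
    simpa using (DimLib.PN.topologicalKrullDim_projSpace 1 k').le
  rcases CurvesLib24.eq_genericPoint_or_isClosed hd' c with hc | hc
  · refine Set.Subset.antisymm (fun x hx => ?_) hsub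
    obtain ⟨a, rfl⟩ := hr'.ge hx
    obtain ⟨d, rfl⟩ : ∃ d, e'.hom d = a := ⟨e'.inv a, by rw [← Scheme.Hom.comp_apply, e'.inv_hom_id]; rfl⟩
    exact (((genericPoint_specializes d).map e'.hom.continuous).map ι'.continuous).mem_closed
      ι.isClosedEmbedding.isClosed_range ⟨e.hom p, by rw [← hc]; exact ha₁.symm⟩
  · exfalso
    have hcl : IsClosed ({ι (e.hom p)} : Set X) := by
      have h := (e'.hom ≫ ι').isClosedMap _ hc
      rw [Set.image_singleton] at h
      rwa [Scheme.Hom.comp_apply, show ι' (e'.hom c) = ι (e.hom p) from ha₁] at h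
    have h2 : ι (e.hom q) = ι (e.hom p) :=
      ((hsp.map e.hom.continuous).map ι.continuous).mem_closed hcl rfl
    exact hpq (e.hom.homeomorph.injective (ι.isClosedEmbedding.injective h2)).symm

/-- The universal property. -/
theorem existsUnique_factor_contraction {E X X' Y : Scheme.{u}} (ι : E ⟶ X) [IsClosedImmersion ι]
    (hE : Models.IsExcCurve ι) (b : X ⟶ X') (hb : Models.IsContractionOf ι b) (φ : X ⟶ Y) (y : Y)
    (hφ : Set.range ((ι ≫ φ).base : E → Y) = {y}) : ∃! ψ : X' ⟶ Y, b ≫ ψ = φ := by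
  obtain ⟨z, hz, hfib, hzim, hreg, hdim, hbl⟩ := range_eq_fibre ι hE b hb
  obtain ⟨hN, hprop, -⟩ := hb
  let V : X'.Opens := ⟨{z}ᶜ, hz.isOpen_compl⟩
  haveI hiso : IsIso (b ∣_ V) := ProjLib.isIso_morphismRestrict hbl _
    (Set.disjoint_left.mpr fun _ h h' => h' ((Scheme.IdealSheafData.coe_support_vanishingIdeal _).le h))
  haveI : Surjective b := ⟨fun w => by
    by_cases hw : w = z
    · exact hw ▸ hzim
    · obtain ⟨⟨x, hx⟩, hx'⟩ := (b ∣_ V).homeomorph.surjective ⟨w, hw⟩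
      exact ⟨x, (morphismRestrict_base_coe b V _).symm.trans (congrArg Subtype.val hx')⟩⟩
  refine existsUnique_desc b.isClosedMap (appBasis_pointBlowUp z hz hdim b hbl) φ fun w => ?_
  by_cases hw : w = z
  · subst hw
    rw [hfib]
    rintro _ ⟨_, ⟨e₁, rfl⟩, rfl⟩ _ ⟨_, ⟨e₂, rfl⟩, rfl⟩
    exact (Set.mem_singleton_iff.1 (hφ.le ⟨e₁, rfl⟩)).trans (Set.mem_singleton_iff.1 (hφ.le ⟨e₂, rfl⟩)).symm
  · rintro _ ⟨a, ha, rfl⟩ _ ⟨c, hc, rfl⟩
    have haV : a ∈ b ⁻¹ᵁ V := by show b a ∈ V; rw [show b a = w from ha]; exact hw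
    have hcV : c ∈ b ⁻¹ᵁ V := by show b c ∈ V; rw [show b c = w from hc]; exact hw
    have h2 : (b ∣_ V) ⟨a, haV⟩ = (b ∣_ V) ⟨c, hcV⟩ :=
      Subtype.ext (((morphismRestrict_base_coe b V _).trans ((show b a = w from ha).trans
        (show b c = w from hc).symm)).trans (morphismRestrict_base_coe b V _).symm)
    rw [show a = c from congrArg Subtype.val ((b ∣_ V).homeomorph.injective h2)]

end Groth.Agent.Resolve13
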