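import Groth.Agent.SerreDual.Exist
import Mathlib

/-!
# Cohomology of free modules
-/

set_option autoImplicit false
set_option backward.isDefEq.respectTransparency.types false
universe u
open CategoryTheory CategoryTheory.Limits AlgebraicGeometry

namespace Groth.Agent.Resolve13

/-- On a Noetherian scheme, a coproduct of copies of a module without `H^q` has no `H^q`. -/
theorem subsingleton_HH_sigma {X : Scheme.{u}} [TopologicalSpace.NoetherianSpace X] (q : ℕ) {ι : Type u}
    (E : ι → X.Modules) (h : ∀ i, Subsingleton (Coh.HH X (E i) q)) :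
    Subsingleton (Coh.HH X (∐ E) q) := by
  let G : X.Modules ⥤ AddCommGrpCat.{u} :=
    SheafOfModules.toSheaf.{u} X.ringCatSheaf ⋙ Sheaf.functorH (Opens.grothendieckTopology X) q
  have : PreservesFiniteCoproducts G := by
    have : (SheafOfModules.toSheaf.{u} X.ringCatSheaf).Additive := inferInstance
    have : G.Additive := ⟨fun {a b f g} => by
      show (Sheaf.functorH (Opens.grothendieckTopology X) q).map ((SheafOfModules.toSheaf.{u} X.ringCatSheaf).map (f + g)) = _
      exact (congrArg (Sheaf.functorH (Opens.grothendieckTopology X) q).map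
        ((SheafOfModules.toSheaf.{u} X.ringCatSheaf).map_add (f := f) (g := g))).trans
        (Functor.map_add _)⟩
    exact ⟨fun n => inferInstance⟩
  have := SerreDual.preservesCoproducts_of_filtered G
    (fun Λ _ _ => SerreDual.preservesFilteredColimits_HH X Λ q) ι
  refine AddCommGrpCat.subsingleton_of_isZero (G := G.obj (∐ E)) ?_
  refine (IsZero.iff_id_eq_zero _).2 ((isColimitOfPreserves G (coproductIsCoproduct E)).hom_ext fun ⟨i⟩ => ?_)
  have : Subsingleton (G.obj (E i)) := h i
  exact (AddCommGrpCat.isZero_of_subsingleton (G.obj (E i))).eq_of_src _ _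

/-- Free modules have no `H^q` when the structure sheaf has none. -/
theorem subsingleton_HH_free {X : Scheme.{u}} [TopologicalSpace.NoetherianSpace X] (q : ℕ) (ι : Type u)
    (h : Subsingleton (Coh.HH X (Coh.structureModule X) q)) :
    Subsingleton (Coh.HH X (SheafOfModules.free ι : X.Modules) q) :=
  subsingleton_HH_sigma q _ fun _ => h

end Groth.Agent.Resolve13
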