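import Groth.Agent.Resolve13.Modification
import Groth.Agent.Resolve13.HHFree
import Groth.Agent.Coherent.BirationalFibre
import Groth.Agent.H8Lim.FibreDimVanish
import Groth.Agent.Clifford24.Lipman.GG

/-!
# Modifications of the spectrum of a two-dimensional domain
-/

set_option autoImplicit false
set_option backward.isDefEq.respectTransparency.types false
universe u
open CategoryTheory CategoryTheory.Limits AlgebraicGeometry

namespace Groth.Agent.Resolve13

variable {A : Type u} [CommRing A]

/-- The local rings of `Spec A` have dimension at most `dim A`. -/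
theorem ringKrullDim_stalk_spec_le {n : WithBot ℕ∞} (hdim : ringKrullDim A ≤ n)
    (y : Spec (CommRingCat.of A)) : ringKrullDim ((Spec (CommRingCat.of A)).presheaf.stalk y) ≤ n := by
  letI : Algebra A ((Spec (CommRingCat.of A)).presheaf.stalk y) := StructureSheaf.stalkAlgebra A y
  haveI : IsLocalization.AtPrime ((Spec (CommRingCat.of A)).presheaf.stalk y) (y : PrimeSpectrum A).asIdeal :=
    StructureSheaf.IsLocalization.to_stalk A y
  rw [IsLocalization.AtPrime.ringKrullDim_eq_height (y : PrimeSpectrum A).asIdeal]
  exact (Ideal.height_le_ringKrullDim_of_ne_top ((y : PrimeSpectrum A).isPrime.ne_top)).trans hdim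

variable [IsDomain A] [IsNoetherianRing A] {X : Scheme.{u}} [IsIntegral X]
  (f : X ⟶ Spec (CommRingCat.of A)) [IsProper f]

/-- The fibres of a modification of a surface have dimension at most one. -/
theorem fiber_dim_le_one_of_modification (hdim : ringKrullDim A ≤ 2)
    (hbir : ∃ U : (Spec (CommRingCat.of A)).Opens,
      (U : Set (Spec (CommRingCat.of A))).Nonempty ∧ IsIso (f ∣_ U)) (y : Spec (CommRingCat.of A)) :
    topologicalKrullDim ↥(f.fiber y) ≤ ((1 : ℕ) : WithBot ℕ∞) := by
  obtain ⟨U, hUne, hU⟩ := hbir
  obtain ⟨hξ, hb⟩ := Coherent.birational_of_isIso_morphismRestrict f U hUne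
  exact Modification.fiber_dim_le_one f hξ hb (ringKrullDim_stalk_spec_le hdim)
    ((ringKrullDim_eq_zero_of_field (Spec (CommRingCat.of A)).functionField).le.trans zero_le_one) y

/-- Quasi-coherent modules on a modification of a surface have no cohomology above degree one. -/
theorem subsingleton_HH_of_modification (hdim : ringKrullDim A ≤ 2)
    (hbir : ∃ U : (Spec (CommRingCat.of A)).Opens,
      (U : Set (Spec (CommRingCat.of A))).Nonempty ∧ IsIso (f ∣_ U))
    (F : X.Modules) [Coh.IsQCoh F] (p : ℕ) (hp : 2 ≤ p) : Subsingleton (Coh.HH X F p) :=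
  H8Lim.subsingleton_HH_of_fibre_dim f 1 (fiber_dim_le_one_of_modification f hdim hbir) F p hp

/-- If `H¹(O) = 0` then globally generated quasi-coherent modules have no `H¹`. -/
theorem subsingleton_H1_of_globallyGenerated (hdim : ringKrullDim A ≤ 2)
    (hbir : ∃ U : (Spec (CommRingCat.of A)).Opens,
      (U : Set (Spec (CommRingCat.of A))).Nonempty ∧ IsIso (f ∣_ U))
    (h1 : Subsingleton (Coh.HH X (Coh.structureModule X) 1))
    (F : X.Modules) (hF : Coh.IsQCoh F) (hgg : Curv2.IsGloballyGenerated F) :
    Subsingleton (Coh.HH X F 1) := by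
  haveI : IsLocallyNoetherian X := LocallyOfFiniteType.isLocallyNoetherian f
  haveI : CompactSpace X := QuasiCompact.compactSpace_of_compactSpace f
  haveI : AlgebraicGeometry.IsNoetherian X := {}
  obtain ⟨ι, p, hp⟩ := hgg
  haveI : Coh.IsQCoh (SheafOfModules.free ι : X.Modules) :=
    SerreDual.isQCoh_colimit X _ fun _ => Coherent.isQCoh_structureModule
  exact @Lipman24.subsingleton_H1_of_epi X
    (fun M hM => haveI := hM; subsingleton_HH_of_modification f hdim hbir M 2 le_rfl)
    (SheafOfModules.free ι) F inferInstance hF p hp (subsingleton_HH_free 1 ι h1)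

end Groth.Agent.Resolve13
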