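import Groth.Agent.Coherent.BiratCodimTwo
import Groth.Agent.CommAlg4.SupportZero
import Mathlib

/-!
# Fibres of modifications of a two-dimensional local domain
-/

set_option autoImplicit false
set_option backward.isDefEq.respectTransparency.types false
universe u
open CategoryTheory AlgebraicGeometry TopologicalSpace

namespace Groth.Agent.Resolve13.Modification

/-- A space of dimension at most `n` when no chain of `n + 2` points exists. -/
theorem dim_le_one {α : Type u} [TopologicalSpace α] [QuasiSober α] [T0Space α]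
    (h : ∀ a b c : α, a ⤳ b → b ⤳ c → a ≠ b → b ≠ c → False) : topologicalKrullDim α ≤ 1 := by
  refine iSup_le fun l => ?_
  by_contra hl
  have hlen : 2 ≤ l.length := by
    by_contra h2
    exact hl (by exact_mod_cast (by omega : l.length ≤ 1))
  let pt : IrreducibleCloseds α → α := fun s => s.2.genericPoint
  have hgen : ∀ s : IrreducibleCloseds α, IsGenericPoint (pt s) (s : Set α) := fun s => by
    have := s.2.isGenericPoint_genericPoint_closure
    rwa [s.3.closure_eq] at this
  have key : ∀ s t : IrreducibleCloseds α, s < t → pt t ⤳ pt s ∧ pt t ≠ pt s := by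
    intro s t hst
    refine ⟨(hgen t).specializes (hst.le (hgen s).mem), fun e => hst.ne ?_⟩
    exact IrreducibleCloseds.ext ((hgen s).def.symm.trans ((congrArg (fun x => closure {x}) e.symm).trans (hgen t).def))
  obtain ⟨h01, h01'⟩ := key (l ⟨0, by omega⟩) (l ⟨1, by omega⟩) (l.strictMono (Fin.mk_lt_mk.2 Nat.zero_lt_one))
  obtain ⟨h12, h12'⟩ := key (l ⟨1, by omega⟩) (l ⟨2, by omega⟩) (l.strictMono (Fin.mk_lt_mk.2 Nat.one_lt_two))
  exact h _ _ _ h12 h01 h12' h01'

variable {X Y : Scheme.{u}} [IsIntegral X] [IsIntegral Y] (f : X ⟶ Y)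

/-- Proper specialisation is strict inclusion of primes on an affine open. -/
theorem primeIdealOf_lt {W : X.Opens} (hW : IsAffineOpen W) {z w : X} (hz : z ∈ W) (hw : w ∈ W)
    (hs : z ⤳ w) (hne : z ≠ w) :
    (hW.primeIdealOf ⟨z, hz⟩).asIdeal < (hW.primeIdealOf ⟨w, hw⟩).asIdeal := by
  refine lt_of_le_of_ne ?_ fun e => hne ?_
  · show hW.primeIdealOf ⟨z, hz⟩ ≤ hW.primeIdealOf ⟨w, hw⟩
    rw [PrimeSpectrum.le_iff_specializes]
    refine hW.fromSpec.isOpenEmbedding.isInducing.specializes_iff.1 ?_
    rw [hW.fromSpec_primeIdealOf, hW.fromSpec_primeIdealOf]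
    exact hs
  · have := congrArg (fun p => hW.fromSpec p)
      (PrimeSpectrum.ext e : hW.primeIdealOf ⟨z, hz⟩ = hW.primeIdealOf ⟨w, hw⟩)
    simpa only [hW.fromSpec_primeIdealOf] using this

/-- A space without proper specialisations has dimension zero. -/
theorem dim_le_zero {α : Type u} [TopologicalSpace α] [QuasiSober α] [T0Space α]
    (h : ∀ a b : α, a ⤳ b → a = b) : topologicalKrullDim α ≤ 0 := by
  refine iSup_le fun l => ?_
  by_contra hl
  have hlen : 1 ≤ l.length := by
    by_contra h2
    exact hl (by exact_mod_cast (by omega : l.length ≤ 0))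
  have hst := l.strictMono (show (⟨0, by omega⟩ : Fin (l.length + 1)) < ⟨1, by omega⟩ from Fin.mk_lt_mk.2 Nat.zero_lt_one)
  generalize l ⟨0, by omega⟩ = s, l ⟨1, by omega⟩ = t at hst
  have hs := s.2.isGenericPoint_genericPoint_closure
  have ht := t.2.isGenericPoint_genericPoint_closure
  rw [s.3.closure_eq] at hs; rw [t.3.closure_eq] at ht
  have e := h _ _ (ht.specializes (hst.le hs.mem))
  exact hst.ne (IrreducibleCloseds.ext (hs.def.symm.trans ((congrArg (fun x => closure {x}) e.symm).trans ht.def)))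

/-- Heights do not grow along a birational morphism of finite type. -/
theorem height_primeIdealOf_le [IsLocallyNoetherian Y] [LocallyOfFiniteType f]
    (hξ : f (genericPoint X) = genericPoint Y)
    (hbir : Function.Bijective (f.stalkMap (genericPoint X))) (x : X) :
    ∃ (W : X.Opens) (hW : IsAffineOpen W) (hxW : x ∈ W),
      ((hW.primeIdealOf ⟨x, hxW⟩).asIdeal.height : WithBot ℕ∞) ≤ ringKrullDim (Y.presheaf.stalk (f x)) := by
  obtain ⟨_, ⟨U, hU, rfl⟩, hyU, -⟩ :=
    Y.isBasis_affineOpens.exists_subset_of_mem_open (Set.mem_univ (f x)) isOpen_univ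
  let U' : Y.Opens := U
  obtain ⟨_, ⟨W, hW, rfl⟩, hxW, hWU⟩ :=
    X.isBasis_affineOpens.exists_subset_of_mem_open (show x ∈ f ⁻¹ᵁ U' from hyU) (f ⁻¹ᵁ U').2
  refine ⟨W, hW, hxW, ?_⟩
  have : Nonempty W := ⟨⟨x, hxW⟩⟩
  have : Nonempty U' := ⟨⟨f x, hyU⟩⟩
  let φ := f.appLE U' W hWU
  algebraize [φ.hom]
  have : Algebra.FiniteType Γ(Y, U') Γ(X, W) := f.finiteType_appLE hU hW hWU
  have : IsNoetherianRing Γ(Y, U') := IsLocallyNoetherian.component_noetherian ⟨U', hU⟩
  have hinj : Function.Injective φ := by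
    intro c d h
    have hgW : genericPoint X ∈ W :=
      (genericPoint_spec X).mem_open_set_iff W.2 |>.mpr (by simpa using ⟨x, hxW⟩)
    apply germ_injective_of_isIntegral Y (f (genericPoint X)) (hWU hgW)
    apply hbir.1
    rw [f.germ_stalkMap_apply, f.germ_stalkMap_apply]
    have := congrArg (X.presheaf.germ W _ hgW) h
    simp only [φ, Scheme.Hom.appLE, CommRingCat.comp_apply] at this
    rwa [TopCat.Presheaf.germ_res_apply, TopCat.Presheaf.germ_res_apply] at this
  have : FaithfulSMul Γ(Y, U') Γ(X, W) := (faithfulSMul_iff_algebraMap_injective _ _).mpr hinj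
  have : Algebra.IsAlgebraic Γ(Y, U') Γ(X, W) := by
    refine ⟨fun s => ?_⟩
    obtain ⟨a, b, hb, hab⟩ : ∃ a b : Γ(Y, U'), b ≠ 0 ∧
        s * algebraMap Γ(Y, U') Γ(X, W) b = algebraMap Γ(Y, U') Γ(X, W) a :=
      Coherent.isAlgebraic_appLE f hξ hbir (U := U') hU hWU s
    refine ⟨Polynomial.C b * Polynomial.X - Polynomial.C a, fun h => hb ?_, ?_⟩
    · simpa [Polynomial.coeff_C, Polynomial.coeff_C_mul] using congrArg (Polynomial.coeff · 1) h
    · simp only [map_sub, map_mul, Polynomial.aeval_C, Polynomial.aeval_X]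
      rw [sub_eq_zero, mul_comm]
      exact hab
  let p := (hU.primeIdealOf ⟨f x, hyU⟩).asIdeal
  let q := hW.primeIdealOf ⟨x, hxW⟩
  have hq : q.asIdeal.LiesOver p := ⟨by
    have h1 := IsAffineOpen.comap_primeIdealOf_appLE (f := f) (x := x) U' hU W hW hWU hxW
    simp only [p, q, ← h1]
    rfl⟩
  have := hU.isLocalization_stalk ⟨f x, hyU⟩
  let := Y.presheaf.algebra_section_stalk (⟨f x, hyU⟩ : U')
  rw [IsLocalization.AtPrime.ringKrullDim_eq_height p (Y.presheaf.stalk (⟨f x, hyU⟩ : U').1)]
  exact WithBot.coe_le_coe.mpr (DimLib.height_le_of_isAlgebraic p q.asIdeal)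

/-- The fibres have dimension at most one. -/
theorem fiber_dim_le_one [IsLocallyNoetherian Y] [LocallyOfFiniteType f]
    (hξ : f (genericPoint X) = genericPoint Y)
    (hbir : Function.Bijective (f.stalkMap (genericPoint X)))
    (hY : ∀ y : Y, ringKrullDim (Y.presheaf.stalk y) ≤ 2)
    (hη : ringKrullDim (Y.presheaf.stalk (genericPoint Y)) ≤ 1) (y : Y) :
    topologicalKrullDim ↥(f.fiber y) ≤ 1 := by
  refine dim_le_one fun a b c hab hbc hab' hbc' => ?_
  let ι := f.fiberι y
  have hmem : ∀ z, f (ι z) = y := fun z => (f.range_fiberι y).le ⟨z, rfl⟩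
  obtain ⟨W, hW, hcW, hle⟩ := height_primeIdealOf_le f hξ hbir (ι c)
  rw [hmem] at hle
  have hbW : ι b ∈ W := (hbc.map ι.continuous).mem_open W.2 hcW
  have haW : ι a ∈ W := (hab.map ι.continuous).mem_open W.2 hbW
  have : Nonempty W := ⟨⟨_, hcW⟩⟩
  let Q := fun (z : X) (hz : z ∈ W) => (hW.primeIdealOf ⟨z, hz⟩).asIdeal
  have hlt : ∀ (z w : X) (hz : z ∈ W) (hw : w ∈ W), z ⤳ w → z ≠ w → Q z hz < Q w hw :=
    fun z w hz hw => primeIdealOf_lt hW hz hw
  have hinj := ι.isEmbedding.injective
  have h1 := Ideal.height_add_one_le_of_lt_of_isPrime (hlt _ _ haW hbW (hab.map ι.continuous) (hinj.ne hab'))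
  have h2 := Ideal.height_add_one_le_of_lt_of_isPrime (hlt _ _ hbW hcW (hbc.map ι.continuous) (hinj.ne hbc'))
  have hfin : (Q (ι a) haW).height + 2 ≤ (Q (ι c) hcW).height := by
    rw [← one_add_one_eq_two, ← add_assoc]
    exact (add_le_add h1 le_rfl).trans h2
  by_cases hy : y = genericPoint Y
  · have h3 := (WithBot.coe_le_coe.2 hfin).trans (hle.trans ((le_of_eq (by rw [hy])).trans hη))
    have : ((Q (ι a) haW).height + 2 : ℕ∞) ≤ 1 := WithBot.coe_le_coe.1 h3
    exact absurd ((le_add_self : (2 : ℕ∞) ≤ _).trans this) (by decide)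
  · have hne : ι a ≠ genericPoint X := fun e => hy ((hmem a).symm.trans (by rw [e, hξ]))
    have hpos : 1 ≤ (Q (ι a) haW).height := by
      have hg : genericPoint X ∈ W := (genericPoint_specializes (ι a)).mem_open W.2 haW
      exact le_add_self.trans (Ideal.height_add_one_le_of_lt_of_isPrime
        (hlt _ _ hg haW (genericPoint_specializes _) hne.symm))
    have h3 := WithBot.coe_le_coe.1 ((WithBot.coe_le_coe.2 ((add_le_add hpos le_rfl).trans hfin)).trans (hle.trans (hY y)))
    exact absurd h3 (by decide)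

/-- The dimension of local rings does not grow along birational morphisms of finite type. -/
theorem ringKrullDim_stalk_le [IsLocallyNoetherian Y] [LocallyOfFiniteType f]
    (hξ : f (genericPoint X) = genericPoint Y)
    (hbir : Function.Bijective (f.stalkMap (genericPoint X))) (x : X) :
    ringKrullDim (X.presheaf.stalk x) ≤ ringKrullDim (Y.presheaf.stalk (f x)) := by
  obtain ⟨W, hW, hxW, hle⟩ := height_primeIdealOf_le f hξ hbir x
  have := hW.isLocalization_stalk ⟨x, hxW⟩
  let := X.presheaf.algebra_section_stalk (⟨x, hxW⟩ : W)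
  exact (IsLocalization.AtPrime.ringKrullDim_eq_height _ (X.presheaf.stalk (⟨x, hxW⟩ : W).1)).le.trans hle

/-- The generic point is the only point over the generic point. -/
theorem eq_genericPoint [IsLocallyNoetherian Y] [LocallyOfFiniteType f]
    (hξ : f (genericPoint X) = genericPoint Y)
    (hbir : Function.Bijective (f.stalkMap (genericPoint X))) (x : X) (hx : f x = genericPoint Y) :
    x = genericPoint X := by
  obtain ⟨W, hW, hxW, hle⟩ := height_primeIdealOf_le f hξ hbir x
  by_contra hne
  have hg : genericPoint X ∈ W := (genericPoint_specializes x).mem_open W.2 hxW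
  have h1 := le_add_self.trans (Ideal.height_add_one_le_of_lt_of_isPrime
    (primeIdealOf_lt hW hg hxW (genericPoint_specializes x) (Ne.symm hne)))
  rw [hx] at hle
  have h0 : ringKrullDim (Y.presheaf.stalk (genericPoint Y)) ≤ 0 :=
    (ringKrullDim_eq_zero_of_field Y.functionField).le
  exact absurd (WithBot.coe_le_coe.1 ((WithBot.coe_le_coe.2 h1).trans (hle.trans h0))) (by decide)

/-- Over a two-dimensional target the exceptional points are finitely many closed points. -/
theorem exists_finite_exceptional [IsNoetherian Y] [IsProper f]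
    (hξ : f (genericPoint X) = genericPoint Y)
    (hbir : Function.Bijective (f.stalkMap (genericPoint X)))
    (hY : ∀ y : Y, ringKrullDim (Y.presheaf.stalk y) ≤ 2) :
    ∃ Z : Set Y, Z.Finite ∧ (∀ y ∈ Z, IsClosed ({y} : Set Y)) ∧
      ∀ y, y ∉ Z → topologicalKrullDim ↥(f.fiber y) ≤ 0 := by
  let G : Set Y := {y | (f ⁻¹' {y}).Finite}
  -- points with finite fibre form an open set
  have hGo : IsOpen G := by
    rw [isOpen_iff_forall_mem_open]
    intro y hy
    obtain ⟨W, hyW, hW⟩ := exists_isFinite_morphismRestrict_of_finite_preimage_singleton f y hy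
    refine ⟨W, fun z hz => ?_, W.2, hyW⟩
    refine (((f ∣_ W).finite_preimage_singleton ⟨z, hz⟩).image Subtype.val).subset fun x hx => ?_
    have hxW : x ∈ f ⁻¹ᵁ W := by show f x ∈ W; rw [show f x = z from hx]; exact hz
    exact ⟨⟨x, hxW⟩, Subtype.ext ((morphismRestrict_base_coe f W ⟨x, hxW⟩).trans hx), rfl⟩
  have hdisc : ∀ y : Y, (∀ a b : X, f a = y → f b = y → a ⤳ b → a = b) → y ∈ G := by
    intro y hy
    have : LocallyOfFiniteType (f.fiberToSpecResidueField y) :=
      (inferInstance : LocallyOfFiniteType (Limits.pullback.snd f (Y.fromSpecResidueField y)))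
    have : IsLocallyNoetherian (f.fiber y) :=
      LocallyOfFiniteType.isLocallyNoetherian (f.fiberToSpecResidueField y)
    have : IsNoetherian (f.fiber y) := { }
    have hmem : ∀ z, f (f.fiberι y z) = y := fun z => (f.range_fiberι y).le ⟨z, rfl⟩
    have hd : topologicalKrullDim (Set.univ : Set ↥(f.fiber y)) ≤ 0 := by
      rw [(Homeomorph.Set.univ _).isHomeomorph.topologicalKrullDim_eq]
      exact dim_le_zero fun a b hab => (f.fiberι y).isEmbedding.injective
        (hy _ _ (hmem a) (hmem b) (hab.map (f.fiberι y).continuous))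
    have := ((CommAlg4.finite_and_isClosed_singleton_of_dim_le_zero isClosed_univ hd).1).image (f.fiberι y)
    rwa [Set.image_univ, f.range_fiberι] at this
  have hηG : genericPoint Y ∈ G := hdisc _ fun a b ha hb _ => by
    rw [eq_genericPoint f hξ hbir a ha, eq_genericPoint f hξ hbir b hb]
  have hcl : ∀ a b : Y, a ∉ G → a ⤳ b → a = b := by
    intro a b ha hab
    by_contra hne
    refine ha (hdisc a fun p q hp hq hpq => Coherent.eq_of_specializes_of_dim_le_one f hξ hbir a
      (fun e => ha (e ▸ hηG)) ?_ p q hp hq hpq)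
    obtain ⟨W, hW, hbW, -⟩ := exists_isAffineOpen_mem_and_subset (x := b) (U := (⊤ : Y.Opens)) trivial
    have haW : a ∈ W := hab.mem_open W.2 hbW
    have h1 := Ideal.height_add_one_le_of_lt_of_isPrime (primeIdealOf_lt hW haW hbW hab hne)
    have hst : ∀ (z : Y) (hz : z ∈ W), ringKrullDim (Y.presheaf.stalk z) =
        ((hW.primeIdealOf ⟨z, hz⟩).asIdeal.height : WithBot ℕ∞) := fun z hz => by
      have := hW.isLocalization_stalk ⟨z, hz⟩
      let := Y.presheaf.algebra_section_stalk (⟨z, hz⟩ : W)
      exact IsLocalization.AtPrime.ringKrullDim_eq_height _ (Y.presheaf.stalk (⟨z, hz⟩ : W).1)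
    have h2 := WithBot.coe_le_coe.1 ((hst b hbW).symm.le.trans (hY b))
    rw [hst a haW]
    refine WithBot.coe_le_coe.2 ?_
    exact WithTop.le_of_add_le_add_right WithTop.one_ne_top ((h1.trans h2).trans_eq one_add_one_eq_two.symm)
  have hd : topologicalKrullDim ↥(Gᶜ) ≤ 0 := by
    have : QuasiSober ↥(Gᶜ) := hGo.isClosed_compl.isClosedEmbedding_subtypeVal.quasiSober
    exact dim_le_zero fun a b hab => Subtype.ext (hcl a.1 b.1 a.2 (hab.map continuous_subtype_val))
  obtain ⟨h1, h2⟩ := CommAlg4.finite_and_isClosed_singleton_of_dim_le_zero hGo.isClosed_compl hd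
  refine ⟨Gᶜ, h1, h2, fun y hy => ?_⟩
  have : Finite ↥(f.fiber y) := by
    have := (not_not.1 hy : (f ⁻¹' {y}).Finite).to_subtype
    exact Finite.of_equiv _ (f.fiberHomeo y).symm.toEquiv
  have : LocallyOfFiniteType (f.fiberToSpecResidueField y) :=
    (inferInstance : LocallyOfFiniteType (Limits.pullback.snd f (Y.fromSpecResidueField y)))
  have : JacobsonSpace ↥(f.fiber y) := LocallyOfFiniteType.jacobsonSpace (f.fiberToSpecResidueField y)
  exact dim_le_zero fun a b hab => hab.eq

end Groth.Agent.Resolve13.Modification
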