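import Groth.Agent.NormalizationLib.Finite
import Groth.Agent.BMLib.NormBirat
import Groth.Agent.Resolve13.CurveBlowUp

/-! Normal modifications by normalization over Nagata rings, and blow-ups of integral schemes. -/

set_option autoImplicit false
set_option backward.isDefEq.respectTransparency.types false

universe u

open CategoryTheory CategoryTheory.Limits AlgebraicGeometry TopologicalSpace IsLocalRing

namespace Groth.Agent.Resolve13

open Groth.Agent.NormalizationLib

variable {X : Scheme.{u}} [AlgebraicGeometry.IsIntegral X] {K : Type u} [Field K] (φ : X.functionField →+* K)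
  (g : Spec (CommRingCat.of K) ⟶ X)
  (hg : g = Spec.map (CommRingCat.ofHom φ) ≫ X.fromSpecStalk (genericPoint X)) [QuasiCompact g] [QuasiSeparated g]

include hg in
/-- The normalization of a scheme of finite type over a Nagata ring in a finite extension of its function field is finite. -/
theorem isFinite_fromNormalization_of_isNagata (k : Type u) [CommRing k] (hk : CAlg.IsNagata k)
    (s : X ⟶ Spec (CommRingCat.of k))
    [LocallyOfFiniteType s] (hφ : φ.Finite) : IsFinite g.fromNormalization := by
  refine { finite_app := fun U hU ↦ ?_ }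
  rcases isEmpty_or_nonempty U with hemp | hne
  · have hbot : g.fromNormalization ⁻¹ᵁ U = ⊥ := by
      ext x
      exact ⟨fun hx ↦ (hemp.false ⟨_, hx⟩).elim, fun hx ↦ hx.elim⟩
    have : Subsingleton Γ(g.normalization, g.fromNormalization ⁻¹ᵁ U) := by
      rw [hbot]; infer_instance
    exact RingHom.Finite.of_surjective _ fun y ↦ ⟨0, Subsingleton.elim _ _⟩
  let c : k →+* Γ(X, U) :=
    (s.appLE ⊤ U le_top).hom.comp (Scheme.ΓSpecIso (CommRingCat.of k)).inv.hom
  have hc : c.FiniteType := (s.finiteType_appLE (isAffineOpen_top _) hU le_top).comp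
    (RingHom.FiniteType.of_surjective _
      (ConcreteCategory.bijective_of_isIso (Scheme.ΓSpecIso (CommRingCat.of k)).inv).2)
  let := c.toAlgebra
  have : Algebra.FiniteType k Γ(X, U) := hc
  have hN := Groth.Agent.CAlgH.isNagata_of_finiteType hk Γ(X, U)
  have hN2 : CAlg.IsN2 Γ(X, U) := Groth.Agent.CAlgH.isN2_of_ringEquiv
    (RingEquiv.quotientBot Γ(X, U)) (hN.2 ⊥)
  let := (toK φ U).toAlgebra
  let := φ.toAlgebra
  have : IsScalarTower Γ(X, U) X.functionField K := IsScalarTower.of_algebraMap_eq fun _ ↦ rfl
  have := functionField_isFractionRing_of_isAffineOpen X U hU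
  let e := FractionRing.algEquiv Γ(X, U) X.functionField
  let := (φ.comp e.toRingEquiv.toRingHom).toAlgebra
  have : IsScalarTower Γ(X, U) (FractionRing Γ(X, U)) K := IsScalarTower.of_algebraMap_eq fun a ↦ by
    show _ = φ (e (algebraMap _ _ a))
    rw [e.commutes]; rfl
  have : FiniteDimensional (FractionRing Γ(X, U)) K :=
    (hφ.comp (RingHom.Finite.of_surjective e.toRingEquiv.toRingHom e.surjective) :)
  have hfin := hN2 K inferInstance
  let := (g.fromNormalization.app U).hom.toAlgebra
  let θ : Γ(g.normalization, g.fromNormalization ⁻¹ᵁ U) →ₐ[Γ(X, U)] integralClosure Γ(X, U) K :=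
    { (normToK φ g hg U hU).hom.codRestrict (integralClosure Γ(X, U) K).toSubring
        fun v ↦ (mem_range_normToK φ g hg U hU _).mp ⟨v, rfl⟩ with
      commutes' := fun a ↦ Subtype.ext (normToK_fromNormalization φ g hg U hU a) }
  have hθ : Function.Bijective θ := ⟨fun a b h ↦ injective_normToK φ g hg U hU (congrArg Subtype.val h),
    fun y ↦ by
      obtain ⟨v, hv⟩ := (mem_range_normToK φ g hg U hU _).mpr y.2
      exact ⟨v, Subtype.ext hv⟩⟩
  exact RingHom.finite_algebraMap.mpr (Module.Finite.equiv (AlgEquiv.ofBijective θ hθ).toLinearEquiv.symm)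

/-- An integral scheme of finite type over a Nagata ring has a finite birational map from a normal integral scheme. -/
theorem exists_finite_normalization {A : Type u} [CommRing A] (hA : CAlg.IsNagata A) {Y : Scheme.{u}}
    [AlgebraicGeometry.IsIntegral Y] (s : Y ⟶ Spec (CommRingCat.of A)) [LocallyOfFiniteType s] [IsLocallyNoetherian Y]
    [QuasiCompact (Y.fromSpecStalk (genericPoint Y))] [QuasiSeparated (Y.fromSpecStalk (genericPoint Y))] :
    ∃ (Y' : Scheme.{u}) (ν : Y' ⟶ Y), IsFinite ν ∧ AlgebraicGeometry.IsIntegral Y' ∧ Pi1.IsNormalScheme Y' ∧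
      ∃ V : Y.Opens, (V : Set Y).Nonempty ∧ IsIso (ν ∣_ V) := by
  have hg : Y.fromSpecStalk (genericPoint Y) =
      Spec.map (CommRingCat.ofHom (RingHom.id Y.functionField)) ≫ Y.fromSpecStalk (genericPoint Y) := by
    rw [show CommRingCat.ofHom (RingHom.id Y.functionField) = 𝟙 _ from rfl, Spec.map_id, Category.id_comp]
  haveI : IsFinite (Curv2.normalizationι Y) :=
    isFinite_fromNormalization_of_isNagata (RingHom.id Y.functionField) (Y.fromSpecStalk (genericPoint Y)) hg A hA s
      (RingHom.Finite.id _)
  obtain ⟨U, hU, hiso⟩ := BMLib.exists_isIso_normalization (X := Y)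
  haveI hint : AlgebraicGeometry.IsIntegral (Curv2.normalization Y) :=
    inferInstanceAs (AlgebraicGeometry.IsIntegral (Y.fromSpecStalk (genericPoint Y)).normalization)
  exact ⟨_, Curv2.normalizationι Y, inferInstance, hint,
    NormalizationLib.isNormal (RingHom.id Y.functionField) (Y.fromSpecStalk (genericPoint Y)) hg,
    U, hU.nonempty, hiso⟩

end Groth.Agent.Resolve13
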