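import Groth.Agent.S1650
import Groth.Agent.S1274
import Groth.Agent.SDiv28.BlowUp
import Groth.Agent.CAlgSmall.NormalFactor
import Groth.Agent.Resolve13.NormModif
import Groth.Agent.Resolve13.Modification
import Groth.Agent.AlgSpLib.EffCartierSub
import Groth.Agent.BMLib.PointIso
import Mathlib

/-!
# Normalised blow-ups of ideals of a domain, and ideals of a birational extension
-/

set_option autoImplicit false
set_option backward.isDefEq.respectTransparency.types false
universe u
open CategoryTheory CategoryTheory.Limits AlgebraicGeometry TopologicalSpace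

namespace Groth.Agent.Resolve13.RatExt

variable {A B : Type u} [CommRing A] [CommRing B]

theorem toGlobal_comp (φ : A →+* B) {T : Scheme.{u}} (p : T ⟶ Spec (CommRingCat.of B)) (a : A) :
    Coh.toGlobal (p ≫ Spec.map (CommRingCat.ofHom φ)) a = Coh.toGlobal p (φ a) :=
  congrArg p.appTop
    (ConcreteCategory.congr_hom (Scheme.ΓSpecIso_inv_naturality (CommRingCat.ofHom φ)).symm a)

theorem idealSheaf_comap_comp (φ : A →+* B) {T : Scheme.{u}} (p : T ⟶ Spec (CommRingCat.of B)) (J : Ideal A) :
    (Curv2.idealSheaf A J).comap (p ≫ Spec.map (CommRingCat.ofHom φ)) =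
      (Curv2.idealSheaf B (J.map φ)).comap p := by
  refine Scheme.IdealSheafData.ext (funext fun W => ?_)
  rw [S7299.ideal_comap_eq, S7299.ideal_comap_eq, Ideal.map_map]
  congr 1
  exact RingHom.ext fun a => congrArg (ModPairLib.res (le_top : W.1 ≤ ⊤)) (toGlobal_comp φ p a)

theorem idealSheaf_comap_mul {T : Scheme.{u}} (p : T ⟶ Spec (CommRingCat.of A)) (I J : Ideal A) :
    (Curv2.idealSheaf A (I * J)).comap p =
      (Curv2.idealSheaf A I).comap p * (Curv2.idealSheaf A J).comap p := by
  refine Scheme.IdealSheafData.ext (funext fun W => ?_)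
  rw [SDiv28.mul_ideal, S7299.ideal_comap_eq, S7299.ideal_comap_eq, S7299.ideal_comap_eq, Ideal.map_mul]

theorem ideal_top (I : Ideal A) :
    (Curv2.idealSheaf A I).ideal ⟨⊤, isAffineOpen_top _⟩ =
      I.map (Scheme.ΓSpecIso (CommRingCat.of A)).inv.hom := by
  show (I.map (Scheme.ΓSpecIso (CommRingCat.of A)).inv.hom).map
      ((Spec (CommRingCat.of A)).presheaf.map (homOfLE le_top).op).hom = _
  rw [show (homOfLE (le_top : (⊤ : (Spec (CommRingCat.of A)).Opens) ≤ ⊤)).op = 𝟙 _ from rfl, CategoryTheory.Functor.map_id]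
  exact Ideal.map_id _

theorem exists_eq_idealSheaf (K : (Spec (CommRingCat.of A)).IdealSheafData) :
    ∃ J : Ideal A, K = Curv2.idealSheaf A J := by
  refine ⟨(K.ideal ⟨⊤, isAffineOpen_top _⟩).map (Scheme.ΓSpecIso (CommRingCat.of A)).hom.hom,
    Scheme.IdealSheafData.ext_of_isAffine ?_⟩
  rw [ideal_top, Ideal.map_map, ← CommRingCat.hom_comp, Iso.hom_inv_id, CommRingCat.hom_id]
  exact (Ideal.map_id _).symm

theorem idealSheaf_ne_bot [IsDomain A] {I : Ideal A} (hI : I ≠ ⊥) : Curv2.idealSheaf A I ≠ ⊥ := fun h => by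
  have h1 : I.map (Scheme.ΓSpecIso (CommRingCat.of A)).inv.hom = ⊥ := by
    rw [← ideal_top, h]; rfl
  rw [Ideal.map_eq_bot_iff_of_injective
    (ConcreteCategory.bijective_of_isIso (Scheme.ΓSpecIso (CommRingCat.of A)).inv).1] at h1
  exact hI h1

theorem isEff_comap_span [IsDomain A] {T : Scheme.{u}} [IsIntegral T] (p : T ⟶ Spec (CommRingCat.of A))
    (hp : p (genericPoint T) = genericPoint (Spec (CommRingCat.of A))) {c : A} (hc : c ≠ 0) :
    BlowUp.IsEffCartierIdeal ((Curv2.idealSheaf A (Ideal.span {c})).comap p) := by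
  refine S1650.isEff_comap p hp (AlgSpLib.isEffCartierIdeal_of_span
    (f := (Scheme.ΓSpecIso (CommRingCat.of A)).inv.hom c) (mem_nonZeroDivisors_of_ne_zero ?_) ?_)
  · exact (map_ne_zero_iff _
      (ConcreteCategory.bijective_of_isIso (Scheme.ΓSpecIso (CommRingCat.of A)).inv).1).2 hc
  · rw [ideal_top, Ideal.map_span, Set.image_singleton]

/-- An injective ring map sends the generic point to the generic point. -/
theorem specMap_genericPoint [IsDomain A] [IsDomain B] {φ : A →+* B} (hφ : Function.Injective φ) :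
    Spec.map (CommRingCat.ofHom φ) (genericPoint (Spec (CommRingCat.of B))) =
      genericPoint (Spec (CommRingCat.of A)) := by
  rw [genericPoint_eq_bot_of_affine, genericPoint_eq_bot_of_affine]
  exact PrimeSpectrum.ext (Ideal.comap_bot_of_injective φ hφ)

/-- Finitely many elements of a birational extension have a common denominator. -/
theorem exists_common_denominator [IsDomain A] (φ : A →+* B)
    (hfrac : ∀ b : B, ∃ a a' : A, a' ≠ 0 ∧ φ a' * b = φ a) (σ : Finset B) :
    ∃ s : A, s ≠ 0 ∧ ∀ b ∈ σ, ∃ a : A, φ a = φ s * b := by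
  classical
  induction σ using Finset.induction_on with
  | empty => exact ⟨1, one_ne_zero, fun b hb => absurd hb (Finset.notMem_empty b)⟩
  | insert c σ _ ih =>
    obtain ⟨s, hs, h⟩ := ih
    obtain ⟨a, a', ha', ha⟩ := hfrac c
    refine ⟨s * a', mul_ne_zero hs ha', fun b hb => ?_⟩
    rcases Finset.mem_insert.1 hb with rfl | hb
    · exact ⟨s * a, by rw [map_mul, map_mul, mul_assoc, ha]⟩
    · obtain ⟨r, hr⟩ := h b hb
      exact ⟨a' * r, by rw [map_mul, map_mul, hr]; ring⟩

/-- Composites of modifications are modifications. -/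
theorem exists_isIso_comp {S X X' : Scheme.{u}} [IsIntegral S] [IsIntegral X] [IsLocallyNoetherian S] (b : X ⟶ S)
    [IsProper b] (g : X' ⟶ X) (U : S.Opens) (hU : (U : Set S).Nonempty) [IsIso (b ∣_ U)] (V : X.Opens)
    (hV : (V : Set X).Nonempty) [IsIso (g ∣_ V)] :
    ∃ W : S.Opens, (W : Set S).Nonempty ∧ IsIso ((g ≫ b) ∣_ W) := by
  obtain ⟨hbη, hbb⟩ := Coherent.birational_of_isIso_morphismRestrict b U hU
  let U₁ : S.Opens := U ⊓ ⟨(b '' ((V : Set X)ᶜ))ᶜ, (b.isClosedMap _ V.isOpen.isClosed_compl).isOpen_compl⟩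
  have hηU₁ : genericPoint S ∈ U₁ := by
    refine ⟨(genericPoint_spec S).mem_open_set_iff U.2 |>.2 (by simpa using hU), fun ⟨y, hy, hby⟩ => hy ?_⟩
    rw [Resolve13.Modification.eq_genericPoint b hbη hbb y hby]
    exact (genericPoint_spec X).mem_open_set_iff V.2 |>.2 (by simpa using hV)
  have hle : b ⁻¹ᵁ U₁ ≤ V := fun y hy => by_contra fun h => hy.2 ⟨y, h, rfl⟩
  refine ⟨U₁, ⟨_, hηU₁⟩, ?_⟩
  have h1 : IsIso (b ∣_ U₁) := BMLib.isIso_restrict_of_le b (U := U) inf_le_left
  have h2 : IsIso (g ∣_ (b ⁻¹ᵁ U₁)) := BMLib.isIso_restrict_of_le g hle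
  rw [morphismRestrict_comp g b U₁]
  exact @IsIso.comp_isIso _ _ _ _ _ _ _ h2 h1

/-- The normalised blow-up of a nonzero ideal of a Noetherian Nagata domain. -/
theorem exists_normBlowUp [IsDomain A] [IsNoetherianRing A] (hN : CAlg.IsNagata A) (I : Ideal A) (hI : I ≠ ⊥) :
    ∃ (M : Scheme.{u}) (m : M ⟶ Spec (CommRingCat.of A)) (_ : IsIntegral M),
      IsProper m ∧ Pi1.IsNormalScheme M ∧
      (∃ U : (Spec (CommRingCat.of A)).Opens, (U : Set (Spec (CommRingCat.of A))).Nonempty ∧ IsIso (m ∣_ U)) ∧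
      BlowUp.IsEffCartierIdeal ((Curv2.idealSheaf A I).comap m) ∧
      ∀ (T : Scheme.{u}) [IsIntegral T], Pi1.IsNormalScheme T → ∀ t : T ⟶ Spec (CommRingCat.of A),
        t (genericPoint T) = genericPoint (Spec (CommRingCat.of A)) →
        BlowUp.IsEffCartierIdeal ((Curv2.idealSheaf A I).comap t) → ∃ h : T ⟶ M, h ≫ m = t := by
  let S := Spec (CommRingCat.of A)
  let 𝓘 : S.IdealSheafData := Curv2.idealSheaf A I
  obtain ⟨X, b, hb⟩ := BlowUpLib.exists_isBlowUp (X := S) (I := 𝓘)
  have hft : BlowUp.IsFiniteTypeIdeal 𝓘 := fun U => by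
    haveI : IsNoetherianRing Γ(S, U.1) := IsLocallyNoetherian.component_noetherian U
    exact IsNoetherian.noetherian _
  have hη : genericPoint S ∈ 𝓘.support.compl :=
    Resolve13.genericPoint_notMem_support 𝓘 (idealSheaf_ne_bot hI)
  haveI : IsIntegral X := Resolve13.isIntegral_blowUp hb hη
  haveI : IsProper b := BlowUpLib.isProper_of_isBlowUp hb hft
  haveI : IsLocallyNoetherian X := LocallyOfFiniteType.isLocallyNoetherian b
  haveI : CompactSpace X := QuasiCompact.compactSpace_of_compactSpace b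
  haveI : AlgebraicGeometry.IsNoetherian X := {}
  have hg : X.fromSpecStalk (genericPoint X) =
      Spec.map (CommRingCat.ofHom (RingHom.id X.functionField)) ≫ X.fromSpecStalk (genericPoint X) := by
    rw [show CommRingCat.ofHom (RingHom.id X.functionField) = 𝟙 _ from rfl, Spec.map_id, Category.id_comp]
  haveI : IsFinite (Curv2.normalizationι X) :=
    isFinite_fromNormalization_of_isNagata (RingHom.id X.functionField) (X.fromSpecStalk (genericPoint X)) hg A hN b
      (RingHom.Finite.id _)
  obtain ⟨V, hV, hiso⟩ := BMLib.exists_isIso_normalization (X := X)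
  haveI hint : AlgebraicGeometry.IsIntegral (Curv2.normalization X) :=
    inferInstanceAs (AlgebraicGeometry.IsIntegral (X.fromSpecStalk (genericPoint X)).normalization)
  haveI := SDiv28.isIso_off_center hb
  obtain ⟨hνη, -⟩ := Coherent.birational_of_isIso_morphismRestrict (Curv2.normalizationι X) V hV.nonempty
  obtain ⟨hbη, hbb⟩ := Coherent.birational_of_isIso_morphismRestrict b 𝓘.support.compl ⟨_, hη⟩
  refine ⟨Curv2.normalization X, Curv2.normalizationι X ≫ b, hint, inferInstance,
    NormalizationLib.isNormal (RingHom.id X.functionField) (X.fromSpecStalk (genericPoint X)) hg,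
    exists_isIso_comp b (Curv2.normalizationι X) 𝓘.support.compl ⟨_, hη⟩ V hV.nonempty, ?_, ?_⟩
  · rw [Scheme.IdealSheafData.comap_comp]
    exact S1650.isEff_comap _ hνη hb.1
  · intro T hT hTn t htη hte
    obtain ⟨h₀, hh₀, -⟩ := hb.2 T t hte
    have h₀η : h₀ (genericPoint T) = genericPoint X := by
      refine Resolve13.Modification.eq_genericPoint b hbη hbb _ ?_
      rw [← Scheme.Hom.comp_apply, hh₀, htη]
    have hgood : CAlgSmall.NormalFactor.Good h₀ := CAlgSmall.NormalFactor.good_of_normal h₀ hTn fun z hz => by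
      rw [irreducibleComponents_eq_singleton] at hz
      rw [show z = genericPoint T from ((genericPoint_spec T).eq (show IsGenericPoint z Set.univ from hz)).symm]
      exact h₀η
    obtain ⟨h, hh, -⟩ := CAlgSmall.NormalFactor.existsUnique_fac hgood
    exact ⟨h, by rw [← Category.assoc, hh, hh₀]⟩

end Groth.Agent.Resolve13.RatExt
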