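import Groth.Agent.S7338
import Groth.Agent.Resolve13.RatExt
import Groth.Agent.Resolve13.ModBase
import Groth.Agent.FlatMorAdm.BlowUpProj
import Groth.Agent.RelVALib.Finite

/-!
# Ideals extended from local rings, projective normalised blow-ups, and vanishing of `H¹` downstairs
-/

set_option autoImplicit false
set_option backward.isDefEq.respectTransparency.types false
universe u
open CategoryTheory CategoryTheory.Limits AlgebraicGeometry TopologicalSpace

namespace Groth.Agent.Resolve13.RatModif

theorem comap_map_of_isOpenImmersion {X Y : Scheme.{u}} (f : X ⟶ Y) [IsOpenImmersion f] [QuasiCompact f]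
    (J : X.IdealSheafData) : (J.map f).comap f = J := by
  refine Scheme.IdealSheafData.ext (funext fun U => ?_)
  have hpre : f ⁻¹ᵁ f ''ᵁ U.1 = U.1 := f.preimage_image_eq U.1
  rw [Scheme.IdealSheafData.ideal_comap_of_isOpenImmersion,
    Scheme.IdealSheafData.ideal_map _ _ _ (show IsAffineOpen (f ⁻¹ᵁ f ''ᵁ U.1) by rw [hpre]; exact U.2),
    Ideal.comap_comap, ← CommRingCat.hom_comp, Scheme.Hom.appIso_inv_app]
  have key : ∀ (V : X.Opens) (hV : IsAffineOpen V) (e : V = U.1),
      (J.ideal ⟨V, hV⟩).comap (X.presheaf.map (eqToHom e).op).hom = J.ideal U := by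
    rintro V hV rfl
    rw [eqToHom_refl, op_id, CategoryTheory.Functor.map_id, CommRingCat.hom_id, Ideal.comap_id]
  exact key _ _ hpre

/-- An ideal of a local ring is cut out by an ideal sheaf. -/
theorem exists_comap_fromSpecStalk {X : Scheme.{u}} [AlgebraicGeometry.IsNoetherian X] (x : X)
    (K : Ideal (X.presheaf.stalk x)) :
    ∃ J : X.IdealSheafData, ∀ (T : Scheme.{u}) (p : T ⟶ Spec (X.presheaf.stalk x)),
      J.comap (p ≫ X.fromSpecStalk x) = (Curv2.idealSheaf (X.presheaf.stalk x) K).comap p := by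
  obtain ⟨U, hU, hxU, -⟩ := exists_isAffineOpen_mem_and_subset (x := x) (U := ⊤) trivial
  haveI : QuasiCompact hU.fromSpec := inferInstance
  let γ := (X.presheaf.germ U x hxU).hom
  refine ⟨(Curv2.idealSheaf Γ(X, U) (K.comap γ)).map hU.fromSpec, fun T p => ?_⟩
  rw [← hU.fromSpecStalk_eq_fromSpecStalk hxU,
    show hU.fromSpecStalk hxU = Spec.map (CommRingCat.ofHom γ) ≫ hU.fromSpec from rfl,
    ← Category.assoc, Scheme.IdealSheafData.comap_comp]
  show (((Curv2.idealSheaf Γ(X, U) (K.comap γ)).map hU.fromSpec).comap hU.fromSpec).comap _ = _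
  rw [comap_map_of_isOpenImmersion]
  refine (RatExt.idealSheaf_comap_comp γ p (K.comap γ)).trans ?_
  letI := X.presheaf.algebra_section_stalk (⟨x, hxU⟩ : U)
  haveI := hU.isLocalization_stalk ⟨x, hxU⟩
  rw [show (K.comap γ).map γ = K from
    IsLocalization.map_comap (hU.primeIdealOf ⟨x, hxU⟩).asIdeal.primeCompl _ K]

/-- Normalised blow-ups of schemes of finite type over a Nagata ring. -/
theorem exists_normBlowUp_over {A : Type u} [CommRing A] [IsNoetherianRing A] (hN : CAlg.IsNagata A)
    {Y : Scheme.{u}} [IsIntegral Y] [AlgebraicGeometry.IsNoetherian Y] (s : Y ⟶ Spec (CommRingCat.of A))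
    [LocallyOfFiniteType s] (I : Y.IdealSheafData) (hI : I ≠ ⊥) :
    ∃ (M : Scheme.{u}) (m : M ⟶ Y) (_ : IsIntegral M),
      IsProper m ∧ RelProj.IsProjective m ∧ Pi1.IsNormalScheme M ∧
      (∃ U : Y.Opens, (U : Set Y).Nonempty ∧ IsIso (m ∣_ U)) ∧ BlowUp.IsEffCartierIdeal (I.comap m) := by
  obtain ⟨X, b, hb⟩ := BlowUpLib.exists_isBlowUp (X := Y) (I := I)
  have hft : BlowUp.IsFiniteTypeIdeal I := fun U => by
    haveI : IsNoetherianRing Γ(Y, U.1) := IsLocallyNoetherian.component_noetherian U
    exact IsNoetherian.noetherian _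
  have hη : genericPoint Y ∈ I.support.compl := Resolve13.genericPoint_notMem_support I hI
  haveI : IsIntegral X := Resolve13.isIntegral_blowUp hb hη
  haveI : IsProper b := BlowUpLib.isProper_of_isBlowUp hb hft
  haveI : IsLocallyNoetherian X := LocallyOfFiniteType.isLocallyNoetherian b
  haveI : CompactSpace X := QuasiCompact.compactSpace_of_compactSpace b
  haveI : AlgebraicGeometry.IsNoetherian X := {}
  have hg : X.fromSpecStalk (genericPoint X) =
      Spec.map (CommRingCat.ofHom (RingHom.id X.functionField)) ≫ X.fromSpecStalk (genericPoint X) := by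
    rw [show CommRingCat.ofHom (RingHom.id X.functionField) = 𝟙 _ from rfl, Spec.map_id, Category.id_comp]
  haveI : IsFinite (Curv2.normalizationι X) :=
    isFinite_fromNormalization_of_isNagata (RingHom.id X.functionField) (X.fromSpecStalk (genericPoint X)) hg A hN
      (b ≫ s) (RingHom.Finite.id _)
  obtain ⟨V, hV, hiso⟩ := BMLib.exists_isIso_normalization (X := X)
  haveI hint : AlgebraicGeometry.IsIntegral (Curv2.normalization X) :=
    inferInstanceAs (AlgebraicGeometry.IsIntegral (X.fromSpecStalk (genericPoint X)).normalization)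
  haveI := SDiv28.isIso_off_center hb
  obtain ⟨hνη, -⟩ := Coherent.birational_of_isIso_morphismRestrict (Curv2.normalizationι X) V hV.nonempty
  refine ⟨Curv2.normalization X, Curv2.normalizationι X ≫ b, hint, inferInstance,
    FlatMorAdm.isProjective_comp _ _ (RelVALib.isProjective_of_isFinite _) (FlatMorAdm.isProjective_blowUp hft hb),
    NormalizationLib.isNormal (RingHom.id X.functionField) (X.fromSpecStalk (genericPoint X)) hg,
    RatExt.exists_isIso_comp b (Curv2.normalizationι X) I.support.compl ⟨_, hη⟩ V hV.nonempty, ?_⟩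
  rw [Scheme.IdealSheafData.comap_comp]
  exact S1650.isEff_comap _ hνη hb.1

/-- `H¹` vanishes on a normal modification dominated by one on which it vanishes. -/
theorem subsingleton_H1_of_dominated {O : Type u} [CommRing O] [IsDomain O] [IsNoetherianRing O]
    (hdim : ringKrullDim O ≤ 2) {Z P : Scheme.{u}} (zf : Z ⟶ Spec (CommRingCat.of O))
    (q : P ⟶ Spec (CommRingCat.of O)) [IsProper zf] [IsProper q] [IsIntegral Z] [IsIntegral P]
    (hZ : ∃ U : (Spec (CommRingCat.of O)).Opens, (U : Set (Spec (CommRingCat.of O))).Nonempty ∧ IsIso (zf ∣_ U))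
    (hP : ∃ U : (Spec (CommRingCat.of O)).Opens, (U : Set (Spec (CommRingCat.of O))).Nonempty ∧ IsIso (q ∣_ U))
    (hZn : Pi1.IsNormalScheme Z) (l : P ⟶ Z) (hl : l ≫ zf = q)
    (h : Subsingleton (Coh.HH P (Coh.structureModule P) 1)) :
    Subsingleton (Coh.HH Z (Coh.structureModule Z) 1) := by
  letI : Z.Over (Spec (CommRingCat.of O)) := ⟨zf⟩
  letI : P.Over (Spec (CommRingCat.of O)) := ⟨q⟩
  haveI : HasInjectiveResolutions P.Modules := Coherent.hasInjectiveResolutions_modules P
  haveI : IsProper (l ≫ zf) := hl.symm ▸ (inferInstance : IsProper q)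
  haveI : IsProper l := IsProper.of_comp l zf
  haveI : IsLocallyNoetherian Z := LocallyOfFiniteType.isLocallyNoetherian zf
  obtain ⟨U, hUne, hU⟩ := hZ
  obtain ⟨U', hU'ne, hU'⟩ := hP
  obtain ⟨hξ, hb⟩ := Coherent.birational_of_isIso_morphismRestrict zf U hUne
  obtain ⟨hξ', hb'⟩ := Coherent.birational_of_isIso_morphismRestrict q U' hU'ne
  have hlη : l (genericPoint P) = genericPoint Z :=
    Resolve13.Modification.eq_genericPoint zf hξ hb _ (by rw [← Scheme.Hom.comp_apply, hl, hξ'])
  have hlb : Function.Bijective (l.stalkMap (genericPoint P)) := by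
    have hcomp : ∀ (m : P ⟶ Spec (CommRingCat.of O)), m = q →
        Function.Bijective (m.stalkMap (genericPoint P)) := fun m e => by subst e; exact hb'
    have hc := hcomp (l ≫ zf) hl
    rw [Scheme.Hom.stalkMap_comp] at hc
    refine ⟨?_, fun y => ?_⟩
    · have : IsField (Z.presheaf.stalk (l (genericPoint P))) := by
        rw [hlη]; exact Field.toIsField Z.functionField
      let := this.toField
      exact (l.stalkMap (genericPoint P)).hom.injective
    · obtain ⟨x, hx⟩ := hc.2 y
      exact ⟨_, hx⟩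
  haveI := (ConcreteCategory.isIso_iff_bijective _).2 hlb
  haveI : Coh.IsQCoh (Coh.structureModule Z) := Coherent.isQCoh_structureModule
  have h2 : Subsingleton (Coh.HH Z (Coh.structureModule Z) 2) :=
    Resolve13.subsingleton_HH_of_modification zf hdim ⟨U, hUne, hU⟩ _ 2 le_rfl
  have hlen := S7338.length_additive O Z P l hl
    (Coherent.isIso_app_of_birational l hZn hlη ((ConcreteCategory.isIso_iff_bijective _).2 hlb)) h2
  haveI := h
  rw [Module.length_eq_zero] at hlen
  exact Module.length_eq_zero_iff.1 (add_eq_zero.1 hlen.symm).1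

end Groth.Agent.Resolve13.RatModif
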