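import Groth.Agent.Resolve13.RatExt
import Groth.Agent.Resolve13.RatModif
import Groth.Agent.Resolve13.ModBase
import Groth.Agent.SDiv28.BlowUp
import Groth.Agent.CAlgH3.BlowUpCd
import Groth.Agent.CAlgH.EtaleApprox
import Groth.Prelude.Def_FEt

/-!
# Modifications of a two-dimensional local ring and its completion
-/

set_option autoImplicit false
set_option linter.style.haveILetI false
set_option backward.isDefEq.respectTransparency.types false
universe u
open CategoryTheory CategoryTheory.Limits AlgebraicGeometry TopologicalSpace IsLocalRing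

namespace Groth.Agent.Resolve13.CompletionRat

theorem isIso_app_restrict {X Y : Scheme.{u}} (f : X ⟶ Y) (P : Y.Opens) (V : P.toScheme.Opens)
    (h : IsIso (f.app (P.ι ''ᵁ V))) : IsIso ((f ∣_ P).app V) := by
  rw [morphismRestrict_app]
  exact @IsIso.comp_isIso _ _ _ _ _ _ _ h (Functor.map_isIso _ _)

set_option maxHeartbeats 1000000 in
/-- A modification of a normal surface singularity is an isomorphism off the closed point. -/
theorem isIso_restrict_punctured {O : Type u} [CommRing O] [IsDomain O] [IsLocalRing O] [IsNoetherianRing O]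
    [IsIntegrallyClosed O] (hdim : ringKrullDim O ≤ 2) {Z : Scheme.{u}} (f : Z ⟶ Spec (CommRingCat.of O))
    [IsProper f] [IsIntegral Z]
    (hbir : ∃ U : (Spec (CommRingCat.of O)).Opens, (U : Set (Spec (CommRingCat.of O))).Nonempty ∧ IsIso (f ∣_ U)) :
    IsIso (f ∣_ FEt.puncturedSpec O) := by
  let S := Spec (CommRingCat.of O)
  let P : S.Opens := FEt.puncturedSpec O
  obtain ⟨U, hUne, hU⟩ := hbir
  obtain ⟨hξ, hb⟩ := Coherent.birational_of_isIso_morphismRestrict f U hUne
  have happ : ∀ V, IsIso (f.app V) := fun V =>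
    Coherent.isIso_app_of_birational f (CommAlg4.Cone.isNormalScheme_spec (CommRingCat.of O)) hξ
      ((ConcreteCategory.isIso_iff_bijective _).2 hb) V
  obtain ⟨E, -, hEc, hE⟩ := Modification.exists_finite_exceptional f hξ hb
    (fun y => Resolve13.ringKrullDim_stalk_spec_le hdim y)
  have hPE : ∀ y ∈ P, y ∉ E := fun y hy hyE => hy (Set.mem_singleton_iff.2 (PrimeSpectrum.ext
    (IsLocalRing.eq_maximalIdeal ((PrimeSpectrum.isClosed_singleton_iff_isMaximal y).1 (hEc y hyE)))))
  let g := f ∣_ P
  haveI : IsProper g := inferInstance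
  haveI : LocallyQuasiFinite g := by
    refine LocallyQuasiFinite.of_finite_preimage_singleton g fun y => ?_
    have h0 := hE y.1 (hPE y.1 y.2)
    have hfin : (f ⁻¹' {y.1}).Finite := by
      haveI : LocallyOfFiniteType (f.fiberToSpecResidueField y.1) :=
        (inferInstance : LocallyOfFiniteType (Limits.pullback.snd f (S.fromSpecResidueField y.1)))
      haveI : IsLocallyNoetherian (f.fiber y.1) :=
        LocallyOfFiniteType.isLocallyNoetherian (f.fiberToSpecResidueField y.1)
      haveI : AlgebraicGeometry.IsNoetherian (f.fiber y.1) := { }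
      have hd : topologicalKrullDim (Set.univ : Set ↥(f.fiber y.1)) ≤ 0 := by
        rwa [(Homeomorph.Set.univ _).isHomeomorph.topologicalKrullDim_eq]
      have := ((CommAlg4.finite_and_isClosed_singleton_of_dim_le_zero isClosed_univ hd).1).image (f.fiberι y.1)
      rwa [Set.image_univ, f.range_fiberι] at this
    refine (hfin.preimage (f := fun z : ↥(f ⁻¹ᵁ P) => (z.1 : Z)) Subtype.val_injective.injOn).subset fun z hz => ?_
    show f z.1 = y.1
    rw [← morphismRestrict_base_coe f P z, show g z = y from hz]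
  haveI : IsFinite g := (IsFinite.iff_isProper_and_locallyQuasiFinite g).2 ⟨inferInstance, inferInstance⟩
  refine (IsZariskiLocalAtTarget.iff_of_iSup_eq_top (P := MorphismProperty.isomorphisms Scheme)
    (fun V : P.toScheme.affineOpens => (V : P.toScheme.Opens)) (iSup_affineOpens_eq_top P.toScheme)).2 fun V => ?_
  show IsIso (g ∣_ V.1)
  exact (isIso_morphismRestrict_iff_isIso_app (f := g) V.2).2 (isIso_app_restrict f P V.1 (happ _))

/-- A scheme is integral when the complement of an effective Cartier divisor is. -/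
theorem isIntegral_of_effCartier {T : Scheme.{u}} {I : T.IdealSheafData} (hI : BlowUp.IsEffCartierIdeal I)
    [IsIntegral (Scheme.Opens.toScheme (X := T) I.support.compl)] : IsIntegral T := by
  let V : T.Opens := I.support.compl
  have hden : ModPairLib.IsDenseOpen V := ModPairLib.isDenseOpen_interior hI
  have hred : ∀ U : T.Opens, _root_.IsReduced Γ(T, U) := fun U => ⟨fun s hs => by
    refine hden U s ?_
    have hle : U ⊓ V ≤ V := inf_le_right
    haveI : IsReduced (U ⊓ V : T.Opens).toScheme := isReduced_of_isOpenImmersion (T.homOfLE hle)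
    haveI : _root_.IsReduced Γ((U ⊓ V : T.Opens).toScheme, ⊤) := inferInstance
    haveI : _root_.IsReduced Γ(T, U ⊓ V) :=
      isReduced_of_injective (U ⊓ V).topIso.inv.hom (ConcreteCategory.bijective_of_isIso (U ⊓ V).topIso.inv).1
    exact IsNilpotent.eq_zero (hs.map _)⟩
  haveI : IsReduced T := ⟨hred⟩
  have hVirr : IsIrreducible (V : Set T) := by
    have h := (IrreducibleSpace.isIrreducible_univ V.toScheme).image V.ι V.ι.continuous.continuousOn
    rwa [Set.image_univ, Scheme.Opens.range_ι] at h
  have hd : Dense (V : Set T) := by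
    rw [dense_iff_inter_open]
    intro O hO hne
    by_contra hempty
    rw [Set.not_nonempty_iff_eq_empty] at hempty
    let O' : T.Opens := ⟨O, hO⟩
    have hbot : O' ⊓ V = ⊥ := Opens.ext hempty
    have hsub : Subsingleton Γ(T, O' ⊓ V) := by rw [hbot]; infer_instance
    have h1 := hden O' 1 (Subsingleton.elim _ _)
    obtain ⟨x, hx⟩ := hne
    exact one_ne_zero (α := T.presheaf.stalk x)
      (by rw [← map_one (T.presheaf.germ O' x hx).hom, h1, map_zero])
  have h := hVirr.closure
  rw [hd.closure_eq] at h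
  haveI : IrreducibleSpace T := irreducibleSpace_def (X := T) |>.2 h
  exact isIntegral_of_irreducibleSpace_of_isReduced _

/-- Ideals of the completion with support in the closed point come from the ring. -/
theorem exists_descend (A : Type u) [CommRing A] [IsLocalRing A] [IsNoetherianRing A]
    (J : (Spec (CommRingCat.of (Curv2.cpl A))).IdealSheafData)
    (hJ : Disjoint (J.support : Set (Spec (CommRingCat.of (Curv2.cpl A)))) (FEt.puncturedSpec (Curv2.cpl A) : Set _)) :
    ∃ I0 : Ideal A, ((Curv2.idealSheaf A I0).support : Set (Spec (CommRingCat.of A))) ⊆ {IsLocalRing.closedPoint A} ∧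
      (Curv2.idealSheaf A I0).comap (Spec.map (CommRingCat.ofHom (algebraMap A (Curv2.cpl A)))) = J ∧
      ∃ n : ℕ, IsLocalRing.maximalIdeal A ^ n ≤ I0 := by
  let Ah := Curv2.cpl A
  let m := IsLocalRing.maximalIdeal A
  haveI : IsNoetherianRing Ah := Groth.Agent.Matlis6.isNoetherianRing_adicCompletion m
  haveI : Module.FaithfullyFlat A Ah := Module.FaithfullyFlat.of_flat_of_isLocalHom
  obtain ⟨J0, rfl⟩ := Groth.Agent.Resolve13.RatExt.exists_eq_idealSheaf J
  have hrad : IsLocalRing.maximalIdeal Ah ≤ J0.radical := by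
    rw [Ideal.radical_eq_sInf]
    refine le_sInf fun (P : Ideal Ah) hP => ?_
    by_contra hne
    haveI : P.IsPrime := hP.2
    let x : Spec (CommRingCat.of Ah) := ⟨P, hP.2⟩
    refine Set.disjoint_left.1 hJ (show x ∈ _ from ?_) ?_
    · rw [Groth.Agent.CAlgH3.BlowUpCd.support_idealSheaf]; exact hP.1
    · intro h
      exact hne (le_of_eq (congrArg PrimeSpectrum.asIdeal (Set.mem_singleton_iff.1 h)).symm)
  obtain ⟨n, hn⟩ := Ideal.exists_pow_le_of_le_radical_of_fg hrad (IsLocalRing.maximalIdeal Ah).fg_of_isNoetherianRing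
  let I0 : Ideal A := J0.comap (algebraMap A Ah)
  have hmn : IsLocalRing.maximalIdeal Ah ^ n = (m ^ n).map (algebraMap A Ah) := by
    rw [AdicCompletion.maximalIdeal_eq_map, ← Ideal.map_pow]
  have hmI : m ^ n ≤ I0 := Ideal.map_le_iff_le_comap.1 (hmn ▸ hn)
  have hI0 : I0.map (algebraMap A Ah) = J0 := by
    refine le_antisymm Ideal.map_comap_le fun x hx => ?_
    obtain ⟨a, ha⟩ := Groth.Agent.CAlgH.EtaleApprox.exists_sub_mem A n x
    have ha' : algebraMap A Ah a ∈ J0 := by
      have := J0.sub_mem hx (hn ha)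
      rwa [sub_sub_cancel] at this
    have hle : (m ^ n).map (algebraMap A Ah) ≤ I0.map (algebraMap A Ah) := Ideal.map_mono hmI
    have h1 := (I0.map (algebraMap A Ah)).add_mem (hle (hmn ▸ ha)) (Ideal.mem_map_of_mem (algebraMap A Ah) (show a ∈ I0 from ha'))
    rwa [sub_add_cancel] at h1
  refine ⟨I0, ?_, ?_, n, hmI⟩
  · rw [Groth.Agent.CAlgH3.BlowUpCd.support_idealSheaf]
    intro x hx
    refine Set.mem_singleton_iff.2 (PrimeSpectrum.ext ?_)
    exact ((IsLocalRing.maximalIdeal.isMaximal A).eq_of_le x.isPrime.ne_top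
      (Ideal.IsPrime.le_of_pow_le (hmI.trans hx))).symm
  · have := Groth.Agent.Resolve13.RatExt.idealSheaf_comap_comp (algebraMap A Ah) (𝟙 _) I0
    rwa [Category.id_comp, hI0, Scheme.IdealSheafData.comap_id] at this

end Groth.Agent.Resolve13.CompletionRat
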