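import Groth.Agent.Resolve13.CurveTrack
import Mathlib.RingTheory.Ideal.KrullsHeightTheorem

/-!
# Making the support of a divisor on a regular surface a strict normal crossings divisor
-/

set_option autoImplicit false
set_option linter.style.haveILetI false
set_option backward.isDefEq.respectTransparency false
set_option maxHeartbeats 2000000

universe u

open CategoryTheory CategoryTheory.Limits AlgebraicGeometry TopologicalSpace IsLocalRing Opposite
open Groth.Agent.Misc15.DivDescent Groth.Agent.SDiv28.CartierPart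

namespace Groth.Agent.Resolve13

open Models7 (RegSurf PtSeq)

theorem not_isClosed_generic {X : Scheme.{u}} [IsIntegral X] (hdim : topologicalKrullDim X = 2) :
    ¬ IsClosed ({genericPoint X} : Set X) := fun hc => by
  have hu : ∀ w : X, w = genericPoint X := fun w => (genericPoint_specializes w).mem_closed hc rfl
  haveI : Subsingleton (IrreducibleCloseds X) := ⟨fun a b => by
    refine IrreducibleCloseds.ext ?_
    obtain ⟨s, hs⟩ := a.isIrreducible.1
    obtain ⟨t, ht⟩ := b.isIrreducible.1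
    exact Set.ext fun w => iff_of_true ((hu w).trans (hu s).symm ▸ hs) ((hu w).trans (hu t).symm ▸ ht)⟩
  have h : topologicalKrullDim X ≤ 0 := Order.krullDim_nonpos_of_subsingleton
  rw [hdim] at h
  norm_num at h

theorem genericPoint_notMem_support {X : Scheme.{u}} [IsIntegral X] (I : X.IdealSheafData) (hI : I ≠ ⊥) :
    genericPoint X ∉ I.support := fun h => by
  refine stk_ne_bot I hI (genericPoint X) (le_bot_iff.1 (((mem_support_iff_stk I _).1 h).trans ?_))
  exact (IsLocalRing.isField_iff_maximalIdeal_eq.1 (Field.toIsField X.functionField)).le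

/-- The normalization of a curve with finite normalization. -/
theorem normalization_facts (C : Scheme.{u}) [IsIntegral C] [IsLocallyNoetherian C] [CompactSpace C]
    [QuasiCompact (C.fromSpecStalk (genericPoint C))] [QuasiSeparated (C.fromSpecStalk (genericPoint C))]
    (hdim : topologicalKrullDim C = 1) [IsFinite (Curv2.normalizationι C)] :
    ∃ (N : Scheme.{u}) (_ : IsIntegral N) (ν : N ⟶ C), IsFinite ν ∧ topologicalKrullDim N = 1 ∧
      (∀ x : N, IsRegularLocalRing (N.presheaf.stalk x)) ∧ ν (genericPoint N) = genericPoint C ∧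
      Function.Surjective (ν.stalkMap (genericPoint N)) := by
  let N := Curv2.normalization C
  let ν : N ⟶ C := Curv2.normalizationι C
  haveI : IsFinite ν := inferInstanceAs (IsFinite (Curv2.normalizationι C))
  haveI : IsNoetherian C := {}
  haveI : IsIntegral N := inferInstanceAs (IsIntegral (C.fromSpecStalk (genericPoint C)).normalization)
  obtain ⟨U, hU, hiso⟩ := BMLib.exists_isIso_normalization (X := C)
  haveI : IsIso (ν ∣_ U) := hiso
  obtain ⟨hgen, hbij⟩ := Coherent.birational_of_isIso_morphismRestrict ν U hU.nonempty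
  haveI : Surjective ν :=
    ⟨fun v => (genericPoint_specializes v).mem_closed ν.isClosedMap.isClosed_range ⟨_, hgen⟩⟩
  have hdN : topologicalKrullDim N = 1 :=
    le_antisymm ((AlgSpLib.topologicalKrullDim_le_of_isIntegralHom ν).trans hdim.le)
      (hdim.ge.trans (AlgSpLib.topologicalKrullDim_ge_of_isIntegralHom ν))
  haveI : IsLocallyNoetherian N := LocallyOfFiniteType.isLocallyNoetherian ν
  have hn : Pi1.IsNormalScheme N :=
    NormalizationLib.isNormal (RingHom.id C.functionField) (C.fromSpecStalk (genericPoint C))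
      (by rw [show CommRingCat.ofHom (RingHom.id C.functionField) = 𝟙 _ from rfl, Spec.map_id, Category.id_comp])
  refine ⟨N, inferInstance, ν, inferInstance, hdN, fun x => ?_, hgen, hbij.2⟩
  obtain ⟨hd, hic⟩ := hn x
  haveI := hd
  haveI := hic
  exact CAlgH3.isRegularLocalRing_of_normal_dim_le_one
    ((CurvesLib24.stalk_dim_le_topologicalKrullDim x).trans hdN.le)

/-- Composable tracked sequences: curves over regular curves are regular. -/
theorem Tracked.isRegCurve {X' X : Scheme.{u}} {g : X' ⟶ X} {G : Set X'} (h : Tracked g G) {S : Set X}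
    (hS : ∀ x ∈ S, IsCurvePt x → IsRegCurve x) {x : X'} (hx : IsCurvePt x) (hxS : g x ∈ S) : IsRegCurve x := by
  by_cases hg : IsCurvePt (g x)
  · exact h.reg x hg (hS _ hxS hg)
  · exact (h.exc x (h.cover x hx hg)).2.1

/-- Finitely many curves with finite normalization become regular after point blow-ups. -/
theorem exists_regularised {X : Scheme.{u}} [IsIntegral X] [IsNoetherian X] (hX : RegSurf X)
    (h0 : ¬ IsClosed ({genericPoint X} : Set X)) (S : Set X) (hS : IsClosed S) (hη : genericPoint X ∉ S)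
    (hfin : ∀ x ∈ S, IsCurvePt x → ∃ (N : Scheme.{u}) (_ : IsIntegral N) (h : N ⟶ X), IsFinite h ∧
      topologicalKrullDim N = 1 ∧ (∀ y : N, IsRegularLocalRing (N.presheaf.stalk y)) ∧ h (genericPoint N) = x ∧
      Function.Surjective (h.stalkMap (genericPoint N))) :
    ∃ (X₁ : Scheme.{u}) (g : X₁ ⟶ X) (G : Set X₁), Tracked g G ∧
      ∀ x, IsCurvePt x → g x ∈ S → IsRegCurve x := by
  haveI hF := (finite_curvePts hX.dim S hS hη).to_subtype
  obtain ⟨n, ⟨e⟩⟩ := Finite.exists_equiv_fin {x ∈ S | IsCurvePt x}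
  have hc : ∀ i : Fin n, (e.symm i).1 ∈ S ∧ IsCurvePt (e.symm i).1 := fun i => (e.symm i).2
  choose N hNi h₀ hh₀ hdN hN hgen hsurj using fun i => hfin _ (hc i).1 (hc i).2
  haveI := hNi
  haveI := hh₀
  obtain ⟨X₁, L, hL⟩ := exists_closedImm_all N h₀ hdN hN (fun i => by rw [hgen i]; exact (hc i).2.1) hsurj
    ⟨X, 𝟙 X, Resolve.IsPtBlowupSeq.iso (Iso.refl X), h₀, fun i => inferInstance, fun i => Category.comp_id _⟩
    Finset.univ
  obtain ⟨G, hG⟩ := exists_tracked L.seq hX h0
  refine ⟨X₁, L.g, G, hG, fun x hx hxS => ?_⟩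
  by_cases hgx : IsCurvePt (L.g x)
  · let i := e ⟨L.g x, hxS, hgx⟩
    haveI := hL i (Finset.mem_univ i)
    refine ⟨N i, inferInstance, L.h i, inferInstance, hdN i, hN i, (hG.inj _ _ hgx ?_).symm⟩
    rw [← Scheme.Hom.comp_apply (L.h i) L.g, L.eq i, hgen i, Equiv.symm_apply_apply]
  · exact (hG.exc x (hG.cover x hx hgx)).2.1

/-- Regular curves become disjoint after point blow-ups. -/
theorem exists_separated {X : Scheme.{u}} [IsIntegral X] [IsNoetherian X] (hX : RegSurf X)
    (h0 : ¬ IsClosed ({genericPoint X} : Set X)) (S : Set X) (hS : IsClosed S) (hη : genericPoint X ∉ S)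
    (hreg : ∀ x ∈ S, IsCurvePt x → IsRegCurve x) :
    ∃ (X₁ : Scheme.{u}) (g : X₁ ⟶ X) (G : Set X₁), Tracked g G ∧
      (∀ x, IsCurvePt x → g x ∈ S → Good g G x) ∧
      ∀ x y, IsCurvePt (g x) → g x ∈ S → IsCurvePt (g y) → g y ∈ S → x ≠ y → ∀ q, x ⤳ q → y ⤳ q → False := by
  haveI hF := (finite_curvePts hX.dim S hS hη).to_subtype
  obtain ⟨n, ⟨e⟩⟩ := Finite.exists_equiv_fin {x ∈ S | IsCurvePt x}
  have hc : ∀ i : Fin n, (e.symm i).1 ∈ S ∧ IsCurvePt (e.symm i).1 := fun i => (e.symm i).2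
  choose N hNi j hj hdN hN hgen using fun i => hreg _ (hc i).1 (hc i).2
  haveI := hNi
  haveI := hj
  obtain ⟨X₁, L, hL, hdisj⟩ := exists_disjoint N j hdN hN (fun i => by rw [hgen i]; exact (hc i).2.1)
    (fun i k h => e.symm.injective (Subtype.ext (by rw [← hgen i, ← hgen k]; exact h)))
    ⟨𝟙 X, Resolve.IsPtBlowupSeq.iso (Iso.refl X), j, fun i => inferInstance, fun i => Category.comp_id _⟩
    (fun i => hj i)
  obtain ⟨G, hG⟩ := exists_tracked L.seq hX h0
  refine ⟨X₁, L.g, G, hG, fun x hx hxS => ?_, fun x y hx hxS hy hyS hxy q hxq hyq => ?_⟩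
  · by_cases hgx : IsCurvePt (L.g x)
    · exact Or.inr ⟨hgx, hreg _ hxS hgx⟩
    · exact Or.inl (hG.cover x hx hgx)
  · let i := e ⟨L.g x, hxS, hx⟩
    let k := e ⟨L.g y, hyS, hy⟩
    haveI := hL i
    haveI := hL k
    have hi : L.h i (genericPoint (N i)) = x := (hG.inj _ _ hx (by
      rw [← Scheme.Hom.comp_apply (L.h i) L.g, L.eq i, hgen i, Equiv.symm_apply_apply])).symm
    have hk : L.h k (genericPoint (N k)) = y := (hG.inj _ _ hy (by
      rw [← Scheme.Hom.comp_apply (L.h k) L.g, L.eq k, hgen k, Equiv.symm_apply_apply])).symm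
    have hd := hdisj i k fun hik => hxy (hG.inj x y hx (congrArg Subtype.val (e.injective hik)))
    refine Set.disjoint_left.1 hd (?_ : q ∈ _) ?_
    · rw [range_eq_closure, hi, ← specializes_iff_mem_closure]; exact hxq
    · rw [range_eq_closure, hk, ← specializes_iff_mem_closure]; exact hyq

/-- In a local domain of dimension at most one every nonzero prime is maximal. -/
theorem eq_max_of_dim_le_one {R : Type*} [CommRing R] [IsDomain R] [IsLocalRing R] (hdim : ringKrullDim R ≤ 1)
    {P : Ideal R} [P.IsPrime] (h : P ≠ ⊥) : P = maximalIdeal R := by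
  by_contra hne
  let p₀ : PrimeSpectrum R := ⟨⊥, Ideal.isPrime_bot⟩
  let p₁ : PrimeSpectrum R := ⟨P, inferInstance⟩
  let p₂ : PrimeSpectrum R := closedPoint R
  have h01 : p₀ < p₁ := lt_of_le_of_ne bot_le fun h' => h (congrArg PrimeSpectrum.asIdeal h').symm
  have h12 : p₁ < p₂ := lt_of_le_of_ne (le_maximalIdeal (Ideal.IsPrime.ne_top inferInstance))
    fun h' => hne (congrArg PrimeSpectrum.asIdeal h')
  have h' := Order.LTSeries.length_le_krullDim
    (((RelSeries.singleton _ p₀).snoc p₁ h01).snoc p₂ (by simpa using h12))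
  simp only [RelSeries.snoc_length, RelSeries.singleton_length] at h'
  have := h'.trans hdim
  norm_cast at this

/-- The local shape of a strict normal crossings divisor. -/
theorem exists_snc_local {X : Scheme.{u}} [IsIntegral X] (hX : RegSurf X) (J : X.IdealSheafData)
    (hJ : BlowUp.IsEffCartierIdeal J) (hη : genericPoint X ∉ J.support)
    (hreg : ∀ x, IsCurvePt x → x ∈ J.support → IsRegCurve x)
    (htr : ∀ x y, IsCurvePt x → x ∈ J.support → IsCurvePt y → y ∈ J.support → x ≠ y → Transv x y)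
    (htriple : ∀ x y w, IsCurvePt x → x ∈ J.support → IsCurvePt y → y ∈ J.support → IsCurvePt w → w ∈ J.support →
      x ≠ y → x ≠ w → y ≠ w → ∀ q, x ⤳ q → y ⤳ q → w ⤳ q → False)
    (p : X) (hp : p ∈ J.support) :
    ∃ (d r : ℕ) (x : Fin d → X.presheaf.stalk p), 1 ≤ r ∧ r ≤ d ∧
      ringKrullDim (X.presheaf.stalk p) = (d : WithBot ℕ∞) ∧
      Ideal.span (Set.range x) = maximalIdeal (X.presheaf.stalk p) ∧
      (stk J p).radical = Ideal.span {∏ i : Fin d, if (i : ℕ) < r then x i else 1} := by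
  classical
  haveI := hX.noeth
  haveI := hX.regular p
  let R := X.presheaf.stalk p
  obtain ⟨h, hh0, hh⟩ := exists_gen hJ p
  have hhm : stk J p ≤ maximalIdeal R := (mem_support_iff_stk J p).1 hp
  have hJ0 : stk J p ≠ ⊥ := by
    rw [hh, Ne, Ideal.span_singleton_eq_bot]
    exact nonZeroDivisors.ne_zero hh0
  have hle2 : ringKrullDim R ≤ 2 := (CurvesLib24.stalk_dim_le_topologicalKrullDim p).trans hX.dim
  obtain ⟨d, hd, hdd⟩ : ∃ d : ℕ, (maximalIdeal R).spanFinrank = d ∧ ringKrullDim R = (d : WithBot ℕ∞) :=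
    ⟨_, rfl, (IsRegularLocalRing.spanFinrank_maximalIdeal (R := R)).symm⟩
  have hd2 : d ≤ 2 := by
    have := hdd.symm.le.trans hle2
    exact_mod_cast this
  have hm0 : maximalIdeal R ≠ ⊥ := fun h => hJ0 (le_bot_iff.1 (h ▸ hhm))
  have hd0 : d ≠ 0 := fun h0 => hm0 ((Submodule.spanFinrank_eq_zero_iff_eq_bot (IsNoetherian.noetherian _)).1 (hd.trans h0))
  rcases Nat.lt_or_ge d 2 with hlt | hge
  · obtain rfl : d = 1 := by omega
    obtain ⟨s, hs, hspan⟩ := Submodule.FG.exists_span_set_encard_eq_spanFinrank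
      (IsNoetherian.noetherian (maximalIdeal R))
    rw [hd, Nat.cast_one, Set.encard_eq_one] at hs
    obtain ⟨π, rfl⟩ := hs
    refine ⟨1, 1, fun _ => π, le_rfl, le_rfl, hdd, by rw [Set.range_const]; exact hspan, ?_⟩
    rw [Fin.prod_univ_one, if_pos (by simp), show Ideal.span {π} = maximalIdeal R from hspan]
    refine le_antisymm ((Ideal.IsPrime.radical_le_iff inferInstance).2 hhm) ?_
    rw [Ideal.radical_eq_sInf]
    refine le_sInf fun P hP => ?_
    haveI := hP.2
    exact (eq_max_of_dim_le_one (by rw [hdd, Nat.cast_one]) fun h0 => hJ0 (le_bot_iff.1 (h0 ▸ hP.1))).ge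
  · obtain rfl : d = 2 := by omega
    let T : X → Prop := fun w => IsCurvePt w ∧ w ∈ J.support ∧ w ⤳ p
    have key : ∀ P : Ideal R, P.IsPrime → stk J p ≤ P → P ≠ maximalIdeal R →
        ∃ w, T w ∧ stk (cI w) p = P ∧ p ≠ w := by
      intro P hP hJP hPm
      let P' : PrimeSpectrum R := ⟨P, hP⟩
      let w := X.fromSpecStalk p P'
      have hwp : w ⤳ p := Scheme.range_fromSpecStalk.le ⟨P', rfl⟩
      have hw : w ∈ J.support := (Inters29.fromSpecStalk_mem_support_iff J P').2 hJP
      obtain ⟨Q, hQ, hQe⟩ := exists_prime_cI hwp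
      have hQP : Q = P' := (X.fromSpecStalk p).isEmbedding.injective hQ
      have hne : p ≠ w := fun he => hPm (congrArg PrimeSpectrum.asIdeal
        ((X.fromSpecStalk p).isEmbedding.injective (a₁ := P') (a₂ := closedPoint R)
          (he.symm.trans Scheme.fromSpecStalk_closedPoint.symm)))
      exact ⟨w, ⟨isCurvePt_of_ne (fun hc => hne (hwp.mem_closed hc rfl)) fun he => hη (he ▸ hw), hw, hwp⟩,
        hQe ▸ congrArg PrimeSpectrum.asIdeal hQP, hne⟩
    obtain ⟨P₁, hP₁, hP₁m⟩ : ∃ P, P ∈ (stk J p).minimalPrimes ∧ P ≠ maximalIdeal R := by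
      by_contra hall
      push Not at hall
      obtain ⟨P, hP, -⟩ := Ideal.exists_minimalPrimes_le hhm
      haveI : (stk J p).IsPrincipal := ⟨h, hh⟩
      have h1 := Ideal.height_le_one_of_isPrincipal_of_mem_minimalPrimes (stk J p) P hP
      rw [hall P hP] at h1
      have h2 := IsLocalRing.maximalIdeal_height_eq_ringKrullDim (R := R)
      rw [hdd] at h2
      have h3 : ((maximalIdeal R).height : WithBot ℕ∞) ≤ 1 := by exact_mod_cast h1
      rw [h2] at h3
      norm_num at h3
    obtain ⟨x₁, hx₁, hP₁e, hpx₁⟩ := key P₁ hP₁.1.1 hP₁.1.2 hP₁m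
    have hJT : ∀ w, T w → stk J p ≤ stk (cI w) p := fun w hw => by
      obtain ⟨Q, hQ, hQe⟩ := exists_prime_cI hw.2.2
      rw [← hQe]
      exact (Inters29.fromSpecStalk_mem_support_iff J Q).1 (hQ.symm ▸ hw.2.1)
    have hneT : ∀ w, T w → p ≠ w := fun w hw he => hpx₁
      (curvePt_eq_of_specializes hX.dim hx₁.1 (he ▸ hw.1) hx₁.2.2).symm
    have hsInf : ∀ A : Ideal R, A ≤ maximalIdeal R → (∀ w, T w → A ≤ stk (cI w) p) → A ≤ (stk J p).radical := by
      intro A hA hAT
      rw [Ideal.radical_eq_sInf]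
      refine le_sInf fun P hP => ?_
      by_cases hPm : P = maximalIdeal R
      · exact hPm ▸ hA
      · obtain ⟨w, hw, rfl, -⟩ := key P hP.2 hP.1 hPm
        exact hAT w hw
    obtain ⟨f, g, hf, hfg⟩ := exists_params hX hx₁.1 (hreg _ hx₁.1 hx₁.2.1) hx₁.2.2 (hneT _ hx₁)
    have hfP : (Ideal.span {f}).IsPrime := hf ▸ isPrime_stk_cI hx₁.2.2
    by_cases hx₂ : ∃ x₂, T x₂ ∧ x₂ ≠ x₁
    · obtain ⟨x₂, hx₂, hne⟩ := hx₂
      obtain ⟨f₂, g₂, hf₂, -⟩ := exists_params hX hx₂.1 (hreg _ hx₂.1 hx₂.2.1) hx₂.2.2 (hneT _ hx₂)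
      have hf₂P : (Ideal.span {f₂}).IsPrime := hf₂ ▸ isPrime_stk_cI hx₂.2.2
      have hm : maximalIdeal R = Ideal.span {f, f₂} := by
        rw [Ideal.span_insert, ← hf, ← hf₂]
        exact (htr _ _ hx₁.1 hx₁.2.1 hx₂.1 hx₂.2.1 hne.symm p hx₁.2.2 hx₂.2.2).symm
      refine ⟨2, 2, ![f, f₂], by omega, le_rfl, hdd, by rw [hm, Matrix.range_cons, Matrix.range_cons, Matrix.range_empty, Set.union_empty, Set.singleton_union], ?_⟩
      rw [Fin.prod_univ_two]
      simp only [Fin.val_zero, Fin.val_one, Nat.ofNat_pos, Nat.one_lt_ofNat, if_true, Matrix.cons_val_zero, Matrix.cons_val_one]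
      have hincomp : ¬ Ideal.span {f} ≤ Ideal.span {f₂} := fun hle => by
        rw [← hf, ← hf₂] at hle
        exact hne (curvePt_eq_of_specializes hX.dim hx₁.1 hx₂.1 ((cI_le_iff hx₁.2.2 hx₂.2.2).1 hle)).symm
      rw [← span_inf_span hfP hf₂P hincomp]
      refine le_antisymm (le_inf (hfP.radical_le_iff.2 (hf ▸ hJT _ hx₁)) (hf₂P.radical_le_iff.2 (hf₂ ▸ hJT _ hx₂)))
        (hsInf _ (inf_le_left.trans (le_maximalIdeal hfP.ne_top)) fun w hw => ?_)
      rcases eq_or_ne w x₁ with rfl | h1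
      · exact hf ▸ inf_le_left
      rcases eq_or_ne w x₂ with rfl | h2
      · exact hf₂ ▸ inf_le_right
      exact (htriple _ _ _ hw.1 hw.2.1 hx₁.1 hx₁.2.1 hx₂.1 hx₂.2.1 h1 h2 hne.symm p hw.2.2 hx₁.2.2 hx₂.2.2).elim
    · push Not at hx₂
      refine ⟨2, 1, ![f, g], le_rfl, by omega, hdd, by rw [hfg, Matrix.range_cons, Matrix.range_cons, Matrix.range_empty, Set.union_empty, Set.singleton_union], ?_⟩
      rw [Fin.prod_univ_two]
      simp only [Fin.val_zero, Fin.val_one, zero_lt_one, lt_self_iff_false, if_true, if_false, Matrix.cons_val_zero, mul_one]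
      exact le_antisymm (hfP.radical_le_iff.2 (hf ▸ hJT _ hx₁))
        (hsInf _ (le_maximalIdeal hfP.ne_top) fun w hw => by rw [hx₂ w hw, hf])

end Groth.Agent.Resolve13
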