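import Groth.Agent.Resolve13.PointExc
import Groth.Agent.CAlgH3.BlowUpCd
import Groth.Agent.BlowUpKoszul.PointBlowUp
import Groth.Agent.CAlgH3.RegularHom
import Groth.Agent.FSchLib.Systems
import Groth.Agent.ModPairLib.Colon
import Groth.Prelude.Def_CurvBase

/-!
# The order of vanishing on the blow-up of a regular local ring of dimension two
-/

set_option autoImplicit false
set_option linter.style.haveILetI false
set_option backward.isDefEq.respectTransparency false
set_option maxHeartbeats 1000000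

universe u

open CategoryTheory AlgebraicGeometry TopologicalSpace IsLocalRing Opposite

namespace Groth.Agent.Resolve13

variable {A : Type u} [CommRing A] [IsRegularLocalRing A]

/-- Regular parameters of a regular local ring of dimension two. -/
theorem exists_params_two (hA : ringKrullDim A = 2) :
    ∃ a g : A, maximalIdeal A = Ideal.span {a, g} ∧ (Ideal.span {a}).IsPrime ∧ g ∉ Ideal.span {a} ∧ a ≠ 0 := by
  haveI := CAlgH3.isDomain_of_isRegularLocalRing A
  haveI : UniqueFactorizationMonoid A := CAlgH3.ufm_of_regular _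
  have hr : (maximalIdeal A).spanFinrank = 2 := by
    have h := IsRegularLocalRing.spanFinrank_maximalIdeal (R := A)
    rw [hA] at h
    exact_mod_cast h
  obtain ⟨s, hs, hspan⟩ := Submodule.FG.exists_span_set_encard_eq_spanFinrank
    (IsNoetherian.noetherian (maximalIdeal A))
  rw [hr] at hs
  obtain ⟨a, g, hne, rfl⟩ := Set.encard_eq_two.1 (by exact_mod_cast hs)
  have hnot : ∀ b : A, maximalIdeal A ≠ Ideal.span {b} := fun b hb => by
    have h := Submodule.spanFinrank_span_le_ncard_of_finite (R := A) (Set.finite_singleton b)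
    rw [Set.ncard_singleton] at h
    change Submodule.spanFinrank (Ideal.span {b}) ≤ 1 at h
    rw [← hb, hr] at h
    omega
  have hspan' : maximalIdeal A = Ideal.span {a, g} := hspan.symm
  have hga : g ∉ Ideal.span {a} := fun h => hnot a (by
    rw [hspan', Ideal.span_insert, sup_eq_left.2 ((Ideal.span_singleton_le_iff_mem _).2 h)])
  have ha0 : a ≠ 0 := by
    rintro rfl
    refine hnot g ?_
    rw [hspan', Ideal.span_insert, Ideal.span_singleton_eq_bot.2 rfl, bot_sup_eq]
  have ham : a ∈ maximalIdeal A := hspan' ▸ Ideal.subset_span (Set.mem_insert _ _)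
  have hirr : Irreducible a := by
    refine ⟨fun hu => ham hu, fun x y hxy => ?_⟩
    by_contra hc
    push Not at hc
    refine hnot g ?_
    have h2 : a ∈ maximalIdeal A * maximalIdeal A := hxy ▸ Ideal.mul_mem_mul hc.1 hc.2
    have h3 : maximalIdeal A ≤ Ideal.span {g} ⊔ maximalIdeal A • maximalIdeal A := by
      conv_lhs => rw [hspan', Ideal.span_insert]
      exact sup_le ((Ideal.span_singleton_le_iff_mem _).2 (Ideal.mem_sup_right h2)) le_sup_left
    refine le_antisymm (Submodule.le_of_le_smul_of_le_jacobson_bot (IsNoetherian.noetherian _)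
      (IsLocalRing.maximalIdeal_le_jacobson _) h3) ?_
    rw [hspan']
    exact Ideal.span_mono (Set.subset_insert _ _)
  exact ⟨a, g, hspan', (Ideal.span_singleton_prime ha0).2 hirr.prime, hga, ha0⟩

/-- Multiplication by a regular parameter raises the order by one. -/
theorem mem_pow_of_mul_mem [IsDomain A] {a g : A} (hm : maximalIdeal A = Ideal.span {a, g}) (hp : (Ideal.span {a}).IsPrime)
    (hg : g ∉ Ideal.span {a}) (ha : a ≠ 0) {n : ℕ} {f : A} (h : a * f ∈ maximalIdeal A ^ (n + 1)) :
    f ∈ maximalIdeal A ^ n := by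
  have hgm : g ∈ maximalIdeal A := hm ▸ Ideal.subset_span (Set.mem_insert_of_mem _ rfl)
  have key : ∀ k : ℕ, maximalIdeal A ^ (k + 1) ≤ Ideal.span {a} * maximalIdeal A ^ k ⊔ Ideal.span {g ^ (k + 1)} := by
    intro k
    induction k with
    | zero => rw [pow_one, pow_zero, Ideal.one_eq_top, Ideal.mul_top, pow_one, ← Ideal.span_insert, ← hm]
    | succ k ih =>
      rw [pow_succ' (maximalIdeal A) (k + 1)]
      conv_lhs => arg 1; rw [hm, Ideal.span_insert]
      rw [Ideal.sup_mul]
      refine sup_le le_sup_left ?_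
      refine (Ideal.mul_mono_right ih).trans ?_
      rw [Ideal.mul_sup, Ideal.span_singleton_mul_span_singleton, ← mul_assoc, mul_comm (Ideal.span {g}), mul_assoc,
        pow_succ' (maximalIdeal A) k, pow_succ' g (k + 1)]
      exact sup_le_sup (Ideal.mul_mono_right (Ideal.mul_mono_left ((Ideal.span_singleton_le_iff_mem _).2 hgm))) le_rfl
  obtain ⟨x, hx, y, hy, hxy⟩ := Submodule.mem_sup.1 (key n h)
  obtain ⟨c, hc, rfl⟩ := Ideal.mem_span_singleton_mul.1 hx
  obtain ⟨e, rfl⟩ := Ideal.mem_span_singleton'.1 hy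
  have he : e * g ^ (n + 1) ∈ Ideal.span {a} := Ideal.mem_span_singleton'.2 ⟨f - c, by linear_combination -hxy⟩
  obtain ⟨e', rfl⟩ := Ideal.mem_span_singleton'.1
    ((hp.mem_or_mem he).resolve_right fun hh => hg (hp.mem_of_pow_mem _ hh))
  have : f = c + e' * g ^ (n + 1) := mul_left_cancel₀ ha (by linear_combination -hxy)
  rw [this]
  exact Ideal.add_mem _ hc (Ideal.mul_mem_left _ _ (Ideal.pow_le_pow_right n.le_succ (Ideal.pow_mem_pow hgm _)))

variable {X : Scheme.{u}} {b : X ⟶ Spec (CommRingCat.of A)}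

theorem ideal_idealSheaf_top (I : Ideal A) :
    (Curv2.idealSheaf A I).ideal ⟨⊤, isAffineOpen_top _⟩ =
      I.map (Scheme.ΓSpecIso (CommRingCat.of A)).inv.hom := by
  show (I.map (Scheme.ΓSpecIso (CommRingCat.of A)).inv.hom).map
      ((Spec (CommRingCat.of A)).presheaf.map (homOfLE le_top).op).hom = _
  rw [show (homOfLE (le_top : (⊤ : (Spec (CommRingCat.of A)).Opens) ≤ ⊤)).op = 𝟙 _ from rfl, CategoryTheory.Functor.map_id]
  exact Ideal.map_id _

/-- Functions vanishing to order `n` on the exceptional divisor lie in the `n`-th power of the maximal ideal. -/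
theorem mem_pow_of_comap_le (hA : ringKrullDim A = 2)
    (hb : BlowUp.IsBlowUp b (Curv2.idealSheaf A (maximalIdeal A))) {n : ℕ} {f : A}
    (h : (Curv2.idealSheaf A (Ideal.span {f})).comap b ≤
      BlowUp.exceptional b (Curv2.idealSheaf A (maximalIdeal A)) ^ n) : f ∈ maximalIdeal A ^ n := by
  haveI := CAlgH3.isDomain_of_isRegularLocalRing A
  obtain ⟨a, g, hm, hp, hga, ha⟩ := exists_params_two hA
  let K := FractionRing A
  let ι := algebraMap A K
  have hι : Function.Injective ι := IsFractionRing.injective A K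
  have haK : ι a ≠ 0 := fun h0 => ha (hι (by rw [h0, map_zero]))
  let B := Algebra.adjoin A ({ι g / ι a} : Set K)
  let j : A →+* B := algebraMap A B
  let τ := Spec.map (CommRingCat.ofHom j)
  let ga : B := ⟨ι g / ι a, Algebra.subset_adjoin rfl⟩
  have hga' : j g = ga * j a := Subtype.ext (div_mul_cancel₀ _ haK).symm
  have hmB : (maximalIdeal A).map j = Ideal.span {j a} := by
    rw [hm, Ideal.map_span, Set.image_pair, hga', Ideal.span_insert, sup_eq_left]
    exact (Ideal.span_singleton_le_iff_mem _).2 (Ideal.mem_span_singleton'.2 ⟨ga, rfl⟩)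
  have hcomap : ∀ I : Ideal A, ((Curv2.idealSheaf A I).comap τ).ideal ⟨⊤, isAffineOpen_top _⟩ =
      (I.map j).map (Scheme.ΓSpecIso (CommRingCat.of B)).inv.hom := by
    intro I
    rw [ProjLib.comap_ideal_eq _ τ ⟨⊤, isAffineOpen_top _⟩ ⟨⊤, isAffineOpen_top _⟩ le_top, ideal_idealSheaf_top,
      Ideal.map_map, Ideal.map_map]
    congr 1
    rw [← CommRingCat.hom_comp, Scheme.Hom.appLE]
    have h1 := Scheme.ΓSpecIso_inv_naturality (CommRingCat.ofHom j)
    refine Eq.trans ?_ (congrArg CommRingCat.Hom.hom h1).symm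
    refine congrArg CommRingCat.Hom.hom (congrArg _ ?_)
    exact (congrArg (fun q => (Spec.map (CommRingCat.ofHom j)).app ⊤ ≫ q)
      ((congrArg _ (Subsingleton.elim _ (𝟙 _))).trans (CategoryTheory.Functor.map_id _ _))).trans (Category.comp_id _)
  have hcart : BlowUp.IsEffCartierIdeal ((Curv2.idealSheaf A (maximalIdeal A)).comap τ) := by
    intro x
    refine ⟨⟨⊤, isAffineOpen_top _⟩, trivial, (Scheme.ΓSpecIso (CommRingCat.of B)).inv.hom (j a),
      mem_nonZeroDivisors_of_ne_zero fun h0 => haK ?_, ?_⟩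
    · have := (Scheme.ΓSpecIso (CommRingCat.of B)).commRingCatIsoToRingEquiv.symm.injective
        (show _ = (Scheme.ΓSpecIso (CommRingCat.of B)).inv.hom 0 from h0.trans (map_zero _).symm)
      exact congrArg Subtype.val this
    · rw [hcomap, hmB, Ideal.map_span, Set.image_singleton]
  obtain ⟨s, hs, -⟩ := hb.2 (Spec (CommRingCat.of B)) τ hcart
  change s ≫ b = τ at hs
  have h1 := Scheme.IdealSheafData.comap_mono s h
  simp only at h1
  rw [BlowUp.exceptional, FSchLib.comap_pow, ← Scheme.IdealSheafData.comap_comp, ← Scheme.IdealSheafData.comap_comp,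
    hs] at h1
  have h2 := h1 ⟨⊤, isAffineOpen_top _⟩
  rw [Scheme.IdealSheafData.ideal_pow, Pi.pow_apply, hcomap, hcomap, ← Ideal.map_pow, hmB, Ideal.span_singleton_pow,
    Ideal.map_le_iff_le_comap, Ideal.comap_map_of_bijective _ (show Function.Bijective (Scheme.ΓSpecIso (CommRingCat.of B)).inv.hom from
      ConcreteCategory.bijective_of_isIso _), Ideal.map_span,
    Set.image_singleton, Ideal.span_singleton_le_iff_mem, Ideal.mem_span_singleton'] at h2
  obtain ⟨c, hc⟩ := h2
  have hden : ∀ z ∈ B, ∃ k : ℕ, ∃ u ∈ maximalIdeal A ^ k, z * ι a ^ k = ι u := by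
    intro z hz
    induction hz using Algebra.adjoin_induction with
    | mem z hz =>
      rw [Set.mem_singleton_iff.1 hz]
      exact ⟨1, g, by rw [pow_one, hm]; exact Ideal.subset_span (Set.mem_insert_of_mem _ rfl),
        by rw [pow_one, div_mul_cancel₀ _ haK]⟩
    | algebraMap r => exact ⟨0, r, by rw [pow_zero, Ideal.one_eq_top]; trivial, by rw [pow_zero, mul_one]⟩
    | add z w _ _ hz hw =>
      obtain ⟨k, u, hu, hzu⟩ := hz
      obtain ⟨l, v, hv, hwv⟩ := hw
      have hal : ∀ e : ℕ, a ^ e ∈ maximalIdeal A ^ e := fun e =>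
        Ideal.pow_mem_pow (hm ▸ Ideal.subset_span (Set.mem_insert _ _)) e
      refine ⟨k + l, u * a ^ l + v * a ^ k, Ideal.add_mem _ (pow_add (maximalIdeal A) k l ▸ Ideal.mul_mem_mul hu (hal l))
        (by rw [add_comm k l, pow_add]; exact Ideal.mul_mem_mul hv (hal k)), ?_⟩
      rw [map_add, map_mul, map_mul, map_pow, map_pow, ← hzu, ← hwv]
      ring
    | mul z w _ _ hz hw =>
      obtain ⟨k, u, hu, hzu⟩ := hz
      obtain ⟨l, v, hv, hwv⟩ := hw
      exact ⟨k + l, u * v, pow_add (maximalIdeal A) k l ▸ Ideal.mul_mem_mul hu hv,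
        by rw [map_mul, ← hzu, ← hwv]; ring⟩
  obtain ⟨k, u, hu, hcu⟩ := hden c.1 c.2
  have heq : f * a ^ k = u * a ^ n := hι (by
    have hc' : (c : K) * ι a ^ n = ι f := congrArg Subtype.val hc
    show ι (f * a ^ k) = ι (u * a ^ n)
    rw [map_mul, map_mul, map_pow, map_pow, ← hc', ← hcu]
    ring)
  have hfk : f * a ^ k ∈ maximalIdeal A ^ (n + k) := by
    rw [heq, add_comm n k, pow_add]
    exact Ideal.mul_mem_mul hu (Ideal.pow_mem_pow (hm ▸ Ideal.subset_span (Set.mem_insert _ _)) n)
  clear hu hcu heq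
  induction k with
  | zero => simpa using hfk
  | succ k ih =>
    refine ih (mem_pow_of_mul_mem hm hp hga ha ?_)
    rwa [pow_succ, ← mul_assoc, mul_comm, ← add_assoc] at hfk

theorem idealSheaf_span_le_pow {f : A} {n : ℕ} (hf : f ∈ maximalIdeal A ^ n) :
    Curv2.idealSheaf A (Ideal.span {f}) ≤ Curv2.idealSheaf A (maximalIdeal A) ^ n := by
  refine Scheme.IdealSheafData.le_of_isAffine ?_
  rw [Scheme.IdealSheafData.ideal_pow, Pi.pow_apply, ideal_idealSheaf_top, ideal_idealSheaf_top, ← Ideal.map_pow]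
  exact Ideal.map_mono ((Ideal.span_singleton_le_iff_mem _).2 hf)


/-- The exceptional curve of the blow-up of a two-dimensional regular local ring. -/
theorem exists_exc_spec (hA : ringKrullDim A = 2) (hb : BlowUp.IsBlowUp b (Curv2.idealSheaf A (IsLocalRing.maximalIdeal A))) :
    ∃ (E : Scheme.{u}) (ι : E ⟶ X) (_ : IsClosedImmersion ι), Models.IsExcCurve ι ∧
      ∃ (z : Spec (CommRingCat.of A)) (_ : IsClosed ({z} : Set (Spec (CommRingCat.of A)))),
        Set.range (ι ≫ b).base = {z} ∧ ι.ker = BlowUp.exceptional b (Curv2.idealSheaf A (IsLocalRing.maximalIdeal A)) ∧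
          Models.IsContractionOf ι b := by
  let S := Spec (CommRingCat.of A)
  let z : S := IsLocalRing.closedPoint A
  have hz : IsClosed ({z} : Set S) := (PrimeSpectrum.isClosed_singleton_iff_isMaximal _).2 (IsLocalRing.maximalIdeal.isMaximal A)
  let Iz := Scheme.IdealSheafData.vanishingIdeal (X := S) ⟨{z}, hz⟩
  have hsupp : ((Curv2.idealSheaf A (IsLocalRing.maximalIdeal A)).support : Set S) = {z} := by
    rw [Groth.Agent.CAlgH3.BlowUpCd.support_idealSheaf]
    refine Set.eq_singleton_iff_unique_mem.2 ⟨fun a ha => ha, fun P hP => PrimeSpectrum.ext ?_⟩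
    exact ((IsLocalRing.maximalIdeal.isMaximal A).eq_of_le P.isPrime.ne_top (fun a ha => hP ha)).symm
  have hIz : Curv2.idealSheaf A (IsLocalRing.maximalIdeal A) = Iz := by
    refine le_antisymm (Scheme.IdealSheafData.le_support_iff_le_vanishingIdeal.1 (fun w hw => hsupp.ge hw)) ?_
    refine Scheme.IdealSheafData.le_of_isAffine ?_
    rw [Groth.Agent.BlowUpKoszul.idealSheaf_top_ideal]
    haveI hmax : ((IsLocalRing.maximalIdeal A).map (Scheme.ΓSpecIso (CommRingCat.of A)).inv.hom).IsMaximal :=
      Ideal.map_isMaximal_of_equiv (Scheme.ΓSpecIso (CommRingCat.of A)).symm.commRingCatIsoToRingEquiv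
    refine (hmax.eq_of_le (fun htop => ?_) ?_).ge
    · have h : (z : S) ∈ (Iz.support : Set S) := (Scheme.IdealSheafData.coe_support_vanishingIdeal _).ge rfl
      rw [SetLike.mem_coe, Scheme.IdealSheafData.mem_support_iff_of_mem (U := ⟨⊤, isAffineOpen_top _⟩) trivial, htop,
        Scheme.mem_zeroLocus_iff] at h
      exact h 1 trivial (by rw [Scheme.basicOpen_of_isUnit _ isUnit_one]; trivial)
    · rw [← Groth.Agent.BlowUpKoszul.idealSheaf_top_ideal]
      exact Scheme.IdealSheafData.le_support_iff_le_vanishingIdeal.1 (fun w hw => hsupp.ge hw) ⟨⊤, isAffineOpen_top _⟩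
  rw [hIz] at hb
  haveI : IsNoetherian S := inferInstance
  let eA : A ≃+* S.presheaf.stalk z := by
    letI : Algebra A (S.presheaf.stalk z) := StructureSheaf.stalkAlgebra A z
    haveI : IsLocalization.AtPrime (S.presheaf.stalk z) (IsLocalRing.maximalIdeal A) :=
      StructureSheaf.IsLocalization.to_stalk A z
    exact (IsLocalization.atUnits A (IsLocalRing.maximalIdeal A).primeCompl (S := S.presheaf.stalk z)
      (fun a (ha : a ∉ IsLocalRing.maximalIdeal A) => IsLocalRing.notMem_maximalIdeal.1 ha)).toRingEquiv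
  haveI : IsRegularLocalRing (S.presheaf.stalk z) := IsRegularLocalRing.of_ringEquiv eA
  have hdim : ringKrullDim (S.presheaf.stalk z) = 2 := by rw [← ringKrullDim_eq_of_ringEquiv eA]; exact hA
  haveI : IsProper b := Groth.Agent.BlowUpLib.isProper_of_isBlowUp hb (Groth.Agent.FlatMorAdm.isFiniteTypeIdeal_of_noetherian _)
  haveI : IsLocallyNoetherian X := LocallyOfFiniteType.isLocallyNoetherian b
  haveI : CompactSpace X := QuasiCompact.compactSpace_of_compactSpace b
  haveI : IsNoetherian X := {}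
  obtain ⟨E, ι, hι, hE, -, hr, hker⟩ := exists_excCurve_point z hz hdim b hb
  have hc : Models.IsContractionOf ι b :=
    ⟨inferInstance, inferInstance, z, hz, hr, inferInstance, hdim, hb⟩
  exact ⟨E, ι, hι, hE, z, hz, hr, hker.trans (congrArg (fun J => J.comap b) hIz.symm), hc⟩

end Groth.Agent.Resolve13
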