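import Groth.Agent.FSchLib.Completion
import Groth.Prelude.Def_Curv2
import Mathlib

/-!
# Local rings of the base change to the completion over the closed point
-/

set_option autoImplicit false
set_option backward.isDefEq.respectTransparency.types false
universe u
open CategoryTheory CategoryTheory.Limits AlgebraicGeometry

namespace Groth.Agent.Resolve13.CompletionPts

/-- `ψ` is bijective modulo every power of `I`. -/
structure Adic {B B' : Type u} [CommRing B] [CommRing B'] (ψ : B →+* B') (I : Ideal B) : Prop where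
  surj : ∀ (n : ℕ) (x : B'), ∃ b, x - ψ b ∈ (I ^ n).map ψ
  inj : ∀ (n : ℕ) (b : B), ψ b ∈ (I ^ n).map ψ → b ∈ I ^ n

variable {B B' : Type u} [CommRing B] [CommRing B'] {ψ : B →+* B'} {I : Ideal B}

theorem Adic.mem_of_map_mem (h : Adic ψ I) {J : Ideal B} {n : ℕ} (hJ : I ^ n ≤ J) {b : B}
    (hb : ψ b ∈ J.map ψ) : b ∈ J := by
  have key : ∀ y ∈ J.map ψ, ∃ j ∈ J, y - ψ j ∈ (I ^ n).map ψ := fun y hy => by
    induction hy using Submodule.span_induction with
    | mem z hz => obtain ⟨j, hj, rfl⟩ := hz; exact ⟨j, hj, by simp⟩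
    | zero => exact ⟨0, J.zero_mem, by simp⟩
    | add z w _ _ hz hw =>
      obtain ⟨j, hj, hj'⟩ := hz
      obtain ⟨k, hk, hk'⟩ := hw
      exact ⟨j + k, J.add_mem hj hk, by rw [map_add, add_sub_add_comm]; exact Ideal.add_mem _ hj' hk'⟩
    | smul c z _ hz =>
      obtain ⟨j, hj, hj'⟩ := hz
      obtain ⟨d, hd⟩ := h.surj n c
      refine ⟨d * j, J.mul_mem_left _ hj, ?_⟩
      have e : c • z - ψ (d * j) = (c - ψ d) * z + ψ d * (z - ψ j) := by rw [map_mul, smul_eq_mul]; ring
      rw [e]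
      exact Ideal.add_mem _ (Ideal.mul_mem_right _ _ hd) (Ideal.mul_mem_left _ _ hj')
  obtain ⟨j, hj, hj'⟩ := key _ hb
  rw [← map_sub] at hj'
  simpa using J.add_mem (hJ (h.inj n _ hj')) hj

variable {P : Ideal B} [hP : P.IsPrime] {Q : Ideal B'} [hQ : Q.IsPrime]

theorem Adic.eq_map (h : Adic ψ I) (hI : I ≤ P) (hQP : Q.comap ψ = P) : Q = P.map ψ := by
  refine le_antisymm (fun x hx => ?_) (Ideal.map_le_iff_le_comap.2 hQP.ge)
  obtain ⟨b, hb⟩ := h.surj 1 x
  rw [pow_one] at hb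
  have hb' : x - ψ b ∈ P.map ψ := Ideal.map_mono hI hb
  have hbQ : ψ b ∈ Q := by
    have := Q.sub_mem hx (Ideal.map_le_iff_le_comap.2 hQP.ge hb')
    rwa [sub_sub_cancel] at this
  have := Ideal.add_mem _ hb' (Ideal.mem_map_of_mem ψ (hQP ▸ hbQ : b ∈ P))
  rwa [sub_add_cancel] at this

variable {O O' : Type u} [CommRing O] [CommRing O'] [Algebra B O] [Algebra B' O'] [IsLocalRing O] [IsLocalRing O']
  [IsLocalization.AtPrime O P] [IsLocalization.AtPrime O' Q] (ρ : O →+* O')
  (hρ : ∀ b, ρ (algebraMap B O b) = algebraMap B' O' (ψ b))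
include hρ

/-- The local homomorphism is bijective modulo powers of the maximal ideals. -/
theorem Adic.bijective (h : Adic ψ I) (hI : I ≤ P) (hQP : Q.comap ψ = P) (n : ℕ)
    (hle : IsLocalRing.maximalIdeal O ^ n ≤ (IsLocalRing.maximalIdeal O' ^ n).comap ρ) :
    Function.Bijective (Ideal.quotientMap (IsLocalRing.maximalIdeal O' ^ n) ρ hle) := by
  have hQ' : IsLocalRing.maximalIdeal O' ^ n = ((P ^ n).map ψ).map (algebraMap B' O') := by
    rw [← IsLocalization.AtPrime.map_eq_maximalIdeal Q O', Ideal.map_pow, Ideal.map_pow, h.eq_map hI hQP]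
  have hP' : IsLocalRing.maximalIdeal O ^ n = (P ^ n).map (algebraMap B O) := by
    rw [← IsLocalization.AtPrime.map_eq_maximalIdeal P O, Ideal.map_pow]
  constructor
  · rw [injective_iff_map_eq_zero]
    intro x hx
    obtain ⟨x, rfl⟩ := Ideal.Quotient.mk_surjective x
    rw [Ideal.quotientMap_mk, Ideal.Quotient.eq_zero_iff_mem] at hx
    rw [Ideal.Quotient.eq_zero_iff_mem, hP']
    obtain ⟨b, s, rfl⟩ := IsLocalization.exists_mk'_eq P.primeCompl x
    rw [IsLocalization.mk'_mem_map_algebraMap_iff]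
    have h1 : algebraMap B' O' (ψ b) ∈ ((P ^ n).map ψ).map (algebraMap B' O') := by
      rw [← hQ', ← hρ, ← IsLocalization.mk'_spec' O b s, map_mul]
      exact Ideal.mul_mem_left _ _ hx
    obtain ⟨t', ht', ht''⟩ := (IsLocalization.algebraMap_mem_map_algebraMap_iff Q.primeCompl O' _ _).1 h1
    obtain ⟨t, ht⟩ := h.surj n t'
    have hsub : (I ^ n).map ψ ≤ (P ^ n).map ψ := Ideal.map_mono (Ideal.pow_right_mono hI n)
    have htP : t ∉ P ∨ n = 0 := by
      rcases Nat.eq_zero_or_pos n with h0 | h0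
      · exact Or.inr h0
      refine Or.inl fun htm => ht' ?_
      have : t' - ψ t ∈ Q := by
        exact (h.eq_map hI hQP).ge (Ideal.map_mono (Ideal.pow_le_self h0.ne') (hsub ht))
      simpa using Q.add_mem this (show ψ t ∈ Q from hQP.ge htm)
    rcases htP with htP | h0
    · refine ⟨t, htP, h.mem_of_map_mem (Ideal.pow_right_mono hI n) ?_⟩
      have e : ψ (t * b) = t' * ψ b - (t' - ψ t) * ψ b := by rw [map_mul]; ring
      rw [e]
      exact Ideal.sub_mem _ ht'' (Ideal.mul_mem_right _ _ (hsub ht))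
    · subst h0
      exact ⟨1, P.primeCompl.one_mem, by simp⟩
  · intro y
    obtain ⟨y, rfl⟩ := Ideal.Quotient.mk_surjective y
    obtain ⟨x', s', rfl⟩ := IsLocalization.exists_mk'_eq Q.primeCompl y
    obtain ⟨b, hb⟩ := h.surj n x'
    obtain ⟨s, hs⟩ := h.surj (n + 1) s'.1
    have hsub : (I ^ n).map ψ ≤ (P ^ n).map ψ := Ideal.map_mono (Ideal.pow_right_mono hI n)
    have hs' : s ∉ P := fun hsm => s'.2 <| by
      have : (s'.1 : B') - ψ s ∈ Q := by
        exact (h.eq_map hI hQP).ge (Ideal.map_mono ((Ideal.pow_le_self n.succ_ne_zero).trans hI) hs)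
      simpa using Q.add_mem this (show ψ s ∈ Q from hQP.ge hsm)
    refine ⟨Ideal.Quotient.mk _ (IsLocalization.mk' O b (⟨s, hs'⟩ : P.primeCompl)), ?_⟩
    rw [Ideal.quotientMap_mk, Ideal.Quotient.eq]
    have hu : IsUnit (algebraMap B' O' (s'.1 * ψ s)) :=
      IsLocalization.map_units O' (⟨s'.1 * ψ s, Q.primeCompl.mul_mem s'.2 fun hsQ => hs' (hQP ▸ hsQ)⟩ : Q.primeCompl)
    rw [← Ideal.unit_mul_mem_iff_mem _ hu, hQ']
    have e : algebraMap B' O' (s'.1 * ψ s) * (ρ (IsLocalization.mk' O b (⟨s, hs'⟩ : P.primeCompl)) - IsLocalization.mk' O' x' s') =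
        algebraMap B' O' ((s'.1 - ψ s) * ψ b - ψ s * (x' - ψ b)) := by
      have h1 : ρ (IsLocalization.mk' O b (⟨s, hs'⟩ : P.primeCompl)) * algebraMap B' O' (ψ s) = algebraMap B' O' (ψ b) := by
        rw [← hρ, ← hρ, ← map_mul, IsLocalization.mk'_spec]
      have h2 := IsLocalization.mk'_spec O' x' s'
      simp only [map_mul, map_sub] at h2 ⊢
      linear_combination (algebraMap B' O' s'.1) * h1 - (algebraMap B' O' (ψ s)) * h2
    rw [e]
    exact Ideal.mem_map_of_mem _ (Ideal.sub_mem _ (Ideal.mul_mem_right _ _ (hsub (Ideal.map_mono (Ideal.pow_le_pow_right n.le_succ) hs)))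
      (Ideal.mul_mem_left _ _ (hsub hb)))

/-- The maximal ideal generates. -/
theorem Adic.map_maximalIdeal (h : Adic ψ I) (hI : I ≤ P) (hQP : Q.comap ψ = P) :
    (IsLocalRing.maximalIdeal O).map ρ = IsLocalRing.maximalIdeal O' := by
  rw [← IsLocalization.AtPrime.map_eq_maximalIdeal Q O', ← IsLocalization.AtPrime.map_eq_maximalIdeal P O,
    h.eq_map hI hQP, Ideal.map_map, Ideal.map_map]
  exact congrArg (fun g => Ideal.map g P) (RingHom.ext hρ)

omit hρ

section Pushout

variable {A : Type u} [CommRing A] [IsLocalRing A]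

/-- A pushout along the completion is bijective modulo powers of the maximal ideal. -/
theorem adic_of_isPushout (hm : (IsLocalRing.maximalIdeal A).FG) {B B' : CommRingCat.{u}}
    (a : CommRingCat.of A ⟶ B) (b : CommRingCat.of (Curv2.cpl A) ⟶ B') (ψ : B ⟶ B')
    (H : IsPushout a (CommRingCat.ofHom (algebraMap A (Curv2.cpl A))) ψ b) :
    Adic ψ.hom ((IsLocalRing.maximalIdeal A).map a.hom) := by
  let m := IsLocalRing.maximalIdeal A
  let I := m.map a.hom
  have hker := fun n => FSchLib.ker_evalₐ m hm n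
  have hI : ∀ n, I ^ n = (m ^ n).map a.hom := fun n => (Ideal.map_pow _ _ _).symm
  let θ : ∀ n, Curv2.cpl A →+* B ⧸ I ^ n := fun n =>
    (Ideal.Quotient.lift (m ^ n) ((Ideal.Quotient.mk (I ^ n)).comp a.hom) fun x hx =>
      Ideal.Quotient.eq_zero_iff_mem.2 (hI n ▸ Ideal.mem_map_of_mem _ hx)).comp (AdicCompletion.evalₐ m n).toRingHom
  have hθ : ∀ n x, θ n (algebraMap A (Curv2.cpl A) x) = Ideal.Quotient.mk _ (a.hom x) := fun n x => by
    simp only [θ, RingHom.comp_apply]
    erw [FSchLib.evalₐ_algebraMap]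
  let χ : ∀ n, B' ⟶ CommRingCat.of (B ⧸ I ^ n) := fun n =>
    H.desc (CommRingCat.ofHom (Ideal.Quotient.mk (I ^ n))) (CommRingCat.ofHom (θ n))
      (CommRingCat.hom_ext (RingHom.ext fun x => (hθ n x).symm))
  have hχψ : ∀ n x, (χ n).hom (ψ.hom x) = Ideal.Quotient.mk (I ^ n) x := fun n x =>
    ConcreteCategory.congr_hom (H.inl_desc _ _ _) x
  have hχb : ∀ n z, (χ n).hom (b.hom z) = θ n z := fun n z => ConcreteCategory.congr_hom (H.inr_desc _ _ _) z
  have hw : ∀ x, ψ.hom (a.hom x) = b.hom (algebraMap A (Curv2.cpl A) x) := fun x => ConcreteCategory.congr_hom H.w x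
  refine ⟨fun n x => ?_, fun n x hx => ?_⟩
  · let J := (I ^ n).map ψ.hom
    let π : B ⧸ I ^ n →+* B' ⧸ J := Ideal.quotientMap J ψ.hom Ideal.le_comap_map
    have key : CommRingCat.ofHom (π.comp (χ n).hom) = CommRingCat.ofHom (Ideal.Quotient.mk J) := by
      refine H.hom_ext (CommRingCat.hom_ext (RingHom.ext fun y => ?_)) (CommRingCat.hom_ext (RingHom.ext fun z => ?_))
      · show π ((χ n).hom (ψ.hom y)) = Ideal.Quotient.mk J (ψ.hom y)
        rw [hχψ]; exact Ideal.quotientMap_mk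
      · show π ((χ n).hom (b.hom z)) = Ideal.Quotient.mk J (b.hom z)
        obtain ⟨r, hr⟩ := Ideal.Quotient.mk_surjective (AdicCompletion.evalₐ m n z)
        have hz : z - algebraMap A (Curv2.cpl A) r ∈ (m.map (algebraMap A (Curv2.cpl A))) ^ n := by
          rw [← hker n, RingHom.mem_ker, map_sub]
          show AdicCompletion.evalₐ m n z - AdicCompletion.evalₐ m n (algebraMap A _ r) = 0
          rw [FSchLib.evalₐ_algebraMap, hr, sub_self]
        have hz' : Ideal.Quotient.mk J (b.hom z) = Ideal.Quotient.mk J (ψ.hom (a.hom r)) := by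
          rw [Ideal.Quotient.eq, hw, ← map_sub]
          refine (Ideal.map_le_iff_le_comap (f := b.hom) (I := (m.map (algebraMap A (Curv2.cpl A))) ^ n) (K := J)).1 ?_ hz
          rw [← Ideal.map_pow, Ideal.map_map]
          show (m ^ n).map _ ≤ (I ^ n).map ψ.hom
          rw [hI, Ideal.map_map]
          exact le_of_eq (congrArg (fun g => Ideal.map g (m ^ n)) (RingHom.ext fun x => (hw x).symm))
        rw [hz', hχb]
        refine (congrArg π (congrArg _ hr.symm)).trans ?_
        exact Ideal.quotientMap_mk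
    obtain ⟨y, hy⟩ := Ideal.Quotient.mk_surjective ((χ n).hom x)
    refine ⟨y, (Ideal.Quotient.eq).1 ?_⟩
    refine (ConcreteCategory.congr_hom key x).symm.trans ?_
    show π ((χ n).hom x) = _
    rw [← hy]; exact Ideal.quotientMap_mk
  · rw [← Ideal.Quotient.eq_zero_iff_mem, ← hχψ n x, ← RingHom.mem_ker]
    refine (Ideal.map_le_iff_le_comap.2 fun y hy => ?_) hx
    rw [Ideal.mem_comap, RingHom.mem_ker, hχψ, Ideal.Quotient.eq_zero_iff_mem]
    exact hy

end Pushout

/-- The local homomorphism at a point over the closed point of the completion. -/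
theorem stalk_props (A : Type u) [CommRing A] [IsLocalRing A]
    (hm : (IsLocalRing.maximalIdeal A).FG) (X : Scheme.{u}) (f : X ⟶ Spec (CommRingCat.of A))
    (q : ↥(Curv2.bcCpl A f)) (hq : f.base ((Curv2.bcCplFst A f).base q) = IsLocalRing.closedPoint A) :
    (IsLocalRing.maximalIdeal (X.presheaf.stalk ((Curv2.bcCplFst A f).base q))).map
        ((Curv2.bcCplFst A f).stalkMap q).hom = IsLocalRing.maximalIdeal ((Curv2.bcCpl A f).presheaf.stalk q) ∧
      ∀ (n : ℕ) (h : IsLocalRing.maximalIdeal (X.presheaf.stalk ((Curv2.bcCplFst A f).base q)) ^ n ≤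
        (IsLocalRing.maximalIdeal ((Curv2.bcCpl A f).presheaf.stalk q) ^ n).comap ((Curv2.bcCplFst A f).stalkMap q).hom),
        Function.Bijective (Ideal.quotientMap (IsLocalRing.maximalIdeal ((Curv2.bcCpl A f).presheaf.stalk q) ^ n)
          ((Curv2.bcCplFst A f).stalkMap q).hom h) := by
  obtain ⟨U, hU, hpU, -⟩ := exists_isAffineOpen_mem_and_subset (x := (Curv2.bcCplFst A f).base q) (U := ⊤) trivial
  let g := Curv2.bcCplFst A f
  let V : (Curv2.bcCpl A f).Opens := g ⁻¹ᵁ U ⊓ Curv2.bcCplSnd A f ⁻¹ᵁ ⊤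
  have hV : IsAffineOpen V := by
    haveI : IsAffineHom g := MorphismProperty.pullback_fst _ _ inferInstance
    show IsAffineOpen (g ⁻¹ᵁ U ⊓ _)
    rw [Scheme.Hom.preimage_top, inf_top_eq]; exact hU.preimage g
  have hqV : q ∈ V := ⟨hpU, trivial⟩
  have H : IsPullback g (Curv2.bcCplSnd A f) f (Spec.map (CommRingCat.ofHom (algebraMap A (Curv2.cpl A)))) :=
    IsPullback.of_hasPullback _ _
  have hP := (isIso_pushoutSection_iff H (US := ⊤) (UT := ⊤) (UX := U) le_top le_top (UY := V) rfl).1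
    (isIso_pushoutSection_of_isAffineOpen H le_top le_top rfl (isAffineOpen_top _) (isAffineOpen_top _) hU)
  have hPO : IsPushout ((Scheme.ΓSpecIso (CommRingCat.of A)).inv ≫ f.appLE ⊤ U le_top)
      (CommRingCat.ofHom (algebraMap A (Curv2.cpl A))) (g.appLE U V inf_le_left)
      ((Scheme.ΓSpecIso (CommRingCat.of (Curv2.cpl A))).inv ≫ (Curv2.bcCplSnd A f).appLE ⊤ V inf_le_right) := by
    refine hP.of_iso (Scheme.ΓSpecIso (CommRingCat.of A)) (Iso.refl _) (Scheme.ΓSpecIso (CommRingCat.of (Curv2.cpl A)))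
      (Iso.refl _) (by simp) ?_ (by simp) (by simp)
    refine Eq.trans ?_ (Scheme.ΓSpecIso_naturality _)
    simp [Scheme.Hom.appLE]
  have hadic := adic_of_isPushout hm _ _ _ hPO
  let ψ := g.appLE U V inf_le_left
  letI := TopCat.Presheaf.algebra_section_stalk X.presheaf (⟨g q, hpU⟩ : U)
  letI := TopCat.Presheaf.algebra_section_stalk (Curv2.bcCpl A f).presheaf (⟨q, hqV⟩ : V)
  haveI := hU.isLocalization_stalk ⟨g q, hpU⟩
  haveI := hV.isLocalization_stalk ⟨q, hqV⟩
  have hρ : ∀ b : Γ(X, U), (g.stalkMap q).hom (algebraMap Γ(X, U) (X.presheaf.stalk (g q)) b) =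
      algebraMap Γ(Curv2.bcCpl A f, V) ((Curv2.bcCpl A f).presheaf.stalk q) (ψ.hom b) := fun b => by
    show (g.stalkMap q).hom ((X.presheaf.germ U (g q) hpU).hom b) =
      ((Curv2.bcCpl A f).presheaf.germ V q hqV).hom (ψ.hom b)
    rw [Scheme.Hom.germ_stalkMap_apply]
    exact (TopCat.Presheaf.germ_res_apply (Curv2.bcCpl A f).presheaf (homOfLE (inf_le_left : V ≤ g ⁻¹ᵁ U)) q hqV _).symm
  have hI : (IsLocalRing.maximalIdeal A).map ((Scheme.ΓSpecIso (CommRingCat.of A)).inv ≫ f.appLE ⊤ U le_top).hom ≤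
      (hU.primeIdealOf ⟨g q, hpU⟩).asIdeal := by
    refine Ideal.map_le_iff_le_comap.2 fun r hr => ?_
    rw [Ideal.mem_comap, ← IsLocalization.AtPrime.to_map_mem_maximal_iff (X.presheaf.stalk (g q))
      (hU.primeIdealOf ⟨g q, hpU⟩).asIdeal, IsLocalRing.mem_maximalIdeal, mem_nonunits_iff]
    intro hu
    have h1 : g q ∈ X.basicOpen (((Scheme.ΓSpecIso (CommRingCat.of A)).inv ≫ f.appLE ⊤ U le_top).hom r) :=
      (Scheme.mem_basicOpen X _ (g q) hpU).2 hu
    have h2 : g q ∈ f ⁻¹ᵁ PrimeSpectrum.basicOpen r := by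
      rw [← basicOpen_eq_of_affine (R := CommRingCat.of A) r]
      exact ((Scheme.basicOpen_appLE f U ⊤ le_top _).le h1).2
    have h3 : r ∉ (f.base ((Curv2.bcCplFst A f).base q)).asIdeal := h2
    rw [hq] at h3
    exact h3 hr
  have hQP := congrArg PrimeSpectrum.asIdeal (IsAffineOpen.comap_primeIdealOf_appLE U hU V hV inf_le_left hqV)

  exact ⟨hadic.map_maximalIdeal (g.stalkMap q).hom hρ hI hQP, fun n h => hadic.bijective (g.stalkMap q).hom hρ hI hQP n h⟩

end Groth.Agent.Resolve13.CompletionPts
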