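import Groth.Agent.SpecSeq.RightDerivedPlus
import Mathlib

/-!
# The first right derived functor as a cokernel
-/

set_option autoImplicit false
set_option linter.all false
set_option backward.isDefEq.respectTransparency false
set_option backward.defeqAttrib.useBackward true

universe v v' u u'

open CategoryTheory CategoryTheory.Limits

namespace Groth.Agent.Resolve13

variable {C : Type u} [Category.{v} C] [Abelian C] [EnoughInjectives C] [HasInjectiveResolutions C]
  {D : Type u'} [Category.{v'} D] [Abelian D] (F : C ⥤ D) [F.Additive] [PreservesFiniteLimits F]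

/-- An embedding `0 → M → I → Q → 0` into an injective computing `R¹F M` as `coker (F I → F Q)`. -/
theorem exists_rightDerived_one_seq (M : C) :
    ∃ (I Q : C) (i : M ⟶ I) (q : I ⟶ Q) (w : i ≫ q = 0) (_ : (ShortComplex.mk i q w).ShortExact),
      Injective I ∧ Nonempty ((F.rightDerived 1).obj M ≅ cokernel (F.map q)) := by
  let R := injectiveResolution M
  let d : R.cocomplex.X 0 ⟶ R.cocomplex.X 1 := R.cocomplex.d 0 1
  let d' : R.cocomplex.X 1 ⟶ R.cocomplex.X 2 := R.cocomplex.d 1 2
  have hdd : d ≫ d' = 0 := R.cocomplex.d_comp_d _ _ _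
  let e : R.cocomplex.X 0 ⟶ kernel d' := kernel.lift d' d hdd
  haveI he : Epi e := (ShortComplex.exact_iff_epi_kernel_lift _).1 (R.exact_succ 0)
  have hιd : R.ι.f 0 ≫ d = 0 := R.ι_f_zero_comp_complex_d
  have hιe : R.ι.f 0 ≫ e = 0 := by
    rw [← cancel_mono (kernel.ι d'), Category.assoc, kernel.lift_ι, hιd, zero_comp]
  have hker : (ShortComplex.mk (R.ι.f 0) d hιd).Exact :=
    ShortComplex.exact_of_f_is_kernel _ R.isLimitKernelFork
  have hker' : (ShortComplex.mk (R.ι.f 0) e hιe).Exact :=
    (ShortComplex.exact_iff_of_epi_of_isIso_of_mono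
      (S₁ := ShortComplex.mk (R.ι.f 0) e hιe) (S₂ := ShortComplex.mk (R.ι.f 0) d hιd)
      { τ₁ := 𝟙 _, τ₂ := 𝟙 _, τ₃ := kernel.ι d' }).2 hker
  refine ⟨_, _, R.ι.f 0, e, hιe,
    { exact := hker', mono_f := inferInstanceAs (Mono (R.ι.f 0)), epi_g := he }, R.injective 0, ⟨?_⟩⟩
  let K := (F.mapHomologicalComplex _).obj R.cocomplex
  have h : kernel.lift (F.map d') (F.map d) (by rw [← F.map_comp, hdd, F.map_zero]) =
      F.map e ≫ kernelComparison d' F := by
    rw [← cancel_mono (kernel.ι (F.map d')), kernel.lift_ι, Category.assoc, kernelComparison_comp_ι,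
      ← F.map_comp, kernel.lift_ι]
  exact R.isoRightDerivedObj F 1 ≪≫ K.homologyIsoSc' 0 1 2 (by simp) (by simp) ≪≫
    (ShortComplex.LeftHomologyData.ofHasKernelOfHasCokernel (K.sc' 0 1 2)).homologyIso ≪≫
    cokernelIsoOfEq h ≪≫ cokernelCompIsIso (F.map e) (kernelComparison d' F)

end Groth.Agent.Resolve13
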