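import Groth.Agent.CAlgSmall.NormNagata
import Groth.Prelude.Def_CAlg
import Mathlib

/-!
# The primes over an element of a two-dimensional normal local domain
-/

set_option autoImplicit false
universe u

namespace Groth.Agent.Resolve13.Torsion

variable {A : Type u} [CommRing A]

/-- Data at a height one prime containing `a`. -/
structure PData (a : A) (p : Ideal A) where
  c : A
  V : ℕ
  y : A
  z : A
  w : A
  hc : c ∈ p
  hgen : ∀ r ∈ p, ∃ s, s ∉ p ∧ c ∣ s * r
  hy : y ∉ p
  hz : z ∉ p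
  heq : a * z = y * c ^ V
  hV : 0 < V
  hw : w ∉ p
  hint : ∀ (L : Type u) [Field L] (φ : A →+* L), RingHom.ker φ = p → ∀ r s : A, s ∉ p →
    φ.IsIntegralElem (φ r / φ s) → ∃ b, φ w * (φ r / φ s) = φ b

variable [IsDomain A] [IsNoetherianRing A]

/-- A common denominator for the integral closure in the residue field of a prime of a Nagata ring. -/
theorem exists_denominator (hN : CAlg.IsNagata A) (p : Ideal A) [p.IsPrime] :
    ∃ w, w ∉ p ∧ ∀ (L : Type u) [Field L] (φ : A →+* L), RingHom.ker φ = p → ∀ r s : A, s ∉ p →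
      φ.IsIntegralElem (φ r / φ s) → ∃ b, φ w * (φ r / φ s) = φ b := by
  classical
  let F := FractionRing (A ⧸ p)
  haveI : Algebra.EssFiniteType A F := Algebra.EssFiniteType.comp A (A ⧸ p) F
  haveI : Module.Finite A (integralClosure A F) := CAlgSmall.NormNagata.finite_ic_field hN F
  obtain ⟨gens, hgens⟩ := Module.Finite.fg_top (R := A) (M := integralClosure A F)
  have hden : ∀ k : F, ∃ s, s ∉ p ∧ ∃ r, algebraMap A F s * k = algebraMap A F r := fun k => by
    obtain ⟨r, s, hs, rfl⟩ := IsFractionRing.div_surjective (A ⧸ p) k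
    obtain ⟨r, rfl⟩ := Ideal.Quotient.mk_surjective r
    obtain ⟨s, rfl⟩ := Ideal.Quotient.mk_surjective s
    have hs0 : Ideal.Quotient.mk p s ≠ 0 := nonZeroDivisors.ne_zero hs
    refine ⟨s, fun h => hs0 (Ideal.Quotient.eq_zero_iff_mem.2 h), r, ?_⟩
    rw [IsScalarTower.algebraMap_apply A (A ⧸ p) F s, IsScalarTower.algebraMap_apply A (A ⧸ p) F r]
    exact mul_div_cancel₀ _ fun h => hs0 (IsFractionRing.injective (A ⧸ p) F (h.trans (map_zero _).symm))
  choose s hs r hr using hden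
  let w := ∏ g ∈ gens, s g.1
  refine ⟨w, fun hw => ?_, ?_⟩
  · obtain ⟨g, -, hg⟩ := (‹p.IsPrime›.prod_mem_iff).1 hw
    exact hs _ hg
  intro L _ φ hφ r₀ s₀ hs₀ hint
  have hinj : Function.Injective (Ideal.Quotient.lift p φ fun x hx => RingHom.mem_ker.1 (hφ.symm ▸ hx)) := by
    rw [injective_iff_map_eq_zero]
    intro x hx
    obtain ⟨x, rfl⟩ := Ideal.Quotient.mk_surjective x
    exact Ideal.Quotient.eq_zero_iff_mem.2 (hφ ▸ RingHom.mem_ker.2 hx)
  let ψ : F →+* L := IsFractionRing.lift (K := F) hinj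
  have hψ : ∀ t : A, ψ (algebraMap A F t) = φ t := fun t => by
    rw [IsScalarTower.algebraMap_apply A (A ⧸ p) F t]
    exact (IsFractionRing.lift_algebraMap hinj _).trans rfl
  let k : F := algebraMap A F r₀ / algebraMap A F s₀
  have hψk : ψ k = φ r₀ / φ s₀ := by rw [map_div₀, hψ, hψ]
  have hk : _root_.IsIntegral A k := by
    letI : Algebra A L := φ.toAlgebra
    let Ψ : F →ₐ[A] L := { ψ with commutes' := hψ }
    refine (isIntegral_algHom_iff Ψ ψ.injective).1 ?_
    show _root_.IsIntegral A (ψ k)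
    rw [hψk]
    exact hint
  have key : ∀ m : integralClosure A F, ∃ b, algebraMap A F w * m.1 = algebraMap A F b := fun m => by
    have hm : m ∈ Submodule.span A (gens : Set (integralClosure A F)) := hgens ▸ Submodule.mem_top
    induction hm using Submodule.span_induction with
    | mem g hg =>
      refine ⟨(∏ g' ∈ gens.erase g, s g'.1) * r g.1, ?_⟩
      rw [show w = (∏ g' ∈ gens.erase g, s g'.1) * s g.1 from (Finset.prod_erase_mul gens _ hg).symm, map_mul,
        map_mul, mul_assoc, hr]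
    | zero => exact ⟨0, by rw [show ((0 : integralClosure A F) : F) = 0 from rfl, mul_zero, map_zero]⟩
    | add m₁ m₂ _ _ h₁ h₂ =>
      obtain ⟨b₁, hb₁⟩ := h₁; obtain ⟨b₂, hb₂⟩ := h₂
      exact ⟨b₁ + b₂, by rw [show ((m₁ + m₂ : integralClosure A F) : F) = m₁.1 + m₂.1 from rfl, mul_add, hb₁, hb₂, map_add]⟩
    | smul t m₁ _ h₁ =>
      obtain ⟨b₁, hb₁⟩ := h₁
      exact ⟨t * b₁, by
        rw [show ((t • m₁ : integralClosure A F) : F) = t • m₁.1 from rfl, Algebra.smul_def, mul_left_comm, hb₁, map_mul]⟩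
  obtain ⟨b, hb⟩ := key ⟨k, hk⟩
  exact ⟨b, by rw [← hψ w, ← hψk, ← map_mul, hb, hψ]⟩

variable [IsIntegrallyClosed A]

/-- The data exist. -/
theorem exists_pData (hN : CAlg.IsNagata A) {a : A} (ha : a ≠ 0) (p : Ideal A) [p.IsPrime] (hap : a ∈ p)
    (hp : p.height = 1) : Nonempty (PData a p) := by
  let R := Localization.AtPrime p
  have hd : ringKrullDim R = 1 := by
    rw [IsLocalization.AtPrime.ringKrullDim_eq_height p R, hp]; rfl
  haveI : IsIntegrallyClosed R := isIntegrallyClosed_of_isLocalization R p.primeCompl p.primeCompl_le_nonZeroDivisors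
  haveI : IsNoetherianRing R := IsLocalization.isNoetherianRing p.primeCompl R inferInstance
  haveI : IsPrincipalIdealRing R := ((tfae_of_isNoetherianRing_of_isLocalRing_of_isDomain R).out 3 0 :
    (IsIntegrallyClosed R ∧ ∀ P : Ideal R, P ≠ ⊥ → P.IsPrime → P = IsLocalRing.maximalIdeal R) ↔ _).1
    ⟨inferInstance, fun P hP hPp => by
      haveI := hPp
      by_contra hne
      have h1 := Ideal.height_add_one_le_of_lt_of_isPrime (lt_of_le_of_ne (IsLocalRing.le_maximalIdeal hPp.ne_top) hne)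
      have h2 := IsLocalRing.maximalIdeal_height_eq_ringKrullDim (R := R)
      rw [hd] at h2
      rw [WithBot.coe_inj.1 h2] at h1
      have h3 : P.height = 0 := by
        have := WithTop.le_of_add_le_add_right WithTop.one_ne_top (le_of_le_of_eq h1 (zero_add 1).symm)
        exact nonpos_iff_eq_zero.1 this
      rw [Ideal.height_eq_zero_iff, IsDomain.minimalPrimes_eq_singleton_bot, Set.mem_singleton_iff] at h3
      exact hP h3⟩
  have hinj : Function.Injective (algebraMap A R) := IsLocalization.injective R p.primeCompl_le_nonZeroDivisors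
  have hnf : ¬ IsField R := fun h => by
    rw [ringKrullDim_eq_zero_of_isField h] at hd; exact zero_ne_one hd
  haveI : IsDiscreteValuationRing R := { not_a_field' := IsLocalRing.isField_iff_maximalIdeal_eq.not.1 hnf }
  obtain ⟨ϖ, hϖ⟩ := IsDiscreteValuationRing.exists_irreducible R
  obtain ⟨⟨c, s⟩, hcs⟩ := IsLocalization.surj p.primeCompl ϖ
  have hcmax : IsLocalRing.maximalIdeal R = Ideal.span {algebraMap A R c} := by
    rw [hϖ.maximalIdeal_eq, show algebraMap A R c = ϖ * algebraMap A R s from hcs.symm,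
      Ideal.span_singleton_mul_right_unit (IsLocalization.map_units R s)]
  have hcp : c ∈ p := (IsLocalization.AtPrime.to_map_mem_maximal_iff R p c).1 (hcmax ▸ Ideal.mem_span_singleton_self _)
  have hc0 : algebraMap A R c ≠ 0 := fun h => hnf (IsLocalRing.isField_iff_maximalIdeal_eq.2 (by
    rw [hcmax, h, Ideal.span_singleton_eq_bot.2 rfl]))
  have hgen : ∀ r ∈ p, ∃ s, s ∉ p ∧ c ∣ s * r := fun r hr => by
    have h1 : algebraMap A R r ∈ Ideal.span {algebraMap A R c} :=
      hcmax ▸ (IsLocalization.AtPrime.to_map_mem_maximal_iff R p r).2 hr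
    obtain ⟨q, hq⟩ := Ideal.mem_span_singleton.1 h1
    obtain ⟨⟨r', s'⟩, hrs⟩ := IsLocalization.surj p.primeCompl q
    refine ⟨s', s'.2, r', hinj ?_⟩
    rw [map_mul, map_mul, hq, ← hrs]
    ring
  have hϖc : Irreducible (algebraMap A R c) := (IsDiscreteValuationRing.irreducible_iff_uniformizer _).2 hcmax
  obtain ⟨V, ε, hVε⟩ := IsDiscreteValuationRing.eq_unit_mul_pow_irreducible
    (fun h => ha (hinj (h.trans (map_zero _).symm)) : algebraMap A R a ≠ 0) hϖc
  obtain ⟨⟨y, z⟩, hyz⟩ := IsLocalization.surj p.primeCompl (ε : R)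
  have hy : y ∉ p := fun h => by
    have h1 := (IsLocalization.AtPrime.to_map_mem_maximal_iff R p y).2 h
    rw [← show (ε : R) * algebraMap A R z = algebraMap A R y from hyz] at h1
    exact (IsLocalRing.mem_maximalIdeal _).1 h1 (ε.isUnit.mul (IsLocalization.map_units R z))
  have heq : a * z = y * c ^ V := hinj (by
    rw [map_mul, map_mul, map_pow, hVε, ← show (ε : R) * algebraMap A R z = algebraMap A R y from hyz]
    ring)
  have hV : 0 < V := Nat.pos_of_ne_zero fun h0 => by
    rw [h0, pow_zero, mul_one] at heq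
    exact hy (heq ▸ Ideal.mul_mem_right _ _ hap)
  obtain ⟨w, hw, hint⟩ := exists_denominator hN p
  exact ⟨⟨c, V, y, z, w, hcp, hgen, hy, z.2, heq, hV, hw, hint⟩⟩

variable [IsLocalRing A]

/-- In a two-dimensional local domain the height one primes containing `a ≠ 0` are the non-maximal ones. -/
theorem height_eq_one_iff (hdim : ringKrullDim A = 2) {a : A} (ha : a ≠ 0) {p : Ideal A} [p.IsPrime] (hap : a ∈ p) :
    p.height = 1 ↔ p ≠ IsLocalRing.maximalIdeal A := by
  have hm : (IsLocalRing.maximalIdeal A).height = 2 := by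
    have := IsLocalRing.maximalIdeal_height_eq_ringKrullDim (R := A)
    rw [hdim] at this
    exact WithBot.coe_inj.1 this
  constructor
  · rintro h rfl
    rw [hm] at h
    exact absurd h (by decide)
  · intro hne
    refine le_antisymm ?_ (Order.one_le_iff_pos.2 (pos_iff_ne_zero.2 fun h => ?_))
    · have h1 := Ideal.height_add_one_le_of_lt_of_isPrime
        (lt_of_le_of_ne (IsLocalRing.le_maximalIdeal ‹p.IsPrime›.ne_top) hne)
      rw [hm, ← one_add_one_eq_two] at h1
      exact WithTop.le_of_add_le_add_right WithTop.one_ne_top h1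
    · rw [Ideal.height_eq_zero_iff, IsDomain.minimalPrimes_eq_singleton_bot, Set.mem_singleton_iff] at h
      exact ha (by simpa [h] using hap)

/-- The height one primes over `a` and the multiplier attached to them. -/
theorem exists_primes (hN : CAlg.IsNagata A) (hdim : ringKrullDim A = 2) {a : A} (ha : a ≠ 0)
    (ham : a ∈ IsLocalRing.maximalIdeal A) :
    ∃ (P : Finset (Ideal A)) (D : ∀ p ∈ P, PData a p) (θ S : ∀ p ∈ P, A), P.Nonempty ∧
      (∀ p ∈ P, p.IsPrime ∧ a ∈ p ∧ p ≠ IsLocalRing.maximalIdeal A) ∧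
      (∀ q : Ideal A, q.IsPrime → a ∈ q → q ≠ IsLocalRing.maximalIdeal A → q ∈ P) ∧
      (∀ p hp, θ p hp ∉ p ∧ ∀ q hq, q ≠ p → θ p hp ∈ q ^ (D q hq).V) ∧
      ∀ p hp, S p hp - θ p hp * (D p hp).w * (D p hp).z ∈ p ∧ ∀ q ∈ P, S p hp ∉ q := by
  classical
  let I := Ideal.span {a}
  have hfin : {p : Ideal A | p ∈ I.minimalPrimes ∧ p ≠ IsLocalRing.maximalIdeal A}.Finite :=
    (Ideal.finite_minimalPrimes_of_isNoetherianRing A I).subset fun p h => h.1
  let P := hfin.toFinset
  have hPm : ∀ p, p ∈ P ↔ p ∈ I.minimalPrimes ∧ p ≠ IsLocalRing.maximalIdeal A := fun p => hfin.mem_toFinset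
  have hP : ∀ p ∈ P, p.IsPrime ∧ a ∈ p ∧ p ≠ IsLocalRing.maximalIdeal A := fun p hp =>
    ⟨((hPm p).1 hp).1.1.1, ((hPm p).1 hp).1.1.2 (Ideal.mem_span_singleton_self a), ((hPm p).1 hp).2⟩
  have hP1 : ∀ p ∈ P, p.height = 1 := fun p hp => by
    haveI := (hP p hp).1
    exact (height_eq_one_iff hdim ha (hP p hp).2.1).2 (hP p hp).2.2
  have hall : ∀ q : Ideal A, q.IsPrime → a ∈ q → q ≠ IsLocalRing.maximalIdeal A → q ∈ P := fun q hq haq hne => by
    obtain ⟨p, hp, hpq⟩ := Ideal.exists_minimalPrimes_le (show I ≤ q from (Ideal.span_singleton_le_iff_mem _).2 haq)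
    haveI := hp.1.1
    haveI := hq
    have hap : a ∈ p := hp.1.2 (Ideal.mem_span_singleton_self a)
    have hpne : p ≠ IsLocalRing.maximalIdeal A := fun h => hne (le_antisymm (IsLocalRing.le_maximalIdeal hq.ne_top) (h ▸ hpq))
    rcases eq_or_lt_of_le hpq with rfl | hlt
    · exact (hPm p).2 ⟨hp, hpne⟩
    · have h1 := Ideal.height_add_one_le_of_lt_of_isPrime hlt
      rw [(height_eq_one_iff hdim ha hap).2 hpne, (height_eq_one_iff hdim ha haq).2 hne] at h1
      exact absurd h1 (by decide)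
  have hne : P.Nonempty := by
    obtain ⟨p, hp, -⟩ := Ideal.exists_minimalPrimes_le (show I ≤ IsLocalRing.maximalIdeal A from
      (Ideal.span_singleton_le_iff_mem _).2 ham)
    refine ⟨p, (hPm p).2 ⟨hp, fun h => ?_⟩⟩
    have h1 := Ideal.height_le_one_of_isPrincipal_of_mem_minimalPrimes I p hp
    have h2 := IsLocalRing.maximalIdeal_height_eq_ringKrullDim (R := A)
    rw [hdim, ← h] at h2
    rw [WithBot.coe_inj.1 h2] at h1
    exact absurd h1 (by decide)
  have hincomp : ∀ p ∈ P, ∀ q ∈ P, p ≤ q → p = q := fun p hp q hq hle => by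
    by_contra hne'
    haveI := (hP p hp).1
    haveI := (hP q hq).1
    have h1 := Ideal.height_add_one_le_of_lt_of_isPrime (lt_of_le_of_ne hle hne')
    rw [hP1 p hp, hP1 q hq] at h1
    exact absurd h1 (by decide)
  have hD : ∀ p (hp : p ∈ P), Nonempty (PData a p) := fun p hp =>
    haveI := (hP p hp).1
    exists_pData hN ha p (hP p hp).2.1 (hP1 p hp)
  let D := fun p hp => (hD p hp).some
  have hθ : ∀ p (hp : p ∈ P), ∃ θ, θ ∉ p ∧ ∀ q hq, q ≠ p → θ ∈ q ^ (D q hq).V := fun p hp => by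
    haveI := (hP p hp).1
    have hex : ∀ q : {q // q ∈ P}, ∃ t, t ∈ q.1 ∧ (q.1 ≠ p → t ∉ p) := fun q => by
      by_cases hqp : q.1 = p
      · exact ⟨0, Ideal.zero_mem _, fun h => absurd hqp h⟩
      · obtain ⟨t, ht, ht'⟩ := SetLike.not_le_iff_exists.1 fun hle => hqp (hincomp q.1 q.2 p hp hle)
        exact ⟨t, ht, fun _ => ht'⟩
    choose t ht ht' using hex
    refine ⟨∏ q ∈ P.attach.filter (fun q => q.1 ≠ p), t q ^ (D q.1 q.2).V, fun hmem => ?_, fun q hq hqp => ?_⟩
    · obtain ⟨q, hq, hqm⟩ := (‹p.IsPrime›.prod_mem_iff).1 hmem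
      exact ht' q (Finset.mem_filter.1 hq).2 (‹p.IsPrime›.mem_of_pow_mem _ hqm)
    · have hmem : (⟨q, hq⟩ : {q // q ∈ P}) ∈ P.attach.filter (fun q => q.1 ≠ p) :=
        Finset.mem_filter.2 ⟨Finset.mem_attach _ _, hqp⟩
      rw [← Finset.mul_prod_erase _ _ hmem]
      exact Ideal.mul_mem_right _ _ (Ideal.pow_mem_pow (ht ⟨q, hq⟩) _)
  choose θ hθp hθq using hθ
  have hS : ∀ p (hp : p ∈ P), ∃ S, S - θ p hp * (D p hp).w * (D p hp).z ∈ p ∧ ∀ q ∈ P, S ∉ q := fun p hp => by
    haveI := (hP p hp).1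
    let m := θ p hp * (D p hp).w * (D p hp).z
    have hm : m ∉ p := by
      intro h
      rcases ‹p.IsPrime›.mem_or_mem h with h | h
      · rcases ‹p.IsPrime›.mem_or_mem h with h | h
        · exact hθp p hp h
        · exact (D p hp).hw h
      · exact (D p hp).hz h
    have hnot : ¬ ((p : Set A) ⊆ ⋃ q ∈ (↑(P.erase p) : Set (Ideal A)), (q : Set A)) := fun h => by
      obtain ⟨q, hq, hle⟩ := (Ideal.subset_union_prime p p fun q hq _ _ => (hP q (Finset.mem_of_mem_erase hq)).1).1 h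
      exact (Finset.ne_of_mem_erase hq) (hincomp p hp q (Finset.mem_of_mem_erase hq) hle).symm
    obtain ⟨x, hxp, hx⟩ := Set.not_subset.1 hnot
    refine ⟨m + x, by rw [show m + x - m = x by ring]; exact hxp, fun q hq h => ?_⟩
    by_cases hqp : q = p
    · subst hqp
      exact hm (by simpa using q.sub_mem h hxp)
    · have hmq : m ∈ q := Ideal.mul_mem_right _ _ (Ideal.mul_mem_right _ _
        (Ideal.pow_le_self (D q hq).hV.ne' (hθq p hp q hq hqp)))
      exact hx (Set.mem_biUnion (Finset.mem_erase.2 ⟨hqp, hq⟩) (by simpa using q.sub_mem h hmq))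
  choose S hS₁ hS₂ using hS
  exact ⟨P, D, θ, S, hne, hP, hall, fun p hp => ⟨hθp p hp, hθq p hp⟩, fun p hp => ⟨hS₁ p hp, hS₂ p hp⟩⟩

end Groth.Agent.Resolve13.Torsion
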