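import Groth.Agent.Resolve13.DivisorPts
import Groth.Agent.Resolve13.TorsionData
import Groth.Agent.S11555
import Groth.Agent.Coherent.BirationalFibre
import Groth.Agent.Coherent.ConnectedFibre
import Groth.Agent.Resolve13.Modification
import Mathlib

/-!
# A bound on the obstruction to lifting functions from the divisor of an element of the base
-/

set_option autoImplicit false
set_option backward.isDefEq.respectTransparency.types false
universe u
open CategoryTheory CategoryTheory.Limits AlgebraicGeometry TopologicalSpace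

namespace Groth.Agent.Resolve13.Torsion

open DivisorPts IsDiscreteValuationRing

variable {A : Type u} [CommRing A] {X : Scheme.{u}} (f : X ⟶ Spec (CommRingCat.of A))

/-- The map from the base to a stalk. -/
noncomputable abbrev γ (x : X) : A →+* X.presheaf.stalk x :=
  (X.presheaf.germ (⊤ : X.Opens) x trivial).hom.comp (Coh.toGlobal f)

theorem sp_γ {ξ x : X} (h : ξ ⤳ x) (r : A) : sp h (γ f x r) = γ f ξ r :=
  ConcreteCategory.congr_hom
    (TopCat.Presheaf.germ_stalkSpecializes X.presheaf (U := (⊤ : X.Opens)) trivial h) (Coh.toGlobal f r)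

theorem isUnit_γ (x : X) (r : A) : IsUnit (γ f x r) ↔ r ∉ (f x).asIdeal := by
  have h1 : IsUnit (γ f x r) ↔ x ∈ X.basicOpen (Coh.toGlobal f r) :=
    (Scheme.mem_basicOpen X (Coh.toGlobal f r) x trivial).symm
  rw [h1]
  show x ∈ X.basicOpen (f.appTop.hom ((Scheme.ΓSpecIso (CommRingCat.of A)).inv.hom r)) ↔ _
  rw [← Scheme.preimage_basicOpen_top, basicOpen_eq_of_affine]
  exact Iff.rfl

/-- A family of germs which is a section of `𝒪 / a`. -/
def IsSec (a : A) (G : ∀ x : X, X.presheaf.stalk x) : Prop :=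
  ∀ (ξ x : X) (h : ξ ⤳ x), γ f ξ a ∣ sp h (G x) - G ξ

open scoped Classical in
/-- The valuation of a codimension one point. -/
noncomputable def val [IsIntegral X] (ξ : X) (t : X.presheaf.stalk ξ) : ℕ∞ :=
  if h : IsDiscreteValuationRing (X.presheaf.stalk ξ) then (haveI := h; addVal _ t) else 0

theorem val_eq [IsIntegral X] (ξ : X) [h : IsDiscreteValuationRing (X.presheaf.stalk ξ)] (t : X.presheaf.stalk ξ) :
    val ξ t = addVal _ t := dif_pos h

theorem isDVR_of_dim_one {R : Type u} [CommRing R] [IsDomain R] [IsLocalRing R] [IsNoetherianRing R]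
    [IsIntegrallyClosed R] (hd : ringKrullDim R = 1) : IsDiscreteValuationRing R := by
  haveI : IsPrincipalIdealRing R := ((tfae_of_isNoetherianRing_of_isLocalRing_of_isDomain R).out 3 0 :
    (IsIntegrallyClosed R ∧ ∀ P : Ideal R, P ≠ ⊥ → P.IsPrime → P = IsLocalRing.maximalIdeal R) ↔ _).1
    ⟨inferInstance, fun P hP hPp => by
      haveI := hPp
      by_contra hne
      have h1 := Ideal.height_add_one_le_of_lt_of_isPrime (lt_of_le_of_ne (IsLocalRing.le_maximalIdeal hPp.ne_top) hne)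
      have h2 := IsLocalRing.maximalIdeal_height_eq_ringKrullDim (R := R)
      rw [hd] at h2
      rw [WithBot.coe_inj.1 h2] at h1
      have h3 : P.height = 0 := nonpos_iff_eq_zero.1
        (WithTop.le_of_add_le_add_right WithTop.one_ne_top (le_of_le_of_eq h1 (zero_add 1).symm))
      rw [Ideal.height_eq_zero_iff, IsDomain.minimalPrimes_eq_singleton_bot, Set.mem_singleton_iff] at h3
      exact hP h3⟩
  have hnf : ¬ IsField R := fun h => by
    rw [ringKrullDim_eq_zero_of_isField h] at hd; exact zero_ne_one hd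
  exact { not_a_field' := IsLocalRing.isField_iff_maximalIdeal_eq.not.1 hnf }

/-- The points of codimension one at which `a` is not a unit. -/
def Div (a : A) : Set X := {ξ | ringKrullDim (X.presheaf.stalk ξ) = 1 ∧ ¬ IsUnit (γ f ξ a)}

/-- The order of `a` at a point. -/
noncomputable def vA [IsIntegral X] (a : A) (ξ : X) : ℕ := (val ξ (γ f ξ a)).toNat

/-- The order of a germ, capped at that of `a`. -/
noncomputable def vG [IsIntegral X] (a : A) (G : ∀ x : X, X.presheaf.stalk x) (ξ : X) : ℕ :=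
  (min (val ξ (G ξ)) (vA f a ξ)).toNat

theorem coe_vG [IsIntegral X] (a : A) (G : ∀ x : X, X.presheaf.stalk x) (ξ : X) :
    (vG f a G ξ : ℕ∞) = min (val ξ (G ξ)) (vA f a ξ) :=
  ENat.natCast_toNat (ne_top_of_le_ne_top (ENat.natCast_ne_top _) (min_le_right _ _))

theorem vG_le [IsIntegral X] (a : A) (G : ∀ x : X, X.presheaf.stalk x) (ξ : X) : vG f a G ξ ≤ vA f a ξ := by
  rw [← Nat.cast_le (α := ℕ∞), coe_vG]
  exact min_le_right _ _

variable [IsDomain A] [IsNoetherianRing A] [IsLocalRing A] [IsIntegrallyClosed A] [IsProper f] [IsIntegral X]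

section
variable (hX : Pi1.IsNormalScheme X)
include f hX

theorem isDVR (ξ : X) (hξ : ringKrullDim (X.presheaf.stalk ξ) = 1) :
    IsDiscreteValuationRing (X.presheaf.stalk ξ) := by
  haveI : IsLocallyNoetherian X := LocallyOfFiniteType.isLocallyNoetherian f
  haveI := (hX ξ).2
  exact isDVR_of_dim_one hξ

end

variable (hmod : ∃ U : (Spec (CommRingCat.of A)).Opens, (U : Set (Spec (CommRingCat.of A))).Nonempty ∧ IsIso (f ∣_ U))
include hmod

theorem γ_injective (x : X) : Function.Injective (γ f x) := by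
  obtain ⟨U, hU, hUi⟩ := hmod
  obtain ⟨hξ, -⟩ := Coherent.birational_of_isIso_morphismRestrict f U hU
  rw [injective_iff_map_eq_zero]
  intro r hr
  have h1 : γ f (genericPoint X) r = 0 := by rw [← sp_γ f (genericPoint_specializes x), hr, map_zero]
  have h2 : r ∈ (f (genericPoint X)).asIdeal := by
    by_contra h
    exact not_isUnit_zero (h1 ▸ (isUnit_γ f _ r).2 h)
  rw [hξ, genericPoint_eq_bot_of_affine] at h2
  exact Ideal.mem_bot.1 h2

/-- Over a non-maximal prime there is one point, with local ring the localisation. -/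
theorem exists_strict (hdim : ringKrullDim A = 2) (p : PrimeSpectrum A) (hp : p.asIdeal ≠ IsLocalRing.maximalIdeal A) :
    ∃ ξ : X, f ξ = p ∧ (ringKrullDim (X.presheaf.stalk ξ) = (p.asIdeal.height : WithBot ℕ∞) ∧
      ∀ t : X.presheaf.stalk ξ, ∃ r s : A, s ∉ p.asIdeal ∧ t * γ f ξ s = γ f ξ r) ∧
      ∀ ξ' : X, f ξ' = p → ξ' = ξ := by
  obtain ⟨U, hU, hUi⟩ := hmod
  obtain ⟨hξ, hb⟩ := Coherent.birational_of_isIso_morphismRestrict f U hU
  have hAn : Pi1.IsNormalScheme (Spec (CommRingCat.of A)) := fun y => by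
    haveI : IsDomain ((Spec (CommRingCat.of A)).presheaf.stalk y) := inferInstance
    letI := (Spec.structureSheaf A).presheaf
    refine ⟨inferInstance, ?_⟩
    exact isIntegrallyClosed_of_isLocalization ((Spec.structureSheaf A).presheaf.stalk y) y.asIdeal.primeCompl
      y.asIdeal.primeCompl_le_nonZeroDivisors
  obtain ⟨V, hVi, -, hVdim⟩ := S11555.result f hAn hξ hb
  let y : Spec (CommRingCat.of A) := p
  have hy : y ∈ V := by
    by_contra h
    have h1 := hVdim y h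
    rw [show ringKrullDim ((Spec (CommRingCat.of A)).presheaf.stalk y) = (p.asIdeal.height : WithBot ℕ∞) from
      IsLocalization.AtPrime.ringKrullDim_eq_height p.asIdeal ((Spec.structureSheaf A).presheaf.stalk p)] at h1
    have h2 := Ideal.height_add_one_le_of_lt_of_isPrime
      (lt_of_le_of_ne (IsLocalRing.le_maximalIdeal p.isPrime.ne_top) hp)
    have hm := IsLocalRing.maximalIdeal_height_eq_ringKrullDim (R := A)
    rw [hdim] at hm
    rw [WithBot.coe_inj.1 hm] at h2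
    have h3 : (2 : ℕ∞) ≤ p.asIdeal.height := WithBot.coe_le_coe.1 h1
    exact absurd (le_trans (add_le_add h3 le_rfl) h2) (by decide)
  haveI := hVi
  obtain ⟨x', hx'⟩ := (f ∣_ V).homeomorph.surjective ⟨y, hy⟩
  let ξ : X := x'.1
  have hfξ : f ξ = y := (morphismRestrict_base_coe f V x').symm.trans (congrArg Subtype.val hx')
  have hξV : ξ ∈ f ⁻¹ᵁ V := x'.2
  have hiso : IsIso (f.stalkMap ξ) := by
    exact (MorphismProperty.arrow_mk_iso_iff (MorphismProperty.isomorphisms CommRingCat)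
      (morphismRestrictStalkMap f V ⟨ξ, hξV⟩)).1
      (show IsIso ((f ∣_ V).stalkMap ⟨ξ, hξV⟩) from inferInstance)
  have hkey : ∀ t : X.presheaf.stalk ξ, ∃ r s : A, s ∉ p.asIdeal ∧ t * γ f ξ s = γ f ξ r := fun t => by
    obtain ⟨t', rfl⟩ := ((ConcreteCategory.isIso_iff_bijective (f.stalkMap ξ)).1 hiso).2 t
    obtain ⟨⟨r, s⟩, hrs⟩ := IsLocalization.surj
      (S := (Spec.structureSheaf A).presheaf.stalk (f ξ : PrimeSpectrum A)) (f ξ : PrimeSpectrum A).asIdeal.primeCompl t'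
    have hγ : ∀ r : A, γ f ξ r = (f.stalkMap ξ).hom (algebraMap A ((Spec.structureSheaf A).presheaf.stalk (f ξ : PrimeSpectrum A)) r) :=
      fun r => (Scheme.Hom.germ_stalkMap_apply f ⊤ ξ trivial _).symm
    refine ⟨r, s, hfξ ▸ s.2, ?_⟩
    rw [hγ, hγ]
    exact ((map_mul (f.stalkMap ξ).hom t' _).symm.trans (congrArg (f.stalkMap ξ).hom hrs))
  refine ⟨ξ, hfξ, ⟨?_, hkey⟩, fun ξ' h' => ?_⟩
  swap
  · have hV' : ξ' ∈ f ⁻¹ᵁ V := by show f ξ' ∈ V; rw [h']; exact hy
    have := (f ∣_ V).homeomorph.injective (a₁ := (⟨ξ', hV'⟩ : ↥(f ⁻¹ᵁ V))) (a₂ := x') (Subtype.ext ?_)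
    · exact congrArg Subtype.val this
    · exact (morphismRestrict_base_coe f V _).trans (h'.trans (congrArg Subtype.val hx').symm)
  rw [← ringKrullDim_eq_of_ringEquiv (asIso (f.stalkMap ξ)).commRingCatIsoToRingEquiv, hfξ]
  exact IsLocalization.AtPrime.ringKrullDim_eq_height p.asIdeal ((Spec.structureSheaf A).presheaf.stalk p)

/-- A point where `r` vanishes lies in the closure of such a point of codimension one. -/
theorem exists_dim_one_gen (x : X) {r : A} (hr : r ≠ 0) (hx : ¬ IsUnit (γ f x r)) :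
    ∃ ξ : X, ξ ⤳ x ∧ ringKrullDim (X.presheaf.stalk ξ) = 1 ∧ ¬ IsUnit (γ f ξ r) := by
  haveI : IsLocallyNoetherian X := LocallyOfFiniteType.isLocallyNoetherian f
  let I := Ideal.span {γ f x r}
  have hI : I ≤ IsLocalRing.maximalIdeal _ := (Ideal.span_singleton_le_iff_mem _).2 hx
  obtain ⟨P, hP, -⟩ := Ideal.exists_minimalPrimes_le hI
  haveI := hP.1.1
  obtain ⟨ξ, hs, hdim, hmem, -⟩ := exists_point x P
  have hrP : γ f x r ∈ P := hP.1.2 (Ideal.mem_span_singleton_self _)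
  refine ⟨ξ, hs, ?_, ?_⟩
  · rw [hdim]
    refine congrArg ((↑) : ℕ∞ → WithBot ℕ∞) (le_antisymm ?_ (Order.one_le_iff_pos.2 (pos_iff_ne_zero.2 fun h => ?_)))
    · exact Ideal.height_le_one_of_isPrincipal_of_mem_minimalPrimes I P hP
    · rw [Ideal.height_eq_zero_iff, IsDomain.minimalPrimes_eq_singleton_bot, Set.mem_singleton_iff] at h
      rw [h, Ideal.mem_bot] at hrP
      exact hr (γ_injective f hmod x (hrP.trans (map_zero _).symm))
  · rw [← sp_γ f hs]
    exact (hmem _).1 hrP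

variable (hX : Pi1.IsNormalScheme X) {a : A} (ha : a ≠ 0)
include hX ha

theorem finite_Div : (Div f a).Finite := by
  haveI : IsLocallyNoetherian X := LocallyOfFiniteType.isLocallyNoetherian f
  haveI : CompactSpace X := QuasiCompact.compactSpace_of_compactSpace f
  haveI : AlgebraicGeometry.IsNoetherian X := {}
  let Z : Closeds X := ⟨(X.basicOpen (Coh.toGlobal f a) : Set X)ᶜ, (X.basicOpen (Coh.toGlobal f a)).2.isClosed_compl⟩
  have hZ : ∀ x : X, x ∈ Z ↔ ¬ IsUnit (γ f x a) := fun x =>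
    (Scheme.mem_basicOpen X (Coh.toGlobal f a) x trivial).not
  obtain ⟨T, hTfin, hTc, hTi, hTZ⟩ := NoetherianSpace.exists_finite_set_isClosed_irreducible (α := X) Z.2
  haveI := hTfin.to_subtype
  refine (Set.finite_range fun S : T => (hTi S.1 S.2).genericPoint).subset fun ξ hξ => ?_
  have hmem : ξ ∈ Z.carrier := (hZ ξ).2 hξ.2
  rw [hTZ, Set.mem_sUnion] at hmem
  obtain ⟨S, hS, hξS⟩ := hmem
  refine ⟨⟨S, hS⟩, ?_⟩
  let g := (hTi S hS).genericPoint
  have hgen : IsGenericPoint g S := by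
    have := (hTi S hS).isGenericPoint_genericPoint_closure
    rwa [(hTc S hS).closure_eq] at this
  have hgξ : g ⤳ ξ := hgen.specializes hξS
  have hgZ : ¬ IsUnit (γ f g a) := (hZ g).1 (by
    show g ∈ Z.carrier; rw [hTZ, Set.mem_sUnion]; exact ⟨S, hS, hgen.mem⟩)
  obtain ⟨q, hq⟩ : g ∈ Set.range (X.fromSpecStalk ξ) := by
    rw [Scheme.range_fromSpecStalk]; exact hgξ
  show g = ξ
  by_cases hqm : q.asIdeal = IsLocalRing.maximalIdeal _
  · rw [← hq, show q = IsLocalRing.closedPoint _ from PrimeSpectrum.ext hqm]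
    exact Scheme.fromSpecStalk_closedPoint
  · exfalso
    haveI := isDVR f hX ξ hξ.1
    have hqb : q.asIdeal = ⊥ := by
      by_contra h
      exact hqm (IsLocalRing.eq_maximalIdeal (q.isPrime.isMaximal h))
    refine hgZ ((isUnit_γ f g a).2 fun hmem => ha ?_)
    obtain ⟨U, hU, hUi⟩ := id hmod
    obtain ⟨hη, -⟩ := Coherent.birational_of_isIso_morphismRestrict f U hU
    have hgη : g = genericPoint X := by
      refine Specializes.antisymm ?_ (genericPoint_specializes g) |>.eq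
      have hgr : genericPoint X ∈ Set.range (X.fromSpecStalk ξ) := by
        rw [Scheme.range_fromSpecStalk]; exact genericPoint_specializes ξ
      obtain ⟨q', hq'⟩ := hgr
      rw [← hq, ← hq']
      exact ((PrimeSpectrum.le_iff_specializes q q').1 (show q.asIdeal ≤ q'.asIdeal by rw [hqb]; exact bot_le)).map
        (X.fromSpecStalk ξ).continuous
    rw [hgη, hη, genericPoint_eq_bot_of_affine] at hmem
    exact Ideal.mem_bot.1 hmem

theorem vA_pos {ξ : X} (hξ : ξ ∈ Div f a) : 0 < vA f a ξ ∧ (vA f a ξ : ℕ∞) = val ξ (γ f ξ a) := by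
  haveI := isDVR f hX ξ hξ.1
  have h1 : val ξ (γ f ξ a) ≠ ⊤ := by
    rw [val_eq]
    exact fun h => ha (γ_injective f hmod ξ ((addVal_eq_top_iff.1 h).trans (map_zero _).symm))
  have h2 : (vA f a ξ : ℕ∞) = val ξ (γ f ξ a) := ENat.natCast_toNat h1
  refine ⟨Nat.pos_of_ne_zero fun h => hξ.2 (addVal_eq_zero_iff.1 ?_), h2⟩
  rw [← val_eq, ← h2, h]
  rfl

variable {G : ∀ x : X, X.presheaf.stalk x} (hG : IsSec f a G)
include hG

theorem vG_le_val_sp {ξ x : X} (hξ : ξ ∈ Div f a) (h : ξ ⤳ x) : (vG f a G ξ : ℕ∞) ≤ val ξ (sp h (G x)) := by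
  haveI := isDVR f hX ξ hξ.1
  have h1 := addVal_le_iff_dvd.2 (hG ξ x h)
  rw [val_eq, show sp h (G x) = G ξ + (sp h (G x) - G ξ) by ring]
  refine le_trans (le_min ?_ ?_) addVal_add
  · rw [coe_vG, val_eq]; exact min_le_left _ _
  · rw [coe_vG, (vA_pos f hmod hX ha hξ).2, val_eq, val_eq]
    exact le_trans (min_le_right _ _) h1

/-- A section of full order along all divisors is zero. -/
theorem full_dvd (hfull : ∀ ξ ∈ Div f a, vG f a G ξ = vA f a ξ) (x : X) : γ f x a ∣ G x := by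
  haveI : IsLocallyNoetherian X := LocallyOfFiniteType.isLocallyNoetherian f
  refine dvd_of_dim_one hX _ _ (fun h => ha (γ_injective f hmod x (h.trans (map_zero _).symm))) fun ξ hs hdim => ?_
  rw [sp_γ]
  by_cases hu : IsUnit (γ f ξ a)
  · exact hu.dvd
  haveI := isDVR f hX ξ hdim
  have h1 := vG_le_val_sp f hmod hX ha hG ⟨hdim, hu⟩ hs
  rw [hfull ξ ⟨hdim, hu⟩, (vA_pos f hmod hX ha ⟨hdim, hu⟩).2, val_eq, val_eq] at h1
  exact addVal_le_iff_dvd.1 h1

variable {n₀ V₀ : ℕ} (hV₀ : n₀ < V₀) (hmin : ∀ ξ ∈ Div f a, n₀ * vA f a ξ ≤ vG f a G ξ * V₀)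
include hV₀ hmin

/-- The comparison function of a minimiser is regular. -/
theorem exists_u (x : X) : ∃ u : X.presheaf.stalk x, γ f x a ^ n₀ * u = G x ^ V₀ := by
  haveI : IsLocallyNoetherian X := LocallyOfFiniteType.isLocallyNoetherian f
  haveI : IsDomain (X.presheaf.stalk x) := (hX x).1
  obtain ⟨u, hu⟩ : γ f x a ^ n₀ ∣ G x ^ V₀ := by
    refine dvd_of_dim_one hX _ _ (pow_ne_zero _ fun h => ha (γ_injective f hmod x (h.trans (map_zero _).symm)))
      fun ξ hs hdim => ?_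
    rw [map_pow, map_pow, sp_γ]
    by_cases hu : IsUnit (γ f ξ a)
    · exact (hu.pow _).dvd
    haveI := isDVR f hX ξ hdim
    have h2 := (vA_pos f hmod hX ha ⟨hdim, hu⟩).2
    have h1 := vG_le_val_sp f hmod hX ha hG ⟨hdim, hu⟩ hs
    rw [val_eq] at h1 h2
    refine addVal_le_iff_dvd.1 ?_
    rw [addVal_pow, addVal_pow, nsmul_eq_mul, nsmul_eq_mul, ← h2, mul_comm (V₀ : ℕ∞)]
    calc (n₀ : ℕ∞) * (vA f a ξ : ℕ∞) ≤ (vG f a G ξ : ℕ∞) * V₀ := by exact_mod_cast hmin ξ ⟨hdim, hu⟩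
      _ ≤ _ := mul_le_mul_left h1 _
  exact ⟨u, hu.symm⟩

/-- The residue of the comparison function at a minimiser. -/
theorem residue_u {ξ : X} (hξ : ξ ∈ Div f a) (heq : n₀ * vA f a ξ = vG f a G ξ * V₀)
    {π c e : X.presheaf.stalk ξ} (hπ : Irreducible π) (hc : G ξ = c * π ^ vG f a G ξ)
    (he : γ f ξ a = e * π ^ vA f a ξ) {x : X} (h : ξ ⤳ x) {u : X.presheaf.stalk x}
    (hu : γ f x a ^ n₀ * u = G x ^ V₀) :
    (X.residue ξ).hom (sp h u) * (X.residue ξ).hom e ^ n₀ = (X.residue ξ).hom c ^ V₀ := by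
  haveI := isDVR f hX ξ hξ.1
  have hlt : vG f a G ξ < vA f a ξ := by
    refine lt_of_le_of_ne (vG_le f a G ξ) fun h' => ?_
    rw [h', mul_comm] at heq
    exact (ne_of_lt hV₀) (Nat.eq_of_mul_eq_mul_left (vA_pos f hmod hX ha hξ).1 heq)
  obtain ⟨t, ht⟩ := hG ξ x h
  obtain ⟨k, hk⟩ := Nat.exists_eq_add_of_lt hlt
  let c' := c + t * e * π ^ (k + 1)
  have hsp : sp h (G x) = c' * π ^ vG f a G ξ := by
    rw [show sp h (G x) = G ξ + (sp h (G x) - G ξ) by ring, ht, he, hk]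
    conv_lhs => rw [hc]
    simp only [c']
    ring
  have hres : (X.residue ξ).hom c' = (X.residue ξ).hom c := by
    have hπ0 : (X.residue ξ).hom π = 0 := (IsLocalRing.residue_eq_zero_iff _).2 hπ.not_isUnit
    simp only [c', map_add, map_mul, map_pow, hπ0, zero_pow (Nat.succ_ne_zero k), mul_zero, add_zero]
  have h2 := congrArg (sp h) hu
  rw [map_mul, map_pow, map_pow, sp_γ, hsp, he, mul_pow, mul_pow, ← pow_mul, ← pow_mul,
    mul_comm (vA f a ξ) n₀, heq] at h2
  have h3 : sp h u * e ^ n₀ = c' ^ V₀ := mul_right_cancel₀ (pow_ne_zero _ hπ.ne_zero) (by rw [← h2]; ring)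
  rw [← hres, ← map_pow, ← map_pow, ← map_mul, h3]

omit hV₀ in
/-- The comparison function vanishes at the other divisors. -/
theorem not_isUnit_sp_u {ξ : X} (hξ : ξ ∈ Div f a) (hlt : n₀ * vA f a ξ < vG f a G ξ * V₀) {x : X} (h : ξ ⤳ x)
    {u : X.presheaf.stalk x} (hu : γ f x a ^ n₀ * u = G x ^ V₀) : ¬ IsUnit (sp h u) := by
  intro hun
  haveI := isDVR f hX ξ hξ.1
  have h1 := vG_le_val_sp f hmod hX ha hG hξ h
  have h2 := congrArg (addVal (X.presheaf.stalk ξ)) (congrArg (sp h) hu)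
  have h3 := (vA_pos f hmod hX ha hξ).2
  rw [val_eq] at h1 h3
  rw [map_mul, map_pow, map_pow, sp_γ, addVal_mul, addVal_pow, addVal_pow, addVal_eq_zero_iff.2 hun, add_zero,
    nsmul_eq_mul, nsmul_eq_mul, ← h3, mul_comm (V₀ : ℕ∞)] at h2
  have h4 : ((vG f a G ξ : ℕ∞)) * V₀ ≤ (n₀ : ℕ∞) * vA f a ξ := h2 ▸ mul_le_mul_left h1 _
  exact absurd (show vG f a G ξ * V₀ ≤ n₀ * vA f a ξ by exact_mod_cast h4) (not_le.2 hlt)

/-- At a minimiser the residue of the comparison function is integral over the base. -/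
theorem exists_integral {ξ : X} (hξ : ξ ∈ Div f a) (heq : n₀ * vA f a ξ = vG f a G ξ * V₀)
    {π c e : X.presheaf.stalk ξ} (hπ : Irreducible π) (hc : G ξ = c * π ^ vG f a G ξ)
    (he : γ f ξ a = e * π ^ vA f a ξ) (heu : IsUnit e) :
    ∃ k : X.residueField ξ, ((X.residue ξ).hom.comp (γ f ξ)).IsIntegralElem k ∧
      k * (X.residue ξ).hom e ^ n₀ = (X.residue ξ).hom c ^ V₀ ∧
      ∀ (x : X) (h : ξ ⤳ x) (u : X.presheaf.stalk x), γ f x a ^ n₀ * u = G x ^ V₀ → (X.residue ξ).hom (sp h u) = k := by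
  have he0 : (X.residue ξ).hom e ^ n₀ ≠ 0 := pow_ne_zero _ (heu.map (X.residue ξ).hom).ne_zero
  let k := (X.residue ξ).hom c ^ V₀ / (X.residue ξ).hom e ^ n₀
  have hk : ∀ (x : X) (h : ξ ⤳ x) (u : X.presheaf.stalk x), γ f x a ^ n₀ * u = G x ^ V₀ →
      (X.residue ξ).hom (sp h u) = k := fun x h u hu =>
    (eq_div_iff he0).2 (residue_u f hmod hX ha hG hV₀ hmin hξ heq hπ hc he h hu)
  refine ⟨k, ?_, div_mul_cancel₀ _ he0, hk⟩
  letI : Algebra A (X.residueField ξ) := ((X.residue ξ).hom.comp (γ f ξ)).toAlgebra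
  refine isIntegral_of_centers f ξ (fun _ => rfl) k fun x h => ?_
  obtain ⟨u, hu⟩ := exists_u f hmod hX ha hG hV₀ hmin x
  exact ⟨u, hk x h u hu⟩

/-- Some minimiser lies over a non-maximal prime. -/
theorem exists_strict_minimiser (hdim : ringKrullDim A = 2) (ham : a ∈ IsLocalRing.maximalIdeal A)
    (hq : ∃ p : PrimeSpectrum A, a ∈ p.asIdeal ∧ p.asIdeal ≠ IsLocalRing.maximalIdeal A)
    (hatt : ∃ ξ ∈ Div f a, n₀ * vA f a ξ = vG f a G ξ * V₀) :
    ∃ ξ ∈ Div f a, n₀ * vA f a ξ = vG f a G ξ * V₀ ∧ (f ξ).asIdeal ≠ IsLocalRing.maximalIdeal A := by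
  by_contra hcon
  push Not at hcon
  let M : Set X := {ξ | ξ ∈ Div f a ∧ n₀ * vA f a ξ = vG f a G ξ * V₀}
  let N : Set X := {ξ | ξ ∈ Div f a ∧ n₀ * vA f a ξ < vG f a G ξ * V₀}
  let C : Set X → Set X := fun s => ⋃ ξ ∈ s, closure {ξ}
  have hfin := finite_Div f hmod hX ha
  have hCM : IsClosed (C M) := (hfin.subset fun ξ h => h.1).isClosed_biUnion fun _ _ => isClosed_closure
  have hCN : IsClosed (C N) := (hfin.subset fun ξ h => h.1).isClosed_biUnion fun _ _ => isClosed_closure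
  let y : Spec (CommRingCat.of A) := IsLocalRing.closedPoint A
  let F : Set X := f ⁻¹' {y}
  have hy : ∀ x : X, x ∈ F ↔ (f x).asIdeal = IsLocalRing.maximalIdeal A := fun x =>
    (PrimeSpectrum.ext_iff (x := (f x : PrimeSpectrum A)) (y := IsLocalRing.closedPoint A))
  have hF : _root_.IsPreconnected F := by
    obtain ⟨U, hU, hUi⟩ := id hmod
    obtain ⟨hη, hb⟩ := Coherent.birational_of_isIso_morphismRestrict f U hU
    have hAn : Pi1.IsNormalScheme (Spec (CommRingCat.of A)) := fun y => by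
      refine ⟨inferInstance, ?_⟩
      exact isIntegrallyClosed_of_isLocalization ((Spec.structureSheaf A).presheaf.stalk y) y.asIdeal.primeCompl
        y.asIdeal.primeCompl_le_nonZeroDivisors
    haveI := Coherent.connectedSpace_fiber_of_isIso_app f
      (Coherent.isIso_app_of_birational f hAn hη ((ConcreteCategory.isIso_iff_bijective _).2 hb)) y
    rw [show F = Set.range (f.fiberι y) from (f.range_fiberι y).symm]
    exact isPreconnected_range (f.fiberι y).continuous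
  have hcover : F ⊆ C M ∪ C N := fun x hx => by
    have hxa : ¬ IsUnit (γ f x a) := fun h => (isUnit_γ f x a).1 h (by rw [(hy x).1 hx]; exact ham)
    obtain ⟨ξ, hs, hd, hu⟩ := exists_dim_one_gen f hmod x ha hxa
    have hξ : ξ ∈ Div f a := ⟨hd, hu⟩
    rcases eq_or_lt_of_le (hmin ξ hξ) with h | h
    · exact Or.inl (Set.mem_biUnion (show ξ ∈ M from ⟨hξ, h⟩) hs.mem_closure)
    · exact Or.inr (Set.mem_biUnion (show ξ ∈ N from ⟨hξ, h⟩) hs.mem_closure)
  have hFM : (F ∩ C M).Nonempty := by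
    obtain ⟨ξ, hξ, h⟩ := hatt
    exact ⟨ξ, (hy ξ).2 (hcon ξ hξ h), Set.mem_biUnion (show ξ ∈ M from ⟨hξ, h⟩) (subset_closure rfl)⟩
  have hFN : (F ∩ C N).Nonempty := by
    obtain ⟨p, hap, hpm⟩ := hq
    obtain ⟨ξ, hfξ, ⟨hξdim, -⟩, -⟩ := exists_strict f hmod hdim p hpm
    have hξ : ξ ∈ Div f a := ⟨by rw [hξdim, (height_eq_one_iff hdim ha hap).2 hpm]; rfl,
      fun h => (isUnit_γ f ξ a).1 h (hfξ ▸ hap)⟩
    have hlt : n₀ * vA f a ξ < vG f a G ξ * V₀ := lt_of_le_of_ne (hmin ξ hξ) fun h => hpm (hfξ ▸ hcon ξ hξ h)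
    have h1 : y ∈ f '' closure {ξ} := by
      refine (IsLocalRing.specializes_closedPoint (f ξ : PrimeSpectrum A)).mem_closed
        (f.isClosedMap _ isClosed_closure) ⟨ξ, subset_closure rfl, rfl⟩
    obtain ⟨x, hx, hfx⟩ := h1
    exact ⟨x, hfx, Set.mem_biUnion (show ξ ∈ N from ⟨hξ, hlt⟩) hx⟩
  obtain ⟨x, -, hxM, hxN⟩ := isPreconnected_closed_iff.1 hF _ _ hCM hCN hcover hFM hFN
  obtain ⟨ξ, hξM, hxξ⟩ := Set.mem_iUnion₂.1 hxM
  obtain ⟨ξ', hξN, hxξ'⟩ := Set.mem_iUnion₂.1 hxN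
  have hs : ξ ⤳ x := specializes_iff_mem_closure.2 hxξ
  have hs' : ξ' ⤳ x := specializes_iff_mem_closure.2 hxξ'
  haveI := isDVR f hX ξ hξM.1.1
  obtain ⟨π, hπ⟩ := exists_irreducible (X.presheaf.stalk ξ)
  have hV := vA_pos f hmod hX ha hξM.1
  have hlt : vG f a G ξ < vA f a ξ := by
    refine lt_of_le_of_ne (vG_le f a G ξ) fun h' => ?_
    have := hξM.2
    rw [h', mul_comm] at this
    exact (ne_of_lt hV₀) (Nat.eq_of_mul_eq_mul_left hV.1 this)
  have hexp : ∀ (t : X.presheaf.stalk ξ) (n : ℕ), addVal _ t = (n : ℕ∞) → ∃ c, IsUnit c ∧ t = c * π ^ n := fun t n ht => by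
    obtain ⟨c, hc⟩ := ((addVal_eq_iff_associated (π ^ n) t).1 (by rw [ht, hπ.addVal_pow]))
    exact ⟨c, c.isUnit, by rw [← hc, mul_comm]⟩
  obtain ⟨c, hcu, hc⟩ := hexp (G ξ) (vG f a G ξ) (by
    rw [coe_vG, val_eq, min_eq_left]
    by_contra hle
    have := coe_vG f a G ξ
    rw [val_eq, min_eq_right (not_le.1 hle).le, Nat.cast_inj] at this
    omega)
  obtain ⟨e, heu, he⟩ := hexp (γ f ξ a) (vA f a ξ) (by rw [hV.2, val_eq])
  obtain ⟨k, hkint, hk, huk⟩ := exists_integral f hmod hX ha hG hV₀ hmin hξM.1 hξM.2 hπ hc he heu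
  obtain ⟨u, hu⟩ := exists_u f hmod hX ha hG hV₀ hmin x
  have hk0 : k ≠ 0 := fun h => by
    rw [h, zero_mul] at hk
    exact pow_ne_zero _ (hcu.map (X.residue ξ).hom).ne_zero hk.symm
  have hnu := not_isUnit_sp_u f hmod hX ha hG hmin hξN.1 hξN.2 hs' hu
  refine hnu (IsUnit.map _ ?_)
  -- the residue is algebraic over the field `A / 𝔪`
  let φ : A →+* X.residueField ξ := (X.residue ξ).hom.comp (γ f ξ)
  have hker : ∀ r ∈ IsLocalRing.maximalIdeal A, φ r = 0 := fun r hr =>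
    (IsLocalRing.residue_eq_zero_iff _).2 fun h => (isUnit_γ f ξ r).1 h (by rw [hcon ξ hξM.1 hξM.2]; exact hr)
  let φ' : A ⧸ IsLocalRing.maximalIdeal A →+* X.residueField ξ := Ideal.Quotient.lift _ φ hker
  letI : Field (A ⧸ IsLocalRing.maximalIdeal A) := Ideal.Quotient.field _
  letI : Algebra (A ⧸ IsLocalRing.maximalIdeal A) (X.residueField ξ) := φ'.toAlgebra
  have hki : _root_.IsIntegral (A ⧸ IsLocalRing.maximalIdeal A) k := by
    obtain ⟨P, hPm, hP0⟩ := hkint
    exact ⟨P.map (Ideal.Quotient.mk _), hPm.map _, by rw [Polynomial.eval₂_map]; exact hP0⟩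
  have hinv : k⁻¹ ∈ Algebra.adjoin (A ⧸ IsLocalRing.maximalIdeal A) ({k} : Set (X.residueField ξ)) :=
    Subalgebra.inv_mem_of_algebraic _ (x := ⟨k, Algebra.self_mem_adjoin_singleton _ k⟩) hki.isAlgebraic
  let R : Subalgebra (A ⧸ IsLocalRing.maximalIdeal A) (X.residueField ξ) :=
    { ((X.residue ξ).hom.comp (sp hs)).range.toSubsemiring with
      algebraMap_mem' := fun r => by
        obtain ⟨r, rfl⟩ := Ideal.Quotient.mk_surjective r
        exact ⟨γ f x r, by show (X.residue ξ).hom (sp hs (γ f x r)) = _; rw [sp_γ]; rfl⟩ }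
  obtain ⟨t, ht⟩ : k⁻¹ ∈ R := Algebra.adjoin_le (S := R) (Set.singleton_subset_iff.2 ⟨u, huk x hs u hu⟩) hinv
  refine isUnit_of_mul_isUnit_right (x := t) (IsLocalRing.notMem_maximalIdeal.1 fun hm => ?_)
  have h1 : (X.residue ξ).hom (sp hs (t * u)) = 1 := by
    rw [map_mul, map_mul, huk x hs u hu, show (X.residue ξ).hom (sp hs t) = k⁻¹ from ht, inv_mul_cancel₀ hk0]
  have h2 : ¬ IsUnit (sp hs (t * u - 1)) := fun h => by
    have := (h.map (X.residue ξ).hom).ne_zero
    rw [map_sub, map_sub, h1, map_one, map_one, sub_self] at this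
    exact this rfl
  have h3 : t * u - 1 ∈ IsLocalRing.maximalIdeal (X.presheaf.stalk x) := fun h => h2 (h.map _)
  have h4 := (IsLocalRing.maximalIdeal (X.presheaf.stalk x)).sub_mem hm h3
  rw [sub_sub_cancel] at h4
  exact IsLocalRing.notMem_maximalIdeal.2 isUnit_one h4

end Groth.Agent.Resolve13.Torsion
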