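import Groth.Agent.Resolve13.NormPtDominate
import Groth.Agent.CurvesLib24.Basic
import Mathlib

/-!
# The normalisation of a Nagata surface and modifications of the surface
-/

set_option autoImplicit false
set_option backward.isDefEq.respectTransparency.types false
universe u
open CategoryTheory CategoryTheory.Limits AlgebraicGeometry TopologicalSpace

namespace Groth.Agent.Resolve13.NormPt

/-- Normalisations of integral Noetherian Nagata schemes are finite. -/
theorem isFinite_normalizationι {X : Scheme.{u}} [IsIntegral X]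
    (hN : ∀ U : X.affineOpens, CAlg.IsNagata Γ(X, U.1))
    [QuasiCompact (X.fromSpecStalk (genericPoint X))] [QuasiSeparated (X.fromSpecStalk (genericPoint X))] :
    IsFinite (Curv2.normalizationι X) := by
  have hlf : LocallyFinite
      (fun Z : ↥(irreducibleComponents ↥(Spec (X.presheaf.stalk (genericPoint X)))) =>
        (Z : Set ↥(Spec (X.presheaf.stalk (genericPoint X))))) := by
    have : Subsingleton ↥(Spec (X.presheaf.stalk (genericPoint X))) :=
      inferInstanceAs (Subsingleton (PrimeSpectrum X.functionField))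
    exact locallyFinite_of_finite _
  have : IsReduced (Spec (X.presheaf.stalk (genericPoint X))) :=
    inferInstanceAs (IsReduced (Spec X.functionField))
  exact CAlgSmall.NormNagata.isFinite_fromNormalization_of_generic (X.fromSpecStalk (genericPoint X)) hN hlf fun z _ => by
    refine (RingHom.FiniteType.of_surjective _ ?_).essFiniteType
    intro a
    obtain ⟨a', rfl⟩ := Scheme.residue_surjective _ z a
    obtain ⟨c, rfl⟩ := (X.fromSpecStalk (genericPoint X)).stalkMap_surjective z a'
    exact ⟨X.residue _ c, by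
      rw [← CategoryTheory.comp_apply, Scheme.residue_residueFieldMap]
      rfl⟩

theorem finNorm_of_nagata {X₀ : Scheme.{u}} (hN : ∀ U : X₀.affineOpens, CAlg.IsNagata Γ(X₀, U.1)) : FinNorm X₀ :=
  fun Z m _ _ _ hm _ => haveI := hm; isFinite_normalizationι (S7359.nagata_of_lft m hN)

/-- Normalised point blow-ups dominate every modification of an integral Nagata surface. -/
theorem exists_dominating_normalization (X : Scheme.{u}) [IsIntegral X] [AlgebraicGeometry.IsNoetherian X]
    (hN : ∀ U : X.affineOpens, CAlg.IsNagata Γ(X, U.1)) (hdim : topologicalKrullDim X = 2)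
    [QuasiCompact (X.fromSpecStalk (genericPoint X))] [QuasiSeparated (X.fromSpecStalk (genericPoint X))]
    {Y : Scheme.{u}} [IsIntegral Y] (f : Y ⟶ X) [IsProper f]
    (hbir : ∃ U : X.Opens, (U : Set X).Nonempty ∧ IsIso (f ∣_ U)) :
    ∃ (Xn : Scheme.{u}) (g : Xn ⟶ Curv2.normalization X), Resolve.IsNormPtBlowupSeq g ∧
      ∃ h : Xn ⟶ Y, h ≫ f = g ≫ Curv2.normalizationι X := by
  obtain ⟨U, hUne, hU⟩ := hbir
  haveI := hU
  obtain ⟨hfη, hfb⟩ := Coherent.birational_of_isIso_morphismRestrict f U hUne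
  haveI : IsLocallyNoetherian Y := LocallyOfFiniteType.isLocallyNoetherian f
  haveI : CompactSpace Y := QuasiCompact.compactSpace_of_compactSpace f
  haveI : AlgebraicGeometry.IsNoetherian Y := {}
  have hNY := S7359.nagata_of_lft f hN
  haveI : IsFinite (Curv2.normalizationι X) := isFinite_normalizationι hN
  haveI : IsFinite (Curv2.normalizationι Y) := isFinite_normalizationι hNY
  let ν := Curv2.normalizationι X
  let νY := Curv2.normalizationι Y
  haveI : IsIntegral (Curv2.normalization X) :=
    inferInstanceAs (IsIntegral (X.fromSpecStalk (genericPoint X)).normalization)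
  haveI : IsIntegral (Curv2.normalization Y) :=
    inferInstanceAs (IsIntegral (Y.fromSpecStalk (genericPoint Y)).normalization)
  have hYn : Pi1.IsNormalScheme (Curv2.normalization Y) :=
    NormalizationLib.isNormal (RingHom.id Y.functionField) (Y.fromSpecStalk (genericPoint Y)) (by
      show _ = Spec.map (𝟙 _) ≫ _
      simp)
  have hXn : Pi1.IsNormalScheme (Curv2.normalization X) :=
    NormalizationLib.isNormal (RingHom.id X.functionField) (X.fromSpecStalk (genericPoint X)) (by
      show _ = Spec.map (𝟙 _) ≫ _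
      simp)
  haveI : IsLocallyNoetherian (Curv2.normalization X) := LocallyOfFiniteType.isLocallyNoetherian ν
  haveI : CompactSpace (Curv2.normalization X) := QuasiCompact.compactSpace_of_compactSpace ν
  haveI : AlgebraicGeometry.IsNoetherian (Curv2.normalization X) := {}
  obtain ⟨V, hV, hViso⟩ := BMLib.exists_isIso_normalization (X := X)
  haveI := hViso
  obtain ⟨hνη, hνb⟩ := Coherent.birational_of_isIso_morphismRestrict ν V hV.nonempty
  obtain ⟨VY, hVY, hVYiso⟩ := BMLib.exists_isIso_normalization (X := Y)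
  haveI := hVYiso
  obtain ⟨hνYη, -⟩ := Coherent.birational_of_isIso_morphismRestrict νY VY hVY.nonempty
  have hgood : CAlgSmall.NormalFactor.Good (νY ≫ f) := CAlgSmall.NormalFactor.good_of_normal (νY ≫ f) hYn fun t ht => by
    rw [irreducibleComponents_eq_singleton] at ht
    rw [show t = genericPoint (Curv2.normalization Y) from
      ((genericPoint_spec _).eq (show IsGenericPoint t Set.univ from ht)).symm]
    show f (νY (genericPoint _)) = _
    rw [hνYη, hfη]
  obtain ⟨p, hp, -⟩ := CAlgSmall.NormalFactor.existsUnique_fac hgood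
  haveI : IsProper (p ≫ ν) := by rw [hp]; infer_instance
  haveI : IsProper p := IsProper.of_comp p ν
  obtain ⟨W, hWne, hW⟩ := RatExt.exists_isIso_comp f νY U hUne VY hVY.nonempty
  let W' : X.Opens := W ⊓ V
  have hW'η : genericPoint X ∈ W' :=
    ⟨(genericPoint_spec X).mem_open_set_iff W.2 |>.2 (by simpa using hWne),
      (genericPoint_spec X).mem_open_set_iff V.2 |>.2 (by simpa using hV.nonempty)⟩
  haveI : IsIso (p ∣_ (ν ⁻¹ᵁ W')) := by
    haveI := hW
    haveI h1 : IsIso ((p ≫ ν) ∣_ W') := by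
      rw [hp]
      exact BMLib.isIso_restrict_of_le (νY ≫ f) (U := W) inf_le_left
    haveI : IsIso (ν ∣_ W') := BMLib.isIso_restrict_of_le ν (U := V) inf_le_right
    rw [morphismRestrict_comp] at h1
    exact @IsIso.of_isIso_comp_right _ _ _ _ _ _ (ν ∣_ W') _ h1
  obtain ⟨Xn, g, hg, h, hh⟩ := exists_dominating hXn (finNorm_of_nagata (S7359.nagata_of_lft ν hN))
    (fun x => (Modification.ringKrullDim_stalk_le ν hνη hνb x).trans
      ((CurvesLib24.stalk_dim_le_topologicalKrullDim _).trans hdim.le))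
    (fun hcl => not_isClosed_generic hdim (by rw [← hνη]; simpa using ν.isClosedMap _ hcl))
    hYn p (ν ⁻¹ᵁ W') ⟨genericPoint _, show ν (genericPoint _) ∈ W' from hνη.symm ▸ hW'η⟩
  exact ⟨Xn, g, hg.seq, h ≫ νY, by rw [Category.assoc, ← hp, ← Category.assoc, hh]⟩

/-- Rational maps to proper schemes extend after normalised point blow-ups. -/
theorem exists_extension {S : Scheme.{u}} (X Y : Scheme.{u}) (p : X ⟶ S) (q : Y ⟶ S) [IsProper q]
    [IsIntegral X] [AlgebraicGeometry.IsNoetherian X] (hN : ∀ V : X.affineOpens, CAlg.IsNagata Γ(X, V.1))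
    (hdim : topologicalKrullDim X = 2)
    [QuasiCompact (X.fromSpecStalk (genericPoint X))] [QuasiSeparated (X.fromSpecStalk (genericPoint X))]
    (U : X.Opens) (hU : Dense (U : Set X)) (f : (U : Scheme.{u}) ⟶ Y) (hf : f ≫ q = U.ι ≫ p) :
    ∃ (Xn : Scheme.{u}) (g : Xn ⟶ Curv2.normalization X) (fn : Xn ⟶ Y), Resolve.IsNormPtBlowupSeq g ∧
      fn ≫ q = (g ≫ Curv2.normalizationι X) ≫ p ∧
      ((g ≫ Curv2.normalizationι X) ⁻¹ᵁ U).ι ≫ fn = ((g ≫ Curv2.normalizationι X) ∣_ U) ≫ f := by
  obtain ⟨Γ', i, hΓ, hicl, hiso, hagree⟩ := exists_graph_closure (pullback.fst p q) U hU.nonempty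
    (pullback.lift U.ι f hf.symm) (pullback.lift_fst _ _ _)
  haveI := hΓ
  haveI := hicl
  let γ := i ≫ pullback.fst p q
  haveI : IsProper γ := inferInstance
  obtain ⟨Xn, g, hg, h, hh⟩ := exists_dominating_normalization X hN hdim γ ⟨U, hU.nonempty, hiso⟩
  refine ⟨Xn, g, h ≫ i ≫ pullback.snd p q, hg, ?_, ?_⟩
  · rw [← hh]
    simp only [γ, Category.assoc, pullback.condition]
  · have key : ∀ m : Xn ⟶ X, h ≫ γ = m → (m ⁻¹ᵁ U).ι ≫ h ≫ i ≫ pullback.snd p q = (m ∣_ U) ≫ f := by
      rintro _ rfl
      show ((h ≫ γ) ⁻¹ᵁ U).ι ≫ h ≫ i ≫ pullback.snd p q = ((h ≫ γ) ∣_ U) ≫ f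
      have h1 : ((h ≫ γ) ⁻¹ᵁ U).ι ≫ h = (h ∣_ (γ ⁻¹ᵁ U)) ≫ (γ ⁻¹ᵁ U).ι := (morphismRestrict_ι h (γ ⁻¹ᵁ U)).symm
      refine (Category.assoc _ _ _).symm.trans ((congrArg (· ≫ i ≫ pullback.snd p q) h1).trans ?_)
      refine (Category.assoc _ _ _).trans ?_
      rw [show (γ ⁻¹ᵁ U).ι ≫ i ≫ pullback.snd p q = (γ ∣_ U) ≫ f from
        (Category.assoc _ _ _).symm.trans ((congrArg (· ≫ pullback.snd p q) hagree).trans
          ((Category.assoc _ _ _).trans (congrArg ((γ ∣_ U) ≫ ·) (pullback.lift_snd _ _ _))))]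
      rw [morphismRestrict_comp h γ U]
      exact (Category.assoc _ _ _).symm
    exact key _ hh

end Groth.Agent.Resolve13.NormPt
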