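import Groth.Agent.Hyper24.TraceH1
import Groth.Agent.InjMod14.Kosz.AffineHom
import Groth.Agent.Coherent.SchemeCoh
import Groth.Agent.AssSch12.Push
import Groth.Prelude.Def_ClSub2
import Mathlib

/-!
# The trace of a finite dominant morphism to a normal scheme
-/

set_option autoImplicit false
set_option backward.isDefEq.respectTransparency.types false
universe u
open CategoryTheory CategoryTheory.Limits AlgebraicGeometry TopologicalSpace Opposite
open Groth.Agent.Hyper24 Groth.Agent.Coherent Groth.Agent.AmpleLib

namespace Groth.Agent.Resolve13.FiniteTrace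

variable {X Y : Scheme.{u}} [IsIntegral X] [IsIntegral Y] (f : X ⟶ Y) [IsFinite f]
  (e : f (genericPoint X) = genericPoint Y)

/-- The trace splits the unit up to the degree. -/
theorem exists_trace (hY : Pi1.IsNormalScheme Y) :
    letI := (ffMap f e).toAlgebra
    ∃ τ : (Scheme.Modules.pushforward f).obj (Coh.structureModule X) ⟶ Coh.structureModule Y,
      ClSub.unitToPush f ≫ τ = (Module.finrank Y.functionField X.functionField) • 𝟙 (Coh.structureModule Y) := by
  classical
  letI := (ffMap f e).toAlgebra
  haveI := finiteDimensional_ffMap f e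
  have hmem : ∀ {U : Y.Opens}, genericPoint Y ∈ U → genericPoint X ∈ f ⁻¹ᵁ U := fun {U} h => by
    show f (genericPoint X) ∈ U
    rw [e]; exact h
  have hex : ∀ (U : Y.affineOpens) (h : genericPoint Y ∈ U.1) (x : Γ(X, f ⁻¹ᵁ U.1)),
      ∃ y : Γ(Y, U.1), Y.presheaf.germ U.1 _ h y =
        Algebra.trace Y.functionField X.functionField (X.presheaf.germ _ _ (hmem h) x) := fun U h x => by
    obtain ⟨y, hy⟩ := trace_mem_range_germ f e rfl hY U.2 h (hmem h) x
    exact ⟨y, hy⟩
  let t : ∀ U : Y.affineOpens, Γ(X, f ⁻¹ᵁ U.1) → Γ(Y, U.1) := fun U x =>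
    if h : genericPoint Y ∈ U.1 then (hex U h x).choose else 0
  have ht : ∀ (U : Y.affineOpens) (h : genericPoint Y ∈ U.1) (x : Γ(X, f ⁻¹ᵁ U.1)),
      Y.presheaf.germ U.1 _ h (t U x) =
        Algebra.trace Y.functionField X.functionField (X.presheaf.germ _ _ (hmem h) x) := fun U h x => by
    simp only [t, dif_pos h]
    exact (hex U h x).choose_spec
  have hext : ∀ (U : Y.affineOpens) (a b : Γ(Y, U.1)),
      (∀ h : genericPoint Y ∈ U.1, Y.presheaf.germ U.1 _ h a = Y.presheaf.germ U.1 _ h b) → a = b := by
    intro U a b hab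
    refine TopCat.Presheaf.section_ext Y.sheaf _ _ _ fun y hy => ?_
    have h := (genericPoint_specializes y).mem_open U.1.2 hy
    exact congrArg _ (germ_injective_of_isIntegral Y (genericPoint Y) h (hab h))
  let tl : ∀ U : Y.affineOpens, Γ((Scheme.Modules.pushforward f).obj (Coh.structureModule X), U.1) →ₗ[Γ(Y, U.1)]
      Γ(Coh.structureModule Y, U.1) := fun U =>
    { toFun := fun x => t U x
      map_add' := fun a b => hext U _ _ fun h => by
        rw [ht]
        refine (congrArg _ (map_add (X.presheaf.germ _ _ (hmem h)).hom a b)).trans ?_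
        refine (map_add (Algebra.trace Y.functionField X.functionField) _ _).trans ?_
        refine Eq.trans ?_ (map_add (Y.presheaf.germ U.1 _ h).hom _ _).symm
        exact congrArg₂ (· + ·) (ht U h a).symm (ht U h b).symm
      map_smul' := fun r a => hext U _ _ fun h => by
        rw [ht]
        have e1 : X.presheaf.germ _ _ (hmem h) ((f.app U.1).hom r * (show Γ(X, f ⁻¹ᵁ U.1) from a)) =
            (Y.presheaf.germ U.1 _ h r) • X.presheaf.germ _ _ (hmem h) a := by
          rw [map_mul, Algebra.smul_def]
          exact congrArg (· * _) (ffMap_germ f e h r (hmem h)).symm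
        refine (congrArg _ e1).trans ((map_smul (Algebra.trace Y.functionField X.functionField) _ _).trans ?_)
        refine Eq.trans ?_ (map_mul (Y.presheaf.germ U.1 _ h).hom r (t U a)).symm
        exact congrArg (_ * ·) (ht U h a).symm }
  obtain ⟨τ, hτ⟩ := InjMod14.Kosz.exists_hom_of_affine _ _ tl fun U V hVU s => hext V _ _ fun h => by
    refine (ht V h _).trans ?_
    refine Eq.trans ?_ ((Y.presheaf.germ_res_apply (homOfLE hVU) _ h (t U s)).symm)
    rw [ht U (hVU h)]
    exact congrArg _ (X.presheaf.germ_res_apply (homOfLE (Scheme.Hom.preimage_mono f hVU)) _ (hmem h) s)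
  refine ⟨τ, InjMod14.Kosz.hom_ext_affine _ _ fun W s => ?_⟩
  obtain ⟨U, hU⟩ := W
  refine hext ⟨U, hU⟩ _ _ fun h => ?_
  show Y.presheaf.germ U _ h (τ.app U ((f.app U).hom s)) = _
  rw [hτ ⟨U, hU⟩]
  refine (ht ⟨U, hU⟩ h _).trans ?_
  have h1 : X.presheaf.germ _ _ (hmem h) ((f.app U).hom s) =
      algebraMap Y.functionField X.functionField (Y.presheaf.germ U _ h s) := (ffMap_germ f e h s (hmem h)).symm
  rw [h1, Algebra.trace_algebraMap]
  have h2 : ∀ n : ℕ, (n • 𝟙 (Coh.structureModule Y)).app U s = n • (show Γ(Y, U) from s) := fun n => by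
    induction n with
    | zero => rw [zero_smul, zero_smul]; rfl
    | succ n ih => rw [add_smul, add_smul, one_smul, one_smul, ← ih]; rfl
  rw [h2, map_nsmul]

/-- The degree kills cohomology of the normal scheme which vanishes on the finite cover. -/
theorem finrank_nsmul_eq_zero (hY : Pi1.IsNormalScheme Y) (n : ℕ)
    (hX : Subsingleton (Coh.HH X (Coh.structureModule X) n)) (x : Coh.HH Y (Coh.structureModule Y) n) :
    (letI := (ffMap f e).toAlgebra; Module.finrank Y.functionField X.functionField) • x = 0 := by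
  letI := (ffMap f e).toAlgebra
  obtain ⟨τ, hτ⟩ := exists_trace f e hY
  haveI : Coh.IsQCoh (Coh.structureModule X) := Coherent.isQCoh_structureModule
  haveI : Subsingleton (Coh.HH Y ((Coh.push f).obj (Coh.structureModule X)) n) :=
    (HHAffinePushEquiv f (Coh.structureModule X) n).symm.subsingleton
  let F : Y.Modules ⥤ AddCommGrpCat.{u} := SheafOfModules.toSheaf _ ⋙ Sheaf.functorH _ n
  have h0 : (F.map (ClSub.unitToPush f ≫ τ)).hom x = 0 := by
    rw [F.map_comp]
    show (F.map τ).hom ((F.map (ClSub.unitToPush f)).hom x) = 0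
    rw [show (F.map (ClSub.unitToPush f)).hom x = 0 from
      Subsingleton.elim (α := Coh.HH Y ((Coh.push f).obj (Coh.structureModule X)) n) _ _]
    exact map_zero _
  rw [hτ] at h0
  have hadd : ∀ a b : Coh.structureModule Y ⟶ Coh.structureModule Y,
      (F.map (a + b)).hom x = (F.map a).hom x + (F.map b).hom x := fun a b => by
    show ((Sheaf.functorH _ n).map ((SheafOfModules.toSheaf _).map (a + b))).hom x = _
    rw [show (SheafOfModules.toSheaf Y.ringCatSheaf).map (a + b) =
      (SheafOfModules.toSheaf Y.ringCatSheaf).map a + (SheafOfModules.toSheaf Y.ringCatSheaf).map b from rfl,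
      Functor.map_add]
    rfl
  have key : ∀ k : ℕ, (F.map (k • 𝟙 (Coh.structureModule Y))).hom x = k • x := fun k => by
    induction k with
    | zero =>
      have h := hadd 0 0
      rw [add_zero] at h
      rw [zero_smul, zero_smul]
      exact left_eq_add.1 h
    | succ k ih =>
      rw [succ_nsmul, succ_nsmul, hadd, ih, F.map_id]
      rfl
  exact (key _).symm.trans h0

end Groth.Agent.Resolve13.FiniteTrace
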