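import Groth.Agent.S11555
import Groth.Agent.Resolve13.FiniteTrace
import Groth.Agent.Resolve13.NormModif
import Groth.Agent.Resolve13.LocalBase
import Groth.Agent.Resolve13.Modification
import Groth.Agent.S7338
import Groth.Agent.CohEdge27.Edge
import Groth.Agent.NormalizationLib.Basic
import Groth.Agent.S1649
import Mathlib

/-!
# Finite extensions of rational surface singularities
-/

set_option autoImplicit false
set_option backward.isDefEq.respectTransparency.types false
universe u
open CategoryTheory CategoryTheory.Limits AlgebraicGeometry TopologicalSpace Opposite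
open Groth.Agent.Hyper24

namespace Groth.Agent.Resolve13.FiniteExtRat

variable {A : Type u} [CommRing A]

/-- Elements of the base as rational functions. -/
noncomputable def glob {Z : Scheme.{u}} [IsIntegral Z] (f : Z ⟶ Spec (CommRingCat.of A)) : A →+* Z.functionField :=
  (Z.presheaf.germ (⊤ : Z.Opens) (genericPoint Z) trivial).hom.comp (Coh.toGlobal f)

theorem ffMap_glob {Z Y : Scheme.{u}} [IsIntegral Z] [IsIntegral Y] (g : Z ⟶ Y)
    (e : g (genericPoint Z) = genericPoint Y) (f : Y ⟶ Spec (CommRingCat.of A)) (a : A) :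
    ffMap g e (glob f a) = glob (g ≫ f) a :=
  (ffMap_germ g e (W := ⊤) trivial (Coh.toGlobal f a) trivial).trans rfl

theorem glob_comp {B : Type u} [CommRing B] [Algebra A B] {Z : Scheme.{u}} [IsIntegral Z]
    (f : Z ⟶ Spec (CommRingCat.of B)) (a : A) :
    glob (f ≫ Spec.map (CommRingCat.ofHom (algebraMap A B))) a = glob f (algebraMap A B a) := by
  refine congrArg (Z.presheaf.germ (⊤ : Z.Opens) (genericPoint Z) trivial).hom ?_
  show (f ≫ Spec.map (CommRingCat.ofHom (algebraMap A B))).appTop.hom ((Scheme.ΓSpecIso (CommRingCat.of A)).inv.hom a) =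
    f.appTop.hom ((Scheme.ΓSpecIso (CommRingCat.of B)).inv.hom (algebraMap A B a))
  rw [Scheme.Hom.comp_appTop]
  exact congrArg f.appTop.hom
    (ConcreteCategory.congr_hom (Scheme.ΓSpecIso_inv_naturality (CommRingCat.ofHom (algebraMap A B))) a).symm

/-- The value at a field valued point of a global function. -/
theorem stalkClosedPointTo_germ_toGlobal {L : Type u} [Field L] {Z : Scheme.{u}}
    (h : Spec (CommRingCat.of L) ⟶ Z) (f : Z ⟶ Spec (CommRingCat.of A)) (ι : A →+* L)
    (hf : h ≫ f = Spec.map (CommRingCat.ofHom ι)) (a : A) :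
    (Scheme.stalkClosedPointTo h).hom
      ((Z.presheaf.germ (⊤ : Z.Opens) (h (IsLocalRing.closedPoint L)) trivial).hom (Coh.toGlobal f a)) = ι a := by
  have key : ∀ m : Spec (CommRingCat.of L) ⟶ Spec (CommRingCat.of A), m = h ≫ f →
      (Scheme.stalkClosedPointTo m).hom (((Spec (CommRingCat.of A)).presheaf.germ ⊤ (m (IsLocalRing.closedPoint L))
        trivial).hom ((Scheme.ΓSpecIso (CommRingCat.of A)).inv.hom a)) =
      (Scheme.stalkClosedPointTo h).hom
        ((Z.presheaf.germ (⊤ : Z.Opens) (h (IsLocalRing.closedPoint L)) trivial).hom (Coh.toGlobal f a)) := by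
    rintro _ rfl
    rw [Scheme.stalkClosedPointTo_comp]
    exact congrArg (Scheme.stalkClosedPointTo h).hom
      (ConcreteCategory.congr_hom (Scheme.Hom.germ_stalkMap f ⊤ (h (IsLocalRing.closedPoint L)) trivial) _)
  rw [← key _ hf.symm]
  refine (ConcreteCategory.congr_hom (Scheme.germ_stalkClosedPointTo_Spec (CommRingCat.ofHom ι)) _).trans ?_
  exact congrArg ι (ConcreteCategory.congr_hom (Scheme.ΓSpecIso (CommRingCat.of A)).inv_hom_id a)

theorem isFractionRing_glob_aux (R : CommRingCat.{u}) [IsDomain R] {Z : Scheme.{u}} [IsIntegral Z] (f : Z ⟶ Spec R)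
    (α : R →+* Z.functionField) (e : f (genericPoint Z) = genericPoint (Spec R))
    (hb : Function.Bijective (f.stalkMap (genericPoint Z)))
    (hα : ∀ a : R, α a = Z.presheaf.germ (⊤ : Z.Opens) (genericPoint Z) trivial
      (f.appTop.hom ((Scheme.ΓSpecIso R).inv.hom a))) :
    letI := α.toAlgebra
    IsFractionRing R Z.functionField := by
  letI := α.toAlgebra
  have hff : Function.Bijective (ffMap f e) := by
    have h1 : Function.Bijective ((Spec R).presheaf.stalkSpecializes (specializes_of_eq e)).hom := by
      have key : ∀ w : Spec R, ∀ (hw : w = genericPoint (Spec R)),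
          Function.Bijective ((Spec R).presheaf.stalkSpecializes (specializes_of_eq hw)).hom := by
        rintro w rfl
        rw [TopCat.Presheaf.stalkSpecializes_refl]
        exact Function.bijective_id
      exact key _ e
    exact hb.comp h1
  let al : (Spec R).functionField ≃ₐ[R] Z.functionField :=
    AlgEquiv.ofRingEquiv (f := RingEquiv.ofBijective (ffMap f e) hff) fun a => by
      show ffMap f e (algebraMap R (Spec R).functionField a) = α a
      rw [show algebraMap R (Spec R).functionField a =
        ((Spec R).presheaf.germ ⊤ (genericPoint (Spec R)) trivial).hom ((Scheme.ΓSpecIso R).inv.hom a) from rfl, hα]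
      exact ffMap_germ f e (W := ⊤) trivial _ trivial
  exact IsLocalization.isLocalization_of_algEquiv (nonZeroDivisors R) al

/-- The rational functions of a modification of an affine scheme are fractions of the base. -/
theorem isFractionRing_glob [IsDomain A] {Z : Scheme.{u}} [IsIntegral Z] (f : Z ⟶ Spec (CommRingCat.of A))
    (e : f (genericPoint Z) = genericPoint (Spec (CommRingCat.of A)))
    (hb : Function.Bijective (f.stalkMap (genericPoint Z))) :
    letI := (glob f).toAlgebra
    IsFractionRing A Z.functionField :=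
  isFractionRing_glob_aux (CommRingCat.of A) f (glob f) e hb fun _ => rfl

/-- A normal modification of a surface with rational singularities has no first cohomology. -/
theorem subsingleton_H1_of_rational {B : Type u} [CommRing B] [IsDomain B] [IsNoetherianRing B]
    [IsIntegrallyClosed B] (hdim : ringKrullDim B ≤ 2)
    (hB : ∀ (n : Ideal B) [n.IsMaximal], ringKrullDim (Localization.AtPrime n) = 2 →
      Curv2.IsRationalSing (Localization.AtPrime n))
    {Z : Scheme.{u}} [IsIntegral Z] (hZ : Pi1.IsNormalScheme Z) (q : Z ⟶ Spec (CommRingCat.of B)) [IsProper q]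
    (hqη : q (genericPoint Z) = genericPoint (Spec (CommRingCat.of B)))
    (hqb : Function.Bijective (q.stalkMap (genericPoint Z))) :
    Subsingleton (Coh.HH Z (Coh.structureModule Z) 1) := by
  let T := Spec (CommRingCat.of B)
  haveI : IsLocallyNoetherian Z := LocallyOfFiniteType.isLocallyNoetherian q
  haveI : HasInjectiveResolutions Z.Modules := Coherent.hasInjectiveResolutions_modules Z
  obtain ⟨V, hV, -, hVdim⟩ := Groth.Agent.S11555.result q (CommAlg4.Cone.isNormalScheme_spec (CommRingCat.of B)) hqη hqb
  haveI : Coh.IsQCoh (Coh.structureModule Z) := Coherent.isQCoh_structureModule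
  have hst : ∀ y : T, Subsingleton (((Coh.Rpush q 1).obj (Coh.structureModule Z)).presheaf.stalk y) := by
    intro y
    let P := pullback q (T.fromSpecStalk y)
    let p : P ⟶ Spec (T.presheaf.stalk y) := pullback.snd q (T.fromSpecStalk y)
    letI : P.Over (Spec (CommRingCat.of (T.presheaf.stalk y))) := ⟨p⟩
    obtain ⟨e⟩ := Coherent.nonempty_stalk_rpush_equiv q (Coh.structureModule Z) 1 y P
      (pullback.fst q (T.fromSpecStalk y)) (IsPullback.of_hasPullback q _)
    obtain ⟨i⟩ := CAlgH.PicPunct.nonempty_pullback_unit (pullback.fst q (T.fromSpecStalk y))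
    suffices h : Subsingleton (Coh.HH P (Coh.structureModule P) 1) by
      haveI := FlatMorStrat.subsingleton_HH_of_iso i.symm 1 h
      exact e.toEquiv.subsingleton
    by_cases hy : y ∈ (V : Set T)
    · haveI := hV
      haveI := LocalBase.exists_isIso_restrict q y V
      have htop : T.fromSpecStalk y ⁻¹ᵁ V = ⊤ := top_le_iff.1 fun w _ => by
        have hw : T.fromSpecStalk y w ∈ Set.range (T.fromSpecStalk y) := ⟨w, rfl⟩
        rw [Scheme.range_fromSpecStalk] at hw
        exact hw.mem_open V.2 hy
      haveI : IsIso (p ∣_ (⊤ : (Spec (T.presheaf.stalk y)).Opens)) := htop ▸ ‹IsIso (p ∣_ T.fromSpecStalk y ⁻¹ᵁ V)›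
      haveI : IsIso p := by
        have h1 : IsIso ((p ⁻¹ᵁ ⊤).ι ≫ p) := by
          rw [← morphismRestrict_ι p ⊤, ← Scheme.topIso_hom]
          infer_instance
        haveI : IsIso (p ⁻¹ᵁ (⊤ : (Spec (T.presheaf.stalk y)).Opens)).ι := by
          show IsIso (⊤ : P.Opens).ι
          rw [← Scheme.topIso_hom]
          infer_instance
        exact @IsIso.of_isIso_comp_left _ _ _ _ _ (p ⁻¹ᵁ (⊤ : (Spec (T.presheaf.stalk y)).Opens)).ι p _ h1
      haveI : IsAffine P := .of_isIso p
      haveI : Coh.IsQCoh (Coh.structureModule P) := Coherent.isQCoh_structureModule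
      exact Coherent.subsingleton_HH_of_isAffine (Coh.structureModule P) 1 one_pos
    · have h2 : (2 : WithBot ℕ∞) ≤ ringKrullDim (T.presheaf.stalk y) := hVdim y hy
      let es : Localization.AtPrime y.asIdeal ≃+* T.presheaf.stalk y := (StructureSheaf.stalkIso B y).toRingEquiv
      have hd : ringKrullDim (Localization.AtPrime y.asIdeal) = 2 := by
        refine le_antisymm ?_ (h2.trans (ringKrullDim_eq_of_ringEquiv es).ge)
        rw [IsLocalization.AtPrime.ringKrullDim_eq_height y.asIdeal (Localization.AtPrime y.asIdeal)]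
        exact (Ideal.height_le_ringKrullDim_of_ne_top y.2.ne_top).trans hdim
      haveI hmax : y.asIdeal.IsMaximal := by
        refine Ideal.isMaximal_def.2 ⟨y.2.ne_top, fun J hJ => ?_⟩
        by_contra hne
        obtain ⟨M, hM, hJM⟩ := Ideal.exists_le_maximal J hne
        have h3 := Ideal.height_add_one_le_of_lt_of_isPrime (hJ.trans_le hJM)
        rw [IsLocalization.AtPrime.ringKrullDim_eq_height y.asIdeal (Localization.AtPrime y.asIdeal)] at hd
        have h4 : (y.asIdeal.height + 1 : ℕ∞) ≤ 2 := h3.trans (WithBot.coe_le_coe.1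
          ((Ideal.height_le_ringKrullDim_of_ne_top hM.ne_top).trans hdim))
        rw [show y.asIdeal.height = 2 from WithBot.coe_inj.1 hd] at h4
        exact absurd h4 (by decide)
      obtain ⟨hPi, -⟩ := LocalBase.isIntegral q y hqη
      haveI := hPi
      haveI := hV
      have hne : ((T.fromSpecStalk y ⁻¹ᵁ V : (Spec (T.presheaf.stalk y)).Opens) :
          Set (Spec (T.presheaf.stalk y))).Nonempty := by
        obtain ⟨w, hw⟩ : genericPoint T ∈ Set.range (T.fromSpecStalk y) := by
          rw [Scheme.range_fromSpecStalk]; exact genericPoint_specializes y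
        refine ⟨w, show T.fromSpecStalk y w ∈ V from hw.symm ▸ ?_⟩
        by_contra hη
        have h0 := hVdim _ hη
        rw [show ringKrullDim (T.presheaf.stalk (genericPoint T)) = 0 from
          ringKrullDim_eq_zero_of_isField (Field.toIsField T.functionField)] at h0
        exact absurd h0 (by decide)
      let j : Spec (T.presheaf.stalk y) ≅ Spec (CommRingCat.of (Localization.AtPrime y.asIdeal)) :=
        Scheme.Spec.mapIso (RingEquiv.toCommRingCatIso es).op
      haveI : IsProper p := MorphismProperty.pullback_snd _ _ inferInstance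
      haveI := LocalBase.exists_isIso_restrict q y V
      refine hB y.asIdeal hd P (p ≫ j.hom) inferInstance hPi (LocalBase.isNormal q y hZ) ?_
      exact RatExt.exists_isIso_comp j.hom p ⊤ ⟨j.hom hne.some, trivial⟩ _ hne
  letI : T.Over (Spec (CommRingCat.of B)) := ⟨𝟙 T⟩
  letI : Z.Over (Spec (CommRingCat.of B)) := ⟨q⟩
  haveI := (ConcreteCategory.isIso_iff_bijective _).2 hqb
  haveI : Coh.IsQCoh (Coh.structureModule T) := Coherent.isQCoh_structureModule
  have h2 : Subsingleton (Coh.HH T (Coh.structureModule T) 2) :=
    Coherent.subsingleton_HH_of_isAffine (Coh.structureModule T) 2 two_pos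
  have h1 : Subsingleton (Coh.HH T (Coh.structureModule T) 1) :=
    Coherent.subsingleton_HH_of_isAffine (Coh.structureModule T) 1 one_pos
  have hlen := S7338.length_additive B T Z q (Category.comp_id q) (Coherent.isIso_app_of_birational q
    (CommAlg4.Cone.isNormalScheme_spec (CommRingCat.of B)) hqη ((ConcreteCategory.isIso_iff_bijective _).2 hqb)) h2
  have hR : Subsingleton (Coh.HH T ((Coh.Rpush q 1).obj (Coh.structureModule Z)) 0) := by
    haveI : Subsingleton Γ((Coh.Rpush q 1).obj (Coh.structureModule Z), (⊤ : T.Opens)) := ⟨fun a b => by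
      refine AmpleLib.sec_ext _ _ _ fun y hy => ?_
      obtain ⟨W, hW, i₁, i₂, heq⟩ := ((Coh.Rpush q 1).obj (Coh.structureModule Z)).presheaf.germ_eq y hy hy a b
        ((hst y).elim _ _)
      exact ⟨W, i₁.le, hW, heq⟩⟩
    exact (Coherent.Existence.hSec _).toEquiv.subsingleton
  rw [Module.length_eq_zero_iff.2 h1, Module.length_eq_zero_iff.2 hR, add_zero] at hlen
  exact Module.length_eq_zero_iff.1 hlen

theorem bijective_stalkSpecializes_of_eq {Z : Scheme.{u}} {a b : Z} (h : a = b) :
    Function.Bijective (Z.presheaf.stalkSpecializes (specializes_of_eq h)).hom := by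
  subst h
  rw [TopCat.Presheaf.stalkSpecializes_refl]
  exact Function.bijective_id

/-- A field valued point over a generic point lifts along a birational map. -/
theorem exists_lift_point {L : Type u} [Field L] {Y S : Scheme.{u}} (f : Y ⟶ S) (U : S.Opens) [IsIso (f ∣_ U)]
    (gS : Spec (CommRingCat.of L) ⟶ S) (h : gS (IsLocalRing.closedPoint L) ∈ U) :
    ∃ g : Spec (CommRingCat.of L) ⟶ Y, g ≫ f = gS ∧ g (IsLocalRing.closedPoint L) ∈ f ⁻¹ᵁ U := by
  have hr : Set.range gS ⊆ Set.range U.ι := by
    rintro _ ⟨w, rfl⟩
    rw [U.range_ι, (inferInstance : Subsingleton (PrimeSpectrum L)).elim w (IsLocalRing.closedPoint L)]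
    exact h
  let g₀ : Spec (CommRingCat.of L) ⟶ U.toScheme := IsOpenImmersion.lift U.ι gS hr
  refine ⟨g₀ ≫ inv (f ∣_ U) ≫ (f ⁻¹ᵁ U).ι, ?_, ?_⟩
  · rw [Category.assoc, Category.assoc, ← morphismRestrict_ι f U, IsIso.inv_hom_id_assoc, IsOpenImmersion.lift_fac]
  · rw [Scheme.Hom.comp_apply, Scheme.Hom.comp_apply]
    exact ((inv (f ∣_ U)) (g₀ (IsLocalRing.closedPoint L))).2

/-- The degree of a finite extension with rational singularities upstairs kills the first cohomology of a normal
modification downstairs. -/
theorem finrank_smul_eq_zero {A B : Type u} [CommRing A] [CommRing B] [IsDomain A] [IsDomain B] [IsNoetherianRing A]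
    [IsNoetherianRing B] [IsIntegrallyClosed B] (hN : CAlg.IsNagata A) (hB2 : ringKrullDim B ≤ 2)
    [Algebra A B] [Module.Finite A B] (hinj : Function.Injective (algebraMap A B))
    (K L : Type u) [Field K] [Field L] [Algebra A K] [IsFractionRing A K] [Algebra B L] [IsFractionRing B L]
    [Algebra K L] [Algebra A L] [IsScalarTower A K L] [IsScalarTower A B L]
    (hB : ∀ (n : Ideal B) [n.IsMaximal], ringKrullDim (Localization.AtPrime n) = 2 →
      Curv2.IsRationalSing (Localization.AtPrime n))
    (Y : Scheme.{u}) [Y.Over (Spec (CommRingCat.of A))] [IsProper (Y ↘ Spec (CommRingCat.of A))]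
    [AlgebraicGeometry.IsIntegral Y] (hY : Pi1.IsNormalScheme Y)
    (hbir : ∃ U : (Spec (CommRingCat.of A)).Opens, (U : Set ↥(Spec (CommRingCat.of A))).Nonempty ∧
      IsIso ((Y ↘ Spec (CommRingCat.of A)) ∣_ U))
    (x : Coh.HH Y (Coh.structureModule Y) 1) :
    (Module.finrank K L : A) • x = 0 := by
  let S := Spec (CommRingCat.of A)
  let T := Spec (CommRingCat.of B)
  let f : Y ⟶ S := Y ↘ Spec (CommRingCat.of A)
  obtain ⟨U, hUne, hU⟩ := hbir
  haveI : IsIso (f ∣_ U) := hU
  obtain ⟨hfη, hfb⟩ := Coherent.birational_of_isIso_morphismRestrict f U hUne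
  haveI : IsLocallyNoetherian Y := LocallyOfFiniteType.isLocallyNoetherian f
  -- finiteness of the field extension
  haveI : Module.Finite K L := by
    haveI : FaithfulSMul A B := (faithfulSMul_iff_algebraMap_injective _ _).mpr hinj
    haveI : Algebra.IsAlgebraic A B := Algebra.IsIntegral.isAlgebraic
    exact Module.Finite.of_isLocalizedModule (nonZeroDivisors A) (IsScalarTower.toAlgHom A B L).toLinearMap
  let ιA : A →+* L := algebraMap A L
  have hιA : Function.Injective ιA := by
    rw [show ιA = (algebraMap K L).comp (algebraMap A K) from IsScalarTower.algebraMap_eq A K L]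
    exact (algebraMap K L).injective.comp (IsFractionRing.injective A K)
  let gS : Spec (CommRingCat.of L) ⟶ S := Spec.map (CommRingCat.ofHom ιA)
  have hgS : gS (IsLocalRing.closedPoint L) = genericPoint S := by
    rw [genericPoint_eq_bot_of_affine]
    refine PrimeSpectrum.ext ?_
    show (IsLocalRing.maximalIdeal L).comap ιA = ⊥
    rw [IsLocalRing.maximalIdeal_eq_bot, Ideal.comap_bot_of_injective ιA hιA]
  obtain ⟨g, hg, hgU⟩ := exists_lift_point f U gS
    (hgS.symm ▸ (genericPoint_spec S).mem_open_set_iff U.2 |>.2 (by simpa using hUne))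
  have hgη : g (IsLocalRing.closedPoint L) = genericPoint Y :=
    Modification.eq_genericPoint f hfη hfb _ (by rw [← Scheme.Hom.comp_apply, hg, hgS])
  haveI : IsAffineHom (g ≫ f) := hg.symm ▸ (inferInstance : IsAffineHom gS)
  haveI : QuasiCompact g := QuasiCompact.of_comp g f
  haveI : QuasiSeparated g := inferInstance
  let φ : Y.functionField →+* L :=
    (Y.presheaf.stalkSpecializes (specializes_of_eq hgη) ≫ Scheme.stalkClosedPointTo g).hom
  have hφ : g = Spec.map (CommRingCat.ofHom φ) ≫ Y.fromSpecStalk (genericPoint Y) := by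
    rw [show CommRingCat.ofHom φ = Y.presheaf.stalkSpecializes (specializes_of_eq hgη) ≫ Scheme.stalkClosedPointTo g
      from rfl, Spec.map_comp, Category.assoc, Scheme.SpecMap_stalkSpecializes_fromSpecStalk]
    exact (Scheme.Spec_stalkClosedPointTo_fromSpecStalk g).symm
  have hφA : ∀ a, φ (glob f a) = ιA a := fun a => by
    refine Eq.trans ?_ (stalkClosedPointTo_germ_toGlobal g f ιA hg a)
    exact congrArg (Scheme.stalkClosedPointTo g).hom
      (ConcreteCategory.congr_hom (TopCat.Presheaf.germ_stalkSpecializes Y.presheaf (U := ⊤) trivial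
        (specializes_of_eq hgη)) (Coh.toGlobal f a))
  letI algY : Algebra A Y.functionField := (glob f).toAlgebra
  haveI : IsFractionRing A Y.functionField := isFractionRing_glob f hfη hfb
  let i : K ≃ₐ[A] Y.functionField := IsLocalization.algEquiv (nonZeroDivisors A) K Y.functionField
  have hφi : φ.comp i.toRingEquiv.toRingHom = algebraMap K L :=
    IsLocalization.ringHom_ext (nonZeroDivisors A) (RingHom.ext fun a => by
      show φ (i (algebraMap A K a)) = algebraMap K L (algebraMap A K a)
      rw [i.commutes, ← IsScalarTower.algebraMap_apply A K L]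
      exact hφA a)
  have hφfin : φ.Finite := by
    rw [show φ = (algebraMap K L).comp i.symm.toRingEquiv.toRingHom from RingHom.ext fun y => by
      have := RingHom.congr_fun hφi (i.symm y)
      simpa using this]
    exact (RingHom.finite_algebraMap.2 inferInstance).comp (RingHom.Finite.of_surjective _ i.symm.surjective)
  haveI : IsFinite g.fromNormalization := isFinite_fromNormalization_of_isNagata φ g hφ A hN f hφfin
  have hZn : Pi1.IsNormalScheme g.normalization := NormalizationLib.isNormal φ g hφ
  have hνη : g.fromNormalization (genericPoint g.normalization) = genericPoint Y :=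
    NormalizationLib.fromNormalization_genericPoint φ g hφ
  -- the map to the spectrum upstairs
  let π : T ⟶ S := Spec.map (CommRingCat.ofHom (algebraMap A B))
  haveI : IsFinite π := (IsFinite.SpecMap_iff _).2 (RingHom.finite_algebraMap.2 inferInstance)
  let ιB : B →+* L := algebraMap B L
  let gT : Spec (CommRingCat.of L) ⟶ T := Spec.map (CommRingCat.ofHom ιB)
  have hw : g ≫ f = gT ≫ π := by
    rw [hg, ← Spec.map_comp, ← CommRingCat.ofHom_comp]
    exact congrArg (fun r => Spec.map (CommRingCat.ofHom r)) (IsScalarTower.algebraMap_eq A B L)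
  let f₁ : Spec (CommRingCat.of L) ⟶ pullback f π := pullback.lift g gT hw
  have H : g = f₁ ≫ pullback.fst f π := (pullback.lift_fst g gT hw).symm
  let ψ := g.normalizationDesc f₁ (pullback.fst f π) H
  haveI : IsProper (ψ ≫ pullback.fst f π) := by
    rw [Scheme.Hom.normalizationDesc_comp]; infer_instance
  haveI : IsProper ψ := IsProper.of_comp ψ (pullback.fst f π)
  let q : g.normalization ⟶ T := ψ ≫ pullback.snd f π
  have htq : g.toNormalization ≫ q = gT := by
    show g.toNormalization ≫ ψ ≫ pullback.snd f π = gT
    rw [← Category.assoc, Scheme.Hom.toNormalization_normalizationDesc]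
    exact pullback.lift_snd _ _ _
  haveI : IsProper q := inferInstance
  let t := g.toNormalization
  have htη : t (IsLocalRing.closedPoint L) = genericPoint g.normalization :=
    NormalizationLib.toNormalization_closedPoint g
  let σ : g.normalization.functionField →+* L :=
    (g.normalization.presheaf.stalkSpecializes (specializes_of_eq htη) ≫ Scheme.stalkClosedPointTo t).hom
  have hσ : ∀ {R : Type u} [CommRing R] (p : g.normalization ⟶ Spec (CommRingCat.of R)) (ι : R →+* L),
      t ≫ p = Spec.map (CommRingCat.ofHom ι) → ∀ r, σ (glob p r) = ι r := fun p ι hp r => by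
    refine Eq.trans ?_ (stalkClosedPointTo_germ_toGlobal t p ι hp r)
    exact congrArg (Scheme.stalkClosedPointTo t).hom
      (ConcreteCategory.congr_hom (TopCat.Presheaf.germ_stalkSpecializes g.normalization.presheaf (U := ⊤) trivial
        (specializes_of_eq htη)) (Coh.toGlobal p r))
  have hσB : ∀ r, σ (glob q r) = ιB r := hσ q ιB htq
  have hσinj : Function.Injective σ := σ.injective
  have hσsurj : Function.Surjective σ := fun y => by
    obtain ⟨a, b, -, rfl⟩ := IsFractionRing.div_surjective B y
    exact ⟨glob q a / glob q b, by rw [map_div₀, hσB, hσB]⟩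
  have hqη : q (genericPoint g.normalization) = genericPoint T := by
    rw [← htη, ← Scheme.Hom.comp_apply, htq, genericPoint_eq_bot_of_affine]
    refine PrimeSpectrum.ext ?_
    show (IsLocalRing.maximalIdeal L).comap ιB = ⊥
    rw [IsLocalRing.maximalIdeal_eq_bot, Ideal.comap_bot_of_injective ιB (IsFractionRing.injective B L)]
  have hqb : Function.Bijective (q.stalkMap (genericPoint g.normalization)) := by
    have h1 : Function.Bijective (ffMap q hqη) := by
      refine ⟨(ffMap q hqη).injective, fun z => ?_⟩
      obtain ⟨a, b, -, hab⟩ := IsFractionRing.div_surjective B (σ z)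
      refine ⟨glob (𝟙 T) a / glob (𝟙 T) b, hσinj ?_⟩
      have hff : ∀ r, σ (ffMap q hqη (glob (𝟙 T) r)) = ιB r := fun r => by
        rw [ffMap_glob q hqη (𝟙 T) r]
        exact hσ (q ≫ 𝟙 T) ιB (by rw [Category.comp_id, htq]) r
      rw [map_div₀, map_div₀, hff, hff, ← hab]
    exact (Function.Bijective.of_comp_iff (q.stalkMap (genericPoint g.normalization)).hom
      (bijective_stalkSpecializes_of_eq hqη)).1 h1
  have hH : Subsingleton (Coh.HH g.normalization (Coh.structureModule g.normalization) 1) :=
    subsingleton_H1_of_rational hB2 hB hZn q hqη hqb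
  have hn := FiniteTrace.finrank_nsmul_eq_zero g.fromNormalization hνη hY 1 hH x
  letI algZ := (ffMap g.fromNormalization hνη).toAlgebra
  have hrank : Module.finrank K L = Module.finrank Y.functionField g.normalization.functionField := by
    refine Algebra.finrank_eq_of_equiv_equiv i.toRingEquiv (RingEquiv.ofBijective σ ⟨hσinj, hσsurj⟩).symm ?_
    refine IsLocalization.ringHom_ext (nonZeroDivisors A) (RingHom.ext fun a => ?_)
    refine hσinj ?_
    show σ (ffMap g.fromNormalization hνη (i (algebraMap A K a))) =
      σ ((RingEquiv.ofBijective σ ⟨hσinj, hσsurj⟩).symm (algebraMap K L (algebraMap A K a)))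
    rw [i.commutes, ← IsScalarTower.algebraMap_apply A K L,
      show σ ((RingEquiv.ofBijective σ ⟨hσinj, hσsurj⟩).symm (ιA a)) = ιA a from
        (RingEquiv.ofBijective σ ⟨hσinj, hσsurj⟩).apply_symm_apply _]
    show σ (ffMap g.fromNormalization hνη (glob f a)) = ιA a
    rw [ffMap_glob g.fromNormalization hνη f a]
    exact hσ _ ιA (by rw [← Category.assoc, Scheme.Hom.toNormalization_fromNormalization, hg]) a
  rw [Nat.cast_smul_eq_nsmul, hrank]
  exact hn

end Groth.Agent.Resolve13.FiniteExtRat
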