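import Groth.Agent.Resolve13.UpContent
import Groth.Agent.Resolve13.FiniteExtRat
import Groth.Agent.Resolve13.RatModif
import Groth.Agent.Resolve13.PtLift
import Mathlib

/-!
# Modifications of a finite extension dominated by normalisations of modifications of the base
-/

set_option autoImplicit false
set_option backward.isDefEq.respectTransparency.types false
universe u
open CategoryTheory CategoryTheory.Limits AlgebraicGeometry TopologicalSpace Opposite
open Groth.Agent.Hyper24 Groth.Agent.Resolve13.FiniteExtRat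

namespace Groth.Agent.Resolve13.UpModif

/-- Functions on the base through a commutative square. -/
theorem toGlobal_comp_spec {A B : Type u} [CommRing A] [CommRing B] [Algebra A B] {Y Y' : Scheme.{u}}
    (ν : Y' ⟶ Y) (f : Y ⟶ Spec (CommRingCat.of A)) (q : Y' ⟶ Spec (CommRingCat.of B))
    (h : ν ≫ f = q ≫ Spec.map (CommRingCat.ofHom (algebraMap A B))) (a : A) :
    Coh.toGlobal q (algebraMap A B a) = Coh.toGlobal (ν ≫ f) a := by
  rw [h]
  show q.appTop _ = (q ≫ Spec.map _).appTop _
  rw [Scheme.Hom.comp_appTop]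
  exact congrArg q.appTop.hom
    (ConcreteCategory.congr_hom (Scheme.ΓSpecIso_inv_naturality (CommRingCat.ofHom (algebraMap A B))) a)

/-- The normalisation of a modification in a finite extension. -/
theorem exists_up {A B : Type u} [CommRing A] [CommRing B] [IsDomain A] [IsDomain B] [IsNoetherianRing A]
    [IsNoetherianRing B] [IsIntegrallyClosed B] (hN : CAlg.IsNagata A)
    [Algebra A B] [Module.Finite A B] (hinj : Function.Injective (algebraMap A B))
    (K L : Type u) [Field K] [Field L] [Algebra A K] [IsFractionRing A K] [Algebra B L] [IsFractionRing B L]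
    [Algebra K L] [Algebra A L] [IsScalarTower A K L] [IsScalarTower A B L]
    (Y : Scheme.{u}) (f : Y ⟶ Spec (CommRingCat.of A)) [IsProper f] [AlgebraicGeometry.IsIntegral Y]
    (hbir : ∃ U : (Spec (CommRingCat.of A)).Opens, (U : Set ↥(Spec (CommRingCat.of A))).Nonempty ∧ IsIso (f ∣_ U)) :
    ∃ (Y' : Scheme.{u}) (_ : AlgebraicGeometry.IsIntegral Y') (ν : Y' ⟶ Y) (q : Y' ⟶ Spec (CommRingCat.of B))
      (_ : IsFinite ν) (_ : IsProper q),
      Pi1.IsNormalScheme Y' ∧ ν ≫ f = q ≫ Spec.map (CommRingCat.ofHom (algebraMap A B)) ∧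
      (∃ V : (Spec (CommRingCat.of B)).Opens, (V : Set ↥(Spec (CommRingCat.of B))).Nonempty ∧ IsIso (q ∣_ V)) ∧
      ∃ (hν : ν (genericPoint Y') = genericPoint Y) (σ : Y'.functionField ≃+* L) (i : K ≃+* Y.functionField),
        (∀ b, σ (glob q b) = algebraMap B L b) ∧ ∀ k, σ (ffMap ν hν (i k)) = algebraMap K L k := by
  let S := Spec (CommRingCat.of A)
  let T := Spec (CommRingCat.of B)
  obtain ⟨U, hUne, hU⟩ := hbir
  haveI : IsIso (f ∣_ U) := hU
  obtain ⟨hfη, hfb⟩ := Coherent.birational_of_isIso_morphismRestrict f U hUne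
  haveI : IsLocallyNoetherian Y := LocallyOfFiniteType.isLocallyNoetherian f
  -- finiteness of the field extension
  haveI : Module.Finite K L := by
    haveI : FaithfulSMul A B := (faithfulSMul_iff_algebraMap_injective _ _).mpr hinj
    haveI : Algebra.IsAlgebraic A B := Algebra.IsIntegral.isAlgebraic
    exact Module.Finite.of_isLocalizedModule (nonZeroDivisors A) (IsScalarTower.toAlgHom A B L).toLinearMap
  let ιA : A →+* L := algebraMap A L
  have hιA : Function.Injective ιA := by
    rw [show ιA = (algebraMap K L).comp (algebraMap A K) from IsScalarTower.algebraMap_eq A K L]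
    exact (algebraMap K L).injective.comp (IsFractionRing.injective A K)
  let gS : Spec (CommRingCat.of L) ⟶ S := Spec.map (CommRingCat.ofHom ιA)
  have hgS : gS (IsLocalRing.closedPoint L) = genericPoint S := by
    rw [genericPoint_eq_bot_of_affine]
    refine PrimeSpectrum.ext ?_
    show (IsLocalRing.maximalIdeal L).comap ιA = ⊥
    rw [IsLocalRing.maximalIdeal_eq_bot, Ideal.comap_bot_of_injective ιA hιA]
  obtain ⟨g, hg, hgU⟩ := FiniteExtRat.exists_lift_point f U gS
    (hgS.symm ▸ (genericPoint_spec S).mem_open_set_iff U.2 |>.2 (by simpa using hUne))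
  have hgη : g (IsLocalRing.closedPoint L) = genericPoint Y :=
    Modification.eq_genericPoint f hfη hfb _ (by rw [← Scheme.Hom.comp_apply, hg, hgS])
  haveI : IsAffineHom (g ≫ f) := hg.symm ▸ (inferInstance : IsAffineHom gS)
  haveI : QuasiCompact g := QuasiCompact.of_comp g f
  haveI : QuasiSeparated g := inferInstance
  let φ : Y.functionField →+* L :=
    (Y.presheaf.stalkSpecializes (specializes_of_eq hgη) ≫ Scheme.stalkClosedPointTo g).hom
  have hφ : g = Spec.map (CommRingCat.ofHom φ) ≫ Y.fromSpecStalk (genericPoint Y) := by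
    rw [show CommRingCat.ofHom φ = Y.presheaf.stalkSpecializes (specializes_of_eq hgη) ≫ Scheme.stalkClosedPointTo g
      from rfl, Spec.map_comp, Category.assoc, Scheme.SpecMap_stalkSpecializes_fromSpecStalk]
    exact (Scheme.Spec_stalkClosedPointTo_fromSpecStalk g).symm
  have hφA : ∀ a, φ (glob f a) = ιA a := fun a => by
    refine Eq.trans ?_ (stalkClosedPointTo_germ_toGlobal g f ιA hg a)
    exact congrArg (Scheme.stalkClosedPointTo g).hom
      (ConcreteCategory.congr_hom (TopCat.Presheaf.germ_stalkSpecializes Y.presheaf (U := ⊤) trivial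
        (specializes_of_eq hgη)) (Coh.toGlobal f a))
  letI algY : Algebra A Y.functionField := (glob f).toAlgebra
  haveI : IsFractionRing A Y.functionField := isFractionRing_glob f hfη hfb
  let i : K ≃ₐ[A] Y.functionField := IsLocalization.algEquiv (nonZeroDivisors A) K Y.functionField
  have hφi : φ.comp i.toRingEquiv.toRingHom = algebraMap K L :=
    IsLocalization.ringHom_ext (nonZeroDivisors A) (RingHom.ext fun a => by
      show φ (i (algebraMap A K a)) = algebraMap K L (algebraMap A K a)
      rw [i.commutes, ← IsScalarTower.algebraMap_apply A K L]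
      exact hφA a)
  have hφfin : φ.Finite := by
    rw [show φ = (algebraMap K L).comp i.symm.toRingEquiv.toRingHom from RingHom.ext fun y => by
      have := RingHom.congr_fun hφi (i.symm y)
      simpa using this]
    exact (RingHom.finite_algebraMap.2 inferInstance).comp (RingHom.Finite.of_surjective _ i.symm.surjective)
  haveI : IsFinite g.fromNormalization := isFinite_fromNormalization_of_isNagata φ g hφ A hN f hφfin
  have hZn : Pi1.IsNormalScheme g.normalization := NormalizationLib.isNormal φ g hφ
  have hνη : g.fromNormalization (genericPoint g.normalization) = genericPoint Y :=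
    NormalizationLib.fromNormalization_genericPoint φ g hφ
  -- the map to the spectrum upstairs
  let π : T ⟶ S := Spec.map (CommRingCat.ofHom (algebraMap A B))
  haveI : IsFinite π := (IsFinite.SpecMap_iff _).2 (RingHom.finite_algebraMap.2 inferInstance)
  let ιB : B →+* L := algebraMap B L
  let gT : Spec (CommRingCat.of L) ⟶ T := Spec.map (CommRingCat.ofHom ιB)
  have hw : g ≫ f = gT ≫ π := by
    rw [hg, ← Spec.map_comp, ← CommRingCat.ofHom_comp]
    exact congrArg (fun r => Spec.map (CommRingCat.ofHom r)) (IsScalarTower.algebraMap_eq A B L)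
  let f₁ : Spec (CommRingCat.of L) ⟶ pullback f π := pullback.lift g gT hw
  have H : g = f₁ ≫ pullback.fst f π := (pullback.lift_fst g gT hw).symm
  let ψ := g.normalizationDesc f₁ (pullback.fst f π) H
  haveI : IsProper (ψ ≫ pullback.fst f π) := by
    rw [Scheme.Hom.normalizationDesc_comp]; infer_instance
  haveI : IsProper ψ := IsProper.of_comp ψ (pullback.fst f π)
  let q : g.normalization ⟶ T := ψ ≫ pullback.snd f π
  have htq : g.toNormalization ≫ q = gT := by
    show g.toNormalization ≫ ψ ≫ pullback.snd f π = gT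
    rw [← Category.assoc, Scheme.Hom.toNormalization_normalizationDesc]
    exact pullback.lift_snd _ _ _
  haveI : IsProper q := inferInstance
  let t := g.toNormalization
  have htη : t (IsLocalRing.closedPoint L) = genericPoint g.normalization :=
    NormalizationLib.toNormalization_closedPoint g
  let σ : g.normalization.functionField →+* L :=
    (g.normalization.presheaf.stalkSpecializes (specializes_of_eq htη) ≫ Scheme.stalkClosedPointTo t).hom
  have hσ : ∀ {R : Type u} [CommRing R] (p : g.normalization ⟶ Spec (CommRingCat.of R)) (ι : R →+* L),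
      t ≫ p = Spec.map (CommRingCat.ofHom ι) → ∀ r, σ (glob p r) = ι r := fun p ι hp r => by
    refine Eq.trans ?_ (stalkClosedPointTo_germ_toGlobal t p ι hp r)
    exact congrArg (Scheme.stalkClosedPointTo t).hom
      (ConcreteCategory.congr_hom (TopCat.Presheaf.germ_stalkSpecializes g.normalization.presheaf (U := ⊤) trivial
        (specializes_of_eq htη)) (Coh.toGlobal p r))
  have hσB : ∀ r, σ (glob q r) = ιB r := hσ q ιB htq
  have hσinj : Function.Injective σ := σ.injective
  have hσsurj : Function.Surjective σ := fun y => by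
    obtain ⟨a, b, -, rfl⟩ := IsFractionRing.div_surjective B y
    exact ⟨glob q a / glob q b, by rw [map_div₀, hσB, hσB]⟩
  have hqη : q (genericPoint g.normalization) = genericPoint T := by
    rw [← htη, ← Scheme.Hom.comp_apply, htq, genericPoint_eq_bot_of_affine]
    refine PrimeSpectrum.ext ?_
    show (IsLocalRing.maximalIdeal L).comap ιB = ⊥
    rw [IsLocalRing.maximalIdeal_eq_bot, Ideal.comap_bot_of_injective ιB (IsFractionRing.injective B L)]
  have hqb : Function.Bijective (q.stalkMap (genericPoint g.normalization)) := by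
    have h1 : Function.Bijective (ffMap q hqη) := by
      refine ⟨(ffMap q hqη).injective, fun z => ?_⟩
      obtain ⟨a, b, -, hab⟩ := IsFractionRing.div_surjective B (σ z)
      refine ⟨glob (𝟙 T) a / glob (𝟙 T) b, hσinj ?_⟩
      have hff : ∀ r, σ (ffMap q hqη (glob (𝟙 T) r)) = ιB r := fun r => by
        rw [ffMap_glob q hqη (𝟙 T) r]
        exact hσ (q ≫ 𝟙 T) ιB (by rw [Category.comp_id, htq]) r
      rw [map_div₀, map_div₀, hff, hff, ← hab]
    exact (Function.Bijective.of_comp_iff (q.stalkMap (genericPoint g.normalization)).hom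
      (bijective_stalkSpecializes_of_eq hqη)).1 h1
  have hσg : ∀ a, σ (ffMap g.fromNormalization hνη (glob f a)) = ιA a := fun a => by
    rw [ffMap_glob g.fromNormalization hνη f a]
    exact hσ _ ιA (by rw [← Category.assoc, Scheme.Hom.toNormalization_fromNormalization, hg]) a
  have hw' : g.fromNormalization ≫ f = q ≫ π := by
    show g.fromNormalization ≫ f = (ψ ≫ pullback.snd f π) ≫ π
    rw [Category.assoc, ← pullback.condition, ← Category.assoc]
    exact congrArg (· ≫ f) (Scheme.Hom.normalizationDesc_comp _ _ _ _).symm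
  have hTn : Pi1.IsNormalScheme T := CommAlg4.Cone.isNormalScheme_spec (CommRingCat.of B)
  obtain ⟨V, hV, -, hVdim⟩ := Groth.Agent.S11555.result q hTn hqη hqb
  have hVη : genericPoint T ∈ V := by
    by_contra hη
    have h0 := hVdim _ hη
    rw [show ringKrullDim (T.presheaf.stalk (genericPoint T)) = 0 from
      ringKrullDim_eq_zero_of_isField (Field.toIsField T.functionField)] at h0
    exact absurd h0 (by decide)
  refine ⟨g.normalization, inferInstance, g.fromNormalization, q, inferInstance, inferInstance, hZn, hw',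
    ⟨V, ⟨_, hVη⟩, hV⟩, hνη, RingEquiv.ofBijective σ ⟨hσinj, hσsurj⟩, i.toRingEquiv, hσB, fun k => ?_⟩
  exact RingHom.congr_fun (IsLocalization.ringHom_ext (nonZeroDivisors A)
    (j := σ.comp ((ffMap g.fromNormalization hνη).comp i.toRingEquiv.toRingHom)) (k := algebraMap K L)
    (RingHom.ext fun a => by
      show σ (ffMap g.fromNormalization hνη (i (algebraMap A K a))) = algebraMap K L (algebraMap A K a)
      rw [i.commutes, ← IsScalarTower.algebraMap_apply A K L]
      exact hσg a)) k

open Groth.Agent.Misc15.DivDescent in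
/-- An ideal with principal pullback to every local ring becomes effective Cartier. -/
theorem isEff_of_stalks {B : Type u} [CommRing B] {Z : Scheme.{u}} [IsIntegral Z] [IsLocallyNoetherian Z]
    (q : Z ⟶ Spec (CommRingCat.of B)) (I : Ideal B)
    (h : ∀ y : Z, ∃ x, x ≠ 0 ∧ I.map (Torsion.γ q y) = Ideal.span {x}) :
    BlowUp.IsEffCartierIdeal ((Curv2.idealSheaf B I).comap q) := by
  refine isEffCartier_of_cartierAt _ fun y _ => ?_
  obtain ⟨x, hx, hI⟩ := h y
  refine ⟨x, mem_nonZeroDivisors_of_ne_zero hx, Eq.trans ?_ hI⟩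
  rw [stk_comap, stk_eq _ ⟨⊤, isAffineOpen_top _⟩ (show q y ∈ (⊤ : (Spec (CommRingCat.of B)).Opens) from trivial),
    RatExt.ideal_top, Ideal.map_map, Ideal.map_map]
  refine congrArg (fun φ => I.map φ) (RingHom.ext fun b => ?_)
  exact Scheme.Hom.germ_stalkMap_apply q ⊤ y trivial _

open Groth.Agent.Misc15.DivDescent in
/-- The pullback of an effective Cartier ideal is principal at every point. -/
theorem exists_gen_map {A : Type u} [CommRing A] {Y : Scheme.{u}} (f : Y ⟶ Spec (CommRingCat.of A)) (J : Ideal A)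
    (hJ : BlowUp.IsEffCartierIdeal ((Curv2.idealSheaf A J).comap f)) (y : Y) :
    ∃ c ∈ nonZeroDivisors (Y.presheaf.stalk y), J.map (Torsion.γ f y) = Ideal.span {c} := by
  obtain ⟨c, hc, h⟩ := exists_gen hJ y
  refine ⟨c, hc, Eq.trans ?_ h⟩
  rw [stk_comap, stk_eq _ ⟨⊤, isAffineOpen_top _⟩ (show f y ∈ (⊤ : (Spec (CommRingCat.of A)).Opens) from trivial),
    RatExt.ideal_top, Ideal.map_map, Ideal.map_map]
  refine congrArg (fun φ => J.map φ) (RingHom.ext fun b => ?_)
  exact (Scheme.Hom.germ_stalkMap_apply f ⊤ y trivial _).symm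

/-- Every modification of the extension is dominated by the normalisation of a modification of the base. -/
theorem exists_dominating {A B : Type u} [CommRing A] [CommRing B] [IsDomain A] [IsDomain B] [IsNoetherianRing A]
    [IsNoetherianRing B] [IsIntegrallyClosed B] (hN : CAlg.IsNagata A)
    [Algebra A B] [Module.Finite A B] (hinj : Function.Injective (algebraMap A B))
    (K L : Type u) [Field K] [Field L] [Algebra A K] [IsFractionRing A K] [Algebra B L] [IsFractionRing B L]
    [Algebra K L] [Algebra A L] [IsScalarTower A K L] [IsScalarTower A B L]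
    {X : Scheme.{u}} (r : X ⟶ Spec (CommRingCat.of B)) [IsProper r]
    (hr : ∃ U : (Spec (CommRingCat.of B)).Opens, (U : Set ↥(Spec (CommRingCat.of B))).Nonempty ∧ IsIso (r ∣_ U)) :
    ∃ (Y : Scheme.{u}) (f : Y ⟶ Spec (CommRingCat.of A)) (_ : IsProper f) (_ : AlgebraicGeometry.IsIntegral Y),
      Pi1.IsNormalScheme Y ∧
      (∃ U : (Spec (CommRingCat.of A)).Opens, (U : Set ↥(Spec (CommRingCat.of A))).Nonempty ∧ IsIso (f ∣_ U)) ∧
      ∃ (Y' : Scheme.{u}) (_ : AlgebraicGeometry.IsIntegral Y') (ν : Y' ⟶ Y) (q : Y' ⟶ Spec (CommRingCat.of B))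
        (_ : IsFinite ν) (_ : IsProper q),
        Pi1.IsNormalScheme Y' ∧ ν ≫ f = q ≫ Spec.map (CommRingCat.ofHom (algebraMap A B)) ∧
        (∃ V : (Spec (CommRingCat.of B)).Opens, (V : Set ↥(Spec (CommRingCat.of B))).Nonempty ∧ IsIso (q ∣_ V)) ∧
        (∃ (hν : ν (genericPoint Y') = genericPoint Y) (σ : Y'.functionField ≃+* L) (i : K ≃+* Y.functionField),
          (∀ b, σ (glob q b) = algebraMap B L b) ∧ ∀ k, σ (ffMap ν hν (i k)) = algebraMap K L k) ∧
        ∃ l : Y' ⟶ X, l ≫ r = q := by
  obtain ⟨U, hUne, hU⟩ := hr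
  haveI := hU
  have hUc : IsCompact (U : Set (Spec (CommRingCat.of B))) := NoetherianSpace.isCompact _
  obtain ⟨𝓘, S', b, hb, hadm, h, hh⟩ := S1274.result r U hUc
  obtain ⟨I, rfl⟩ := RatExt.exists_eq_idealSheaf 𝓘
  have hI : I ≠ ⊥ := fun h0 => by
    obtain ⟨y, hy⟩ := hUne
    refine Set.disjoint_left.1 hadm.2 ?_ hy
    have hbot : Curv2.idealSheaf B I = ⊥ := Scheme.IdealSheafData.ext_of_isAffine (by
      rw [RatExt.ideal_top, h0, Ideal.map_bot]; rfl)
    rw [hbot]
    simp
  obtain ⟨g, Q, P, hg, hP, hPg⟩ := UpContent.exists_poly hinj I hI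
  have hJ : P.contentIdeal ≠ ⊥ := fun h0 => hP ((Polynomial.contentIdeal_eq_bot_iff P).1 h0)
  obtain ⟨M, m, hMi, hMp, hMn, hMiso, hMeff, -⟩ := RatExt.exists_normBlowUp hN P.contentIdeal hJ
  haveI := hMi
  haveI := hMp
  obtain ⟨Y', hY'i, ν, q, hνf, hqp, hY'n, hcomm, hqiso, hν, hσ⟩ := exists_up hN hinj K L M m hMiso
  haveI := hY'i
  haveI := hqp
  haveI : IsLocallyNoetherian Y' := LocallyOfFiniteType.isLocallyNoetherian q
  have heff : BlowUp.IsEffCartierIdeal ((Curv2.idealSheaf B I).comap q) := by
    refine isEff_of_stalks q I fun y => ?_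
    haveI : IsIntegrallyClosed (Y'.presheaf.stalk y) := (hY'n y).2
    obtain ⟨c, hc, hJc⟩ := exists_gen_map (ν ≫ m) P.contentIdeal (by
      rw [Scheme.IdealSheafData.comap_comp]
      exact S1650.isEff_comap ν hν hMeff) y
    obtain ⟨x, hx, hgx⟩ := UpContent.exists_span_of_mul (g.map (Torsion.γ q y)) (Q.map (Torsion.γ q y))
      (nonZeroDivisors.ne_zero hc) (by
      rw [← Polynomial.map_mul, ← hPg, Polynomial.map_map, Polynomial.contentIdeal_map_eq_map_contentIdeal]
      refine Eq.trans ?_ hJc
      refine congrArg (fun φ => P.contentIdeal.map φ) (RingHom.ext fun a => ?_)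
      exact congrArg (Y'.presheaf.germ (⊤ : Y'.Opens) y trivial).hom (toGlobal_comp_spec ν m q hcomm a))
    exact ⟨x, hx, by rw [← hgx, Polynomial.contentIdeal_map_eq_map_contentIdeal, hg]⟩
  obtain ⟨k, hk, -⟩ := hb.2 Y' q heff
  exact ⟨M, m, hMp, hMi, hMn, hMiso, Y', hY'i, ν, q, hνf, hqp, hY'n, hcomm, hqiso, ⟨hν, hσ⟩, k ≫ h,
    by rw [Category.assoc, hh, hk]⟩

end Groth.Agent.Resolve13.UpModif
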