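import Groth.Agent.Resolve13.TorsionH1
import Groth.Agent.Resolve13.FiniteTrace
import Groth.Agent.Resolve13.UpModif
import Groth.Agent.SerreDual.PushEquiv
import Mathlib

/-!
# Cohomology of a finite cover up to a fixed multiplier
-/

set_option autoImplicit false
set_option backward.isDefEq.respectTransparency.types false
universe u
open CategoryTheory CategoryTheory.Limits CategoryTheory.Abelian AlgebraicGeometry TopologicalSpace Opposite
open Groth.Agent.Hyper24 Groth.Agent.Coherent Groth.Agent.AmpleLib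

namespace Groth.Agent.Resolve13.UpTrace

variable {X Y : Scheme.{u}} [IsIntegral X] [IsIntegral Y] (f : X ⟶ Y) [IsFinite f]
  (e : f (genericPoint X) = genericPoint Y)

/-- The trace as a morphism of modules. -/
theorem exists_trace (hY : Pi1.IsNormalScheme Y) :
    letI := (ffMap f e).toAlgebra
    ∃ τ : (Scheme.Modules.pushforward f).obj (Coh.structureModule X) ⟶ Coh.structureModule Y,
      ∀ (U : Y.affineOpens) (h : genericPoint Y ∈ U.1) (h' : genericPoint X ∈ f ⁻¹ᵁ U.1) (z : Γ(X, f ⁻¹ᵁ U.1)),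
        Y.presheaf.germ U.1 _ h (τ.app U.1 z) =
          Algebra.trace Y.functionField X.functionField (X.presheaf.germ _ _ h' z) := by
  classical
  letI := (ffMap f e).toAlgebra
  haveI := finiteDimensional_ffMap f e
  have hmem : ∀ {U : Y.Opens}, genericPoint Y ∈ U → genericPoint X ∈ f ⁻¹ᵁ U := fun {U} h => by
    show f (genericPoint X) ∈ U
    rw [e]; exact h
  have hex : ∀ (U : Y.affineOpens) (h : genericPoint Y ∈ U.1) (x : Γ(X, f ⁻¹ᵁ U.1)),
      ∃ y : Γ(Y, U.1), Y.presheaf.germ U.1 _ h y =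
        Algebra.trace Y.functionField X.functionField (X.presheaf.germ _ _ (hmem h) x) := fun U h x => by
    obtain ⟨y, hy⟩ := trace_mem_range_germ f e rfl hY U.2 h (hmem h) x
    exact ⟨y, hy⟩
  let t : ∀ U : Y.affineOpens, Γ(X, f ⁻¹ᵁ U.1) → Γ(Y, U.1) := fun U x =>
    if h : genericPoint Y ∈ U.1 then (hex U h x).choose else 0
  have ht : ∀ (U : Y.affineOpens) (h : genericPoint Y ∈ U.1) (x : Γ(X, f ⁻¹ᵁ U.1)),
      Y.presheaf.germ U.1 _ h (t U x) =
        Algebra.trace Y.functionField X.functionField (X.presheaf.germ _ _ (hmem h) x) := fun U h x => by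
    simp only [t, dif_pos h]
    exact (hex U h x).choose_spec
  have hext : ∀ (U : Y.affineOpens) (a b : Γ(Y, U.1)),
      (∀ h : genericPoint Y ∈ U.1, Y.presheaf.germ U.1 _ h a = Y.presheaf.germ U.1 _ h b) → a = b := by
    intro U a b hab
    refine TopCat.Presheaf.section_ext Y.sheaf _ _ _ fun y hy => ?_
    have h := (genericPoint_specializes y).mem_open U.1.2 hy
    exact congrArg _ (germ_injective_of_isIntegral Y (genericPoint Y) h (hab h))
  let tl : ∀ U : Y.affineOpens, Γ((Scheme.Modules.pushforward f).obj (Coh.structureModule X), U.1) →ₗ[Γ(Y, U.1)]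
      Γ(Coh.structureModule Y, U.1) := fun U =>
    { toFun := fun x => t U x
      map_add' := fun a b => hext U _ _ fun h => by
        rw [ht]
        refine (congrArg _ (map_add (X.presheaf.germ _ _ (hmem h)).hom a b)).trans ?_
        refine (map_add (Algebra.trace Y.functionField X.functionField) _ _).trans ?_
        refine Eq.trans ?_ (map_add (Y.presheaf.germ U.1 _ h).hom _ _).symm
        exact congrArg₂ (· + ·) (ht U h a).symm (ht U h b).symm
      map_smul' := fun r a => hext U _ _ fun h => by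
        rw [ht]
        have e1 : X.presheaf.germ _ _ (hmem h) ((f.app U.1).hom r * (show Γ(X, f ⁻¹ᵁ U.1) from a)) =
            (Y.presheaf.germ U.1 _ h r) • X.presheaf.germ _ _ (hmem h) a := by
          rw [map_mul, Algebra.smul_def]
          exact congrArg (· * _) (ffMap_germ f e h r (hmem h)).symm
        refine (congrArg _ e1).trans ((map_smul (Algebra.trace Y.functionField X.functionField) _ _).trans ?_)
        refine Eq.trans ?_ (map_mul (Y.presheaf.germ U.1 _ h).hom r (t U a)).symm
        exact congrArg (_ * ·) (ht U h a).symm }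
  obtain ⟨τ, hτ⟩ := InjMod14.Kosz.exists_hom_of_affine _ _ tl fun U V hVU s => hext V _ _ fun h => by
    refine (ht V h _).trans ?_
    refine Eq.trans ?_ ((Y.presheaf.germ_res_apply (homOfLE hVU) _ h (t U s)).symm)
    rw [ht U (hVU h)]
    exact congrArg _ (X.presheaf.germ_res_apply (homOfLE (Scheme.Hom.preimage_mono f hVU)) _ (hmem h) s)
  exact ⟨τ, fun U h _ z => by rw [hτ U]; exact ht U h z⟩

variable {A B : Type u} [CommRing A] [CommRing B] [Algebra A B]
  (s : Y ⟶ Spec (CommRingCat.of A)) (q : X ⟶ Spec (CommRingCat.of B))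
  (hsq : f ≫ s = q ≫ Spec.map (CommRingCat.ofHom (algebraMap A B)))

/-- The compression `push (· b) ∘ unit`. -/
noncomputable abbrev φB (b : B) : Coh.structureModule Y ⟶ (Coh.push f).obj (Coh.structureModule X) :=
  ClSub.unitToPush f ≫ (Coh.push f).map (Torsion.mulA q b)

/-- The partial trace `tr (e ·)`. -/
noncomputable abbrev ψB (τ : (Scheme.Modules.pushforward f).obj (Coh.structureModule X) ⟶ Coh.structureModule Y)
    (c : B) : (Coh.push f).obj (Coh.structureModule X) ⟶ Coh.structureModule Y :=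
  (Coh.push f).map (Torsion.mulA q c) ≫ τ

omit [IsFinite f] [IsIntegral Y] in
theorem germ_mulA_glob (b : B) {U : Y.Opens} (h : genericPoint X ∈ f ⁻¹ᵁ U) (z : Γ(X, f ⁻¹ᵁ U)) :
    (X.presheaf.germ (f ⁻¹ᵁ U) _ h).hom (((Coh.push f).map (Torsion.mulA q b)).app U z) =
      (X.presheaf.germ (f ⁻¹ᵁ U) _ h).hom z * FiniteExtRat.glob q b :=
  Torsion.germ_mulA q b z h

theorem sum_eq (hY : Pi1.IsNormalScheme Y) {n : ℕ} (ev bv : Fin n → B) (d : B)
    (hid : letI := (ffMap f e).toAlgebra
      ∀ z : X.functionField, ∑ j, FiniteExtRat.glob q (bv j) *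
        algebraMap Y.functionField X.functionField
          (Algebra.trace Y.functionField X.functionField (FiniteExtRat.glob q (ev j) * z)) =
        FiniteExtRat.glob q d * z) :
    ∃ τ : (Scheme.Modules.pushforward f).obj (Coh.structureModule X) ⟶ Coh.structureModule Y,
      ∑ j, ψB f q τ (ev j) ≫ φB f q (bv j) = (Coh.push f).map (Torsion.mulA q d) := by
  letI := (ffMap f e).toAlgebra
  obtain ⟨τ, hτ⟩ := exists_trace f e hY
  refine ⟨τ, InjMod14.Kosz.hom_ext_affine _ _ fun W z => ?_⟩
  rw [app_sum]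
  refine TopCat.Presheaf.section_ext X.sheaf (f ⁻¹ᵁ W.1) _ _ fun x hx => ?_
  have h' : genericPoint X ∈ f ⁻¹ᵁ W.1 := (genericPoint_specializes x).mem_open (f ⁻¹ᵁ W.1).2 hx
  have h : genericPoint Y ∈ W.1 := e ▸ h'
  refine congrArg (X.presheaf.germ (f ⁻¹ᵁ W.1) x hx) (germ_injective_of_isIntegral X (genericPoint X) h' ?_)
  refine (map_sum (X.presheaf.germ (f ⁻¹ᵁ W.1) _ h').hom _ _).trans ?_
  refine Eq.trans (Finset.sum_congr rfl fun j _ => ?_) ((hid _).trans ((mul_comm _ _).trans
    (germ_mulA_glob f q d h' z).symm))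
  refine (germ_mulA_glob f q (bv j) h' _).trans ?_
  rw [mul_comm]
  refine congrArg (FiniteExtRat.glob q (bv j) * ·) ?_
  refine (ffMap_germ f e h _ h').symm.trans (congrArg (ffMap f e) ?_)
  refine (hτ W h h' _).trans (congrArg _ ?_)
  exact (germ_mulA_glob f q (ev j) h' z).trans (mul_comm _ _)

omit [IsIntegral X] [IsIntegral Y] [IsFinite f] in
theorem postA_sum {R : Type u} [CommRing R] (φ : R →+* Γ(Y, ⊤)) {M N : Y.Modules} {ι : Type} (t : Finset ι)
    (g : ι → (M ⟶ N)) (x : HA φ M (⊤ : Y.Opens) 1) :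
    postA φ (∑ j ∈ t, g j) ⊤ 1 x = ∑ j ∈ t, postA φ (g j) ⊤ 1 x := by
  classical
  have hadd : ∀ a b : M ⟶ N, postA φ (a + b) ⊤ 1 x = postA φ a ⊤ 1 x + postA φ b ⊤ 1 x := fun a b => by
    show postH (X := Y.toTopCat) ((toAbFunctor Y).map (a + b)) 1 (⊤ : Y.Opens) x = _
    rw [Functor.map_add, postH_apply, Ext.mk₀_add, Ext.comp_add]
    rfl
  induction t using Finset.induction_on with
  | empty =>
    rw [Finset.sum_empty, Finset.sum_empty]
    have h := hadd 0 0
    rw [add_zero] at h
    exact left_eq_add.1 h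
  | insert j t hj ih => rw [Finset.sum_insert hj, Finset.sum_insert hj, hadd, ih]

omit [IsIntegral X] [IsIntegral Y] [IsFinite f] in
theorem postA_comp {R : Type u} [CommRing R] (φ : R →+* Γ(Y, ⊤)) {M N P : Y.Modules} (g : M ⟶ N) (h : N ⟶ P)
    (x : HA φ M (⊤ : Y.Opens) 1) : postA φ (g ≫ h) ⊤ 1 x = postA φ h ⊤ 1 (postA φ g ⊤ 1 x) := by
  show postH (X := Y.toTopCat) ((toAbFunctor Y).map (g ≫ h)) 1 (⊤ : Y.Opens) x = _
  rw [Functor.map_comp, postH_comp]
  rfl

include hsq in
omit [IsIntegral X] [IsIntegral Y] [IsFinite f] in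
theorem push_mulA (d : A) :
    (toAbFunctor Y).map ((Coh.push f).map (Torsion.mulA q (algebraMap A B d))) =
      smulEndAb ((Coh.push f).obj (Coh.structureModule X)) (Coh.toGlobal s d) := by
  ext U m
  refine (Torsion.mulA_app q (algebraMap A B d) (f ⁻¹ᵁ U.unop) m).trans ?_
  refine Eq.trans ?_ (smulEndAb_app ((Coh.push f).obj (Coh.structureModule X)) (Coh.toGlobal s d) U.unop m).symm
  show (show Γ(X, f ⁻¹ᵁ U.unop) from m) * _ =
    (f.app U.unop).hom (Y.presheaf.map (homOfLE (le_top : U.unop ≤ ⊤)).op (Coh.toGlobal s d)) *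
      (show Γ(X, f ⁻¹ᵁ U.unop) from m)
  rw [mul_comm, UpModif.toGlobal_comp_spec f s q hsq]
  refine congrArg (· * _) ?_
  show _ = (Y.presheaf.map (homOfLE (le_top : U.unop ≤ ⊤)).op ≫ f.app U.unop) _
  rw [Scheme.Hom.naturality]
  rfl

omit [IsIntegral X] [IsIntegral Y] [IsFinite f] [Algebra A B] in
theorem length_range_lsmul_le {R : Type u} [CommRing R] {M₁ M₂ : Type u} [AddCommGroup M₁] [Module R M₁]
    [AddCommGroup M₂] [Module R M₂] (eq' : M₁ ≃ₗ[R] M₂) (d : R) :
    Module.length R (LinearMap.range (LinearMap.lsmul R M₁ d)) ≤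
      Module.length R (LinearMap.range (LinearMap.lsmul R M₂ d)) :=
  Module.length_le_of_injective ((eq'.toLinearMap.comp (Submodule.subtype _)).codRestrict _ fun y => by
      obtain ⟨w, hw⟩ := y.2
      exact ⟨eq' w, by rw [LinearMap.comp_apply, Submodule.subtype_apply, ← hw]; exact (eq'.map_smul d w).symm⟩)
    (fun y y' h => Subtype.ext (eq'.injective (congrArg Subtype.val h)))

set_option maxHeartbeats 800000 in
include e hsq in
/-- The image of multiplication by `d` on the cover is bounded by the cohomology of the base. -/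
theorem length_smul_le (hY : Pi1.IsNormalScheme Y) {n : ℕ} (ev bv : Fin n → B) (d : A)
    (hid : letI := (ffMap f e).toAlgebra
      ∀ z : X.functionField, ∑ j, FiniteExtRat.glob q (bv j) *
        algebraMap Y.functionField X.functionField
          (Algebra.trace Y.functionField X.functionField (FiniteExtRat.glob q (ev j) * z)) =
        FiniteExtRat.glob q (algebraMap A B d) * z) :
    letI : Y.Over (Spec (CommRingCat.of A)) := ⟨s⟩
    letI : X.Over (Spec (CommRingCat.of A)) := ⟨f ≫ s⟩
    Module.length A (LinearMap.range (LinearMap.lsmul A (Coh.HH X (Coh.structureModule X) 1) d)) ≤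
      n * Module.length A (Coh.HH Y (Coh.structureModule Y) 1) := by
  letI : Y.Over (Spec (CommRingCat.of A)) := ⟨s⟩
  letI : X.Over (Spec (CommRingCat.of A)) := ⟨f ≫ s⟩
  haveI : Coh.IsQCoh (Coh.structureModule X) := Coherent.isQCoh_structureModule
  obtain ⟨τ, hτ⟩ := sum_eq f e q hY ev bv (algebraMap A B d) hid
  let φ := Coh.toGlobal s
  let N := HA φ (Coh.structureModule Y) (⊤ : Y.Opens) 1
  let M := HA φ ((Coh.push f).obj (Coh.structureModule X)) (⊤ : Y.Opens) 1
  let eX : Coh.HH X (Coh.structureModule X) 1 ≃ₗ[A] M :=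
    (SerreDual.hpushA f A rfl (Coh.structureModule X) 1).trans (EulerLib.HHBaseEquiv A _ 1)
  let eY : Coh.HH Y (Coh.structureModule Y) 1 ≃ₗ[A] N := EulerLib.HHBaseEquiv A _ 1
  let Φ : (Fin n → N) →ₗ[A] M := ∑ j, (postA φ (φB f q (bv j)) ⊤ 1).comp (LinearMap.proj j)
  have hd : ∀ x : M, d • x = Φ fun j => postA φ (ψB f q τ (ev j)) ⊤ 1 x := fun x => by
    have h1 : d • x = postA φ ((Coh.push f).map (Torsion.mulA q (algebraMap A B d))) ⊤ 1 x := by
      show _ = postH (X := Y.toTopCat) ((toAbFunctor Y).map _) 1 (⊤ : Y.Opens) x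
      rw [push_mulA f s q hsq d]
      rfl
    rw [h1, ← hτ, postA_sum, LinearMap.sum_apply]
    exact Finset.sum_congr rfl fun j _ => postA_comp φ _ _ x
  have hrange : LinearMap.range (LinearMap.lsmul A M d) ≤ LinearMap.range Φ := by
    rintro _ ⟨x, rfl⟩
    exact ⟨_, (hd x).symm⟩
  calc Module.length A (LinearMap.range (LinearMap.lsmul A (Coh.HH X (Coh.structureModule X) 1) d))
      ≤ Module.length A (LinearMap.range (LinearMap.lsmul A M d)) := length_range_lsmul_le eX d
    _ ≤ Module.length A (LinearMap.range Φ) :=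
        Module.length_le_of_injective (Submodule.inclusion hrange) (Submodule.inclusion_injective hrange)
    _ ≤ Module.length A (Fin n → N) := Module.length_le_of_surjective Φ.rangeRestrict Φ.surjective_rangeRestrict
    _ = n * Module.length A (Coh.HH Y (Coh.structureModule Y) 1) := by
        rw [Module.length_pi_of_fintype, eY.length_eq]
        simp

end Groth.Agent.Resolve13.UpTrace
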