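import Groth.Agent.Resolve13.TorsionBound
import Groth.Agent.Coherent.SecBridge
import Groth.Agent.Coherent.FiniteType
import Groth.Agent.EulerLib.Additive
import Mathlib

/-!
# Torsion in the first cohomology of a modification
-/

set_option autoImplicit false
set_option backward.isDefEq.respectTransparency.types false
universe u
open CategoryTheory CategoryTheory.Limits AlgebraicGeometry TopologicalSpace Opposite

namespace Groth.Agent.Resolve13.Torsion

open DivisorPts Groth.Agent.Coherent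

variable {A : Type u} [CommRing A] {X : Scheme.{u}} (f : X ⟶ Spec (CommRingCat.of A))

/-- Multiplication by a function on the base. -/
noncomputable abbrev mulA (a : A) : Coh.structureModule X ⟶ Coh.structureModule X :=
  unitDesc (Coh.structureModule X) (Coh.toGlobal f a)

theorem mulA_app (a : A) (V : X.Opens) (t : Γ(X, V)) :
    (mulA f a).app V t = t * X.presheaf.map (homOfLE (le_top : V ≤ ⊤)).op (Coh.toGlobal f a) := by
  refine (app_unit _ t).trans ?_
  rw [unitVal_unitDesc]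
  rfl

theorem germ_mulA (a : A) {V : X.Opens} (t : Γ(X, V)) {x : X} (hx : x ∈ V) :
    (X.presheaf.germ V x hx).hom ((mulA f a).app V t) = (X.presheaf.germ V x hx).hom t * γ f x a := by
  rw [mulA_app, map_mul, TopCat.Presheaf.germ_res_apply]
  rfl

theorem sp_germ {V : X.Opens} (t : Γ(X, V)) {ξ x : X} (h : ξ ⤳ x) (hx : x ∈ V) :
    sp h ((X.presheaf.germ V x hx).hom t) = (X.presheaf.germ V ξ (h.mem_open V.2 hx)).hom t :=
  ConcreteCategory.congr_hom (TopCat.Presheaf.germ_stalkSpecializes X.presheaf hx h) t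

/-- The quotient by `a`. -/
noncomputable abbrev seqA (a : A) : ShortComplex X.Modules :=
  ShortComplex.mk (mulA f a) (cokernel.π (mulA f a)) (cokernel.condition _)

theorem seqA_shortExact [IsIntegral X] (a : A) (ha : ∀ x : X, γ f x a ≠ 0) : (seqA f a).ShortExact := by
  haveI : Mono (mulA f a) := Preadditive.mono_of_cancel_zero _ fun {M} g hg =>
    Scheme.Modules.hom_ext _ _ fun V => ConcreteCategory.hom_ext _ _ fun m => by
      have h0 : (mulA f a).app V (g.app V m) = 0 :=
        congrArg (fun ψ : M ⟶ Coh.structureModule X => ψ.app V m) hg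
      show (show Γ(X, V) from g.app V m) = 0
      refine TopCat.Presheaf.section_ext X.sheaf V _ _ fun x hx => ?_
      have h1 := congrArg (X.presheaf.germ V x hx).hom h0
      rw [germ_mulA] at h1
      exact ((mul_eq_zero.1 (h1.trans (map_zero (X.presheaf.germ V x hx).hom))).resolve_right (ha x)).trans
        (map_zero _).symm
  exact
    { exact := ShortComplex.exact_of_g_is_cokernel _ (cokernelIsCokernel (mulA f a))
      mono_f := inferInstance
      epi_g := inferInstance }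

/-- The class `b` matches the section `σ` of the quotient after multiplication by `S`. -/
def Char (a S : A) (σ : Γ((seqA f a).X₃, ⊤)) (b : A) : Prop :=
  ∀ (W : X.Opens) (t : Γ(X, W)), (seqA f a).g.app W t = resM (seqA f a).X₃ (le_top : W ≤ ⊤) σ →
    ∀ (x : X) (hx : x ∈ W), γ f x a ∣ γ f x S * (X.presheaf.germ W x hx).hom t - γ f x b

variable [IsIntegral X] {a S : A} (hsh : (seqA f a).ShortExact)
include hsh

theorem exists_lift_at (σ : Γ((seqA f a).X₃, ⊤)) (x : X) :
    ∃ (W : X.Opens) (t : Γ(X, W)), x ∈ W ∧ (seqA f a).g.app W t = resM (seqA f a).X₃ (le_top : W ≤ ⊤) σ := by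
  haveI := hsh.epi_g
  obtain ⟨W, hW, hx, t, ht⟩ := exists_lift_of_epi (seqA f a).g ⊤ σ x trivial
  exact ⟨W, t, hx, ht⟩

theorem dvd_germ_sub {σ : Γ((seqA f a).X₃, ⊤)} {W W' : X.Opens} {t : Γ(X, W)} {t' : Γ(X, W')}
    (ht : (seqA f a).g.app W t = resM (seqA f a).X₃ (le_top : W ≤ ⊤) σ)
    (ht' : (seqA f a).g.app W' t' = resM (seqA f a).X₃ (le_top : W' ≤ ⊤) σ) {x : X} (hx : x ∈ W) (hx' : x ∈ W') :
    γ f x a ∣ (X.presheaf.germ W x hx).hom t - (X.presheaf.germ W' x hx').hom t' := by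
  have h0 : (seqA f a).g.app (W ⊓ W') (resM (Coh.structureModule X) inf_le_left t -
      resM (Coh.structureModule X) inf_le_right t') = 0 := by
    rw [map_sub, app_resM, app_resM, ht, ht', resM_resM, resM_resM, sub_self]
  obtain ⟨u, hu⟩ := sections_exact hsh _ h0
  have h1 := congrArg (fun s : Γ(X, W ⊓ W') => (X.presheaf.germ (W ⊓ W') x ⟨hx, hx'⟩).hom s) hu
  simp only at h1
  rw [germ_mulA] at h1
  refine ⟨(X.presheaf.germ (W ⊓ W') x ⟨hx, hx'⟩).hom u, ?_⟩
  rw [mul_comm, h1]
  refine Eq.trans ?_ (map_sub (X.presheaf.germ (W ⊓ W') x ⟨hx, hx'⟩).hom _ _).symm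
  congr 1
  · exact (TopCat.Presheaf.germ_res_apply X.presheaf (homOfLE inf_le_left : W ⊓ W' ⟶ W) x ⟨hx, hx'⟩ t).symm
  · exact (TopCat.Presheaf.germ_res_apply X.presheaf (homOfLE inf_le_right : W ⊓ W' ⟶ W') x ⟨hx, hx'⟩ t').symm

/-- The germs of a section of the quotient. -/
theorem exists_family (σ : Γ((seqA f a).X₃, ⊤)) :
    ∃ G : ∀ x : X, X.presheaf.stalk x, IsSec f a G ∧
      ∀ (W : X.Opens) (t : Γ(X, W)), (seqA f a).g.app W t = resM (seqA f a).X₃ (le_top : W ≤ ⊤) σ →
        ∀ (x : X) (hx : x ∈ W), γ f x a ∣ (X.presheaf.germ W x hx).hom t - G x := by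
  choose W t hW ht using exists_lift_at f hsh σ
  refine ⟨fun x => (X.presheaf.germ (W x) x (hW x)).hom (t x), fun ξ x h => ?_, fun W' t' ht' x hx => ?_⟩
  · rw [sp_germ]
    exact dvd_germ_sub f hsh (ht x) (ht ξ) _ _
  · exact dvd_germ_sub f hsh ht' (ht x) _ _

variable (hlift : ∀ G : ∀ x : X, X.presheaf.stalk x, IsSec f a G →
    (∃ b : A, ∀ x, γ f x a ∣ γ f x S * G x - γ f x b) ∧
      ((∀ x, γ f x a ∣ γ f x S * G x) → ∀ x, γ f x a ∣ G x))
  (huniq : ∀ b : A, (∀ x, γ f x a ∣ γ f x b) → a ∣ b)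
include hlift

theorem exists_char (σ : Γ((seqA f a).X₃, ⊤)) : ∃ b : A, Char f a S σ b := by
  obtain ⟨G, hG, hGt⟩ := exists_family f hsh σ
  obtain ⟨b, hb⟩ := (hlift G hG).1
  refine ⟨b, fun W t ht x hx => ?_⟩
  have e : γ f x S * (X.presheaf.germ W x hx).hom t - γ f x b =
      γ f x S * ((X.presheaf.germ W x hx).hom t - G x) + (γ f x S * G x - γ f x b) := by ring
  rw [e]
  exact dvd_add ((hGt W t ht x hx).mul_left _) (hb x)

theorem eq_zero_of_char {σ : Γ((seqA f a).X₃, ⊤)} {b : A} (hb : Char f a S σ b) (hab : a ∣ b) : σ = 0 := by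
  obtain ⟨G, hG, hGt⟩ := exists_family f hsh σ
  have h1 : ∀ x, γ f x a ∣ γ f x S * G x := fun x => by
    obtain ⟨W, t, hx, ht⟩ := exists_lift_at f hsh σ x
    have e : γ f x S * G x = (γ f x S * (X.presheaf.germ W x hx).hom t - γ f x b) -
        γ f x S * ((X.presheaf.germ W x hx).hom t - G x) + γ f x b := by ring
    rw [e]
    exact dvd_add (dvd_sub (hb W t ht x hx) ((hGt W t ht x hx).mul_left _)) ((γ f x).map_dvd hab)
  have h2 := (hlift G hG).2 h1
  have key : ∀ x : X, ∃ V : X.Opens, x ∈ V ∧ resM (seqA f a).X₃ (le_top : V ≤ ⊤) σ = 0 := fun x => by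
    obtain ⟨W, t, hx, ht⟩ := exists_lift_at f hsh σ x
    obtain ⟨q, hq⟩ : γ f x a ∣ (X.presheaf.germ W x hx).hom t := by
      have e : (X.presheaf.germ W x hx).hom t = ((X.presheaf.germ W x hx).hom t - G x) + G x := by ring
      rw [e]; exact dvd_add (hGt W t ht x hx) (h2 x)
    obtain ⟨U, hxU, u, hu⟩ := TopCat.Presheaf.exists_germ_eq X.presheaf q
    have h3 : (X.presheaf.germ W x hx).hom t = (X.presheaf.germ U x hxU).hom ((mulA f a).app U u) := by
      rw [germ_mulA, hq, mul_comm, hu]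
    obtain ⟨V, hxV, iW, iU, hV⟩ := TopCat.Presheaf.germ_eq X.presheaf x hx hxU t ((mulA f a).app U u) h3
    refine ⟨V, hxV, ?_⟩
    have h4 : resM (Coh.structureModule X) iW.le t = resM (Coh.structureModule X) iU.le ((mulA f a).app U u) := hV
    rw [show resM (seqA f a).X₃ (le_top : V ≤ ⊤) σ = resM (seqA f a).X₃ iW.le (resM (seqA f a).X₃ le_top σ) from
      (resM_resM _ _ _ σ).symm, ← ht, ← app_resM, h4, app_resM, sections_zero, map_zero]
  choose V hxV hV using key
  refine TopCat.Sheaf.eq_of_locally_eq' (X := X.toTopCat) (Coh.toAb (seqA f a).X₃) V ⊤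
    (fun x => homOfLE le_top) (fun x _ => Opens.mem_iSup.2 ⟨x, hxV x⟩) σ 0 fun x => ?_
  exact (hV x).trans (map_zero _).symm

include huniq

theorem char_unique {σ : Γ((seqA f a).X₃, ⊤)} {b b' : A} (hb : Char f a S σ b) (hb' : Char f a S σ b') :
    a ∣ b - b' := by
  refine huniq _ fun x => ?_
  obtain ⟨W, t, hx, ht⟩ := exists_lift_at f hsh σ x
  have h1 := dvd_sub (hb' W t ht x hx) (hb W t ht x hx)
  rwa [sub_sub_sub_cancel_left, ← map_sub] at h1

/-- The torsion is bounded by `A / (a, S)`. -/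
theorem length_range_deltaG_le (hglob : Function.Surjective (Coh.toGlobal f)) :
    Module.length A (LinearMap.range (deltaG (Coh.toGlobal f) hsh)) ≤
      Module.length A (A ⧸ Ideal.span ({a, S} : Set A)) := by
  classical
  choose β hβ using exists_char f hsh hlift
  let J := Ideal.span ({a, S} : Set A)
  have hJ : ∀ {σ : Γ((seqA f a).X₃, ⊤)} {b : A}, Char f a S σ b →
      Ideal.Quotient.mk J (β σ) = Ideal.Quotient.mk J b := fun {σ b} hb =>
    Ideal.Quotient.eq.2 (Ideal.mem_span_pair.2 (by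
      obtain ⟨q, hq⟩ := char_unique f hsh hlift huniq (hβ σ) hb
      exact ⟨q, 0, by rw [hq]; ring⟩))
  let Ψ : GA (Coh.toGlobal f) (seqA f a).X₃ →ₗ[A] A ⧸ J :=
    { toFun := fun σ => Ideal.Quotient.mk J (β σ)
      map_add' := fun σ τ => by
        refine (hJ (b := β σ + β τ) ?_).trans (map_add _ _ _)
        intro W t ht x hx
        obtain ⟨W₁, t₁, hx₁, ht₁⟩ := exists_lift_at f hsh σ x
        obtain ⟨W₂, t₂, hx₂, ht₂⟩ := exists_lift_at f hsh τ x
        let t₃ : Γ(X, W₁ ⊓ W₂) := resM (Coh.structureModule X) inf_le_left t₁ +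
          resM (Coh.structureModule X) inf_le_right t₂
        have ht₃ : (seqA f a).g.app (W₁ ⊓ W₂) t₃ = resM (seqA f a).X₃ le_top
            ((show Γ((seqA f a).X₃, ⊤) from σ) + (show Γ((seqA f a).X₃, ⊤) from τ)) := by
          show (seqA f a).g.app (W₁ ⊓ W₂) (resM (Coh.structureModule X) inf_le_left t₁ +
            resM (Coh.structureModule X) inf_le_right t₂) = _
          rw [map_add, app_resM, app_resM, ht₁, ht₂, resM_resM, resM_resM, map_add]
        have hg : (X.presheaf.germ (W₁ ⊓ W₂) x ⟨hx₁, hx₂⟩).hom t₃ =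
            (X.presheaf.germ W₁ x hx₁).hom t₁ + (X.presheaf.germ W₂ x hx₂).hom t₂ := by
          refine (map_add _ _ _).trans ?_
          congr 1
          · exact TopCat.Presheaf.germ_res_apply X.presheaf _ x _ t₁
          · exact TopCat.Presheaf.germ_res_apply X.presheaf _ x _ t₂
        have h1 := dvd_germ_sub f hsh ht ht₃ hx ⟨hx₁, hx₂⟩
        rw [hg] at h1
        have h2 := dvd_add (h1.mul_left (γ f x S)) (dvd_add (hβ σ W₁ t₁ ht₁ x hx₁) (hβ τ W₂ t₂ ht₂ x hx₂))
        refine h2.trans (dvd_of_eq ?_)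
        rw [map_add]; ring
      map_smul' := fun r σ => by
        refine (hJ (b := r * β σ) ?_).trans (map_mul _ _ _)
        intro W t ht x hx
        obtain ⟨W₁, t₁, hx₁, ht₁⟩ := exists_lift_at f hsh σ x
        let r₁ : Γ(X, W₁) := X.presheaf.map (homOfLE (le_top : W₁ ≤ ⊤)).op (Coh.toGlobal f r)
        have ht₃ : (seqA f a).g.app W₁ (r₁ • (show Γ(Coh.structureModule X, W₁) from t₁)) =
            resM (seqA f a).X₃ le_top ((show Γ(X, ⊤) from Coh.toGlobal f r) • (show Γ((seqA f a).X₃, ⊤) from σ)) := by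
          rw [Scheme.Modules.Hom.app_smul, ht₁, resM_smul]
        have hg : (X.presheaf.germ W₁ x hx₁).hom (r₁ * t₁) = γ f x r * (X.presheaf.germ W₁ x hx₁).hom t₁ := by
          rw [map_mul, TopCat.Presheaf.germ_res_apply]; rfl
        have h1 := dvd_germ_sub f hsh (t' := r₁ * t₁) ht ht₃ hx hx₁
        rw [hg] at h1
        have h2 := dvd_add (h1.mul_left (γ f x S)) ((hβ σ W₁ t₁ ht₁ x hx₁).mul_left (γ f x r))
        refine h2.trans (dvd_of_eq ?_)
        rw [map_mul]; ring }
  have hker : LinearMap.ker Ψ ≤ LinearMap.ker (deltaG (Coh.toGlobal f) hsh) := fun σ hσ => by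
    rw [LinearMap.mem_ker, deltaG_eq_zero_iff]
    have h0 : β σ ∈ J := Ideal.Quotient.eq_zero_iff_mem.1 (LinearMap.mem_ker.1 hσ)
    obtain ⟨q, r, hqr⟩ := Ideal.mem_span_pair.1 h0
    let y : Γ(X, ⊤) := Coh.toGlobal f r
    refine ⟨y, Eq.symm (sub_eq_zero.1 ?_)⟩
    refine eq_zero_of_char f hsh hlift (b := q * a) ?_ (dvd_mul_left a q)
    intro W t ht x hx
    obtain ⟨W₁, t₁, hx₁, ht₁⟩ := exists_lift_at f hsh σ x
    have ht₃ : (seqA f a).g.app W₁ (t₁ - X.presheaf.map (homOfLE (le_top : W₁ ≤ ⊤)).op y) =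
        resM (seqA f a).X₃ le_top ((show Γ((seqA f a).X₃, ⊤) from σ) - (seqA f a).g.app ⊤ y) := by
      have e1 : (seqA f a).g.app W₁ (resM (Coh.structureModule X) (le_top : W₁ ≤ ⊤) y) =
          resM (seqA f a).X₃ le_top ((seqA f a).g.app ⊤ y) := app_resM _ _ _
      refine (map_sub ((seqA f a).g.app W₁).hom _ _).trans ?_
      rw [map_sub, ← e1, ← ht₁]
      rfl
    have hg : (X.presheaf.germ W₁ x hx₁).hom (t₁ - X.presheaf.map (homOfLE (le_top : W₁ ≤ ⊤)).op y) =
        (X.presheaf.germ W₁ x hx₁).hom t₁ - γ f x r := by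
      rw [map_sub, TopCat.Presheaf.germ_res_apply]; rfl
    have h1 := dvd_germ_sub f hsh ht ht₃ hx hx₁
    rw [hg] at h1
    have h2 := dvd_add (h1.mul_left (γ f x S)) (hβ σ W₁ t₁ ht₁ x hx₁)
    refine h2.trans (dvd_of_eq ?_)
    rw [← hqr, map_add, map_mul, map_mul]
    ring
  calc Module.length A (LinearMap.range (deltaG (Coh.toGlobal f) hsh))
      = Module.length A (GA (Coh.toGlobal f) (seqA f a).X₃ ⧸ LinearMap.ker (deltaG (Coh.toGlobal f) hsh)) :=
        (LinearMap.quotKerEquivRange _).length_eq.symm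
    _ ≤ Module.length A (GA (Coh.toGlobal f) (seqA f a).X₃ ⧸ LinearMap.ker Ψ) :=
        Module.length_le_of_surjective (Submodule.factor hker) (Submodule.factor_surjective hker)
    _ ≤ Module.length A (A ⧸ J) := by
        rw [(LinearMap.quotKerEquivRange Ψ).length_eq]
        exact Module.length_le_of_injective (LinearMap.range Ψ).subtype (Submodule.injective_subtype _)

end Groth.Agent.Resolve13.Torsion
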