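import Groth.Agent.Coherent.NormalPush
import Groth.Agent.NormalizationLib.Basic
import Groth.Agent.H8Lim.BiratNormal
import Groth.Prelude.Def_Curv2

/-!
# The normalization is finite as soon as a normal scheme maps properly and dominantly
-/

set_option autoImplicit false
set_option linter.style.haveILetI false
set_option backward.isDefEq.respectTransparency false
set_option maxHeartbeats 1000000

universe u

open CategoryTheory CategoryTheory.Limits AlgebraicGeometry TopologicalSpace Opposite
open Groth.Agent.NormalizationLib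

namespace Groth.Agent.Resolve13

/-- On a normal integral scheme a rational function integral over the functions of an open is regular there. -/
theorem mem_range_germ_of_integral {X : Scheme.{u}} [IsIntegral X] (hX : Pi1.IsNormalScheme X) {O : X.Opens}
    (hO : genericPoint X ∈ O) {R : Type u} [CommRing R] (φ : R →+* Γ(X, O)) (y : X.functionField)
    (hy : ((X.presheaf.germ O _ hO).hom.comp φ).IsIntegralElem y) :
    y ∈ Set.range (X.presheaf.germ O _ hO) := by
  have hN : ∀ x : X, IsIntegrallyClosed (X.presheaf.stalk x) := fun x => (hX x).2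
  have hU : ∀ U : {U : X.affineOpens // (U : X.Opens) ≤ O ∧ genericPoint X ∈ (U : X.Opens)},
      ∃ w : Γ(X, U.1.1), X.presheaf.germ U.1.1 _ U.2.2 w = y := by
    rintro ⟨⟨U, hU⟩, hle, hUη⟩
    refine H8Lim.mem_range_germ_of_isIntegralElem hN hU rfl hUη y ?_
    obtain ⟨q, hq, hq0⟩ := hy
    refine ⟨q.map ((X.presheaf.map (homOfLE hle).op).hom.comp φ), hq.map _, ?_⟩
    rw [Polynomial.eval₂_map]
    refine Eq.trans ?_ hq0
    congr 1
    refine RingHom.ext fun r => ?_
    exact TopCat.Presheaf.germ_res_apply X.presheaf (homOfLE hle) _ hUη _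
  choose w hw using hU
  have hcov : O ≤ ⨆ U : {U : X.affineOpens // (U : X.Opens) ≤ O ∧ genericPoint X ∈ (U : X.Opens)},
      (U.1.1 : X.Opens) := fun z hz => by
    obtain ⟨_, ⟨U, hU, rfl⟩, hzU, hUV⟩ := X.isBasis_affineOpens.exists_subset_of_mem_open hz O.isOpen
    exact Opens.mem_iSup.2 ⟨⟨⟨U, hU⟩, hUV, (genericPoint_specializes z).mem_open U.isOpen hzU⟩, hzU⟩
  obtain ⟨ρ, hρ, -⟩ := TopCat.Sheaf.existsUnique_gluing' X.sheaf
    (fun U : {U : X.affineOpens // (U : X.Opens) ≤ O ∧ genericPoint X ∈ (U : X.Opens)} => U.1.1)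
    O (fun U => homOfLE U.2.1) hcov w fun U U' => by
      have hm : genericPoint X ∈ U.1.1 ⊓ U'.1.1 := ⟨U.2.2, U'.2.2⟩
      have : Nonempty (U.1.1 ⊓ U'.1.1 : X.Opens) := ⟨⟨_, hm⟩⟩
      refine X.germToFunctionField_injective (U.1.1 ⊓ U'.1.1) ?_
      exact (TopCat.Presheaf.germ_res_apply X.presheaf _ _ hm _).trans ((hw U).trans
        ((hw U').symm.trans (TopCat.Presheaf.germ_res_apply X.presheaf _ _ hm _).symm))
  obtain ⟨U₀, hU₀⟩ := Opens.mem_iSup.1 (hcov hO)
  refine ⟨ρ, ?_⟩
  rw [← hw U₀, ← hρ U₀]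
  exact (TopCat.Presheaf.germ_res_apply X.presheaf (homOfLE U₀.2.1) _ U₀.2.2 ρ).symm

/-- If a normal integral scheme maps properly onto `Y`, the normalization of `Y` is finite. -/
theorem isFinite_normalizationι_of_proper {X Y : Scheme.{u}} [IsIntegral X] [IsIntegral Y] [IsLocallyNoetherian Y]
    [QuasiCompact (Y.fromSpecStalk (genericPoint Y))] [QuasiSeparated (Y.fromSpecStalk (genericPoint Y))]
    (hX : Pi1.IsNormalScheme X) (g : X ⟶ Y) [IsProper g] (hgen : g (genericPoint X) = genericPoint Y) :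
    IsFinite (Curv2.normalizationι Y) := by
  let gY := Y.fromSpecStalk (genericPoint Y)
  let φ : Y.functionField →+* Y.functionField := RingHom.id _
  have hg : gY = Spec.map (CommRingCat.ofHom φ) ≫ Y.fromSpecStalk (genericPoint Y) := by
    rw [show CommRingCat.ofHom φ = 𝟙 _ from rfl, Spec.map_id, Category.id_comp]
  haveI : IsAffineHom (Curv2.normalizationι Y) := inferInstanceAs (IsAffineHom gY.fromNormalization)
  have hσ : g.base (genericPoint X) ⤳ genericPoint Y := specializes_of_eq hgen
  let σ := CohIII.stalkToFunctionField g (genericPoint Y) hσ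
  refine ⟨fun U hU => ?_⟩
  show (gY.fromNormalization.app U).hom.Finite
  rcases (U : Set Y).eq_empty_or_nonempty with hE | ⟨y, hy⟩
  · have hU0 : U = ⊥ := Opens.ext hE
    subst hU0
    exact RingHom.Finite.of_surjective _ fun x =>
      ⟨0, @Subsingleton.elim _ (inferInstanceAs (Subsingleton Γ(gY.normalization, ⊥))) _ _⟩
  haveI : Nonempty U := ⟨⟨y, hy⟩⟩
  have hη : genericPoint Y ∈ U := (genericPoint_specializes y).mem_open U.isOpen hy
  have hη' : genericPoint X ∈ g ⁻¹ᵁ U := hσ.mem_open U.isOpen hη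
  haveI : Nonempty (g ⁻¹ᵁ U : X.Opens) := ⟨⟨_, hη'⟩⟩
  let germX := (X.presheaf.germ (g ⁻¹ᵁ U) _ hη').hom
  have hinjX : Function.Injective germX := X.germToFunctionField_injective (g ⁻¹ᵁ U)
  let θ := (normToK φ gY hg U hU).hom
  have hθ : ∀ a, θ (gY.fromNormalization.app U a) = Y.germToFunctionField U a :=
    fun a => normToK_fromNormalization φ gY hg U hU a
  have hcomm : σ.comp (toK φ U) = germX.comp (g.app U).hom :=
    RingHom.ext fun r => Coherent.stalkToFunctionField_germ g hσ U hη hη' r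
  have hmem : ∀ v, σ (θ v) ∈ Set.range germX := fun v => by
    obtain ⟨q, hq, hqv⟩ := (mem_range_normToK φ gY hg U hU (θ v)).1 ⟨v, rfl⟩
    refine mem_range_germ_of_integral hX hη' (g.app U).hom _ ⟨q, hq, ?_⟩
    rw [← hcomm, ← Polynomial.hom_eval₂, hqv, map_zero]
  choose ψ hψ using hmem
  haveI : IsNoetherianRing Γ(Y, U) := IsLocallyNoetherian.component_noetherian ⟨U, hU⟩
  letI := (gY.fromNormalization.app U).hom.toAlgebra
  letI := (g.app U).hom.toAlgebra
  haveI : Module.Finite Γ(Y, U) Γ(X, g ⁻¹ᵁ U) := Coherent.finite_app_of_isProper g hU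
  show Module.Finite Γ(Y, U) Γ(gY.normalization, gY.fromNormalization ⁻¹ᵁ U)
  let L : Γ(gY.normalization, gY.fromNormalization ⁻¹ᵁ U) →ₗ[Γ(Y, U)] Γ(X, g ⁻¹ᵁ U) :=
    { toFun := ψ
      map_add' := fun a b => hinjX (by rw [map_add, hψ, hψ, hψ, map_add, map_add])
      map_smul' := fun r a => hinjX (by
        rw [RingHom.id_apply, Algebra.smul_def, Algebra.smul_def, map_mul, hψ, hψ, map_mul, map_mul]
        refine congrArg (· * _) ?_
        rw [show θ (algebraMap Γ(Y, U) _ r) = toK φ U r from hθ r]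
        exact RingHom.congr_fun hcomm r) }
  exact Module.Finite.of_injective L fun a b h => injective_normToK φ gY hg U hU (σ.injective (by
    rw [← hψ a, ← hψ b]; exact congrArg germX h))

end Groth.Agent.Resolve13
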