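import Groth.Agent.Resolve13.NormFinite
import Groth.Agent.NeronLib.NormalSmooth
import Groth.Prelude.Def_EGA4b
import Mathlib

/-!
# Global functions on normal Noetherian schemes
-/

set_option autoImplicit false
set_option linter.style.haveILetI false
set_option backward.isDefEq.respectTransparency.types false
universe u
open CategoryTheory CategoryTheory.Limits AlgebraicGeometry TopologicalSpace Opposite

namespace Groth.Agent.Resolve13.NormalSections

/-- The functions on a normal integral scheme form an integrally closed domain. -/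
theorem isIntegrallyClosed_top {X : Scheme.{u}} [IsIntegral X] (hX : Pi1.IsNormalScheme X) :
    IsIntegrallyClosed Γ(X, ⊤) := by
  haveI : Nonempty (⊤ : X.Opens) := ⟨⟨genericPoint X, trivial⟩⟩
  let j : Γ(X, ⊤) →+* X.functionField := (X.presheaf.germ ⊤ (genericPoint X) trivial).hom
  have hj : Function.Injective j := X.germToFunctionField_injective ⊤
  let F : FractionRing Γ(X, ⊤) →+* X.functionField := IsFractionRing.lift hj
  refine (isIntegrallyClosed_iff (FractionRing Γ(X, ⊤))).2 fun {x} hx => ?_
  obtain ⟨q, hq, hq0⟩ := hx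
  obtain ⟨r, hr⟩ := mem_range_germ_of_integral hX (O := ⊤) trivial (RingHom.id _) (F x) ⟨q, hq, by
    rw [RingHom.comp_id]
    have hF : F.comp (algebraMap _ _) = j := RingHom.ext (IsFractionRing.lift_algebraMap hj)
    show Polynomial.eval₂ j (F x) q = 0
    rw [← hF, ← Polynomial.hom_eval₂, hq0, map_zero]⟩
  exact ⟨r, F.injective ((IsFractionRing.lift_algebraMap hj r).trans hr)⟩

/-- An idempotent cutting out a closed and open subset. -/
theorem exists_basicOpen_eq {X : Scheme.{u}} {W : X.Opens} (hW : IsClosed (W : Set X)) :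
    ∃ e : Γ(X, ⊤), X.basicOpen e = W ∧ X.presheaf.map (homOfLE (le_top : W ≤ ⊤)).op e = 1 := by
  let W' : X.Opens := ⟨(W : Set X)ᶜ, hW.isOpen_compl⟩
  let U : Bool → X.Opens := fun b => bif b then W else W'
  let sec : ∀ b : Bool, Γ(X, U b) := fun b => bif b then 1 else 0
  have hdis : W ⊓ W' = ⊥ := Opens.ext (Set.inter_compl_self _)
  obtain ⟨e, he, -⟩ := X.sheaf.existsUnique_gluing' U ⊤ (fun b => homOfLE le_top)
    (fun x _ => by
      by_cases hx : x ∈ W
      · exact Opens.mem_iSup.2 ⟨true, hx⟩
      · exact Opens.mem_iSup.2 ⟨false, hx⟩) sec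
    (fun a b => by
      rcases a <;> rcases b
      · rfl
      · exact @Subsingleton.elim _ (by
          show Subsingleton Γ(X, W' ⊓ W)
          rw [inf_comm, hdis]; infer_instance) _ _
      · exact @Subsingleton.elim _ (by
          show Subsingleton Γ(X, W ⊓ W')
          rw [hdis]; infer_instance) _ _
      · rfl)
  refine ⟨e, le_antisymm (fun x hx => ?_) (fun x hx => ?_), he true⟩
  · by_contra hxW
    have h := X.basicOpen_res e (homOfLE (le_top : U false ≤ ⊤)).op
    rw [show X.presheaf.map (homOfLE (le_top : U false ≤ ⊤)).op e = (0 : Γ(X, U false)) from he false] at h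
    have h2 : x ∈ U false ⊓ X.basicOpen e := ⟨hxW, hx⟩
    rw [← h, Scheme.basicOpen_zero] at h2
    exact h2
  · have h := X.basicOpen_res e (homOfLE (le_top : U true ≤ ⊤)).op
    rw [show X.presheaf.map (homOfLE (le_top : U true ≤ ⊤)).op e = (1 : Γ(X, U true)) from he true] at h
    have h2 : x ∈ X.basicOpen (1 : Γ(X, U true)) := by
      rw [Scheme.basicOpen_of_isUnit _ isUnit_one]; exact hx
    rw [h] at h2
    exact h2.2

/-- The functions on a normal Noetherian scheme form a normal ring. -/
theorem isNormalRing_top {X : Scheme.{u}} [AlgebraicGeometry.IsNoetherian X] (hX : Pi1.IsNormalScheme X) :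
    EGA4.IsNormalRing Γ(X, ⊤) := by
  intro P hP
  classical
  -- an idempotent outside `P` supported on one component
  have hex : ∃ e : Γ(X, ⊤), e ∉ P ∧ IsIntegral (X.basicOpen e).toScheme := by
    have hfin : (irreducibleComponents X).Finite := NoetherianSpace.finite_irreducibleComponents
    let comp : ∀ Z : hfin.toFinset, X.Opens := fun Z =>
      ⟨Z.1, Groth.Agent.NeronLib.isOpen_component_of_normal hX (hfin.mem_toFinset.1 Z.2)⟩
    choose e he he1 using fun Z : hfin.toFinset =>
      exists_basicOpen_eq (W := comp Z) (isClosed_of_mem_irreducibleComponents _ (hfin.mem_toFinset.1 Z.2))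
    have hprod : ∏ Z : hfin.toFinset, (1 - e Z) = 0 := by
      refine X.IsSheaf.section_ext fun x _ => ?_
      let Z : hfin.toFinset := ⟨_, hfin.mem_toFinset.2 (irreducibleComponent_mem_irreducibleComponents x)⟩
      refine ⟨comp Z, le_top, mem_irreducibleComponent, ?_⟩
      rw [map_zero, map_prod]
      exact Finset.prod_eq_zero (Finset.mem_univ Z) (by rw [map_sub, map_one, he1, sub_self])
    obtain ⟨Z, -, hZ⟩ := (hP.prod_mem_iff).1 (hprod ▸ P.zero_mem :
      ∏ Z : hfin.toFinset, (1 - e Z) ∈ P)
    refine ⟨e Z, fun h => hP.ne_top ((Ideal.eq_top_iff_one P).2 ?_), ?_⟩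
    · simpa using P.add_mem hZ h
    · rw [he]
      haveI : IrreducibleSpace (comp Z).toScheme :=
        isIrreducible_iff_irreducibleSpace.1 (hfin.mem_toFinset.1 Z.2).1
      haveI : ∀ x : X, _root_.IsReduced (X.presheaf.stalk x) := fun x => by
        haveI := (hX x).1; infer_instance
      haveI : IsReduced X := isReduced_of_isReduced_stalk X
      haveI : IsReduced (comp Z).toScheme := isReduced_of_isOpenImmersion (comp Z).ι
      exact isIntegral_of_irreducibleSpace_of_isReduced _
  obtain ⟨e, heP, hint⟩ := hex
  haveI := hint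
  let R := Γ(X, ⊤)
  let Re := Γ(X, X.basicOpen e)
  haveI : IsLocalization.Away e Re :=
    isLocalization_basicOpen_of_qcqs isCompact_univ isQuasiSeparated_univ e
  haveI : IsDomain Re := (X.basicOpen e).topIso.symm.commRingCatIsoToRingEquiv.toMulEquiv.isDomain _
  haveI : IsIntegrallyClosed Re := by
    haveI := isIntegrallyClosed_top (X := (X.basicOpen e).toScheme) fun z => by
      haveI := (hX z.1).1
      haveI := (hX z.1).2
      let eq := ((X.basicOpen e).stalkIso z).commRingCatIsoToRingEquiv
      exact ⟨eq.toMulEquiv.isDomain _, IsIntegrallyClosed.of_equiv eq.symm⟩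
    exact IsIntegrallyClosed.of_equiv (X.basicOpen e).topIso.commRingCatIsoToRingEquiv
  have hd : Disjoint (Submonoid.powers e : Set R) (P : Set R) := by
    rw [Set.disjoint_left]
    rintro _ ⟨n, rfl⟩ h
    exact heP (hP.mem_of_pow_mem n h)
  let P' : Ideal Re := P.map (algebraMap R Re)
  haveI : P'.IsPrime := IsLocalization.isPrime_of_isPrime_disjoint (Submonoid.powers e) Re P inferInstance hd
  have hc : P'.comap (algebraMap R Re) = P :=
    IsLocalization.comap_map_of_isPrime_disjoint (Submonoid.powers e) Re inferInstance hd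
  have hloc := IsLocalization.isLocalization_isLocalization_atPrime_isLocalization
    (Submonoid.powers e) (Localization.AtPrime P') P'
  have hS : (P'.comap (algebraMap R Re)).primeCompl = P.primeCompl := Submonoid.ext fun a => by
    show a ∉ P'.comap (algebraMap R Re) ↔ a ∉ P
    rw [hc]
  unfold IsLocalization.AtPrime at hloc
  rw [hS] at hloc
  haveI := hloc
  let eq := (IsLocalization.algEquiv P.primeCompl (Localization.AtPrime P) (Localization.AtPrime P')).toRingEquiv
  haveI : IsDomain (Localization.AtPrime P') := IsLocalization.isDomain_localization P'.primeCompl_le_nonZeroDivisors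
  haveI : IsIntegrallyClosed (Localization.AtPrime P') :=
    isIntegrallyClosed_of_isLocalization _ P'.primeCompl P'.primeCompl_le_nonZeroDivisors
  exact ⟨eq.toMulEquiv.isDomain _, IsIntegrallyClosed.of_equiv eq.symm⟩

end Groth.Agent.Resolve13.NormalSections
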