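import Groth.Agent.Resolve13.FiniteExtRat
import Groth.Agent.EssEt6.Birational
import Mathlib

/-!
# Rational singularities descend along finite extensions of invertible degree
-/

set_option autoImplicit false
set_option backward.isDefEq.respectTransparency.types false
universe u
open CategoryTheory CategoryTheory.Limits AlgebraicGeometry

namespace Groth.Agent.Resolve13.FiniteExtRat

theorem isRationalSing_of_ringEquiv {A A' : Type u} [CommRing A] [CommRing A'] (e : A ≃+* A')
    (h : Curv2.IsRationalSing A) : Curv2.IsRationalSing A' := by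
  intro X f hf hXi hXn hU
  obtain ⟨U, hUne, hU⟩ := hU
  haveI := hf
  haveI := hU
  let j : Spec (CommRingCat.of A') ⟶ Spec (CommRingCat.of A) := Spec.map (CommRingCat.ofHom e.toRingHom)
  haveI : IsIso j := by
    haveI : IsIso (CommRingCat.ofHom e.toRingHom) := inferInstanceAs (IsIso e.toCommRingCatIso.hom)
    infer_instance
  refine h X (f ≫ j) inferInstance hXi hXn ⟨(asIso j).inv ⁻¹ᵁ U, ?_, ?_⟩
  · obtain ⟨w, hw⟩ := hUne
    refine ⟨j w, ?_⟩
    show (asIso j).inv (j w) ∈ U
    rw [← Scheme.Hom.comp_apply, show j ≫ (asIso j).inv = 𝟙 _ from (asIso j).hom_inv_id]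
    exact hw
  · have he : j ⁻¹ᵁ ((asIso j).inv ⁻¹ᵁ U) = U := by
      rw [← Scheme.Hom.comp_preimage, show j ≫ (asIso j).inv = 𝟙 _ from (asIso j).hom_inv_id]
      rfl
    have h1 : IsIso (f ∣_ (j ⁻¹ᵁ ((asIso j).inv ⁻¹ᵁ U))) := by rw [he]; exact hU
    rw [morphismRestrict_comp]
    exact @IsIso.comp_isIso _ _ _ _ _ _ _ h1 inferInstance

/-- Localisation does not increase the dimension. -/
theorem ringKrullDim_le_of_localization {R : Type u} [CommRing R] (M : Submonoid R) (S : Type u) [CommRing S]
    [Algebra R S] [IsLocalization M S] : ringKrullDim S ≤ ringKrullDim R :=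
  Order.krullDim_le_of_strictMono (PrimeSpectrum.comap (algebraMap R S))
    (Monotone.strictMono_of_injective (fun _ _ h => Ideal.comap_mono h)
      (PrimeSpectrum.localization_comap_injective S M))

/-- Rational singularities descend along finite extensions of invertible degree. -/
theorem isRationalSing_of_finite {A B : Type u} [CommRing A] [CommRing B] [IsDomain A] [IsDomain B]
    [IsNoetherianRing A] [IsNoetherianRing B] [IsIntegrallyClosed B] (hN : CAlg.IsNagata A) (hB2 : ringKrullDim B ≤ 2)
    [Algebra A B] [Module.Finite A B] (hinj : Function.Injective (algebraMap A B))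
    (K L : Type u) [Field K] [Field L] [Algebra A K] [IsFractionRing A K] [Algebra B L] [IsFractionRing B L]
    [Algebra K L] [Algebra A L] [IsScalarTower A K L] [IsScalarTower A B L]
    (hdeg : IsUnit ((Module.finrank K L : ℕ) : A))
    (hB : ∀ (n : Ideal B) [n.IsMaximal], ringKrullDim (Localization.AtPrime n) = 2 →
      Curv2.IsRationalSing (Localization.AtPrime n))
    (m : Ideal A) [m.IsPrime] : Curv2.IsRationalSing (Localization.AtPrime m) := by
  intro X f hf hXi hXn hU
  haveI := hf
  haveI := hXi
  let M := m.primeCompl
  let A' := Localization.AtPrime m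
  let N := Algebra.algebraMapSubmonoid B M
  let B' := Localization N
  have hMle : M ≤ nonZeroDivisors A := Ideal.primeCompl_le_nonZeroDivisors m
  have hNle : N ≤ nonZeroDivisors B := by
    rintro _ ⟨a, ha, rfl⟩
    exact mem_nonZeroDivisors_of_ne_zero fun h0 => nonZeroDivisors.ne_zero (hMle ha) (hinj (h0.trans (map_zero _).symm))
  haveI : IsDomain B' := IsLocalization.isDomain_localization hNle
  haveI : IsIntegrallyClosed B' := isIntegrallyClosed_of_isLocalization B' N hNle
  haveI : IsNoetherianRing B' := IsLocalization.isNoetherianRing N B' inferInstance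
  letI : Algebra A' K := (IsLocalization.lift (M := M) (S := A') (g := algebraMap A K) fun s =>
    IsUnit.mk0 _ (IsFractionRing.to_map_ne_zero_of_mem_nonZeroDivisors (hMle s.2))).toAlgebra
  haveI : IsScalarTower A A' K := IsScalarTower.of_algebraMap_eq fun a => (IsLocalization.lift_eq _ a).symm
  haveI : IsFractionRing A' K := IsFractionRing.isFractionRing_of_isDomain_of_isLocalization M A' K
  letI : Algebra B' L := (IsLocalization.lift (M := N) (S := B') (g := algebraMap B L) fun s =>
    IsUnit.mk0 _ (IsFractionRing.to_map_ne_zero_of_mem_nonZeroDivisors (hNle s.2))).toAlgebra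
  haveI : IsScalarTower B B' L := IsScalarTower.of_algebraMap_eq fun b => (IsLocalization.lift_eq _ b).symm
  haveI : IsFractionRing B' L := IsFractionRing.isFractionRing_of_isDomain_of_isLocalization N B' L
  letI : Algebra A' L := ((algebraMap K L).comp (algebraMap A' K)).toAlgebra
  haveI : IsScalarTower A' K L := IsScalarTower.of_algebraMap_eq fun _ => rfl
  haveI : IsScalarTower A' B' L := IsScalarTower.of_algebraMap_eq' (IsLocalization.ringHom_ext M (RingHom.ext fun a => by
    show algebraMap K L (algebraMap A' K (algebraMap A A' a)) = algebraMap B' L (algebraMap A' B' (algebraMap A A' a))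
    rw [← IsScalarTower.algebraMap_apply A A' K, ← IsScalarTower.algebraMap_apply A K L,
      ← IsScalarTower.algebraMap_apply A A' B', IsScalarTower.algebraMap_apply A B B',
      ← IsScalarTower.algebraMap_apply B B' L, ← IsScalarTower.algebraMap_apply A B L]))
  haveI : Module.Finite A' B' := Module.Finite.of_isLocalization A B M
  have hinj' : Function.Injective (algebraMap A' B') := by
    have h1 : Function.Injective (algebraMap A' L) := (algebraMap K L).injective.comp (IsFractionRing.injective A' K)
    rw [IsScalarTower.algebraMap_eq A' B' L] at h1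
    exact fun a b hab => h1 (congrArg (algebraMap B' L) hab)
  haveI : IsNoetherianRing A' := IsLocalization.isNoetherianRing M A' inferInstance
  haveI : Algebra.EssFiniteType A A' := Algebra.EssFiniteType.of_isLocalization A' M
  have hB2' : ringKrullDim B' ≤ 2 := (ringKrullDim_le_of_localization N B').trans hB2
  have hB' : ∀ (n' : Ideal B') [n'.IsMaximal], ringKrullDim (Localization.AtPrime n') = 2 →
      Curv2.IsRationalSing (Localization.AtPrime n') := by
    intro n' _ hd
    let n := n'.comap (algebraMap B B')
    let e := (IsLocalization.localizationLocalizationAtPrimeIsoLocalization N n').toRingEquiv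
    have hd' : ringKrullDim (Localization.AtPrime n) = 2 := (ringKrullDim_eq_of_ringEquiv e).trans hd
    haveI : n.IsMaximal := by
      refine Ideal.isMaximal_def.2 ⟨(Ideal.IsPrime.comap (algebraMap B B') (K := n')).ne_top, fun J hJ => ?_⟩
      by_contra hne
      obtain ⟨P, hP, hJP⟩ := Ideal.exists_le_maximal J hne
      have h3 := Ideal.height_add_one_le_of_lt_of_isPrime (hJ.trans_le hJP)
      rw [IsLocalization.AtPrime.ringKrullDim_eq_height n (Localization.AtPrime n)] at hd'
      have h4 : (n.height + 1 : ℕ∞) ≤ 2 := h3.trans (WithBot.coe_le_coe.1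
        ((Ideal.height_le_ringKrullDim_of_ne_top hP.ne_top).trans hB2))
      rw [show n.height = 2 from WithBot.coe_inj.1 hd'] at h4
      exact absurd h4 (by decide)
    exact isRationalSing_of_ringEquiv e (hB n hd')
  letI : X.Over (Spec (CommRingCat.of A')) := ⟨f⟩
  haveI : IsProper (X ↘ Spec (CommRingCat.of A')) := hf
  refine subsingleton_of_forall_eq 0 fun x => ?_
  have h0 := finrank_smul_eq_zero (EssEt6.isNagata_of_essFiniteType (A := A) (B := A') hN) hB2' hinj' K L hB' X hXn hU x
  have hu : IsUnit ((Module.finrank K L : ℕ) : A') := by simpa using hdeg.map (algebraMap A A')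
  obtain ⟨u, hu⟩ := hu
  rw [← hu] at h0
  have := congrArg ((↑u⁻¹ : A') • ·) h0
  simpa [smul_smul] using this

end Groth.Agent.Resolve13.FiniteExtRat
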