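import Mathlib
import Groth.Prelude.Def_Found
import Groth.Prelude.Def_Curv2
import Groth.Agent.CAlgH.AnalyticallyUnramified
import Groth.Agent.CAlgH.NagataFiniteType
import Groth.Agent.NormalizationLib.Basic
import Groth.Agent.HenselLib.EtaleReduced

/-!
# Finiteness of normalizations over analytically unramified local rings
-/

set_option autoImplicit false
set_option linter.style.haveILetI false
set_option backward.isDefEq.respectTransparency.types false
universe u
open CategoryTheory CategoryTheory.Limits AlgebraicGeometry CAlg IsLocalRing TensorProduct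
open Groth.Agent.CAlgH Groth.Agent.NormalizationLib

namespace Groth.Agent.Resolve13

/-- A Noetherian domain with a faithfully flat reduced Nagata algebra is N-1. -/
theorem isN1_of_faithfullyFlat_nagata {A Ah : Type u} [CommRing A] [IsDomain A] [IsNoetherianRing A] [CommRing Ah]
    [Algebra A Ah] [Module.FaithfullyFlat A Ah] [IsReduced Ah] (hAh : IsNagata Ah) : IsN1 A := by
  classical
  haveI := hAh.1
  let K := FractionRing A
  let ι := {q : Ideal Ah // q ∈ minimalPrimes Ah}
  haveI : Finite ι := (minimalPrimes.finite_of_isNoetherianRing Ah).to_subtype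
  haveI hprime : ∀ q : ι, q.1.IsPrime := fun q => q.2.1.1
  let θ : ∀ q : ι, A →+* FractionRing (Ah ⧸ q.1) := fun q =>
    (algebraMap Ah (FractionRing (Ah ⧸ q.1))).comp (algebraMap A Ah)
  have hθ : ∀ q, Function.Injective (θ q) := by
    intro q
    rw [injective_iff_map_eq_zero]
    intro a ha
    by_contra ha0
    rw [RingHom.comp_apply, IsScalarTower.algebraMap_apply Ah (Ah ⧸ q.1) (FractionRing (Ah ⧸ q.1)),
      map_eq_zero_iff _ (IsFractionRing.injective (Ah ⧸ q.1) _)] at ha
    refine notMem_nonZeroDivisors_of_mem_mem_minimalPrimes (Ideal.Quotient.eq_zero_iff_mem.mp ha) q.2 ?_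
    rw [mem_nonZeroDivisors_iff_right]
    intro w hw
    have hr : IsSMulRegular Ah a := Module.Flat.isSMulRegular_of_isRegular (IsRegular.of_ne_zero ha0)
    apply hr
    show a • w = a • (0 : Ah)
    rw [smul_zero, Algebra.smul_def, mul_comm]; exact hw
  let Θ : K →+* ((q : ι) → FractionRing (Ah ⧸ q.1)) := Pi.ringHom fun q => IsFractionRing.lift (hθ q)
  have hΘ : ∀ a : A, Θ (algebraMap A K a) = algebraMap Ah _ (algebraMap A Ah a) := fun a =>
    funext fun q => IsFractionRing.lift_algebraMap (hθ q) a
  let W : Submodule Ah ((q : ι) → FractionRing (Ah ⧸ q.1)) :=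
    Submodule.pi Set.univ fun q => (Subalgebra.toSubmodule (integralClosure (Ah ⧸ q.1) (FractionRing (Ah ⧸ q.1)))).restrictScalars Ah
  have hWfg : W.FG := by
    refine Submodule.fg_pi fun q => ?_
    have h1 : Module.Finite (Ah ⧸ q.1) (integralClosure (Ah ⧸ q.1) (FractionRing (Ah ⧸ q.1))) :=
      isN2_apply (hAh.2 q.1) (FractionRing (Ah ⧸ q.1)) (FractionRing (Ah ⧸ q.1))
    have h2 : Module.Finite Ah (integralClosure (Ah ⧸ q.1) (FractionRing (Ah ⧸ q.1))) := Module.Finite.trans (Ah ⧸ q.1) _
    exact Module.Finite.iff_fg.mp h2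
  have hΘW : ∀ c : K, IsIntegral A c → Θ c ∈ W := by
    intro c hc q _
    show IsIntegral (Ah ⧸ q.1) (IsFractionRing.lift (hθ q) c)
    obtain ⟨P, hP, hP0⟩ := hc
    refine ⟨P.map ((Ideal.Quotient.mk q.1).comp (algebraMap A Ah)), hP.map _, ?_⟩
    have h1 := congrArg (IsFractionRing.lift (hθ q)) hP0
    rw [Polynomial.hom_eval₂, map_zero] at h1
    rw [Polynomial.eval₂_map]
    convert h1 using 2
    · rfl
    ·
      refine RingHom.ext fun a => ?_
      show _ = IsFractionRing.lift (hθ q) (algebraMap A K a)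
      rw [IsFractionRing.lift_algebraMap]
      rfl
  haveI : IsNoetherian Ah W := isNoetherian_of_fg_of_noetherian W hWfg
  let N : Finset (integralClosure A K) → Submodule Ah W := fun s => (Submodule.span Ah ((fun c : integralClosure A K => Θ (c : K)) '' (s : Set (integralClosure A K)))).comap W.subtype
  obtain ⟨M, ⟨s, rfl⟩, hmax⟩ := set_has_maximal_iff_noetherian.mpr inferInstance (Set.range N) ⟨_, ⟨∅, rfl⟩⟩
  refine (isN1_iff_finite K).mpr ⟨⟨s, eq_top_iff.mpr fun c _ => ?_⟩⟩
  have hsc : N (insert c s) = N s := by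
    by_contra hne
    refine hmax _ ⟨_, rfl⟩ (lt_of_le_of_ne (Submodule.comap_mono (Submodule.span_mono (Set.image_mono ?_))) (Ne.symm hne))
    exact Finset.coe_subset.mpr (Finset.subset_insert c s)
  have hc : Θ (c : K) ∈ Submodule.span Ah ((fun c : integralClosure A K => Θ (c : K)) '' (s : Set (integralClosure A K))) := by
    have : (⟨Θ c, hΘW c c.2⟩ : W) ∈ N (insert c s) := Submodule.subset_span ⟨c, Finset.mem_insert_self c s, rfl⟩
    rw [hsc] at this; exact this
  obtain ⟨⟨d, hd⟩, hd'⟩ := IsLocalization.exist_integer_multiples_of_finset (nonZeroDivisors A) ((insert c s).image fun z : integralClosure A K => (z : K))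
  have hd0 : d ≠ 0 := nonZeroDivisors.ne_zero hd
  have hint : ∀ z ∈ insert c s, ∃ a : A, algebraMap A K a = d • (z : K) := fun z hz =>
    hd' _ (Finset.mem_image_of_mem _ hz)
  choose! num hnum using hint
  let I : Ideal A := Ideal.span (num '' (s : Set (integralClosure A K)))
  have hinj : Function.Injective (algebraMap Ah ((q : ι) → FractionRing (Ah ⧸ q.1))) := by
    rw [injective_iff_map_eq_zero]
    intro w hw
    have hmem : w ∈ nilradical Ah := by
      rw [nilradical, ← Ideal.sInf_minimalPrimes, Submodule.mem_sInf]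
      intro q hq
      have h1 := congrFun hw ⟨q, hq⟩
      haveI : Ideal.IsPrime q := hq.1.1
      rw [Pi.algebraMap_apply, IsScalarTower.algebraMap_apply Ah (Ah ⧸ q) (FractionRing (Ah ⧸ q)), Pi.zero_apply,
        map_eq_zero_iff _ (IsFractionRing.injective (Ah ⧸ q) _)] at h1
      exact Ideal.Quotient.eq_zero_iff_mem.mp h1
    exact (mem_nilradical.mp hmem).eq_zero
  have hkey : ∀ v ∈ Submodule.span Ah ((fun c : integralClosure A K => Θ (c : K)) '' (s : Set (integralClosure A K))),
      ∃ w ∈ I.map (algebraMap A Ah), algebraMap A Ah d • v = algebraMap Ah _ w := by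
    intro v hv
    induction hv using Submodule.span_induction with
    | mem v hv =>
      obtain ⟨z, hz, rfl⟩ := hv
      refine ⟨algebraMap A Ah (num z), Ideal.mem_map_of_mem _ (Ideal.subset_span ⟨z, hz, rfl⟩), ?_⟩
      rw [← hΘ, hnum z (Finset.mem_insert_of_mem hz), Algebra.smul_def, Algebra.smul_def, map_mul, hΘ]
    | zero => exact ⟨0, Ideal.zero_mem _, by simp⟩
    | add a b _ _ ha hb =>
      obtain ⟨w, hw, e⟩ := ha; obtain ⟨w', hw', e'⟩ := hb
      exact ⟨w + w', Ideal.add_mem _ hw hw', by rw [smul_add, e, e', map_add]⟩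
    | smul r a _ ha =>
      obtain ⟨w, hw, e⟩ := ha
      exact ⟨r * w, Ideal.mul_mem_left _ _ hw, by rw [smul_comm, e, map_mul, Algebra.smul_def]⟩
  obtain ⟨w, hw, hwe⟩ := hkey _ hc
  have hnumc : algebraMap A Ah (num c) = w := by
    apply hinj
    rw [← hwe, ← hΘ, hnum c (Finset.mem_insert_self c s), Algebra.smul_def, Algebra.smul_def, map_mul, hΘ]
  have hcI : num c ∈ I := by
    rw [← Ideal.comap_map_eq_self_of_faithfullyFlat (B := Ah) I, Ideal.mem_comap, hnumc]; exact hw
  have hlin : ∀ r ∈ I, ∃ e ∈ Submodule.span A (s : Set (integralClosure A K)), algebraMap A K r = d • (e : K) := by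
    intro r hr
    induction hr using Submodule.span_induction with
    | mem r hr =>
      obtain ⟨z, hz, rfl⟩ := hr
      exact ⟨z, Submodule.subset_span hz, hnum z (Finset.mem_insert_of_mem hz)⟩
    | zero => exact ⟨0, Submodule.zero_mem _, by simp⟩
    | add a b _ _ ha hb =>
      obtain ⟨e, he, h1⟩ := ha; obtain ⟨e', he', h2⟩ := hb
      exact ⟨e + e', Submodule.add_mem _ he he', by rw [map_add, h1, h2, ← smul_add]; rfl⟩
    | smul r a _ ha =>
      obtain ⟨e, he, h1⟩ := ha
      refine ⟨r • e, Submodule.smul_mem _ r he, ?_⟩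
      rw [smul_eq_mul, map_mul, h1, SetLike.val_smul, smul_comm, Algebra.smul_def r]
  obtain ⟨e, he, hee⟩ := hlin _ hcI
  rw [hnum c (Finset.mem_insert_self c s)] at hee
  have : c = e := Subtype.ext (by
    rw [Algebra.smul_def, Algebra.smul_def] at hee
    exact mul_left_cancel₀ ((map_ne_zero_iff _ (IsFractionRing.injective A K)).mpr hd0) hee)
  rw [this]; exact he

/-- The normalization is finite when the affine coordinate rings are N-1. -/
theorem isFinite_normalizationι_of_isN1 {Y : Scheme.{u}} [IsIntegral Y] [IsLocallyNoetherian Y]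
    [QuasiCompact (Y.fromSpecStalk (genericPoint Y))] [QuasiSeparated (Y.fromSpecStalk (genericPoint Y))]
    (h : ∀ (U : Y.Opens) [Nonempty U], IsAffineOpen U → IsN1 Γ(Y, U)) :
    IsFinite (Curv2.normalizationι Y) := by
  let gY := Y.fromSpecStalk (genericPoint Y)
  let φ : Y.functionField →+* Y.functionField := RingHom.id _
  have hg : gY = Spec.map (CommRingCat.ofHom φ) ≫ Y.fromSpecStalk (genericPoint Y) := by
    rw [show CommRingCat.ofHom φ = 𝟙 _ from rfl, Spec.map_id, Category.id_comp]
  haveI : IsAffineHom (Curv2.normalizationι Y) := inferInstanceAs (IsAffineHom gY.fromNormalization)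
  refine ⟨fun U hU => ?_⟩
  show (gY.fromNormalization.app U).hom.Finite
  rcases (U : Set Y).eq_empty_or_nonempty with hE | ⟨y, hy⟩
  · have hU0 : U = ⊥ := TopologicalSpace.Opens.ext hE
    subst hU0
    exact RingHom.Finite.of_surjective _ fun x =>
      ⟨0, @Subsingleton.elim _ (inferInstanceAs (Subsingleton Γ(gY.normalization, ⊥))) _ _⟩
  haveI : Nonempty U := ⟨⟨y, hy⟩⟩
  haveI : IsNoetherianRing Γ(Y, U) := IsLocallyNoetherian.component_noetherian ⟨U, hU⟩
  haveI := functionField_isFractionRing_of_isAffineOpen Y U hU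
  letI := (gY.fromNormalization.app U).hom.toAlgebra
  show Module.Finite Γ(Y, U) Γ(gY.normalization, gY.fromNormalization ⁻¹ᵁ U)
  haveI hfin : Module.Finite Γ(Y, U) (integralClosure Γ(Y, U) Y.functionField) :=
    (isN1_iff_finite Y.functionField).1 (h U hU)
  let θ := (normToK φ gY hg U hU).hom
  have hθ : ∀ a, θ (gY.fromNormalization.app U a) = Y.germToFunctionField U a :=
    fun a => normToK_fromNormalization φ gY hg U hU a
  let L : Γ(gY.normalization, gY.fromNormalization ⁻¹ᵁ U) →ₗ[Γ(Y, U)] integralClosure Γ(Y, U) Y.functionField :=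
    { toFun := fun v => ⟨θ v, (mem_range_normToK φ gY hg U hU (θ v)).1 ⟨v, rfl⟩⟩
      map_add' := fun a b => Subtype.ext (map_add θ a b)
      map_smul' := fun r a => Subtype.ext (by
        show θ (gY.fromNormalization.app U r * a) = algebraMap Γ(Y, U) Y.functionField r * θ a
        rw [map_mul, hθ]; rfl) }
  exact Module.Finite.of_injective L fun a b hab => injective_normToK φ gY hg U hU (congrArg Subtype.val hab)

/-- A finite type domain over an analytically arbitrary Noetherian local ring is N-1 when its base change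
to the completion is reduced. -/
theorem isN1_of_isReduced_baseChange (A : Type u) [CommRing A] [IsLocalRing A] [IsNoetherianRing A]
    (B : Type u) [CommRing B] [IsDomain B] [Algebra A B] [Algebra.FiniteType A B]
    [IsReduced (B ⊗[A] AdicCompletion (maximalIdeal A) A)] : IsN1 B := by
  let Ah := AdicCompletion (maximalIdeal A) A
  haveI : IsNoetherianRing Ah := Groth.Agent.Matlis6.isNoetherianRing_adicCompletion (maximalIdeal A)
  haveI : Module.FaithfullyFlat A Ah := Module.FaithfullyFlat.of_flat_of_isLocalHom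
  haveI : IsNoetherianRing B := Algebra.FiniteType.isNoetherianRing A B
  letI : Algebra Ah (B ⊗[A] Ah) := Algebra.TensorProduct.rightAlgebra
  haveI : Algebra.FiniteType Ah (B ⊗[A] Ah) := Algebra.FiniteType.of_surjective
    ({ (Algebra.TensorProduct.comm A Ah B).toRingEquiv with
        commutes' := fun r => by simp [RingHom.algebraMap_toAlgebra] } : Ah ⊗[A] B ≃ₐ[Ah] B ⊗[A] Ah).toAlgHom
    (AlgEquiv.surjective _)
  haveI : IsAdicComplete (maximalIdeal Ah) Ah := inferInstance
  exact isN1_of_faithfullyFlat_nagata (isNagata_of_finiteType (isNagata_of_complete_local Ah) (B ⊗[A] Ah))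

end Groth.Agent.Resolve13
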