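import Groth.Agent.Resolve13.CurveBlowUp
import Groth.Agent.Resolve13.NormFinite
import Groth.Agent.BMLib.NormBirat
import Groth.Agent.SDiv28.ClosedMap
import Groth.Agent.CAlgH3.Serre

/-!
# Lifting point blow-ups of a closed subscheme to the ambient scheme
-/

set_option autoImplicit false
set_option linter.style.haveILetI false
set_option backward.isDefEq.respectTransparency false
set_option maxHeartbeats 1000000

universe u

open CategoryTheory CategoryTheory.Limits AlgebraicGeometry TopologicalSpace IsLocalRing Opposite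

namespace Groth.Agent.Resolve13

theorem comap_vanishingIdeal_point_closed {T X : Scheme.{u}} (j : T ⟶ X) [IsClosedImmersion j] (t : T)
    (ht : IsClosed ({t} : Set T)) (hx : IsClosed ({j t} : Set X)) :
    (Scheme.IdealSheafData.vanishingIdeal ⟨{j t}, hx⟩).comap j = Scheme.IdealSheafData.vanishingIdeal ⟨{t}, ht⟩ := by
  let I := Scheme.IdealSheafData.vanishingIdeal ⟨{j t}, hx⟩
  have hsupp : (I.support : Set X) = {j t} := Scheme.IdealSheafData.coe_support_vanishingIdeal _
  haveI : IsReduced I.subscheme := Props12.isReduced_subscheme_vanishingIdeal _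
  haveI : IsClosedImmersion (pullback.snd j I.subschemeι) := MorphismProperty.pullback_snd _ _ inferInstance
  haveI : Surjective (pullback.snd j I.subschemeι) := ⟨fun w => by
    have : w ∈ Set.range (pullback.snd j I.subschemeι).base := by
      rw [Scheme.Pullback.range_snd]
      exact ⟨t, (Set.mem_singleton_iff.1 (hsupp.le (I.range_subschemeι.le ⟨w, rfl⟩))).symm⟩
    exact this⟩
  haveI : IsIso (pullback.snd j I.subschemeι) := isIso_of_isClosedImmersion_of_surjective _
  haveI : IsReduced (pullback j I.subschemeι) := isReduced_of_isOpenImmersion (pullback.snd j I.subschemeι)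
  haveI : IsReduced (I.comap j).subscheme := isReduced_of_isOpenImmersion (I.comapIso j).hom
  rw [Models7.eq_vanishingIdeal_of_isReduced (I.comap j)]
  congr 1
  refine Closeds.ext ?_
  show ((I.comap j).support : Set T) = {t}
  rw [Scheme.IdealSheafData.support_comap]
  show j.base ⁻¹' (I.support : Set X) = {t}
  rw [hsupp]
  exact Set.ext fun w => ⟨fun h => j.isClosedEmbedding.injective h, fun h => by rw [Set.mem_singleton_iff.1 h]; rfl⟩

theorem exists_lift_closed {Y' Y : Scheme.{u}} {r : Y' ⟶ Y} (hr : Resolve.IsPtBlowupSeq r) :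
    ∀ {X : Scheme.{u}} (j : Y ⟶ X) [IsClosedImmersion j],
      ∃ (X' : Scheme.{u}) (g : X' ⟶ X) (j' : Y' ⟶ X'), Resolve.IsPtBlowupSeq g ∧ IsClosedImmersion j' ∧
        j' ≫ g = r ≫ j := by
  induction hr with
  | @iso W Z e =>
    intro X j _
    exact ⟨X, 𝟙 X, e.hom ≫ j, Resolve.IsPtBlowupSeq.iso (Iso.refl X), inferInstance, Category.comp_id _⟩
  | @step W Z Y b r z hz hb _ ih =>
    intro X j _
    obtain ⟨X₁, g, j₁, hg, hj₁, hcomm⟩ := ih j
    haveI := hj₁
    have hz' : IsClosed ({j₁ z} : Set X₁) := by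
      have h := j₁.isClosedMap _ hz
      rwa [Set.image_singleton] at h
    obtain ⟨X₂, β, hβ⟩ := BlowUpLib.exists_isBlowUp (Scheme.IdealSheafData.vanishingIdeal ⟨{j₁ z}, hz'⟩)
    have hb' : BlowUp.IsBlowUp b ((Scheme.IdealSheafData.vanishingIdeal ⟨{j₁ z}, hz'⟩).comap j₁) := by
      rw [comap_vanishingIdeal_point_closed j₁ z hz hz']; exact hb
    obtain ⟨j₂, hj₂, -⟩ := hβ.2 W (b ≫ j₁) (by rw [Scheme.IdealSheafData.comap_comp]; exact hb'.1)
    refine ⟨X₂, β ≫ g, j₂, Resolve.IsPtBlowupSeq.step β g _ hz' hβ hg,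
      SDiv28.isClosedImmersion_blowUp_map j₁ hβ hb' hj₂, ?_⟩
    rw [← Category.assoc, show j₂ ≫ β = b ≫ j₁ from hj₂, Category.assoc, hcomm, Category.assoc]

/-- A curve with finite normalization becomes regular after point blow-ups. -/
theorem exists_regular_of_finite_normalization {Y : Scheme.{u}} [IsIntegral Y] [IsNoetherian Y]
    (hdim : topologicalKrullDim Y = 1)
    [QuasiCompact (Y.fromSpecStalk (genericPoint Y))] [QuasiSeparated (Y.fromSpecStalk (genericPoint Y))]
    [IsFinite (Curv2.normalizationι Y)] :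
    ∃ (Y' : Scheme.{u}) (r : Y' ⟶ Y), Resolve.IsPtBlowupSeq r ∧ IsIntegral Y' ∧ IsProper r ∧
      (∃ V : Y.Opens, (V : Set Y).Nonempty ∧ IsIso (r ∣_ V)) ∧ ∀ y : Y', IsRegularLocalRing (Y'.presheaf.stalk y) := by
  obtain ⟨U, hU, hiso⟩ := BMLib.exists_isIso_normalization (X := Y)
  haveI := hiso
  haveI hint : IsIntegral (Curv2.normalization Y) :=
    inferInstanceAs (IsIntegral (Y.fromSpecStalk (genericPoint Y)).normalization)
  haveI : IsLocallyNoetherian (Curv2.normalization Y) :=
    LocallyOfFiniteType.isLocallyNoetherian (Curv2.normalizationι Y)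
  have hN : Pi1.IsNormalScheme (Curv2.normalization Y) :=
    NormalizationLib.isNormal (RingHom.id Y.functionField) (Y.fromSpecStalk (genericPoint Y))
      (by rw [show CommRingCat.ofHom (RingHom.id Y.functionField) = 𝟙 _ from rfl, Spec.map_id, Category.id_comp])
  obtain ⟨Y', r, hr, hreg⟩ := exists_ptBlowupSeq_regular hdim.le (Curv2.normalizationι Y)
    (Coherent.birational_of_isIso_morphismRestrict _ U hU.nonempty).1 fun x => by
      obtain ⟨hd, hic⟩ := hN x
      haveI := hd
      haveI := hic
      exact CAlgH3.isRegularLocalRing_of_normal_dim_le_one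
        ((CurvesLib24.stalk_dim_le_topologicalKrullDim x).trans
          ((AlgSpLib.topologicalKrullDim_le_of_isIntegralHom (Curv2.normalizationι Y)).trans hdim.le))
  obtain ⟨h1, -, h3, -, h5⟩ := ptBlowupSeq_invariant hr inferInstance inferInstance
    (fun {_} => CurvesLib24.not_isClosed_genericPoint hdim)
  exact ⟨Y', r, hr, h1, h3, h5, hreg⟩

end Groth.Agent.Resolve13
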