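import Groth.Agent.Resolve13.StrictLength
import Groth.Agent.Resolve13.Principal
import Groth.Agent.Resolve13.CurveBlowUp
import Groth.Agent.CurvesLib24.Basic

/-!
# Curves on a regular surface, seen through their generic points

A curve is recorded by its generic point `x`; its ideal is the vanishing ideal of the closure of `x`.
-/

set_option autoImplicit false
set_option linter.style.haveILetI false
set_option backward.isDefEq.respectTransparency false
set_option maxHeartbeats 1000000

universe u

open CategoryTheory CategoryTheory.Limits AlgebraicGeometry TopologicalSpace IsLocalRing Opposite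
open Groth.Agent.Misc15.DivDescent Groth.Agent.SDiv28.CartierPart

namespace Groth.Agent.Resolve13

section Algebra

variable {R : Type*} [CommRing R]

/-- In a domain of dimension at most two there is at most one prime strictly between zero and a
non-maximal prime. -/
theorem prime_eq_of_le [IsDomain R] [IsLocalRing R] (hdim : ringKrullDim R ≤ 2) {P Q : Ideal R}
    [P.IsPrime] [Q.IsPrime] (hQ : Q ≠ ⊥) (hQP : Q ≤ P) (hP : P ≠ maximalIdeal R) : Q = P := by
  by_contra hne
  let p₀ : PrimeSpectrum R := ⟨⊥, Ideal.isPrime_bot⟩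
  let p₁ : PrimeSpectrum R := ⟨Q, inferInstance⟩
  let p₂ : PrimeSpectrum R := ⟨P, inferInstance⟩
  let p₃ : PrimeSpectrum R := closedPoint R
  have h01 : p₀ < p₁ := lt_of_le_of_ne bot_le fun h => hQ (congrArg PrimeSpectrum.asIdeal h).symm
  have h12 : p₁ < p₂ := lt_of_le_of_ne hQP fun h => hne (congrArg PrimeSpectrum.asIdeal h)
  have h23 : p₂ < p₃ := lt_of_le_of_ne (le_maximalIdeal (Ideal.IsPrime.ne_top inferInstance))
    fun h => hP (congrArg PrimeSpectrum.asIdeal h)
  have h := Order.LTSeries.length_le_krullDim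
    ((((RelSeries.singleton _ p₀).snoc p₁ h01).snoc p₂ (by simpa using h12)).snoc p₃ (by simpa using h23))
  simp only [RelSeries.snoc_length, RelSeries.singleton_length] at h
  have := h.trans hdim
  norm_cast at this

/-- A nonzero non-maximal prime of a factorial domain of dimension at most two is principal. -/
theorem exists_prime_gen [IsDomain R] [IsLocalRing R] [UniqueFactorizationMonoid R]
    (hdim : ringKrullDim R ≤ 2) {P : Ideal R} [P.IsPrime] (h0 : P ≠ ⊥) (hP : P ≠ maximalIdeal R) :
    ∃ f, P = Ideal.span {f} := by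
  obtain ⟨f, hfP, hf⟩ := Ideal.IsPrime.exists_mem_prime_of_ne_bot (inferInstance : P.IsPrime) h0
  haveI : (Ideal.span {f}).IsPrime := (Ideal.span_singleton_prime hf.ne_zero).2 hf
  exact ⟨f, (prime_eq_of_le hdim (by simpa using hf.ne_zero) ((Ideal.span_singleton_le_iff_mem _).2 hfP) hP).symm⟩

/-- Two incomparable principal primes meet in their product. -/
theorem span_inf_span [IsDomain R] {f g : R} (hf : (Ideal.span {f}).IsPrime) (hg : (Ideal.span {g}).IsPrime)
    (hne : ¬ Ideal.span {f} ≤ Ideal.span {g}) :
    Ideal.span {f} ⊓ Ideal.span {g} = Ideal.span {f * g} := by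
  refine le_antisymm ?_ (le_inf ?_ ?_)
  · rintro a ⟨ha, hb⟩
    obtain ⟨c, rfl⟩ := Ideal.mem_span_singleton'.1 ha
    have hc := (hg.mem_or_mem hb).resolve_right fun h => hne ((Ideal.span_singleton_le_iff_mem _).2 h)
    obtain ⟨e, rfl⟩ := Ideal.mem_span_singleton'.1 hc
    exact Ideal.mem_span_singleton'.2 ⟨e, by ring⟩
  · exact (Ideal.span_singleton_le_iff_mem _).2 (Ideal.mem_span_singleton'.2 ⟨g, mul_comm _ _⟩)
  · exact (Ideal.span_singleton_le_iff_mem _).2 (Ideal.mem_span_singleton'.2 ⟨f, rfl⟩)

end Algebra

variable {X : Scheme.{u}}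

/-- The ideal of the closure of a point. -/
noncomputable def cI (x : X) : X.IdealSheafData :=
  Scheme.IdealSheafData.vanishingIdeal ⟨closure {x}, isClosed_closure⟩

theorem coe_support_cI (x : X) : ((cI x).support : Set X) = closure {x} :=
  Scheme.IdealSheafData.coe_support_vanishingIdeal _

theorem mem_support_cI {x p : X} : p ∈ (cI x).support ↔ x ⤳ p := by
  rw [specializes_iff_mem_closure, ← coe_support_cI]
  rfl

instance (x : X) : IsIntegral (cI x).subscheme := by
  haveI : IsReduced (cI x).subscheme := Props12.isReduced_subscheme_vanishingIdeal _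
  have hr : Set.range (cI x).subschemeι.base = closure {x} := (cI x).range_subschemeι.trans (coe_support_cI x)
  haveI : IrreducibleSpace (cI x).subscheme := by
    obtain ⟨a, ha⟩ := hr.ge (subset_closure rfl)
    refine @IrreducibleSpace.mk _ _ ⟨?_⟩ ⟨a⟩
    have hu : closure {a} = (Set.univ : Set (cI x).subscheme) := by
      refine Set.eq_univ_of_forall fun w => ?_
      rw [← specializes_iff_mem_closure]
      refine (cI x).subschemeι.isClosedEmbedding.isInducing.specializes_iff.1 ?_
      rw [ha, specializes_iff_mem_closure]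
      exact hr.le ⟨w, rfl⟩
    rw [← hu]
    exact isIrreducible_singleton.closure.2
  exact isIntegral_of_irreducibleSpace_of_isReduced _

theorem gen_cI (x : X) : gen (cI x) = x := by
  refine (isGenericPoint_gen (cI x)).eq ?_
  rw [coe_support_cI]
  exact isGenericPoint_closure

theorem isPrime_stk_cI {x p : X} (h : x ⤳ p) : (stk (cI x) p).IsPrime :=
  isPrime_stk (mem_support_cI.2 h)

/-- The stalk of the ideal of the closure of a point is the prime of that point. -/
theorem exists_prime_cI {x p : X} (h : x ⤳ p) :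
    ∃ Q : PrimeSpectrum (X.presheaf.stalk p), X.fromSpecStalk p Q = x ∧ Q.asIdeal = stk (cI x) p := by
  let i := X.fromSpecStalk p
  let P : PrimeSpectrum (X.presheaf.stalk p) := ⟨stk (cI x) p, isPrime_stk_cI h⟩
  have hmem : i P ∈ ((cI x).support : Set X) := (Inters29.fromSpecStalk_mem_support_iff (cI x) P).2 le_rfl
  obtain ⟨Q, hQ⟩ : x ∈ Set.range i := Scheme.range_fromSpecStalk.ge h
  let Q' : PrimeSpectrum (X.presheaf.stalk p) := Q
  refine ⟨Q', hQ, le_antisymm ?_ ((Inters29.fromSpecStalk_mem_support_iff (cI x) Q').1 (hQ ▸ mem_support_cI.2 specializes_rfl))⟩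
  have h1 : i Q ⤳ i P := hQ.symm ▸ mem_support_cI.1 hmem
  exact (PrimeSpectrum.le_iff_specializes Q' P).2 (i.isEmbedding.specializes_iff.1 h1)

theorem cI_le_iff {x y p : X} (hx : x ⤳ p) (hy : y ⤳ p) :
    stk (cI x) p ≤ stk (cI y) p ↔ x ⤳ y := by
  obtain ⟨Q, hQ, hQe⟩ := exists_prime_cI hx
  obtain ⟨R, hR, hRe⟩ := exists_prime_cI hy
  rw [← hQe, ← hRe, ← hQ, ← hR]
  refine (PrimeSpectrum.le_iff_specializes Q R).trans ?_
  exact ((X.fromSpecStalk p).isEmbedding.specializes_iff).symm

theorem stk_cI_eq_max_iff {x p : X} (hx : x ⤳ p) :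
    stk (cI x) p = maximalIdeal (X.presheaf.stalk p) ↔ p ⤳ x := by
  obtain ⟨Q, hQ, hQe⟩ := exists_prime_cI hx
  refine ⟨fun h => ?_, fun h => ?_⟩
  · have : Q = closedPoint (X.presheaf.stalk p) := PrimeSpectrum.ext (hQe.trans h)
    rw [← hQ, this, Scheme.fromSpecStalk_closedPoint]
  · refine le_antisymm (le_maximalIdeal (isPrime_stk_cI hx).ne_top) ?_
    have h1 : X.fromSpecStalk p (closedPoint (X.presheaf.stalk p)) ⤳ X.fromSpecStalk p Q := by
      rw [hQ, Scheme.fromSpecStalk_closedPoint]; exact h
    rw [← hQe]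
    exact (PrimeSpectrum.le_iff_specializes (closedPoint (X.presheaf.stalk p)) Q).2
      ((X.fromSpecStalk p).isEmbedding.specializes_iff.1 h1)

/-- The generic point of a curve on a surface: neither closed nor generic. -/
def IsCurvePt (x : X) : Prop := ¬ IsClosed ({x} : Set X) ∧ ∃ p, ¬ x ⤳ p

theorem IsCurvePt.ne_genericPoint [IrreducibleSpace X] {x : X} (h : IsCurvePt x) : x ≠ genericPoint X := by
  rintro rfl
  exact h.2.choose_spec (genericPoint_specializes _)

theorem isCurvePt_of_ne [IrreducibleSpace X] {x : X} (h : ¬ IsClosed ({x} : Set X)) (h0 : x ≠ genericPoint X) :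
    IsCurvePt x :=
  ⟨h, genericPoint X, fun h' => h0 (h'.antisymm (genericPoint_specializes x)).eq⟩

variable [IsIntegral X]

theorem cI_ne_bot {x : X} (h : IsCurvePt x) : cI x ≠ ⊥ :=
  ne_bot_of_notMem _ (x := genericPoint X) fun hh => h.ne_genericPoint
    ((mem_support_cI.1 hh).antisymm (genericPoint_specializes x)).eq

variable (hX : topologicalKrullDim X ≤ 2)
include hX

theorem isClosed_of_curvePt {x p : X} (hx : IsCurvePt x) (h : x ⤳ p) (hne : p ≠ x) :
    IsClosed ({p} : Set X) := by
  by_contra hc
  obtain ⟨q, hq, hqp⟩ : ∃ q ∈ closure ({p} : Set X), q ≠ p := by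
    by_contra h'
    push Not at h'
    exact hc (closure_subset_iff_isClosed.mp fun q hq => h' q hq)
  have h1 : q < p := lt_of_le_not_ge (specializes_iff_mem_closure.mpr hq)
    fun h' => hqp (Specializes.antisymm h' (specializes_iff_mem_closure.mpr hq)).eq
  have h2 : p < x := lt_of_le_not_ge h fun h' => hne (Specializes.antisymm h' h).eq
  have h3 : x < genericPoint X := lt_of_le_not_ge (genericPoint_specializes x)
    fun h' => hx.ne_genericPoint (Specializes.antisymm h' (genericPoint_specializes x)).eq
  have a := Order.coheight_add_one_le h3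
  have b := Order.coheight_add_one_le h2
  have c := Order.coheight_add_one_le h1
  have d := (CurvesLib24.stalk_dim_le_topologicalKrullDim q).trans hX
  rw [ringKrullDim_stalk_eq_coheight] at d
  have d' : Order.coheight q ≤ (2 : ℕ∞) := WithBot.coe_le_coe.1 d
  have e : (3 : ℕ∞) ≤ Order.coheight q := by
    calc (3 : ℕ∞) = 0 + 1 + 1 + 1 := by norm_num
      _ ≤ Order.coheight (genericPoint X) + 1 + 1 + 1 := by gcongr; exact zero_le
      _ ≤ Order.coheight x + 1 + 1 := by gcongr
      _ ≤ Order.coheight p + 1 := by gcongr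
      _ ≤ Order.coheight q := c
  exact absurd (e.trans d') (by norm_num)

theorem stalk_dim_eq_two {x p : X} (hx : IsCurvePt x) (h : x ⤳ p) (hne : p ≠ x) :
    ringKrullDim (X.presheaf.stalk p) = 2 := by
  refine le_antisymm ((CurvesLib24.stalk_dim_le_topologicalKrullDim p).trans hX) ?_
  have h2 : p < x := lt_of_le_not_ge h fun h' => hne (Specializes.antisymm h' h).eq
  have h3 : x < genericPoint X := lt_of_le_not_ge (genericPoint_specializes x)
    fun h' => hx.ne_genericPoint (Specializes.antisymm h' (genericPoint_specializes x)).eq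
  have e : (2 : ℕ∞) ≤ Order.coheight p := by
    calc (2 : ℕ∞) = 0 + 1 + 1 := by norm_num
      _ ≤ Order.coheight (genericPoint X) + 1 + 1 := by gcongr; exact zero_le
      _ ≤ Order.coheight x + 1 := by gcongr; exact Order.coheight_add_one_le h3
      _ ≤ Order.coheight p := Order.coheight_add_one_le h2
  rw [ringKrullDim_stalk_eq_coheight]
  exact WithBot.coe_le_coe.2 e

theorem topologicalKrullDim_cI_le {x : X} (hx : IsCurvePt x) :
    topologicalKrullDim (cI x).subscheme ≤ 1 := by
  refine Order.krullDim_le_one_iff.2 fun Z => ?_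
  obtain ⟨a, ha⟩ := QuasiSober.sober Z.isIrreducible Z.isClosed
  have hι : (cI x).subschemeι (genericPoint (cI x).subscheme) = x := gen_cI x
  by_cases h : (cI x).subschemeι a = x
  · refine Or.inr fun W hW => ?_
    have : a = genericPoint (cI x).subscheme := (cI x).subschemeι.isClosedEmbedding.injective (h.trans hι.symm)
    intro w _
    show w ∈ (Z : Set _)
    rw [← ha.def, this, genericPoint_closure]
    trivial
  · refine Or.inl fun W hW => ?_
    have hc : IsClosed ({(cI x).subschemeι a} : Set X) :=
      isClosed_of_curvePt hX hx (mem_support_cI.1 ((cI x).range_subschemeι.le ⟨a, rfl⟩)) h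
    intro w hw
    have hw' : w ∈ (Z : Set _) := hw
    rw [← ha.def, ← specializes_iff_mem_closure] at hw'
    have hwa : (cI x).subschemeι a = (cI x).subschemeι w :=
      ((hw'.map (cI x).subschemeι.continuous).mem_closed hc rfl).symm
    obtain ⟨v, hv⟩ := W.isIrreducible.1
    have hv' : v ∈ (Z : Set _) := hW hv
    rw [← ha.def, ← specializes_iff_mem_closure] at hv'
    have hva : (cI x).subschemeι a = (cI x).subschemeι v :=
      ((hv'.map (cI x).subschemeι.continuous).mem_closed hc rfl).symm
    show w ∈ (W : Set _)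
    rw [← (cI x).subschemeι.isClosedEmbedding.injective (hva.symm.trans hwa)]
    exact hv

theorem topologicalKrullDim_cI_eq {x : X} (hx : IsCurvePt x) :
    topologicalKrullDim (cI x).subscheme = 1 := by
  refine le_antisymm (topologicalKrullDim_cI_le hX hx) ?_
  obtain ⟨q, hq, hqx⟩ : ∃ q ∈ closure ({x} : Set X), q ≠ x := by
    by_contra h'
    push Not at h'
    exact hx.1 (closure_subset_iff_isClosed.mp fun q hq => h' q hq)
  obtain ⟨a, ha⟩ : q ∈ Set.range (cI x).subschemeι.base :=
    (cI x).range_subschemeι.ge (mem_support_cI.2 (specializes_iff_mem_closure.2 hq))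
  have h1 : (cI x).subschemeι (genericPoint (cI x).subscheme) = x := gen_cI x
  have hlt : a < genericPoint (cI x).subscheme := lt_of_le_not_ge (genericPoint_specializes a) fun h' =>
    hqx (by rw [← ha, (Specializes.antisymm h' (genericPoint_specializes a)).eq]; exact h1)
  refine le_trans ?_ (CurvesLib24.stalk_dim_le_topologicalKrullDim a)
  rw [ringKrullDim_stalk_eq_coheight]
  exact_mod_cast le_trans le_add_self (Order.coheight_add_one_le hlt)

omit hX in
/-- The curve points in a proper closed subset of a Noetherian scheme are finite in number. -/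
theorem finite_curvePts [IsNoetherian X] (hX : topologicalKrullDim X ≤ 2) (S : Set X) (hS : IsClosed S)
    (hη : genericPoint X ∉ S) : {x ∈ S | IsCurvePt x}.Finite := by
  have hfin : (irreducibleComponents S).Finite := NoetherianSpace.finite_irreducibleComponents
  have key : ∀ x ∈ {x ∈ S | IsCurvePt x}, ∀ w ∈ S, w ⤳ x → w = x := fun x hx w hw hwx => by
    by_contra hne
    by_cases hwc : IsClosed ({w} : Set X)
    · exact hne (hwx.mem_closed hwc rfl).symm
    · exact hx.2.1 (isClosed_of_curvePt hX (isCurvePt_of_ne hwc fun h => hη (h ▸ hw)) hwx (Ne.symm hne))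
  let f : irreducibleComponents S → X := fun Z =>
    (QuasiSober.sober ((Z.2.1.image Subtype.val continuous_subtype_val.continuousOn).closure) isClosed_closure).choose
  haveI := hfin.to_subtype
  refine (Set.finite_range f).subset fun x hx => ?_
  obtain ⟨Z, hZ, hxZ⟩ := exists_mem_irreducibleComponents_subset_of_isIrreducible {(⟨x, hx.1⟩ : S)} isIrreducible_singleton
  let hg := (QuasiSober.sober ((hZ.1.image Subtype.val continuous_subtype_val.continuousOn).closure) isClosed_closure).choose_spec
  refine ⟨⟨Z, hZ⟩, key x hx _ (closure_minimal (by rintro _ ⟨v, -, rfl⟩; exact v.2) hS hg.mem) ?_⟩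
  exact hg.specializes (subset_closure ⟨⟨x, hx.1⟩, hxZ rfl, rfl⟩)

end Groth.Agent.Resolve13
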