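import Groth.Agent.Resolve13.StrictLength
import Groth.Agent.H8Top.SchemeBasic
import Groth.Agent.Coherent.BirationalFibre
import Groth.Agent.Coherent.Chow

/-!
# Separating finitely many curves by point blow-ups

A family of curves is carried by finite morphisms from fixed regular curves `N i`: the strict transforms
are their images, and both regularity and disjointness are reached by increasing ideals on the `N i`.
-/

set_option autoImplicit false
set_option linter.style.haveILetI false
set_option backward.isDefEq.respectTransparency false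
set_option maxHeartbeats 1000000

universe u

open CategoryTheory CategoryTheory.Limits AlgebraicGeometry TopologicalSpace IsLocalRing Opposite
open Groth.Agent.Misc15.DivDescent Groth.Agent.SDiv28.CartierPart

namespace Groth.Agent.Resolve13

theorem ptBlowupSeq_trans {W Y : Scheme.{u}} {s : W ⟶ Y} (hs : Resolve.IsPtBlowupSeq s) :
    ∀ {X : Scheme.{u}} {r : Y ⟶ X}, Resolve.IsPtBlowupSeq r → Resolve.IsPtBlowupSeq (s ≫ r) := by
  induction hs with
  | iso e =>
    intro X r hr
    rename_i W' Y'
    induction hr generalizing W' with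
    | iso e' => exact (Iso.trans_hom e e') ▸ Resolve.IsPtBlowupSeq.iso (e ≪≫ e')
    | step b r z hz hb hr _ =>
      rw [← Category.assoc]
      exact Resolve.IsPtBlowupSeq.step (e.hom ≫ b) r z hz (Models7.isBlowUp_iso_comp e hb) hr
  | step b r z hz hb _ ih =>
    intro X r' hr'
    rw [Category.assoc]
    exact Resolve.IsPtBlowupSeq.step b _ z hz hb (ih hr')

theorem ptBlowupSeq_proper {X' X : Scheme.{u}} {g : X' ⟶ X} (hg : Resolve.IsPtBlowupSeq g) :
    IsLocallyNoetherian X → IsProper g ∧ IsLocallyNoetherian X' := by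
  induction hg with
  | iso e => exact fun h => ⟨inferInstance, haveI := h; LocallyOfFiniteType.isLocallyNoetherian e.hom⟩
  | @step W Z X b r z hz hb _ ih =>
    intro h
    obtain ⟨hr, hZ⟩ := ih h
    haveI := hr
    haveI := hZ
    haveI : IsProper b := BlowUpLib.isProper_of_isBlowUp hb (FlatMorAdm.isFiniteTypeIdeal_of_noetherian _)
    exact ⟨inferInstance, LocallyOfFiniteType.isLocallyNoetherian b⟩

theorem not_isClosed_of_comp {N X' X : Scheme.{u}} [IrreducibleSpace N] (h : N ⟶ X') (g : X' ⟶ X) [IsProper g]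
    (h₀ : N ⟶ X) (e : h ≫ g = h₀) (hc : ¬ IsClosed ({h₀ (genericPoint N)} : Set X)) :
    ¬ IsClosed ({h (genericPoint N)} : Set X') := fun hh => hc (by
  have h' := g.isClosedMap _ hh
  rwa [Set.image_singleton, show g (h (genericPoint N)) = h₀ (genericPoint N) by rw [← e, Scheme.Hom.comp_apply]] at h')

/-- A finite map from a regular curve lifts along the blow-up of a point. -/
theorem exists_lift_point {N X X' : Scheme.{u}} [IsIntegral N] [IsLocallyNoetherian N] [IsLocallyNoetherian X]
    (hdN : topologicalKrullDim N ≤ 1) (hN : ∀ x : N, IsRegularLocalRing (N.presheaf.stalk x))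
    (h : N ⟶ X) [IsFinite h] (hc : ¬ IsClosed ({h (genericPoint N)} : Set X)) (z : X) (hz : IsClosed ({z} : Set X))
    (b : X' ⟶ X) (hb : BlowUp.IsBlowUp b (Scheme.IdealSheafData.vanishingIdeal ⟨{z}, hz⟩)) :
    ∃ h₁ : N ⟶ X', IsFinite h₁ ∧ h₁ ≫ b = h := by
  let I := Scheme.IdealSheafData.vanishingIdeal (X := X) ⟨{z}, hz⟩
  have hη : h (genericPoint N) ∉ I.support := fun hh =>
    hc ((Set.mem_singleton_iff.1 ((Scheme.IdealSheafData.coe_support_vanishingIdeal _).le hh)) ▸ hz)
  have hcart : BlowUp.IsEffCartierIdeal (I.comap h) := by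
    refine Inters29.isEffCartier_of_stk _ fun w => ⟨?_, stk_ne_bot _ (ne_bot_of_notMem _ (x := genericPoint N) fun hh => hη ?_) w⟩
    · haveI := CurvesLib24.isPrincipalIdealRing_stalk hdN w (Models7.isNormalScheme_of_regular hN w).2
      exact IsPrincipalIdealRing.principal _
    · have hh' : genericPoint N ∈ ((I.comap h).support : Set N) := hh
      rw [Scheme.IdealSheafData.support_comap] at hh'
      exact hh'
  obtain ⟨h₁, hh₁, -⟩ := hb.2 N h hcart
  change h₁ ≫ b = h at hh₁
  haveI : IsProper b := BlowUpLib.isProper_of_isBlowUp hb (FlatMorAdm.isFiniteTypeIdeal_of_noetherian I)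
  haveI : IsFinite (h₁ ≫ b) := hh₁.symm ▸ inferInstanceAs (IsFinite h)
  exact ⟨h₁, IsFinite.of_comp h₁ b, hh₁⟩

/-- A finite map from a regular curve lifts along point blow-ups. -/
theorem exists_lift_seq {X' X : Scheme.{u}} {g : X' ⟶ X} (hg : Resolve.IsPtBlowupSeq g) :
    IsLocallyNoetherian X → ∀ {N : Scheme.{u}} [IsIntegral N] [IsLocallyNoetherian N],
      topologicalKrullDim N ≤ 1 → (∀ x : N, IsRegularLocalRing (N.presheaf.stalk x)) →
      ∀ (h : N ⟶ X), IsFinite h → ¬ IsClosed ({h (genericPoint N)} : Set X) →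
        ∃ h' : N ⟶ X', IsFinite h' ∧ h' ≫ g = h := by
  induction hg with
  | iso e =>
    intro _ N _ _ _ _ h hf _
    haveI := hf
    exact ⟨h ≫ e.inv, inferInstance, by rw [Category.assoc, e.inv_hom_id, Category.comp_id]⟩
  | @step W Z X b r z hz hb hr ih =>
    intro hX N _ _ hd hN h hf hc
    obtain ⟨h₁, hf₁, he₁⟩ := ih hX hd hN h hf hc
    obtain ⟨hrp, hZ⟩ := ptBlowupSeq_proper hr hX
    haveI := hrp
    haveI := hZ
    haveI := hf₁
    obtain ⟨h₂, hf₂, he₂⟩ := exists_lift_point hd hN h₁ (not_isClosed_of_comp h₁ r h he₁ hc) z hz b hb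
    exact ⟨h₂, hf₂, by rw [← Category.assoc, he₂, he₁]⟩

section Family

variable {X : Scheme.{u}} [IsNoetherian X] {ι : Type} [Finite ι] (N : ι → Scheme.{u}) (h₀ : ∀ i, N i ⟶ X)

/-- Finite lifts of a family of curves to a composite of point blow-ups. -/
structure Lifts (X' : Scheme.{u}) where
  g : X' ⟶ X
  seq : Resolve.IsPtBlowupSeq g
  h : ∀ i, N i ⟶ X'
  fin : ∀ i, IsFinite (h i)
  eq : ∀ i, h i ≫ g = h₀ i

variable [∀ i, IsIntegral (N i)] [∀ i, IsFinite (h₀ i)]
  (hdN : ∀ i, topologicalKrullDim (N i) = 1) (hN : ∀ i, ∀ x : N i, IsRegularLocalRing ((N i).presheaf.stalk x))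
  (hc : ∀ i, ¬ IsClosed ({h₀ i (genericPoint (N i))} : Set X))
  (hsurj : ∀ i, Function.Surjective ((h₀ i).stalkMap (genericPoint (N i))))

include hdN hN hc hsurj

/-- Each curve can be made regular. -/
theorem exists_closedImm_one {X' : Scheme.{u}} (L : Lifts N h₀ X') (i : ι) :
    ∃ (X'' : Scheme.{u}) (L' : Lifts N h₀ X''), IsClosedImmersion (L'.h i) ∧
      ∀ k, IsClosedImmersion (L.h k) → IsClosedImmersion (L'.h k) := by
  obtain ⟨hgp, hXn⟩ := ptBlowupSeq_proper L.seq inferInstance
  haveI := hgp
  haveI := hXn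
  haveI := L.fin i
  haveI : CompactSpace X' := QuasiCompact.compactSpace_of_compactSpace L.g
  haveI hNn : ∀ k, IsLocallyNoetherian (N k) := fun k => LocallyOfFiniteType.isLocallyNoetherian (h₀ k)
  let C := (L.h i).image
  let t : N i ⟶ C := (L.h i).toImage
  haveI : IsIntegral C := by
    haveI : IsReduced C := Coherent.isReduced_image (L.h i)
    haveI : IrreducibleSpace C := by
      have h1 : _root_.IsPreirreducible (Set.univ : Set C) := by
        rw [← (t.denseRange).closure_range, ← Set.image_univ]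
        exact ((IrreducibleSpace.isIrreducible_univ _).2.image t t.continuous.continuousOn).closure
      exact { toPreirreducibleSpace := ⟨h1⟩, toNonempty := ⟨t (genericPoint (N i))⟩ }
    exact isIntegral_of_irreducibleSpace_of_isReduced C
  haveI : IsLocallyNoetherian C := LocallyOfFiniteType.isLocallyNoetherian (L.h i).imageι
  haveI : CompactSpace C := (L.h i).imageι.isClosedEmbedding.compactSpace
  haveI : IsNoetherian C := {}
  haveI : IsFinite (t ≫ (L.h i).imageι) := by rw [Scheme.Hom.toImage_imageι]; exact L.fin i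
  haveI : IsFinite t := IsFinite.of_comp t (L.h i).imageι
  have htgen : t (genericPoint (N i)) = genericPoint C := by
    have h := (genericPoint_spec (N i)).image t.continuous
    rw [Set.image_univ, t.denseRange.closure_range] at h
    exact h.eq (genericPoint_spec C)
  haveI : Surjective t := ⟨fun v => (genericPoint_specializes v).mem_closed t.isClosedMap.isClosed_range ⟨_, htgen⟩⟩
  have hdC : topologicalKrullDim C ≤ 1 := (AlgSpLib.topologicalKrullDim_ge_of_isIntegralHom t).trans (hdN i).le
  obtain ⟨C', r, hr, hreg⟩ := exists_ptBlowupSeq_regular hdC t htgen (hN i)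
  have hcC : ¬ IsClosed ({genericPoint C} : Set C) := fun h => by
    refine not_isClosed_of_comp (L.h i) L.g (h₀ i) (L.eq i) (hc i) ?_
    have h' := (L.h i).imageι.isClosedMap _ h
    rwa [Set.image_singleton, ← htgen, ← Scheme.Hom.comp_apply, Scheme.Hom.toImage_imageι] at h'
  obtain ⟨hC', hC'n, hrp, -, V, hV, hiso⟩ := ptBlowupSeq_invariant hr inferInstance inferInstance (fun {_} => hcC)
  haveI := hC'
  haveI := hC'n
  haveI := hrp
  haveI := hiso
  obtain ⟨s, hsf, hs⟩ := exists_lift_seq hr inferInstance (hdN i).le (hN i) t inferInstance (htgen ▸ hcC)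
  haveI := hsf
  have hsgen : s (genericPoint (N i)) = genericPoint C' := by
    obtain ⟨hrgen, -⟩ := Coherent.birational_of_isIso_morphismRestrict r V hV
    have hη : genericPoint C ∈ V := ((genericPoint_spec C).mem_open_set_iff V.2).mpr (by simpa using hV)
    have e : r (s (genericPoint (N i))) = genericPoint C := by rw [← Scheme.Hom.comp_apply, hs, htgen]
    have m1 : s (genericPoint (N i)) ∈ r ⁻¹ᵁ V := show r (s (genericPoint (N i))) ∈ V from e.symm ▸ hη
    have m2 : genericPoint C' ∈ r ⁻¹ᵁ V := show r (genericPoint C') ∈ V from hrgen.symm ▸ hη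
    have h2 : (r ∣_ V) ⟨_, m1⟩ = (r ∣_ V) ⟨_, m2⟩ :=
      Subtype.ext (((morphismRestrict_base_coe r _ _).trans (e.trans hrgen.symm)).trans
        (morphismRestrict_base_coe r _ _).symm)
    exact congrArg Subtype.val ((r ∣_ V).homeomorph.injective h2)
  have hbir : IsIso (s.stalkMap (genericPoint (N i))) := by
    rw [ConcreteCategory.isIso_iff_bijective]
    have key : ∀ {A B : Scheme.{u}} (a : N i ⟶ A) (c : A ⟶ B) (d : N i ⟶ B), a ≫ c = d →
        Function.Surjective (d.stalkMap (genericPoint (N i))) →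
        Function.Surjective (a.stalkMap (genericPoint (N i))) := by
      intro A B a c d e hd v
      subst e
      obtain ⟨w, hw⟩ := hd v
      rw [Scheme.Hom.stalkMap_comp, CommRingCat.comp_apply] at hw
      exact ⟨_, hw⟩
    refine ⟨?_, key s (r ≫ (L.h i).imageι ≫ L.g) (h₀ i) (by rw [← Category.assoc, hs, ← Category.assoc, Scheme.Hom.toImage_imageι, L.eq]) (hsurj i)⟩
    have hF : IsField (C'.presheaf.stalk (s (genericPoint (N i)))) := by
      rw [hsgen]
      exact Field.toIsField C'.functionField
    letI := hF.toField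
    exact (s.stalkMap (genericPoint (N i))).hom.injective
  haveI : IsIso s := by
    let U : C'.affineOpens → C'.Opens := fun U => U.1
    refine isIso_of_app_bijective s U (fun U => U.2) (iSup_affineOpens_eq_top C') fun W => ?_
    haveI := Coherent.isIso_app_of_birational s (Models7.isNormalScheme_of_regular hreg) hsgen hbir W.1
    exact ConcreteCategory.bijective_of_isIso _
  obtain ⟨X'', g₁, j', hg₁, hj', hcomm⟩ := exists_lift_closed hr (L.h i).imageι
  haveI := hj'
  obtain ⟨hg₁p, hX''⟩ := ptBlowupSeq_proper hg₁ inferInstance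
  haveI := hg₁p
  have hl : ∀ k, ∃ h' : N k ⟶ X'', IsFinite h' ∧ h' ≫ g₁ = L.h k := fun k =>
    exists_lift_seq hg₁ inferInstance (hdN k).le (hN k) (L.h k) (L.fin k)
      (not_isClosed_of_comp (L.h k) L.g (h₀ k) (L.eq k) (hc k))
  choose h' hf' he' using hl
  have hi : (s ≫ j') ≫ g₁ = L.h i := by
    rw [Category.assoc, hcomm, ← Category.assoc, hs, Scheme.Hom.toImage_imageι]
  classical
  let H : ∀ k, N k ⟶ X'' := Function.update h' i (s ≫ j')
  have hH : ∀ k, IsFinite (H k) ∧ H k ≫ g₁ = L.h k := fun k => by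
    by_cases hk : k = i
    · subst hk
      rw [show H k = s ≫ j' from Function.update_self _ _ _]
      exact ⟨inferInstance, hi⟩
    · rw [show H k = h' k from Function.update_of_ne hk _ _]
      exact ⟨hf' k, he' k⟩
  refine ⟨X'', ⟨g₁ ≫ L.g, ptBlowupSeq_trans hg₁ L.seq, H, fun k => (hH k).1,
    fun k => by rw [← Category.assoc, (hH k).2, L.eq]⟩, ?_, fun k hk => ?_⟩
  · show IsClosedImmersion (H i)
    rw [show H i = s ≫ j' from Function.update_self _ _ _]
    infer_instance
  · haveI := hk
    haveI : IsClosedImmersion (H k ≫ g₁) := by rw [(hH k).2]; exact hk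
    exact IsClosedImmersion.of_comp (H k) g₁

/-- All curves can be made regular. -/
theorem exists_closedImm_all (L : Σ X' : Scheme.{u}, Lifts N h₀ X') (s : Finset ι) :
    ∃ (X' : Scheme.{u}) (L' : Lifts N h₀ X'), ∀ i ∈ s, IsClosedImmersion (L'.h i) := by
  classical
  induction s using Finset.induction_on with
  | empty => exact ⟨L.1, L.2, fun i hi => absurd hi (Finset.notMem_empty i)⟩
  | insert i s _ ih =>
    obtain ⟨X', L', hL'⟩ := ih
    obtain ⟨X'', L'', hi, hk⟩ := exists_closedImm_one N h₀ hdN hN hc hsurj L' i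
    refine ⟨X'', L'', fun k hk' => ?_⟩
    rcases Finset.mem_insert.1 hk' with rfl | hk'
    · exact hi
    · exact hk k (hL' k hk')

variable (hdist : Function.Injective fun i => h₀ i (genericPoint (N i)))
include hdist

omit hsurj in
/-- Regular curves can be separated. -/
theorem exists_disjoint {X' : Scheme.{u}} (L : Lifts N h₀ X') (hL : ∀ i, IsClosedImmersion (L.h i)) :
    ∃ (X'' : Scheme.{u}) (L' : Lifts N h₀ X''), (∀ i, IsClosedImmersion (L'.h i)) ∧
      ∀ i k, i ≠ k → Disjoint (Set.range (L'.h i).base) (Set.range (L'.h k).base) := by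
  classical
  haveI hNn : ∀ k, IsNoetherian (N k) := fun k =>
    { toIsLocallyNoetherian := LocallyOfFiniteType.isLocallyNoetherian (h₀ k)
      toCompactSpace := QuasiCompact.compactSpace_of_compactSpace (h₀ k) }
  let P := ∀ p : ι × ι, ((N p.1).IdealSheafData)ᵒᵈ
  haveI : ∀ p : ι × ι, WellFoundedLT ((N p.1).IdealSheafData)ᵒᵈ := fun p =>
    haveI := H8Top.wellFoundedGT_idealSheafData (N p.1)
    inferInstance
  suffices main : ∀ (D : P) (X' : Scheme.{u}) (L : Lifts N h₀ X'), (∀ i, IsClosedImmersion (L.h i)) →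
      (∀ p : ι × ι, D p = OrderDual.toDual ((L.h p.2).ker.comap (L.h p.1))) →
      ∃ (X'' : Scheme.{u}) (L' : Lifts N h₀ X''), (∀ i, IsClosedImmersion (L'.h i)) ∧
        ∀ i k, i ≠ k → Disjoint (Set.range (L'.h i).base) (Set.range (L'.h k).base) from
    main _ X' L hL fun _ => rfl
  intro D
  induction D using WellFoundedLT.induction with
  | _ D ih =>
    intro X' L hL hD
    by_cases hdone : ∀ i k, i ≠ k → Disjoint (Set.range (L.h i).base) (Set.range (L.h k).base)
    · exact ⟨X', L, hL, hdone⟩
    push Not at hdone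
    obtain ⟨i, k, hik, hmeet⟩ := hdone
    obtain ⟨z, ⟨y, hy⟩, ⟨w, hw⟩⟩ := Set.not_disjoint_iff.1 hmeet
    haveI := hL i
    haveI := hL k
    obtain ⟨hgp, hXn⟩ := ptBlowupSeq_proper L.seq inferInstance
    haveI := hgp
    haveI := hXn
    have hncl : ∀ m, ¬ IsClosed ({L.h m (genericPoint (N m))} : Set X') := fun m =>
      not_isClosed_of_comp (L.h m) L.g (h₀ m) (L.eq m) (hc m)
    have hne : ∀ {a c : ι}, a ≠ c → L.h a (genericPoint (N a)) ∉ Set.range (L.h c).base := fun {a c} hac => by
      rintro ⟨v, hv⟩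
      haveI := hL c
      rcases CurvesLib24.eq_genericPoint_or_isClosed (hdN c).le v with hv' | hv'
      · rw [hv'] at hv
        exact hac (hdist (show h₀ a (genericPoint (N a)) = h₀ c (genericPoint (N c)) by
          rw [← L.eq a, ← L.eq c, Scheme.Hom.comp_apply, Scheme.Hom.comp_apply, hv]))
      · refine hncl a ?_
        have h' := (L.h c).isClosedMap _ hv'
        rw [Set.image_singleton] at h'
        rwa [show L.h c v = L.h a (genericPoint (N a)) from hv] at h'
    have hy0 : y ≠ genericPoint (N i) := fun h => hne hik ⟨w, by rw [← h]; exact hw.trans hy.symm⟩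
    have hyc : IsClosed ({y} : Set (N i)) := (CurvesLib24.eq_genericPoint_or_isClosed (hdN i).le y).resolve_left hy0
    have hz : IsClosed ({L.h i y} : Set X') := by
      have h' := (L.h i).isClosedMap _ hyc
      rwa [Set.image_singleton] at h'
    let I := Scheme.IdealSheafData.vanishingIdeal (X := X') ⟨{L.h i y}, hz⟩
    obtain ⟨X'', b, hb⟩ := BlowUpLib.exists_isBlowUp I
    have hl : ∀ m, ∃ h' : N m ⟶ X'', IsFinite h' ∧ h' ≫ b = L.h m := fun m =>
      haveI := L.fin m
      exists_lift_point (hdN m).le (hN m) (L.h m) (hncl m) _ hz b hb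
    choose H hHf hHe using hl
    haveI : IsProper b := BlowUpLib.isProper_of_isBlowUp hb (FlatMorAdm.isFiniteTypeIdeal_of_noetherian I)
    haveI : IsLocallyNoetherian X'' := LocallyOfFiniteType.isLocallyNoetherian b
    have hHc : ∀ m, IsClosedImmersion (H m) := fun m => by
      haveI : IsClosedImmersion (H m ≫ b) := by rw [hHe]; exact hL m
      exact IsClosedImmersion.of_comp (H m) b
    let L' : Lifts N h₀ X'' := ⟨b ≫ L.g, Resolve.IsPtBlowupSeq.step b L.g _ hz hb L.seq, H, hHf,
      fun m => by rw [← Category.assoc, hHe, L.eq]⟩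
    have hmono : ∀ m, (L.h m).ker.comap b ≤ (H m).ker := fun m =>
      le_ker_of_comap_eq_bot _ _ (by rw [← Scheme.IdealSheafData.comap_comp, hHe, comap_ker_self])
    have hle : ∀ p : ι × ι, (L.h p.2).ker.comap (L.h p.1) ≤ (H p.2).ker.comap (H p.1) := fun p => by
      rw [← hHe p.1, Scheme.IdealSheafData.comap_comp]
      exact Scheme.IdealSheafData.comap_mono (H p.1) (hmono p.2)
    refine ih (fun p => OrderDual.toDual ((H p.2).ker.comap (H p.1)))
      (lt_of_le_not_ge (fun p => by rw [hD p]; exact hle p) fun hge => ?_) X'' L' hHc fun _ => rfl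
    have heq : (H k).ker.comap (H i) ≤ (L.h k).ker.comap (L.h i) := by
      have h1 := hge (i, k)
      rw [hD (i, k)] at h1
      exact h1
    haveI := hHc i
    haveI := hHc k
    haveI := hHf k
    let IE := I.comap b
    let Ec : X''.Opens := IE.support.compl
    let W : (N k).Opens := H k ⁻¹ᵁ Ec
    have hsupp : (I.support : Set X') = {L.h i y} := Scheme.IdealSheafData.coe_support_vanishingIdeal _
    have hηW : genericPoint (N k) ∈ W := by
      show H k (genericPoint (N k)) ∉ ((I.comap b).support : Set X'')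
      rw [Scheme.IdealSheafData.support_comap]
      intro hh
      refine hne (Ne.symm hik) ⟨y, ?_⟩
      rw [← hHe k, Scheme.Hom.comp_apply]
      exact (Set.mem_singleton_iff.1 (hsupp.le hh)).symm
    have hkE : (L.h k).ker.comap b ≤ IE := Scheme.IdealSheafData.comap_mono b
      (Scheme.IdealSheafData.le_support_iff_le_vanishingIdeal.1 (Set.singleton_subset_iff.2 (by
        show L.h i y ∈ ((L.h k).ker.support : Set X')
        rw [Scheme.Hom.support_ker, (L.h k).isClosedEmbedding.isClosed_range.closure_eq]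
        exact ⟨w, hw.trans hy.symm⟩)))
    haveI : QuasiCompact (W.ι ≫ H k) := inferInstance
    have h2 := stk_le_mul_ker (W.ι ≫ H k) ((L.h k).ker.comap b) IE hb.1 hkE
      ((hmono k).trans (Scheme.Hom.le_ker_comp _ _)) (fun v h => by rw [Scheme.Hom.comp_apply] at h; exact v.2 h) (H i y)
    rw [ker_comp_opens (H k) W hηW] at h2
    have hmax : stk (IE.comap (H i)) y = maximalIdeal ((N i).presheaf.stalk y) := by
      rw [show IE.comap (H i) = I.comap (L.h i) from
        ((Scheme.IdealSheafData.comap_comp I (H i) b).symm.trans (congrArg I.comap (hHe i))),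
        comap_vanishingIdeal_point_closed (L.h i) y hyc hz]
      exact Models7.stk_vanishingIdeal_point y hyc
    have h3 : stk ((L.h k).ker.comap (L.h i)) y ≤
        maximalIdeal ((N i).presheaf.stalk y) * stk ((L.h k).ker.comap (L.h i)) y := by
      refine le_trans ?_ (Ideal.mul_mono le_rfl (stk_mono heq y))
      rw [← hmax, ← hHe i, Scheme.IdealSheafData.comap_comp, stk_comap ((L.h k).ker.comap b) (H i) y,
        stk_comap IE (H i) y, stk_comap (H k).ker (H i) y, ← Ideal.map_mul]
      exact Ideal.map_mono h2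
    haveI : IsNoetherianRing ((N i).presheaf.stalk y) := inferInstance
    refine stk_ne_bot _ (ne_bot_of_notMem _ (x := genericPoint (N i)) fun hh => hne hik ?_) y
      (Submodule.eq_bot_of_le_smul_of_le_jacobson_bot (maximalIdeal _) _ (IsNoetherian.noetherian _)
        (by rw [smul_eq_mul]; exact h3) (IsLocalRing.maximalIdeal_le_jacobson _))
    have hh' : genericPoint (N i) ∈ (((L.h k).ker.comap (L.h i)).support : Set (N i)) := hh
    rw [Scheme.IdealSheafData.support_comap] at hh'
    rw [← (L.h k).isClosedEmbedding.isClosed_range.closure_eq, ← Scheme.Hom.support_ker]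
    exact hh'

end Family

end Groth.Agent.Resolve13
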