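import Groth.Agent.Resolve13.CurvePts
import Groth.Agent.Resolve13.DisjointCurves
import Groth.Agent.Resolve13.Contraction
import Groth.Agent.Resolve13.PtLift
import Groth.Agent.SerreDual.ProjRegular
import Groth.Agent.DimLib.ProjDim

/-!
# Regular curves on a surface under the blow-up of a point
-/

set_option autoImplicit false
set_option linter.style.haveILetI false
set_option backward.isDefEq.respectTransparency false
set_option maxHeartbeats 1000000

universe u

open CategoryTheory CategoryTheory.Limits AlgebraicGeometry TopologicalSpace IsLocalRing Opposite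
open Groth.Agent.Misc15.DivDescent Groth.Agent.SDiv28.CartierPart

namespace Groth.Agent.Resolve13

open Models7 (RegSurf)

variable {X : Scheme.{u}}

/-- The generic point of a regular curve. -/
def IsRegCurve (x : X) : Prop :=
  ∃ (N : Scheme.{u}) (_ : IsIntegral N) (j : N ⟶ X), IsClosedImmersion j ∧ topologicalKrullDim N = 1 ∧
    (∀ y : N, IsRegularLocalRing (N.presheaf.stalk y)) ∧ j (genericPoint N) = x

/-- Two curves meet transversally wherever they meet. -/
def Transv (x y : X) : Prop :=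
  ∀ p, x ⤳ p → y ⤳ p → stk (cI x) p ⊔ stk (cI y) p = maximalIdeal (X.presheaf.stalk p)

theorem Transv.symm {x y : X} (h : Transv x y) : Transv y x := fun p hy hx => by rw [sup_comm]; exact h p hx hy

theorem range_eq_closure {N : Scheme.{u}} [IsIntegral N] (j : N ⟶ X) [IsClosedImmersion j] :
    Set.range j.base = closure {j (genericPoint N)} := by
  have h := ((genericPoint_spec N).image j.continuous).def
  rw [Set.image_univ, j.isClosedEmbedding.isClosed_range.closure_eq] at h
  exact h.symm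

theorem ker_eq_cI {N : Scheme.{u}} [IsIntegral N] (j : N ⟶ X) [IsClosedImmersion j] :
    j.ker = cI (j (genericPoint N)) := by
  rw [Props12.ker_eq_vanishingIdeal]
  congr 1
  refine Closeds.ext ?_
  show closure (Set.range j.base) = closure {j (genericPoint N)}
  rw [range_eq_closure, closure_closure]

theorem IsRegCurve.isCurvePt [IsIntegral X] {x : X} (hX : ¬ topologicalKrullDim X ≤ 1) (h : IsRegCurve x) :
    IsCurvePt x := by
  obtain ⟨N, _, j, hj, hd, -, rfl⟩ := h
  refine isCurvePt_of_ne (fun hc => CurvesLib24.not_isClosed_genericPoint hd ?_) fun h0 => hX ?_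
  · have : ({genericPoint N} : Set N) = j.base ⁻¹' {j (genericPoint N)} :=
      Set.ext fun w => ⟨fun hw => by rw [Set.mem_singleton_iff.1 hw]; rfl,
        fun hw => j.isClosedEmbedding.injective hw⟩
    rw [this]
    exact hc.preimage j.continuous
  · have hr : Set.range j.base = Set.univ := by rw [range_eq_closure, h0, genericPoint_closure]
    haveI : Surjective j := ⟨Set.range_eq_univ.1 hr⟩
    exact (AlgSpLib.topologicalKrullDim_ge_of_isIntegralHom j).trans hd.le

/-- Local equations of a regular curve on a regular surface. -/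
theorem exists_params (hX : RegSurf X) {x p : X} (hc : IsCurvePt x) (hr : IsRegCurve x) (hp : x ⤳ p) (hne : p ≠ x) :
    ∃ f g, stk (cI x) p = Ideal.span {f} ∧ maximalIdeal (X.presheaf.stalk p) = Ideal.span {f, g} := by
  haveI := hX.integral
  haveI := hX.noeth
  haveI := hX.regular p
  haveI : UniqueFactorizationMonoid (X.presheaf.stalk p) := CAlgH3.ufm_of_regular _
  haveI := isPrime_stk_cI hp
  have hPm : stk (cI x) p ≠ maximalIdeal (X.presheaf.stalk p) := fun h =>
    hne (((stk_cI_eq_max_iff hp).1 h).antisymm hp).eq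
  have hdim : ringKrullDim (X.presheaf.stalk p) ≤ 2 := (CurvesLib24.stalk_dim_le_topologicalKrullDim p).trans hX.dim
  obtain ⟨f, hf⟩ := exists_prime_gen hdim (stk_ne_bot _ (cI_ne_bot hc) p) hPm
  obtain ⟨N, _, j, hj, hd, hN, rfl⟩ := hr
  obtain ⟨y, rfl⟩ : p ∈ Set.range j.base := (range_eq_closure j).ge (specializes_iff_mem_closure.1 hp)
  haveI := hN y
  haveI : IsLocallyNoetherian N := LocallyOfFiniteType.isLocallyNoetherian j
  haveI : UniqueFactorizationMonoid (N.presheaf.stalk y) := CAlgH3.ufm_of_regular _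
  haveI := CurvesLib24.isPrincipalIdealRing_stalk hd.le y inferInstance
  obtain ⟨v, hv⟩ := (IsPrincipalIdealRing.principal (maximalIdeal (N.presheaf.stalk y))).principal
  obtain ⟨g, rfl⟩ := j.stalkMap_surjective y v
  refine ⟨f, g, hf, ?_⟩
  let φ := (j.stalkMap y).hom
  have h1 : maximalIdeal (X.presheaf.stalk (j y)) = Ideal.comap φ (Ideal.map φ (Ideal.span {g})) := by
    rw [Ideal.map_span, Set.image_singleton]
    refine Eq.trans ?_ (congrArg (Ideal.comap φ) hv)
    have h : IsLocalHom φ ↔ Ideal.comap φ (maximalIdeal _) = maximalIdeal _ := (IsLocalRing.local_hom_TFAE φ).out 0 4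
    exact (h.1 inferInstance).symm
  rw [h1, Ideal.comap_map_of_surjective φ (j.stalkMap_surjective y), ← RingHom.ker_eq_comap_bot,
    ker_stalkMap_eq_stk, ker_eq_cI, hf, sup_comm, ← Ideal.span_union, Set.singleton_union]

section Step

variable {Z Y : Scheme.{u}}

theorem inj_off (z : Z) (hz : IsClosed ({z} : Set Z)) (b : Y ⟶ Z)
    [IsIso (b ∣_ (⟨{z}ᶜ, hz.isOpen_compl⟩ : Z.Opens))] {a c : Y} (h : b a = b c) (hne : b a ≠ z) : a = c := by
  let V : Z.Opens := ⟨{z}ᶜ, hz.isOpen_compl⟩
  have ha : a ∈ b ⁻¹ᵁ V := hne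
  have hc : c ∈ b ⁻¹ᵁ V := show b c ≠ z from h ▸ hne
  have h2 : (b ∣_ V) ⟨a, ha⟩ = (b ∣_ V) ⟨c, hc⟩ :=
    Subtype.ext (((morphismRestrict_base_coe b V _).trans h).trans (morphismRestrict_base_coe b V _).symm)
  exact congrArg Subtype.val ((b ∣_ V).homeomorph.injective h2)

theorem surj_off (z : Z) (hz : IsClosed ({z} : Set Z)) (b : Y ⟶ Z)
    [IsIso (b ∣_ (⟨{z}ᶜ, hz.isOpen_compl⟩ : Z.Opens))] {w : Z} (hne : w ≠ z) : ∃ a, b a = w := by
  let V : Z.Opens := ⟨{z}ᶜ, hz.isOpen_compl⟩
  obtain ⟨a, ha⟩ := (b ∣_ V).surjective ⟨w, hne⟩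
  exact ⟨a.1, (morphismRestrict_base_coe b V a).symm.trans (congrArg Subtype.val ha)⟩

variable (hZ : RegSurf Z) (z : Z) (hz : IsClosed ({z} : Set Z)) (b : Y ⟶ Z)
  (hb : BlowUp.IsBlowUp b (Scheme.IdealSheafData.vanishingIdeal ⟨{z}, hz⟩))
  (hz0 : ¬ IsClosed ({(haveI := hZ.integral; genericPoint Z)} : Set Z))

include hZ hb hz0

theorem step_basic : RegSurf Y ∧ IsProper b ∧ IsIso (b ∣_ (⟨{z}ᶜ, hz.isOpen_compl⟩ : Z.Opens)) ∧
    (haveI := hZ.integral; z ≠ genericPoint Z) := by
  haveI := hZ.integral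
  have h1 : z ≠ genericPoint Z := fun h => hz0 (h ▸ hz)
  obtain ⟨h2, h3, h4⟩ := hZ.pointBlowUp z hz h1 b hb
  exact ⟨h2, h3, h4, h1⟩

theorem step_generic : ∀ [IrreducibleSpace Y], b (genericPoint Y) = (haveI := hZ.integral; genericPoint Z) := by
  intro _
  obtain ⟨hY, hbp, hiso, h1⟩ := step_basic hZ z hz b hb hz0
  haveI := hZ.integral
  haveI := hY.integral
  haveI := hiso
  exact (Coherent.birational_of_isIso_morphismRestrict b (⟨{z}ᶜ, hz.isOpen_compl⟩ : Z.Opens)
    ⟨genericPoint Z, show genericPoint Z ∈ ({z}ᶜ : Set Z) from Ne.symm h1⟩).1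

theorem step_curvePt {x : Y} (hx : IsCurvePt x) (hxz : b x ≠ z) : IsCurvePt (b x) := by
  obtain ⟨hY, hbp, hiso, h1⟩ := step_basic hZ z hz b hb hz0
  haveI := hZ.integral
  haveI := hY.integral
  haveI := hiso
  refine isCurvePt_of_ne (fun hc => hx.1 ?_) fun h0 => hx.ne_genericPoint ?_
  · have : b.base ⁻¹' {b x} = {x} := Set.eq_singleton_iff_unique_mem.2
      ⟨rfl, fun a ha => inj_off z hz b ha (fun h => hxz ((Set.mem_singleton_iff.1 ha).symm.trans h))⟩
    rw [← this]
    exact hc.preimage b.continuous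
  · exact inj_off z hz b (h0.trans (step_generic hZ z hz b hb hz0).symm) hxz

theorem step_curvePt_up {x : Y} (hx : IsCurvePt (b x)) : IsCurvePt x := by
  obtain ⟨hY, hbp, hiso, h1⟩ := step_basic hZ z hz b hb hz0
  haveI := hZ.integral
  haveI := hY.integral
  haveI := hbp
  refine isCurvePt_of_ne (fun hc => hx.1 ?_) fun h0 => hx.ne_genericPoint ?_
  · have h := b.isClosedMap _ hc
    rwa [Set.image_singleton] at h
  · rw [h0]
    exact step_generic hZ z hz b hb hz0

/-- The exceptional curve. -/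
theorem step_exc {x : Y} (hx : IsCurvePt x) (hxz : b x = z) :
    IsRegCurve x ∧ cI x = (Scheme.IdealSheafData.vanishingIdeal ⟨{z}, hz⟩).comap b ∧
      ∀ a, IsCurvePt a → b a = z → a = x := by
  obtain ⟨hY, hbp, hiso, h1⟩ := step_basic hZ z hz b hb hz0
  haveI := hZ.integral
  haveI := hZ.noeth
  haveI := hY.integral
  haveI := hZ.regular z
  have hdim : ringKrullDim (Z.presheaf.stalk z) = 2 := by
    by_contra hdim
    refine hx.1 ?_
    have h := isIso_pointBlowUp_of_dim_ne hZ z hz h1 hdim b hb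
    have : b.base ⁻¹' {z} = {x} := Set.eq_singleton_iff_unique_mem.2
      ⟨hxz, fun a ha => (haveI := h; b.homeomorph.injective ((Set.mem_singleton_iff.1 ha).trans hxz.symm))⟩
    rw [← this]
    exact hz.preimage b.continuous
  obtain ⟨E, ι, hι, hE, hrange, -, hker⟩ := exists_excCurve_point z hz hdim b hb
  haveI := hι
  haveI := Models7.isIntegral_of_isExcCurve hE
  obtain ⟨-, k, hk, e, -⟩ := hE
  have hdE : topologicalKrullDim E = 1 := by
    rw [← e.hom.homeomorph.isHomeomorph.topologicalKrullDim_eq]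
    simpa using DimLib.PN.topologicalKrullDim_projSpace 1 k
  have hEreg : ∀ y : E, IsRegularLocalRing (E.presheaf.stalk y) := fun y => by
    haveI := SerreDual.isRegularLocalRing_stalk_projSpace 1 k (e.inv y)
    exact IsRegularLocalRing.of_ringEquiv (R := (CohB1.ProjSpace 1 k).presheaf.stalk (e.inv y))
      (asIso (e.inv.stalkMap y)).commRingCatIsoToRingEquiv
  have key : ∀ a, IsCurvePt a → b a = z → a = ι (genericPoint E) := fun a ha haz => by
    obtain ⟨v, rfl⟩ := hrange.ge (show a ∈ b.base ⁻¹' {z} from haz)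
    rcases CurvesLib24.eq_genericPoint_or_isClosed hdE.le v with rfl | hv
    · rfl
    · refine absurd ?_ ha.1
      have h := ι.isClosedMap _ hv
      rwa [Set.image_singleton] at h
  obtain rfl := key x hx hxz
  exact ⟨⟨E, inferInstance, ι, hι, hdE, hEreg, rfl⟩, by rw [← ker_eq_cI, hker], key⟩

/-- Regular curves lift to regular curves. -/
theorem step_regCurve {x : Y} (hc : IsCurvePt (b x)) (hr : IsRegCurve (b x)) : IsRegCurve x := by
  obtain ⟨hY, hbp, hiso, h1⟩ := step_basic hZ z hz b hb hz0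
  haveI := hZ.integral
  haveI := hZ.noeth
  haveI := hbp
  haveI := hiso
  obtain ⟨N, _, j, hj, hd, hN, hgen⟩ := hr
  haveI := hj
  haveI : IsLocallyNoetherian N := LocallyOfFiniteType.isLocallyNoetherian j
  obtain ⟨s, hsf, hs⟩ := exists_lift_point hd.le hN j (by rw [hgen]; exact hc.1) z hz b hb
  haveI : IsClosedImmersion (s ≫ b) := by rw [hs]; exact hj
  haveI := IsClosedImmersion.of_comp s b
  refine ⟨N, inferInstance, s, inferInstance, hd, hN, inj_off z hz b ?_ ?_⟩
  · rw [← Scheme.Hom.comp_apply, hs, hgen]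
  · rw [← Scheme.Hom.comp_apply, hs, hgen]
    exact fun h => hc.1 (h ▸ hz)

/-- The stalks of the ideal of a curve away from the centre. -/
theorem step_stk {x q : Y} (hc : IsCurvePt (b x)) (hxq : x ⤳ q) (hq : b q ≠ z) (hne : q ≠ x) :
    stk (cI x) q = (stk (cI (b x)) (b q)).map (b.stalkMap q).hom ∧ IsIso (b.stalkMap q) := by
  obtain ⟨hY, hbp, hiso, h1⟩ := step_basic hZ z hz b hb hz0
  haveI := hZ.integral
  haveI := hY.integral
  haveI := hiso
  haveI hi : IsIso (b.stalkMap q) := Models7.isIso_stalkMap_of_isIso_restrict b ⟨{z}ᶜ, hz.isOpen_compl⟩ q hq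
  have hsp : b x ⤳ b q := hxq.map b.continuous
  haveI := isPrime_stk_cI hsp
  haveI := isPrime_stk_cI hxq
  let φ := (asIso (b.stalkMap q)).commRingCatIsoToRingEquiv
  haveI hP : ((stk (cI (b x)) (b q)).map (b.stalkMap q).hom).IsPrime := Ideal.map_isPrime_of_equiv φ
  refine ⟨(prime_eq_of_le ((CurvesLib24.stalk_dim_le_topologicalKrullDim q).trans hY.dim) ?_ ?_ ?_).symm, hi⟩
  · rw [Ne, Ideal.map_eq_bot_iff_of_injective (show Function.Injective (b.stalkMap q).hom from φ.injective)]
    exact stk_ne_bot _ (cI_ne_bot hc) _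
  · rw [← stk_comap]
    refine stk_mono (Scheme.IdealSheafData.le_support_iff_le_vanishingIdeal.1 ?_) q
    show closure {x} ⊆ (((cI (b x)).comap b).support : Set Y)
    rw [Scheme.IdealSheafData.support_comap]
    refine closure_minimal (Set.singleton_subset_iff.2 ?_) (((cI (b x)).support.isClosed).preimage b.continuous)
    exact mem_support_cI.2 specializes_rfl
  · exact fun h => hne (((stk_cI_eq_max_iff hxq).1 h).antisymm hxq).eq

/-- Transversality persists away from the centre. -/
theorem step_transv_off {x y q : Y} (hx : IsCurvePt (b x)) (hy : IsCurvePt (b y)) (hT : Transv (b x) (b y))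
    (hxq : x ⤳ q) (hyq : y ⤳ q) (hq : b q ≠ z) (hqx : q ≠ x) (hqy : q ≠ y) :
    stk (cI x) q ⊔ stk (cI y) q = maximalIdeal (Y.presheaf.stalk q) := by
  obtain ⟨h1, hi⟩ := step_stk hZ z hz b hb hz0 hx hxq hq hqx
  obtain ⟨h2, -⟩ := step_stk hZ z hz b hb hz0 hy hyq hq hqy
  haveI := hi
  rw [h1, h2, ← Ideal.map_sup, hT _ (hxq.map b.continuous) (hyq.map b.continuous)]
  haveI : ((maximalIdeal (Z.presheaf.stalk (b q))).map (b.stalkMap q).hom).IsMaximal :=
    Ideal.map_isMaximal_of_equiv (asIso (b.stalkMap q)).commRingCatIsoToRingEquiv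
  exact IsLocalRing.eq_maximalIdeal inferInstance

/-- A regular curve meets the exceptional curve transversally. -/
theorem step_transv_exc {x e : Y} (hx : IsCurvePt (b x)) (hr : IsRegCurve (b x)) (he : IsCurvePt e)
    (hez : b e = z) : Transv x e := by
  intro q hxq heq
  obtain ⟨hY, hbp, hiso, h1⟩ := step_basic hZ z hz b hb hz0
  haveI := hZ.integral
  haveI := hZ.noeth
  haveI := hiso
  have hbq : b q = z := (hez ▸ heq.map b.continuous).mem_closed hz rfl
  obtain ⟨-, hcI, -⟩ := step_exc hZ z hz b hb hz0 he hez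
  obtain ⟨N, _, j, hj, hd, hN, hgen⟩ := hr
  haveI := hj
  obtain ⟨y, hy⟩ : z ∈ Set.range j.base :=
    (range_eq_closure j).ge (specializes_iff_mem_closure.1 (hgen ▸ hbq ▸ hxq.map b.continuous))
  subst hy
  haveI := hN y
  obtain ⟨hy', s, hsc, hs, hy0, hE, hdvr⟩ := exists_curve_lift j hd y hz b hb
  haveI := hsc
  have hsx : s (genericPoint N) = x := inj_off (j y) hz b (by rw [← Scheme.Hom.comp_apply, hs, hgen])
    (by rw [← Scheme.Hom.comp_apply, hs, hgen]; exact fun h => hx.1 (h ▸ hz))
  obtain ⟨a, rfl⟩ : q ∈ Set.range s.base := (range_eq_closure s).ge (hsx ▸ specializes_iff_mem_closure.1 hxq)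
  have hay : a = y := j.isClosedEmbedding.injective
    (((congrArg (fun g : N ⟶ Z => g a) hs).symm.trans (Scheme.Hom.comp_apply s b a)).trans hbq)
  subst hay
  let φ := (s.stalkMap a).hom
  have hk : RingHom.ker φ = stk (cI x) (s a) := by rw [ker_stalkMap_eq_stk, ker_eq_cI, hsx]
  have hm : (stk (cI e) (s a)).map φ = maximalIdeal (N.presheaf.stalk a) := by
    rw [hcI, ← stk_comap, hE]
    exact Models7.stk_vanishingIdeal_point a hy'
  rw [← hk, sup_comm, RingHom.ker_eq_comap_bot, ← Ideal.comap_map_of_surjective φ (s.stalkMap_surjective a), hm]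
  have h : IsLocalHom φ ↔ Ideal.comap φ (maximalIdeal _) = maximalIdeal _ := (IsLocalRing.local_hom_TFAE φ).out 0 4
  exact h.1 inferInstance

/-- Curves meeting transversally at the centre get separated. -/
theorem step_separate {x y q : Y} (hx : IsCurvePt (b x)) (hy : IsCurvePt (b y)) (hT : Transv (b x) (b y))
    (hxq : x ⤳ q) (hyq : y ⤳ q) : b q ≠ z := by
  intro hbq
  obtain ⟨hY, hbp, hiso, h1⟩ := step_basic hZ z hz b hb hz0
  haveI := hZ.integral
  haveI := hY.integral
  haveI := hY.noeth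
  subst hbq
  let I := Scheme.IdealSheafData.vanishingIdeal (X := Z) ⟨{b q}, hz⟩
  obtain ⟨t, ht0, ht⟩ := exists_gen hb.1 q
  have hmax : stk (I.comap b) q = (maximalIdeal (Z.presheaf.stalk (b q))).map (b.stalkMap q).hom := by
    rw [stk_comap, Models7.stk_vanishingIdeal_point _ hz]
  have key : ∀ w, w ⤳ q → IsCurvePt (b w) →
      (stk (cI (b w)) (b q)).map (b.stalkMap q).hom ≤ Ideal.span {t} * maximalIdeal (Y.presheaf.stalk q) := by
    intro w hwq hw f hf
    haveI := isPrime_stk_cI hwq
    have htw : t ∉ stk (cI w) q := fun htw => by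
      obtain ⟨Q, hQ, hQe⟩ := exists_prime_cI hwq
      have h2 := (Inters29.fromSpecStalk_mem_support_iff (I.comap b) Q).2
        (by rw [hQe, ht]; exact (Ideal.span_singleton_le_iff_mem _).2 htw)
      rw [hQ] at h2
      have h3 : w ∈ ((I.comap b).support : Set Y) := h2
      rw [Scheme.IdealSheafData.support_comap] at h3
      exact hw.1 (Set.mem_singleton_iff.1 ((Scheme.IdealSheafData.coe_support_vanishingIdeal _).le h3) ▸ hz)
    have hf' : f ∈ stk (cI w) q := by
      rw [← stk_comap] at hf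
      refine stk_mono (Scheme.IdealSheafData.le_support_iff_le_vanishingIdeal.1 ?_) q hf
      show closure {w} ⊆ (((cI (b w)).comap b).support : Set Y)
      rw [Scheme.IdealSheafData.support_comap]
      exact closure_minimal (Set.singleton_subset_iff.2 (mem_support_cI.2 specializes_rfl))
        (((cI (b w)).support.isClosed).preimage b.continuous)
    have hft : f ∈ Ideal.span {t} := by
      rw [← ht]
      rw [hmax]
      exact Ideal.map_mono (le_maximalIdeal (isPrime_stk_cI (hwq.map b.continuous)).ne_top) hf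
    obtain ⟨c, rfl⟩ := Ideal.mem_span_singleton'.1 hft
    rw [mul_comm c t]
    exact Ideal.mul_mem_mul (Ideal.mem_span_singleton_self t)
      (le_maximalIdeal (isPrime_stk_cI hwq).ne_top (((isPrime_stk_cI hwq).mem_or_mem hf').resolve_right htw))
  have h2 : Ideal.span {t} ≤ Ideal.span {t} * maximalIdeal (Y.presheaf.stalk q) := by
    rw [← hT _ (hxq.map b.continuous) (hyq.map b.continuous), Ideal.map_sup] at hmax
    calc Ideal.span {t} = stk (I.comap b) q := ht.symm
      _ ≤ _ := hmax ▸ sup_le (key x hxq hx) (key y hyq hy)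
  obtain ⟨c, hc, hct⟩ := Ideal.mem_span_singleton_mul.1 (h2 (Ideal.mem_span_singleton_self t))
  exact (maximalIdeal.isMaximal _).ne_top (Ideal.eq_top_of_isUnit_mem _ hc
    (by rw [show c = 1 from mul_left_cancel₀ (nonZeroDivisors.ne_zero ht0) (hct.trans (mul_one t).symm)]; exact isUnit_one))

end Step

end Groth.Agent.Resolve13
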