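import Groth.Agent.Resolve13.CurveStep

/-!
# The configuration of curves created by point blow-ups

The new curves are regular, meet each other and every regular old curve transversally, and no point lies
on two new curves and a third one.
-/

set_option autoImplicit false
set_option linter.style.haveILetI false
set_option backward.isDefEq.respectTransparency false
set_option maxHeartbeats 1000000

universe u

open CategoryTheory CategoryTheory.Limits AlgebraicGeometry TopologicalSpace IsLocalRing Opposite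
open Groth.Agent.Misc15.DivDescent Groth.Agent.SDiv28.CartierPart

namespace Groth.Agent.Resolve13

open Models7 (RegSurf PtSeq)

variable {X' X : Scheme.{u}}

/-- A curve on the blown up surface which is either new or the transform of a regular curve. -/
def Good (g : X' ⟶ X) (G : Set X') (x : X') : Prop := x ∈ G ∨ (IsCurvePt (g x) ∧ IsRegCurve (g x))

/-- The configuration of curves along a sequence of point blow-ups. -/
structure Tracked (g : X' ⟶ X) (G : Set X') : Prop where
  surf : RegSurf X'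
  notClosed : ∀ [IrreducibleSpace X'], ¬ IsClosed ({genericPoint X'} : Set X')
  proper : IsProper g
  seq : PtSeq g
  generic : ∀ [IrreducibleSpace X'] [IrreducibleSpace X], g (genericPoint X') = genericPoint X
  fin : G.Finite
  exc : ∀ e ∈ G, IsCurvePt e ∧ IsRegCurve e ∧ ¬ IsCurvePt (g e)
  cover : ∀ x, IsCurvePt x → ¬ IsCurvePt (g x) → x ∈ G
  inj : ∀ x y, IsCurvePt (g x) → g x = g y → x = y
  up : ∀ x, IsCurvePt (g x) → IsCurvePt x
  reg : ∀ x, IsCurvePt (g x) → IsRegCurve (g x) → IsRegCurve x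
  transv : ∀ e ∈ G, ∀ x, Good g G x → e ≠ x → Transv e x
  triple : ∀ e ∈ G, ∀ e' ∈ G, ∀ x, Good g G x → e ≠ e' → e ≠ x → e' ≠ x →
    ∀ q, e ⤳ q → e' ⤳ q → x ⤳ q → False

theorem Tracked.good_curvePt {g : X' ⟶ X} {G : Set X'} (h : Tracked g G) {x : X'} (hx : Good g G x) :
    IsCurvePt x ∧ IsRegCurve x :=
  hx.elim (fun he => ⟨(h.exc x he).1, (h.exc x he).2.1⟩) fun hg => ⟨h.up x hg.1, h.reg x hg.1 hg.2⟩

theorem tracked_iso {W Y : Scheme.{u}} (e : W ≅ Y) (hY : RegSurf Y)
    (h0 : ¬ IsClosed ({(haveI := hY.integral; genericPoint Y)} : Set Y)) : Tracked e.hom ∅ := by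
  haveI := hY.integral
  haveI := hY.noeth
  haveI : Nonempty W := ⟨e.inv (genericPoint Y)⟩
  haveI : IsIntegral W := isIntegral_of_isOpenImmersion e.hom
  have hgen : e.hom (genericPoint W) = genericPoint Y := genericPoint_eq_of_isOpenImmersion e.hom
  have hi : ∀ a c : W, e.hom a = e.hom c → a = c := fun a c h => e.hom.homeomorph.injective h
  have hcl : ∀ a : W, IsClosed ({a} : Set W) ↔ IsClosed ({e.hom a} : Set Y) := fun a => by
    rw [← Set.image_singleton (f := e.hom.base)]
    exact (e.hom.homeomorph.isClosed_image).symm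
  have hpt : ∀ a : W, IsCurvePt a ↔ IsCurvePt (e.hom a) := fun a => by
    constructor
    · exact fun h => isCurvePt_of_ne (fun hc => h.1 ((hcl a).2 hc))
        fun h' => h.ne_genericPoint (hi _ _ (h'.trans hgen.symm))
    · exact fun h => isCurvePt_of_ne (fun hc => h.1 ((hcl a).1 hc))
        fun h' => h.ne_genericPoint (by rw [h', hgen])
  exact
  { surf := (contractionSeq_of_ptSeq (PtSeq.iso e) hY).1
    notClosed := fun {_} hc => h0 (hgen ▸ (hcl _).1 hc)
    proper := inferInstance
    seq := PtSeq.iso e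
    generic := hgen
    fin := Set.finite_empty
    exc := fun x hx => hx.elim
    cover := fun x hx h => absurd ((hpt x).1 hx) h
    inj := fun x y _ => hi x y
    up := fun x hx => (hpt x).2 hx
    reg := fun x _ hr => by
      obtain ⟨N, _, j, hj, hd, hN, hx⟩ := hr
      haveI := hj
      exact ⟨N, inferInstance, j ≫ e.inv, inferInstance, hd, hN,
        hi _ _ (by rw [← Scheme.Hom.comp_apply, Category.assoc, e.inv_hom_id, Category.comp_id, hx])⟩
    transv := fun x hx => hx.elim
    triple := fun x hx => hx.elim }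

theorem curvePt_eq_of_specializes {Y : Scheme.{u}} [IsIntegral Y] (hY : topologicalKrullDim Y ≤ 2) {x y : Y}
    (hx : IsCurvePt x) (hy : IsCurvePt y) (h : x ⤳ y) : x = y := by
  by_contra hne
  exact hy.1 (isClosed_of_curvePt hY hx h (Ne.symm hne))

theorem tracked_step {W Z Y : Scheme.{u}} (b : W ⟶ Z) (r : Z ⟶ Y) (z : Z) (hz : IsClosed ({z} : Set Z))
    (hb : BlowUp.IsBlowUp b (Scheme.IdealSheafData.vanishingIdeal ⟨{z}, hz⟩)) {G : Set Z} (h : Tracked r G) :
    ∃ G' : Set W, Tracked (b ≫ r) G' := by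
  haveI hrp := h.proper
  haveI := h.surf.integral
  have hz0 : ¬ IsClosed ({(haveI := h.surf.integral; genericPoint Z)} : Set Z) := h.notClosed
  obtain ⟨hW, hbp, hiso, h1⟩ := step_basic h.surf z hz b hb hz0
  haveI := hW.integral
  haveI := hbp
  haveI := hiso
  have hzc : ¬ IsCurvePt (r z) := fun hc => hc.1 (by
    have h' := r.isClosedMap _ hz
    rwa [Set.image_singleton] at h')
  have hne : ∀ {w : W}, IsCurvePt (b w) → b w ≠ z := fun hw hh => hw.1 (hh ▸ hz)
  let G' : Set W := {w | IsCurvePt w ∧ (b w ∈ G ∨ b w = z)}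
  have hcls : ∀ w, Good (b ≫ r) G' w → (IsCurvePt w ∧ b w = z) ∨
      (Good r G (b w) ∧ IsCurvePt (b w) ∧ IsRegCurve (b w)) := fun w hw => by
    rcases hw with ⟨hc, hG | hz'⟩ | hg
    · exact Or.inr ⟨Or.inl hG, (h.exc _ hG).1, (h.exc _ hG).2.1⟩
    · exact Or.inl ⟨hc, hz'⟩
    · simp only [Scheme.Hom.comp_apply] at hg
      exact Or.inr ⟨Or.inr hg, h.up _ hg.1, h.reg _ hg.1 hg.2⟩
  have hsep : ∀ {e x q : W}, b e ∈ G → Good r G (b x) → IsCurvePt (b x) → e ≠ x → e ⤳ q → x ⤳ q → b q ≠ z :=
    fun {e x q} he hx hxc hex heq hxq => step_separate h.surf z hz b hb hz0 (h.exc _ he).1 hxc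
      (h.transv _ he _ hx fun hh => hex (inj_off z hz b hh (hne (h.exc _ he).1))) heq hxq
  have hover : ∀ {w q : W}, b w = z → w ⤳ q → b q = z := fun hw hq =>
    (hw ▸ hq.map b.continuous).mem_closed hz rfl
  refine ⟨G', ⟨hW, fun {_} hc => hz0 ?_, inferInstance, PtSeq.step b r z hz (fun {_} => h1) hb h.seq, ?_, ?_, ?_, ?_, ?_,
    ?_, ?_, ?_, ?_⟩⟩
  · have h' := b.isClosedMap _ hc
    rwa [Set.image_singleton, step_generic h.surf z hz b hb hz0] at h'
  · intro _ _
    rw [Scheme.Hom.comp_apply, step_generic h.surf z hz b hb hz0]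
    exact h.generic
  · have hA : {w : W | IsCurvePt w ∧ b w = z}.Subsingleton := fun a ha c hc =>
      (step_exc h.surf z hz b hb hz0 hc.1 hc.2).2.2 a ha.1 ha.2
    refine (hA.finite.union (h.fin.preimage (f := fun w : W => b w) fun a ha c _ hac => ?_)).subset ?_
    · exact inj_off z hz b hac (hne (h.exc _ ha).1)
    · rintro w ⟨hw, hG | hz'⟩
      exacts [Or.inr hG, Or.inl ⟨hw, hz'⟩]
  · rintro w ⟨hw, hG | hz'⟩
    · exact ⟨hw, step_regCurve h.surf z hz b hb hz0 (h.exc _ hG).1 (h.exc _ hG).2.1,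
        by rw [Scheme.Hom.comp_apply]; exact (h.exc _ hG).2.2⟩
    · exact ⟨hw, (step_exc h.surf z hz b hb hz0 hw hz').1, by rw [Scheme.Hom.comp_apply, hz']; exact hzc⟩
  · intro w hw hn
    rw [Scheme.Hom.comp_apply] at hn
    by_cases hz' : b w = z
    · exact ⟨hw, Or.inr hz'⟩
    · exact ⟨hw, Or.inl (h.cover _ (step_curvePt h.surf z hz b hb hz0 hw hz') hn)⟩
  · intro w v hw hwv
    simp only [Scheme.Hom.comp_apply] at hw hwv
    exact inj_off z hz b (h.inj _ _ hw hwv) (hne (h.up _ hw))
  · intro w hw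
    rw [Scheme.Hom.comp_apply] at hw
    exact step_curvePt_up h.surf z hz b hb hz0 (h.up _ hw)
  · intro w hw hr
    rw [Scheme.Hom.comp_apply] at hw hr
    exact step_regCurve h.surf z hz b hb hz0 (h.up _ hw) (h.reg _ hw hr)
  · rintro e ⟨hec, he⟩ x hx hex
    rcases he with he | he
    · rcases hcls x hx with ⟨hxc, hxz⟩ | ⟨hxg, hxc, hxr⟩
      · exact step_transv_exc h.surf z hz b hb hz0 (h.exc _ he).1 (h.exc _ he).2.1 hxc hxz
      · intro q heq hxq
        have hq : b q ≠ z := hsep he hxg hxc hex heq hxq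
        refine step_transv_off h.surf z hz b hb hz0 (h.exc _ he).1 hxc
          (h.transv _ he _ hxg fun hh => hex (inj_off z hz b hh (hne (h.exc _ he).1))) heq hxq hq ?_ ?_
        · rintro rfl
          exact hex (curvePt_eq_of_specializes hW.dim (step_curvePt_up h.surf z hz b hb hz0 hxc) hec hxq).symm
        · rintro rfl
          exact hex (curvePt_eq_of_specializes hW.dim hec (step_curvePt_up h.surf z hz b hb hz0 hxc) heq)
    · rcases hcls x hx with ⟨hxc, hxz⟩ | ⟨hxg, hxc, hxr⟩
      · exact absurd ((step_exc h.surf z hz b hb hz0 hxc hxz).2.2 e hec he) hex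
      · exact (step_transv_exc h.surf z hz b hb hz0 hxc hxr hec he).symm
  · intro e he e' he' x hx hee hex hex' q heq heq' hxq
    by_cases hq : b q = z
    · rcases he.2 with hg | hz1
      · rcases he'.2 with hg' | hz2
        · exact hsep hg (Or.inl hg') (h.exc _ hg').1 hee heq heq' hq
        · rcases hcls x hx with ⟨hxc, hxz⟩ | ⟨hxg, hxc, -⟩
          · exact hex' ((step_exc h.surf z hz b hb hz0 hxc hxz).2.2 e' he'.1 hz2)
          · exact hsep hg hxg hxc hex heq hxq hq
      · have hg' : b e' ∈ G := he'.2.resolve_right fun hz2 =>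
          hee ((step_exc h.surf z hz b hb hz0 he'.1 hz2).2.2 e he.1 hz1)
        rcases hcls x hx with ⟨hxc, hxz⟩ | ⟨hxg, hxc, -⟩
        · exact hex ((step_exc h.surf z hz b hb hz0 hxc hxz).2.2 e he.1 hz1)
        · exact hsep hg' hxg hxc hex' heq' hxq hq
    · have hg : b e ∈ G := he.2.resolve_right fun hh => hq (hover hh heq)
      have hg' : b e' ∈ G := he'.2.resolve_right fun hh => hq (hover hh heq')
      rcases hcls x hx with ⟨-, hxz⟩ | ⟨hxg, hxc, -⟩
      · exact hq (hover hxz hxq)
      · exact h.triple _ hg _ hg' _ hxg (fun hh => hee (inj_off z hz b hh (hne (h.exc _ hg).1)))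
          (fun hh => hex (inj_off z hz b hh (hne (h.exc _ hg).1)))
          (fun hh => hex' (inj_off z hz b hh (hne (h.exc _ hg').1)))
          (b q) (heq.map b.continuous) (heq'.map b.continuous) (hxq.map b.continuous)

/-- Every sequence of point blow-ups of a surface is tracked. -/
theorem exists_tracked {g : X' ⟶ X} (hg : Resolve.IsPtBlowupSeq g) :
    ∀ (hX : RegSurf X), ¬ IsClosed ({(haveI := hX.integral; genericPoint X)} : Set X) →
      ∃ G : Set X', Tracked g G := by
  induction hg with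
  | iso e => exact fun hX h0 => ⟨∅, tracked_iso e hX h0⟩
  | step b r z hz hb _ ih =>
    intro hX h0
    obtain ⟨G, hG⟩ := ih hX h0
    exact tracked_step b r z hz hb hG

theorem isPtBlowupSeq_of_ptSeq {g : X' ⟶ X} (hg : PtSeq g) : Resolve.IsPtBlowupSeq g := by
  induction hg with
  | iso e => exact Resolve.IsPtBlowupSeq.iso e
  | step b r z hz _ hb _ ih => exact Resolve.IsPtBlowupSeq.step b r z hz hb ih

end Groth.Agent.Resolve13
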