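import Groth.Agent.Models7.BiratDesc

/-!
# Descending morphisms along a surjective closed map with trivial direct image
-/

set_option autoImplicit false
set_option linter.style.haveILetI false
set_option backward.isDefEq.respectTransparency false

universe u

open CategoryTheory CategoryTheory.Limits AlgebraicGeometry TopologicalSpace

namespace Groth.Agent.Resolve13

/-- The functions on small opens of the target are those on their preimages. -/
def AppBasis {X Y : Scheme.{u}} (b : X ⟶ Y) : Prop :=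
  Opens.IsBasis {V : Y.Opens | IsIso (b ∣_ V).appTop}

theorem ext_affine_of_isIso_appTop {A B C : Scheme.{u}} [IsAffine C] (f : A ⟶ B) [IsIso f.appTop] (g g' : B ⟶ C)
    (h : f ≫ g = f ≫ g') : g = g' := by
  refine ext_of_isAffine ?_
  have h1 := congrArg Scheme.Hom.appTop h
  rw [Scheme.Hom.comp_appTop, Scheme.Hom.comp_appTop] at h1
  exact (cancel_mono f.appTop).1 h1

variable {X Y Z : Scheme.{u}} {b : X ⟶ Y}

theorem eq_of_pullback_snd_comp [Surjective b] (hB : AppBasis b) {T : Scheme.{u}} (k : T ⟶ Y) [IsOpenImmersion k]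
    (t t' : T ⟶ Z) (h : pullback.snd b k ≫ t = pullback.snd b k ≫ t') : t = t' := by
  haveI : Surjective (pullback.snd b k) := MorphismProperty.pullback_snd _ _ inferInstance
  have hpt : ∀ p, t p = t' p := fun p => by
    obtain ⟨q, rfl⟩ := (pullback.snd b k).surjective p
    rw [← Scheme.Hom.comp_apply, h, Scheme.Hom.comp_apply]
  have hloc : ∀ p : T, ∃ O : T.Opens, p ∈ O ∧ O.ι ≫ t = O.ι ≫ t' := by
    intro p
    obtain ⟨U, hU, hpU, -⟩ := exists_isAffineOpen_mem_and_subset (x := t p) (U := ⊤) trivial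
    let P : T.Opens := t ⁻¹ᵁ U ⊓ t' ⁻¹ᵁ U
    have hpP : p ∈ P := ⟨hpU, show t' p ∈ U by rw [← hpt]; exact hpU⟩
    obtain ⟨(W : Y.Opens), hW, hpW, hWP⟩ := Opens.isBasis_iff_nbhd.mp hB (show k p ∈ k ''ᵁ P from ⟨p, hpP, rfl⟩)
    haveI : IsIso (b ∣_ W).appTop := hW
    have hr : Set.range W.ι.base ⊆ Set.range k.base := by
      rw [Scheme.Opens.range_ι]
      intro w hw
      obtain ⟨q, -, rfl⟩ := hWP hw
      exact ⟨q, rfl⟩
    let j := IsOpenImmersion.lift k W.ι hr
    have hj : j ≫ k = W.ι := IsOpenImmersion.lift_fac _ _ _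
    have hjP : ∀ w, j w ∈ P := fun w => by
      obtain ⟨q, hq, hqw⟩ := hWP w.2
      have : j w = q := k.isOpenEmbedding.injective (by
        rw [← Scheme.Hom.comp_apply, hj]; exact hqw.symm)
      rw [this]; exact hq
    have hb : (b ∣_ W) ≫ j = pullback.lift (b ⁻¹ᵁ W).ι ((b ∣_ W) ≫ j)
        (by rw [Category.assoc, hj, morphismRestrict_ι]) ≫ pullback.snd b k := (pullback.lift_snd _ _ _).symm
    haveI : IsAffine (U : Scheme.{u}) := hU
    have hl : ∀ (s : T ⟶ Z), (∀ q ∈ P, s q ∈ U) → Set.range (j ≫ s).base ⊆ Set.range U.ι.base := by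
      intro s hs
      rw [Scheme.Opens.range_ι]
      rintro _ ⟨w, rfl⟩
      exact hs _ (hjP w)
    let s₁ := IsOpenImmersion.lift U.ι (j ≫ t) (hl t fun q hq => hq.1)
    let s₂ := IsOpenImmersion.lift U.ι (j ≫ t') (hl t' fun q hq => hq.2)
    have hs : s₁ = s₂ := ext_affine_of_isIso_appTop (b ∣_ W) s₁ s₂ (by
      rw [← cancel_mono U.ι, Category.assoc, Category.assoc, IsOpenImmersion.lift_fac, IsOpenImmersion.lift_fac,
        ← Category.assoc, ← Category.assoc, hb]
      exact (Category.assoc _ _ _).trans ((congrArg _ h).trans (Category.assoc _ _ _).symm))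
    have hjt : j ≫ t = j ≫ t' := by
      rw [← IsOpenImmersion.lift_fac U.ι (j ≫ t) (hl t fun q hq => hq.1),
        ← IsOpenImmersion.lift_fac U.ι (j ≫ t') (hl t' fun q hq => hq.2)]
      exact congrArg (· ≫ U.ι) hs
    refine ⟨k ⁻¹ᵁ W, hpW, ?_⟩
    have hO : (k ⁻¹ᵁ W).ι = (k ∣_ W) ≫ j := by
      rw [← cancel_mono k, Category.assoc, hj, morphismRestrict_ι]
    rw [hO, Category.assoc, Category.assoc, hjt]
  choose O hpO hO using hloc
  exact Scheme.Cover.hom_ext (T.openCoverOfIsOpenCover O (top_le_iff.1 fun p _ => Opens.mem_iSup.2 ⟨p, hpO p⟩))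
    _ _ hO

/-- A morphism collapsing every fibre factors uniquely. -/
theorem existsUnique_desc [Surjective b] (hcl : IsClosedMap b.base) (hB : AppBasis b) (h : X ⟶ Z)
    (hconst : ∀ y : Y, (h.base '' (b.base ⁻¹' {y})).Subsingleton) : ∃! g : Y ⟶ Z, b ≫ g = h := by
  have hloc : ∀ y : Y, ∃ V : Y.Opens, y ∈ V ∧ ∃ g : (V : Scheme.{u}) ⟶ Z, (b ∣_ V) ≫ g = (b ⁻¹ᵁ V).ι ≫ h := by
    intro y
    obtain ⟨x, rfl⟩ := b.surjective y
    obtain ⟨U, hU, hxU, -⟩ := exists_isAffineOpen_mem_and_subset (x := h x) (U := ⊤) trivial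
    let V' : Y.Opens := ⟨(b.base '' ((h ⁻¹ᵁ U : X.Opens) : Set X)ᶜ)ᶜ,
      (hcl _ (h ⁻¹ᵁ U).isOpen.isClosed_compl).isOpen_compl⟩
    have hxV' : b x ∈ V' := by
      rintro ⟨x', hx', he⟩
      apply hx'
      show h x' ∈ U
      rw [hconst (b x) ⟨x', he, rfl⟩ ⟨x, rfl, rfl⟩]
      exact hxU
    obtain ⟨(V : Y.Opens), hV, hxV, hVV'⟩ := Opens.isBasis_iff_nbhd.mp hB hxV'
    haveI : IsIso (b ∣_ V).appTop := hV
    have hle : b ⁻¹ᵁ V ≤ h ⁻¹ᵁ U := fun z hz => by_contra fun hn => hVV' hz ⟨z, hn, rfl⟩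
    haveI : IsAffine U := hU
    obtain ⟨g, hg⟩ := Models7.exists_factor_affine (b ∣_ V) (h.resLE U (b ⁻¹ᵁ V) hle)
    exact ⟨V, hxV, g ≫ U.ι, by rw [← Category.assoc, hg, Scheme.Hom.resLE_comp_ι]⟩
  choose V hyV g hg using hloc
  let 𝒰 : Y.OpenCover := Y.openCoverOfIsOpenCover V (top_le_iff.1 fun y _ => Opens.mem_iSup.2 ⟨y, hyV y⟩)
  have hlift : ∀ (i : Y) {T : Scheme.{u}} (a : T ⟶ X) (c : T ⟶ (V i : Scheme.{u})), a ≫ b = c ≫ (V i).ι →
      c ≫ g i = a ≫ h := by
    intro i T a c hac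
    have hr : Set.range a.base ⊆ Set.range (b ⁻¹ᵁ V i).ι.base := by
      rintro _ ⟨t, rfl⟩
      rw [Scheme.Opens.range_ι]
      show b (a t) ∈ V i
      rw [← Scheme.Hom.comp_apply, hac, Scheme.Hom.comp_apply]
      exact (c t).2
    let l := IsOpenImmersion.lift (b ⁻¹ᵁ V i).ι a hr
    have hl : l ≫ (b ⁻¹ᵁ V i).ι = a := IsOpenImmersion.lift_fac _ _ _
    have hb : l ≫ (b ∣_ V i) = c := by
      rw [← cancel_mono (V i).ι, Category.assoc, morphismRestrict_ι, reassoc_of% hl, hac]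
    rw [← hb, Category.assoc, hg, reassoc_of% hl]
  have hcompat : ∀ i j : Y, pullback.fst (V i).ι (V j).ι ≫ g i = pullback.snd (V i).ι (V j).ι ≫ g j := by
    intro i j
    let k := pullback.fst (V i).ι (V j).ι ≫ (V i).ι
    haveI : IsOpenImmersion k := by infer_instance
    refine eq_of_pullback_snd_comp (b := b) hB k _ _ ?_
    rw [← Category.assoc, ← Category.assoc,
      hlift i (pullback.fst b k) (pullback.snd b k ≫ pullback.fst _ _) (by rw [pullback.condition, Category.assoc]),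
      hlift j (pullback.fst b k) (pullback.snd b k ≫ pullback.snd _ _) (by
        rw [pullback.condition, Category.assoc]
        exact congrArg (pullback.snd b k ≫ ·) pullback.condition)]
  refine ⟨𝒰.glueMorphisms g hcompat, Scheme.Cover.hom_ext (𝒰.pullback₁ b) _ _ fun i => ?_, fun g' hg' => ?_⟩
  · show pullback.fst b (V i).ι ≫ b ≫ _ = pullback.fst b (V i).ι ≫ h
    rw [pullback.condition_assoc]
    have e : (V i).ι ≫ 𝒰.glueMorphisms g hcompat = g i := 𝒰.ι_glueMorphisms g hcompat i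
    rw [e]
    exact hlift i _ _ pullback.condition
  · refine Scheme.Cover.hom_ext 𝒰 _ _ fun i => ?_
    rw [𝒰.ι_glueMorphisms]
    show (V i).ι ≫ g' = g i
    refine eq_of_pullback_snd_comp (b := b) hB (V i).ι _ _ ?_
    rw [hlift i _ _ pullback.condition, ← pullback.condition_assoc]
    exact congrArg (pullback.fst b (V i).ι ≫ ·) hg'

end Groth.Agent.Resolve13
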