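import Groth.Agent.CAlgMisc2.Normal
import Groth.Prelude.Def_Pi1
import Groth.Prelude.Def_Coh
import Mathlib

/-!
# Codimension one points of normal schemes: divisibility in stalks and centres of valuations
-/

set_option autoImplicit false
set_option backward.isDefEq.respectTransparency.types false
universe u
open CategoryTheory CategoryTheory.Limits AlgebraicGeometry TopologicalSpace

namespace Groth.Agent.Resolve13.DivisorPts

variable {X : Scheme.{u}}

/-- The restriction of stalks along a specialisation. -/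
noncomputable abbrev sp {ξ x : X} (h : ξ ⤳ x) : X.presheaf.stalk x →+* X.presheaf.stalk ξ :=
  (X.presheaf.stalkSpecializes h).hom

theorem sp_sp {ζ ξ x : X} (h : ζ ⤳ ξ) (h' : ξ ⤳ x) (t : X.presheaf.stalk x) :
    sp h (sp h' t) = sp (h.trans h') t :=
  ConcreteCategory.congr_hom (TopCat.Presheaf.stalkSpecializes_comp X.presheaf h h') t

theorem sp_refl (x : X) (t : X.presheaf.stalk x) : sp (specializes_refl x) t = t :=
  ConcreteCategory.congr_hom (TopCat.Presheaf.stalkSpecializes_refl X.presheaf x) t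

/-- Restrictions of stalks of an integral scheme are injective. -/
theorem sp_injective [IsIntegral X] {ξ x : X} (h : ξ ⤳ x) : Function.Injective (sp h) := by
  intro a b hab
  have h1 := congrArg (sp (genericPoint_specializes ξ)) hab
  rw [sp_sp, sp_sp] at h1
  exact IsFractionRing.injective (X.presheaf.stalk x) X.functionField h1

/-- A prime of a local ring gives a generalisation, whose local ring is the localisation. -/
theorem exists_point [IsIntegral X] (x : X) (P : Ideal (X.presheaf.stalk x)) [P.IsPrime] :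
    ∃ (ξ : X) (h : ξ ⤳ x), ringKrullDim (X.presheaf.stalk ξ) = (P.height : WithBot ℕ∞) ∧
      (∀ t : X.presheaf.stalk x, t ∈ P ↔ ¬ IsUnit (sp h t)) ∧
      ∀ y : X.presheaf.stalk ξ, ∃ r s : X.presheaf.stalk x, s ∉ P ∧ y * sp h s = sp h r := by
  obtain ⟨U, hU, hxU, -⟩ := exists_isAffineOpen_mem_and_subset (x := x) (U := (⊤ : X.Opens)) trivial
  let φ := (X.presheaf.germ U x hxU).hom
  let q : PrimeSpectrum Γ(X, U) := ⟨P.comap φ, inferInstance⟩
  let ξ : X := X.fromSpecStalk x ⟨P, ‹P.IsPrime›⟩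
  have hspec : ξ ⤳ x := by
    have h1 : ξ ∈ Set.range (X.fromSpecStalk x) := ⟨_, rfl⟩
    rw [Scheme.range_fromSpecStalk] at h1
    exact h1
  have hξU : ξ ∈ U := hspec.mem_open U.2 hxU
  have hq : hU.primeIdealOf ⟨ξ, hξU⟩ = q := by
    apply hU.fromSpec.isEmbedding.injective
    rw [hU.fromSpec_primeIdealOf]
    show X.fromSpecStalk x ⟨P, ‹P.IsPrime›⟩ = _
    rw [← hU.fromSpecStalk_eq_fromSpecStalk hxU, IsAffineOpen.fromSpecStalk, Scheme.Hom.comp_apply]
    rfl
  letI := X.presheaf.algebra_section_stalk (⟨x, hxU⟩ : U)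
  letI := X.presheaf.algebra_section_stalk (⟨ξ, hξU⟩ : U)
  haveI := hU.isLocalization_stalk ⟨x, hxU⟩
  haveI hloc := hU.isLocalization_stalk ⟨ξ, hξU⟩
  have hsp : ∀ a, sp hspec (φ a) = X.presheaf.germ U ξ hξU a := fun a =>
    ConcreteCategory.congr_hom (TopCat.Presheaf.germ_stalkSpecializes X.presheaf hxU hspec) a
  have hunit : ∀ a, IsUnit (X.presheaf.germ U ξ hξU a) ↔ φ a ∉ P := fun a => by
    rw [show φ a ∉ P ↔ a ∈ (hU.primeIdealOf ⟨ξ, hξU⟩).asIdeal.primeCompl by rw [hq]; rfl]
    exact IsLocalization.AtPrime.isUnit_to_map_iff (X.presheaf.stalk ξ) (hU.primeIdealOf ⟨ξ, hξU⟩).asIdeal a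
  refine ⟨ξ, hspec, ?_, fun t => ?_, fun y => ?_⟩
  · rw [IsLocalization.AtPrime.ringKrullDim_eq_height (hU.primeIdealOf ⟨ξ, hξU⟩).asIdeal (X.presheaf.stalk ξ), hq]
    exact congrArg _ (IsLocalization.height_under (hU.primeIdealOf ⟨x, hxU⟩).asIdeal.primeCompl P)
  · obtain ⟨⟨r, s⟩, hrs⟩ := IsLocalization.surj (hU.primeIdealOf ⟨x, hxU⟩).asIdeal.primeCompl t
    have hs : IsUnit (φ s) := IsLocalization.map_units (X.presheaf.stalk x) s
    have hrs' : t * φ s = φ r := hrs
    have h1 : t ∈ P ↔ φ r ∈ P := by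
      rw [← hrs']
      exact (Ideal.mul_unit_mem_iff_mem P hs).symm
    have h2 : IsUnit (sp hspec t) ↔ IsUnit (X.presheaf.germ U ξ hξU r) := by
      rw [← hsp r, ← hrs', map_mul]
      exact ⟨fun h => h.mul (hs.map _), isUnit_of_mul_isUnit_left⟩
    rw [h1, h2, hunit r, not_not]
  · obtain ⟨⟨r, s⟩, hrs⟩ := IsLocalization.surj (hU.primeIdealOf ⟨ξ, hξU⟩).asIdeal.primeCompl y
    refine ⟨φ r, φ s, (hunit s).1 (IsLocalization.map_units (X.presheaf.stalk ξ) s), ?_⟩
    rw [hsp, hsp]
    exact hrs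

/-- Divisibility in a normal local ring is checked in codimension one. -/
theorem dvd_of_dim_one [IsIntegral X] [IsLocallyNoetherian X] (hX : Pi1.IsNormalScheme X) {x : X}
    (d b : X.presheaf.stalk x) (hd : d ≠ 0)
    (h : ∀ (ξ : X) (hs : ξ ⤳ x), ringKrullDim (X.presheaf.stalk ξ) = 1 → sp hs d ∣ sp hs b) : d ∣ b := by
  let R := X.presheaf.stalk x
  haveI : IsDomain R := (hX x).1
  haveI : IsIntegrallyClosed R := (hX x).2
  have hd' : algebraMap R (FractionRing R) d ≠ 0 := fun e => hd (IsFractionRing.injective R _ (e.trans (map_zero _).symm))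
  obtain ⟨c, hc⟩ := CAlgMisc2.mem_range_of_forall_height_one (algebraMap R (FractionRing R) b / algebraMap R _ d)
    fun P _ hP => by
      obtain ⟨ξ, hs, hdim, -, hfrac⟩ := exists_point x P
      obtain ⟨t, ht⟩ := h ξ hs (by rw [hdim, hP]; rfl)
      obtain ⟨r, s, hsP, hrs⟩ := hfrac t
      refine ⟨r, s, hsP, ?_⟩
      have h1 : b * s = d * r := sp_injective hs (by rw [map_mul, map_mul, ht, mul_assoc, hrs])
      rw [div_mul_eq_mul_div, div_eq_iff hd', ← map_mul, ← map_mul, h1, mul_comm]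
  rw [eq_div_iff hd', ← map_mul] at hc
  exact ⟨c, by rw [mul_comm]; exact (IsFractionRing.injective R _ hc).symm⟩

/-- A valuation ring of the residue field over the base has a centre on a proper scheme. -/
theorem exists_center {A : Type u} [CommRing A] (f : X ⟶ Spec (CommRingCat.of A)) [UniversallyClosed f] (ξ : X)
    (V : ValuationSubring (X.residueField ξ))
    (hV : ∀ a : A, (X.residue ξ).hom ((X.presheaf.germ (⊤ : X.Opens) ξ trivial).hom (Coh.toGlobal f a)) ∈ V) :
    ∃ (x : X) (h : ξ ⤳ x), ∀ t : X.presheaf.stalk x, (X.residue ξ).hom (sp h t) ∈ V := by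
  let κ := X.residueField ξ
  let α : A →+* κ := ((X.residue ξ).hom.comp (X.presheaf.germ (⊤ : X.Opens) ξ trivial).hom).comp (Coh.toGlobal f)
  let αV : A →+* V := α.codRestrict V.toSubring hV
  have hsq : X.fromSpecResidueField ξ ≫ f =
      Spec.map (CommRingCat.ofHom (algebraMap V κ)) ≫ Spec.map (CommRingCat.ofHom αV) := by
    rw [← Spec.map_comp, ← CommRingCat.ofHom_comp]
    have hd : ∀ {K : CommRingCat.{u}} (m₁ m₂ : Spec K ⟶ Spec (CommRingCat.of A)),
        m₁.appTop = m₂.appTop → m₁ = m₂ := fun m₁ m₂ h => ext_of_isAffine h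
    refine hd _ _ ?_
    rw [Scheme.Hom.comp_appTop]
    ext a
    obtain ⟨a, rfl⟩ : ∃ b, (Scheme.ΓSpecIso (CommRingCat.of A)).inv.hom b = a :=
      ⟨(Scheme.ΓSpecIso (CommRingCat.of A)).hom.hom a, ConcreteCategory.congr_hom (Scheme.ΓSpecIso (CommRingCat.of A)).hom_inv_id a⟩
    show (X.fromSpecResidueField ξ).appTop.hom (Coh.toGlobal f a) =
      (Spec.map (CommRingCat.ofHom ((algebraMap V κ).comp αV))).appTop.hom
        ((Scheme.ΓSpecIso (CommRingCat.of A)).inv.hom a)
    have hR := ConcreteCategory.congr_hom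
      (Scheme.ΓSpecIso_inv_naturality (CommRingCat.ofHom ((algebraMap V κ).comp αV))) a
    refine Eq.trans ?_ hR
    rw [Scheme.fromSpecResidueField, Scheme.Hom.comp_appTop, Scheme.fromSpecStalk_appTop]
    show (Spec.map (X.residue ξ)).appTop.hom
      ((Spec (X.presheaf.stalk ξ)).presheaf.map (homOfLE le_top).op ((Scheme.ΓSpecIso (X.presheaf.stalk ξ)).inv.hom
        ((X.presheaf.germ (⊤ : X.Opens) ξ trivial).hom (Coh.toGlobal f a)))) = _
    rw [Subsingleton.elim (homOfLE (le_top : (⊤ : (Spec (X.presheaf.stalk ξ)).Opens) ≤ ⊤)).op (𝟙 _),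
      CategoryTheory.Functor.map_id]
    exact (ConcreteCategory.congr_hom (Scheme.ΓSpecIso_inv_naturality (X.residue ξ)) _).symm
  let Sq : ValuativeCommSq f :=
    { R := V, K := κ, i₁ := X.fromSpecResidueField ξ, i₂ := Spec.map (CommRingCat.ofHom αV), commSq := ⟨hsq⟩ }
  have hex : ValuativeCriterion.Existence f := by
    have h : UniversallyClosed f := inferInstance
    rw [UniversallyClosed.eq_valuativeCriterion] at h
    exact h.1
  obtain ⟨⟨ℓ, hℓ₁, -⟩⟩ := (hex Sq).exists_lift
  let x : X := ℓ (IsLocalRing.closedPoint V)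
  have hξx : ξ ⤳ x := by
    have h1 : ℓ (Spec.map (CommRingCat.ofHom (algebraMap V κ)) (IsLocalRing.closedPoint κ)) = ξ := by
      rw [← Scheme.Hom.comp_apply, hℓ₁]
      exact X.fromSpecResidueField_apply ξ _
    rw [← h1]
    exact (IsLocalRing.specializes_closedPoint _).map ℓ.continuous
  refine ⟨x, hξx, fun t => ?_⟩
  have h2 : Spec.map (X.presheaf.stalkSpecializes hξx ≫ X.residue ξ) ≫ X.fromSpecStalk x =
      Spec.map (Scheme.stalkClosedPointTo ℓ ≫ CommRingCat.ofHom (algebraMap V κ)) ≫ X.fromSpecStalk x := by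
    rw [Spec.map_comp, Spec.map_comp, Category.assoc, Category.assoc, Scheme.SpecMap_stalkSpecializes_fromSpecStalk,
      Scheme.Spec_stalkClosedPointTo_fromSpecStalk, hℓ₁]
    rfl
  rw [cancel_mono] at h2
  have h3 := ConcreteCategory.congr_hom (Spec.map_injective h2) t
  rw [show (X.residue ξ).hom (sp hξx t) = algebraMap V κ ((Scheme.stalkClosedPointTo ℓ).hom t) from h3]
  exact ((Scheme.stalkClosedPointTo ℓ).hom t).2

/-- An element of a residue field lying in every local ring of the closure is integral over the base. -/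
theorem isIntegral_of_centers {A : Type u} [CommRing A] (f : X ⟶ Spec (CommRingCat.of A)) [UniversallyClosed f]
    (ξ : X) [Algebra A (X.residueField ξ)]
    (halg : ∀ a : A, algebraMap A (X.residueField ξ) a =
      (X.residue ξ).hom ((X.presheaf.germ (⊤ : X.Opens) ξ trivial).hom (Coh.toGlobal f a)))
    (c : X.residueField ξ) (hc : ∀ (x : X) (h : ξ ⤳ x), ∃ t : X.presheaf.stalk x, (X.residue ξ).hom (sp h t) = c) :
    _root_.IsIntegral A c := by
  by_contra hni
  let R : Subring (X.residueField ξ) := (integralClosure A (X.residueField ξ)).toSubring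
  haveI : IsIntegrallyClosedIn R (X.residueField ξ) :=
    inferInstanceAs (IsIntegrallyClosedIn (integralClosure A (X.residueField ξ)) (X.residueField ξ))
  obtain ⟨V, hRV, hcV⟩ := Subring.exists_le_valuationSubring_of_isIntegrallyClosedIn (R := R) (x := c) hni
  obtain ⟨x, hx, ht⟩ := exists_center f ξ V fun a => hRV (show _ ∈ R from (halg a) ▸ isIntegral_algebraMap)
  obtain ⟨t, rfl⟩ := hc x hx
  exact hcV (ht t)

end Groth.Agent.Resolve13.DivisorPts
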