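import Groth.Agent.DualLib.CxDualityHDI
import Groth.Agent.DualLib.LocCohOmega
import Groth.Agent.DualLib.Shift
import Groth.Agent.DualLib.Depth
import Groth.Agent.DualLib.Local
import Groth.Agent.CAlgH3.Serre
import Groth.Agent.Matlis6.HullExistence

/-!
# Vanishing of maps into a dualizing complex, detected by the residue field
-/

set_option autoImplicit false
set_option backward.isDefEq.respectTransparency false
set_option backward.isDefEq.respectTransparency.types false
set_option linter.style.haveILetI false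

universe u

open CategoryTheory CategoryTheory.Limits CategoryTheory.Pretriangulated DerivedCategory Opposite
open Groth.Agent.DualLib

attribute [local instance] HasDerivedCategory.standard

namespace Groth.Agent.Resolve13.DualGR

variable {A : Type u} [CommRing A] [IsLocalRing A] [IsNoetherianRing A]

theorem subsingleton_hom_finiteLength {Z : Dual.D A}
    (h : Subsingleton (Dual.inD A (IsLocalRing.ResidueField A) ⟶ Z)) (N : Type u) [AddCommGroup N] [Module A N]
    (hN : IsFiniteLength A N) : Subsingleton (Dual.inD A N ⟶ Z) := by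
  induction hN with
  | @of_subsingleton M _ _ _ =>
    exact ⟨fun a b => ((S0 A).map_isZero (ModuleCat.isZero_of_subsingleton (ModuleCat.of A M))).eq_of_src a b⟩
  | @of_simple_quotient M _ _ N _ hN ih =>
    obtain ⟨m, hm, ⟨e⟩⟩ := (isSimpleModule_iff_quot_maximal (R := A) (M := M ⧸ N)).1 inferInstance
    have hme : m = IsLocalRing.maximalIdeal A := IsLocalRing.eq_maximalIdeal hm
    subst hme
    let S : ShortComplex (ModuleCat.{u} A) := ShortComplex.mk (ModuleCat.ofHom N.subtype) (ModuleCat.ofHom N.mkQ)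
      (ModuleCat.hom_ext (LinearMap.exact_subtype_mkQ N).linearMap_comp_eq_zero)
    have hS : S.ShortExact :=
      { exact := (ShortComplex.ShortExact.moduleCat_exact_iff_function_exact _).2 (LinearMap.exact_subtype_mkQ N)
        mono_f := (ModuleCat.mono_iff_injective _).2 N.injective_subtype
        epi_g := (ModuleCat.epi_iff_surjective _).2 N.mkQ_surjective }
    let i : Dual.inD A (M ⧸ N) ≅ Dual.inD A (IsLocalRing.ResidueField A) := (S0 A).mapIso e.toModuleIso
    haveI : Subsingleton (Dual.inD A (M ⧸ N) ⟶ Z) :=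
      ((Iso.homCongr i (Iso.refl Z))).injective.subsingleton
    refine subsingleton_of_forall_eq 0 fun φ => ?_
    obtain ⟨ψ, hψ⟩ := Triangle.yoneda_exact₂ hS.singleTriangle hS.singleTriangle_distinguished φ
      (Subsingleton.elim (α := Dual.inD A N ⟶ Z) _ _)
    rw [hψ, show ψ = 0 from Subsingleton.elim (α := Dual.inD A (M ⧸ N) ⟶ Z) _ _, comp_zero]

theorem subsingleton_hom_dual {ω : Dual.D A} (hω : Dual.IsDualizing A ω) (hn : Dual.IsNormalized A ω)
    (K : Dual.D A) (hK : ∀ q, Module.Finite A (Dual.HD A K q)) (i : ℤ)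
    (h : Subsingleton (Dual.inD A (IsLocalRing.ResidueField A) ⟶ K⟦i⟧)) : Subsingleton (K ⟶ ω⟦(-i)⟧) := by
  classical
  obtain ⟨E₀, _, _, f₀, hf₀⟩ := Matlis6.exists_isInjectiveHull A (IsLocalRing.ResidueField A)
  obtain ⟨e⟩ := CxDuality.nonempty_HDI_equiv hω hn hf₀ K hK i
  have hz : ∀ t : (K ⟶ ω⟦(-i)⟧) →ₗ[A] E₀, t = 0 := fun t => by
    obtain ⟨z, rfl⟩ := e.surjective t
    obtain ⟨n, x, rfl⟩ := exists_rep_HDI _ _ _ z
    haveI := subsingleton_hom_finiteLength h _ (isFiniteLength_N (A := A) n.unop.unop)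
    rw [show x = 0 from Subsingleton.elim (α := Dual.inD A (N A n.unop.unop) ⟶ K⟦i⟧) _ _, map_zero, map_zero]
  refine subsingleton_of_forall_eq 0 fun x => ?_
  by_contra hx
  let I := LinearMap.ker (LinearMap.toSpanSingleton A _ x)
  have hI : I ≤ IsLocalRing.maximalIdeal A := IsLocalRing.le_maximalIdeal fun he => hx (by
    have : (1 : A) ∈ I := he ▸ Submodule.mem_top
    simpa [I, LinearMap.mem_ker] using this)
  let g : A ⧸ I →ₗ[A] (K ⟶ ω⟦(-i)⟧) := I.liftQ (LinearMap.toSpanSingleton A _ x) le_rfl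
  have hg : Function.Injective g := LinearMap.ker_eq_bot.1 (Submodule.ker_liftQ_eq_bot _ _ _ le_rfl)
  let c : A ⧸ I →ₗ[A] E₀ := f₀ ∘ₗ I.liftQ (Algebra.linearMap A (IsLocalRing.ResidueField A))
    (fun a ha => LinearMap.mem_ker.2 ((IsLocalRing.residue_eq_zero_iff a).2 (hI ha)))
  obtain ⟨t, ht⟩ := (Module.Baer.of_injective hf₀.isInjective).extension_property g hg c
  have h1 : c (Submodule.Quotient.mk 1) = 0 := by rw [← ht, hz t]; rfl
  have h2 : f₀ 1 = 0 := Eq.trans (congrArg f₀ (map_one (algebraMap A (IsLocalRing.ResidueField A))).symm) h1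
  exact one_ne_zero (hf₀.injective (h2.trans (map_zero _).symm))

/-- A dualizing module of a local normal domain of dimension two is normalized by a shift by two. -/
theorem isNormalized_two [IsDomain A] [IsIntegrallyClosed A] (hdim : ringKrullDim A = 2)
    {W : Type u} [AddCommGroup W] [Module A W] (hω : Dual.IsDualizing A (Dual.inD A W)) :
    Dual.IsNormalized A ((Dual.inD A W)⟦(2 : ℤ)⟧) := by
  obtain ⟨n, hn⟩ := exists_normalized hω
  have hω' := isDualizing_shift hω n
  obtain ⟨m, hm⟩ := CAlgH3.exists_depth_eq_natCast (R := A) (M := A)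
  obtain ⟨-, hnt⟩ := depth_spec hω' hn m A hm
  have hnm : n + -(m : ℤ) = 0 := by
    by_contra hne
    haveI : Subsingleton (Dual.inD A A ⟶ (Dual.inD A W)⟦n + -(m : ℤ)⟧) :=
      haveI := hd_single_subsingleton (A := A) W (n + -(m : ℤ)) hne
      (eSelf (Dual.inD A W) (n + -(m : ℤ))).injective.subsingleton
    exact not_nontrivial_iff_subsingleton.2
      (homShift (Dual.inD A A) (Dual.inD A W) n (-(m : ℤ)) _ rfl).symm.injective.subsingleton hnt
  have h2 : (2 : ℕ∞) ≤ LocCoh.depth A A := CAlgH3.two_le_depth_of_normal hdim.ge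
  have h3 := (CAlgH3.depth_le_supportDim (R := A) (M := A)).trans (Module.supportDim_le_ringKrullDim A A)
  rw [hdim, hm] at h3
  rw [hm] at h2
  obtain rfl : m = 2 := le_antisymm (Nat.cast_le (α := ℕ∞).1 (WithBot.coe_le_coe.1 h3)) (by exact_mod_cast h2)
  obtain rfl : n = 2 := by omega
  exact hn

/-- For a local normal domain of dimension two with dualizing module, maps to `ω[1]` vanish when the residue
field has no maps to the first shift. -/
theorem subsingleton_hom_shift_one [IsDomain A] [IsIntegrallyClosed A] (hdim : ringKrullDim A = 2)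
    {W : Type u} [AddCommGroup W] [Module A W] (hω : Dual.IsDualizing A (Dual.inD A W))
    (K : Dual.D A) (hK : ∀ q, Module.Finite A (Dual.HD A K q))
    (h : Subsingleton (Dual.inD A (IsLocalRing.ResidueField A) ⟶ K⟦(1 : ℤ)⟧)) :
    Subsingleton (K ⟶ (Dual.inD A W)⟦(1 : ℤ)⟧) := by
  haveI := subsingleton_hom_dual (isDualizing_shift hω 2) (isNormalized_two hdim hω) K hK 1 h
  exact (homShift K (Dual.inD A W) 2 (-1) 1 (by omega)).injective.subsingleton

/-- If multiplication by `d` of every map `A → ω` extends along `u : A → K`, with cone in degree one and no maps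
from the residue field to `K[1]`, then `d` kills the torsion first cohomology. -/
theorem smul_eq_zero_of_extends [IsDomain A] [IsIntegrallyClosed A] (hdim : ringKrullDim A = 2)
    {W : Type u} [AddCommGroup W] [Module A W] (hω : Dual.IsDualizing A (Dual.inD A W))
    (K : Dual.D A) [K.IsGE 0] [K.IsLE 1] (u : Dual.inD A A ⟶ K)
    (hu : IsIso ((DerivedCategory.homologyFunctor (ModuleCat.{u} A) 0).map u))
    (h : Subsingleton (Dual.inD A (IsLocalRing.ResidueField A) ⟶ K⟦(1 : ℤ)⟧))
    (d : A) (hd : ∀ φ : Dual.inD A A ⟶ Dual.inD A W, ∃ ψ : K ⟶ Dual.inD A W, u ≫ ψ = d • φ)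
    (htors : ∀ m : Dual.HD A K 1, ∃ n : ℕ, ∀ a ∈ IsLocalRing.maximalIdeal A ^ n, a • m = 0)
    (m₀ : Dual.HD A K 1) : d • m₀ = 0 := by
  let H := DerivedCategory.homologyFunctor (ModuleCat.{u} A)
  obtain ⟨C, v, w, hT⟩ := distinguished_cocone_triangle u
  let T := Triangle.mk u v w
  have hA0 : ∀ i : ℤ, i ≠ 0 → IsZero ((H i).obj (Dual.inD A A)) := fun i hi => by
    rcases lt_or_gt_of_ne hi with hi | hi
    · exact DerivedCategory.isZero_of_isGE _ 0 i hi
    · exact DerivedCategory.isZero_of_isLE _ 0 i hi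
  have hC : ∀ i : ℤ, i ≠ 1 → IsZero ((H i).obj C) := fun i hi => by
    have he₃ := HomologySequence.exact₃ T hT i (i + 1) rfl
    refine he₃.isZero_X₂ ?_ ?_
    · show (H i).map v = 0
      rcases lt_trichotomy i 0 with h0 | h0 | h0
      · exact (DerivedCategory.isZero_of_isGE K 0 i h0).eq_of_src _ _
      · subst h0
        haveI : IsIso ((H 0).map T.mor₁) := hu
        rw [← cancel_epi ((H 0).map T.mor₁), ← Functor.map_comp, comp_zero]
        show (H 0).map (u ≫ v) = 0
        rw [show u ≫ v = 0 from comp_distTriang_mor_zero₁₂ T hT, Functor.map_zero]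
      · exact (DerivedCategory.isZero_of_isLE K 1 i (by omega)).eq_of_src _ _
    · by_cases h1 : i = -1
      · subst h1
        haveI : IsIso ((H 0).map T.mor₁) := hu
        have he₁ := HomologySequence.exact₁ T hT (-1) 0 (by norm_num)
        show HomologySequence.δ T (-1) 0 (by norm_num) = 0
        refine (cancel_mono ((H 0).map T.mor₁)).1 ?_
        exact (HomologySequence.δ_comp T hT (-1) 0 (by norm_num)).trans zero_comp.symm
      · exact IsZero.eq_of_tgt (hA0 (i + 1) (by omega)) _ _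
  haveI : C.IsGE 1 := (DerivedCategory.isGE_iff _ _).2 fun i hi => hC i (by omega)
  haveI : C.IsLE 1 := (DerivedCategory.isLE_iff _ _).2 fun i hi => hC i (by omega)
  have hv : IsIso ((H 1).map v) := by
    haveI : Mono ((H 1).map T.mor₂) :=
      (HomologySequence.exact₂ T hT 1).mono_g ((hA0 1 one_ne_zero).eq_of_src _ _)
    haveI : Epi ((H 1).map T.mor₂) :=
      (HomologySequence.exact₃ T hT 1 2 (by norm_num)).epi_f ((hA0 2 two_ne_zero).eq_of_tgt _ _)
    exact isIso_of_mono_of_epi ((H 1).map T.mor₂)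
  let e₁ : Dual.HD A K 1 ≃ₗ[A] Dual.HD A C 1 := (@asIso _ _ _ _ ((H 1).map v) hv).toLinearEquiv
  obtain ⟨M, ⟨iso⟩⟩ := DerivedCategory.exists_iso_singleFunctor_obj_of_isGE_of_isLE C 1
  let eC : C⟦(1 : ℤ)⟧ ≅ (S0 A).obj M :=
    (shiftFunctor _ (1 : ℤ)).mapIso iso ≪≫
      ((DerivedCategory.singleFunctors (ModuleCat.{u} A)).shiftIso 1 0 1 (by norm_num)).app M
  let e₂ : Dual.HD A C 1 ≃ₗ[A] M := ((H 1).mapIso iso ≪≫
    (singleFunctorCompHomologyFunctorIso (ModuleCat.{u} A) 1).app M).toLinearEquiv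
  apply (e₁.trans e₂).injective
  rw [map_smul, map_zero]
  obtain ⟨n, hn⟩ := htors m₀
  let m : M := e₁.trans e₂ m₀
  have hle : IsLocalRing.maximalIdeal A ^ n ≤ LinearMap.ker (LinearMap.toSpanSingleton A M m) := fun a ha => by
    show a • e₁.trans e₂ m₀ = 0
    rw [← map_smul, hn a ha, map_zero]
  let z₀ : N A n →ₗ[A] M := (IsLocalRing.maximalIdeal A ^ n).liftQ (LinearMap.toSpanSingleton A M m) hle
  let z : CxDuality.Nn A n ⟶ C⟦(1 : ℤ)⟧ := (S0 A).map (ModuleCat.ofHom z₀) ≫ eC.inv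
  let ω' := (Dual.inD A W)⟦(2 : ℤ)⟧
  have hω' := isDualizing_shift hω 2
  have hn' := isNormalized_two hdim hω
  obtain ⟨E₀, _, _, f₀, hf₀⟩ := Matlis6.exists_isInjectiveHull A (IsLocalRing.ResidueField A)
  obtain ⟨ρ₀, h1, h2, h3⟩ := exists_dualSystem hω' hn' hf₀
  let ρ : DualSystem ω' E₀ := ⟨ρ₀, h1, h2, h3⟩
  let e : CxDuality.Nn A n ⟶ T.obj₁⟦(2 : ℤ)⟧ := ShiftedHom.comp (d • z) T.mor₃ (by norm_num : (1 : ℤ) + 1 = 2)
  have hAfin : ∀ i, Module.Finite A (Dual.HD A T.obj₁ i) := fun i => by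
    by_cases hi : i = 0
    · subst hi
      haveI : Module.Finite A ((𝟭 (ModuleCat.{u} A)).obj (ModuleCat.of A A)) := inferInstanceAs (Module.Finite A A)
      exact Module.Finite.equiv ((singleFunctorCompHomologyFunctorIso (ModuleCat.{u} A) 0).app
        (ModuleCat.of A A)).symm.toLinearEquiv
    · haveI := ModuleCat.subsingleton_of_isZero (hA0 i hi)
      exact inferInstanceAs (Module.Finite A ((H i).obj (Dual.inD A A)))
  obtain ⟨hI, -⟩ := CxDuality.stat ρ hω' hn' hf₀ T.obj₁ hAfin 2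
  have hpr : ∀ (j : ℤ) (hj : j + 2 = 0) (φ : T.obj₁ ⟶ ω'⟦j⟧), CxDuality.pr ρ hj e φ = 0 := by
    intro j hj φ
    obtain rfl : j = -2 := by omega
    rw [CxDuality.pr_delta ρ T (hT := hT) (i₀ := 1) (i₁ := 2) (j₁ := -2) (j₀ := -1) (hi := by norm_num) (hj := by norm_num) (h₁ := hj)
      (h₀ := (by norm_num : (-1 : ℤ) + 1 = 0)) (z := d • z) (φ := φ)]
    let sh : ω'⟦(-2 : ℤ)⟧ ≅ Dual.inD A W := (shiftFunctorCompIsoId (Dual.D A) (2 : ℤ) (-2) (by norm_num)).app _
    obtain ⟨ψ, hψ⟩ := hd (φ ≫ sh.hom)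
    have h0 : delta ω' T (-2) (-1) (by norm_num) (d • φ) = 0 := by
      refine ((exact_pre_delta T hT (-2) (-1) (by norm_num)) _).2 ⟨ψ ≫ sh.inv, ?_⟩
      show u ≫ ψ ≫ sh.inv = d • φ
      rw [reassoc_of% hψ, Linear.smul_comp, Category.assoc, Iso.hom_inv_id, Category.comp_id]
    show ρ.toFun n (ShiftedHom.comp (d • z) _ _) = 0
    rw [ShiftedHom.smul_comp, ← ShiftedHom.comp_smul,
      show d • delta ω' T (-2) (-1) (by norm_num) φ = 0 from ((delta ω' T (-2) (-1) (by norm_num)).map_smul d φ).symm.trans h0]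
    exact (congrArg (ρ.toFun n) (ShiftedHom.comp_zero _ _ _)).trans (map_zero _)
  obtain ⟨k, hk, hk0⟩ := hI n e hpr
  have hlift : (CxDuality.qm A hk ≫ (d • z)) ≫ T.mor₃⟦(1 : ℤ)⟧' = 0 := by
    refine (cancel_mono ((shiftFunctorAdd' (Dual.D A) (1 : ℤ) 1 2 (by norm_num)).inv.app T.obj₁)).1 ?_
    rw [zero_comp, ← hk0]
    simp [e, ShiftedHom.comp]
  obtain ⟨y, hy⟩ := CxDuality.coyoneda_shift₃ T hT 1 _ hlift
  haveI := subsingleton_hom_finiteLength h _ (isFiniteLength_N (A := A) k)
  rw [show y = 0 from Subsingleton.elim (α := Dual.inD A (N A k) ⟶ K⟦(1 : ℤ)⟧) _ _, zero_comp] at hy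
  have h4 : (S0 A).map (ModuleCat.ofHom (d • (z₀ ∘ₗ Nmap A hk))) = 0 := by
    have := congrArg (· ≫ eC.hom) hy
    simp only [z, zero_comp, Linear.comp_smul, Linear.smul_comp, Category.assoc, Iso.inv_hom_id, Category.comp_id] at this
    rw [show ModuleCat.ofHom (d • (z₀ ∘ₗ Nmap A hk)) =
      d • (ModuleCat.ofHom (Nmap A hk) ≫ ModuleCat.ofHom z₀) from rfl, Functor.map_smul, Functor.map_comp]
    exact this
  have h5 := (S0 A).map_injective (h4.trans (Functor.map_zero (S0 A) _ _).symm)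
  have h6 := LinearMap.congr_fun (congrArg ModuleCat.Hom.hom h5) (Submodule.Quotient.mk 1)
  refine Eq.trans ?_ h6
  show d • m = d • ((1 : A) • m)
  rw [one_smul]

end Groth.Agent.Resolve13.DualGR
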