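import Groth.Agent.Models7.Factor

/-!
# Proper birational morphisms of regular surfaces are sequences of point blow-ups
-/

set_option autoImplicit false
set_option linter.style.haveILetI false
set_option backward.isDefEq.respectTransparency false
set_option maxHeartbeats 1000000

universe u

open CategoryTheory CategoryTheory.Limits AlgebraicGeometry TopologicalSpace IsLocalRing Opposite
open Groth.Agent.Misc15.DivDescent Groth.Agent.SDiv28.CartierPart

namespace Groth.Agent.Resolve13

open Groth.Agent.Models7

/-- A proper birational morphism of regular surfaces is a composite of point blow-ups. -/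
theorem ptSeq_of_birational {W : Scheme.{u}} (hW : RegSurf W) : ∀ (n : ℕ) {X : Scheme.{u}} (g : W ⟶ X) [IsProper g],
    RegSurf X → (∀ [IrreducibleSpace W], (badPts g).ncard = n) →
    (∃ U : X.Opens, (U : Set X).Nonempty ∧ IsIso (g ∣_ U)) → PtSeq g := by
  intro n
  induction n using Nat.strongRecOn with
  | _ n ih =>
  intro X g _ hX hn ⟨U, hU, hiso⟩
  haveI := hW.integral
  haveI := hW.noeth
  haveI := hW.compact
  haveI := hX.integral
  haveI := hX.noeth
  haveI := hX.compact
  haveI := hiso
  have hXn := hX.isNormal
  obtain ⟨hgen, hbij⟩ := Coherent.birational_of_isIso_morphismRestrict g U hU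
  haveI hbir : IsIso (g.stalkMap (genericPoint W)) := (ConcreteCategory.isIso_iff_bijective _).2 hbij
  have hηX : genericPoint X ∈ U := ((genericPoint_spec X).mem_open_set_iff U.2).mpr (by simpa using hU)
  have hηW : genericPoint W ∈ g ⁻¹ᵁ U := by show g _ ∈ U; rw [hgen]; exact hηX
  have hbfin := finite_badPts hW.dim g U hηW
  by_cases hempty : badPts g = ∅
  · -- all fibres are finite
    have hfib : ∀ y : X, (g.base ⁻¹' {y}).Finite := by
      intro y
      by_cases hy : y = genericPoint X
      · refine Set.Subsingleton.finite fun a ha b hb => ?_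
        have haU : a ∈ g ⁻¹ᵁ U := by show g a ∈ U; rw [show g a = y from ha, hy]; exact hηX
        have hbU : b ∈ g ⁻¹ᵁ U := by show g b ∈ U; rw [show g b = y from hb, hy]; exact hηX
        have : (g ∣_ U) ⟨a, haU⟩ = (g ∣_ U) ⟨b, hbU⟩ :=
          Subtype.ext (((morphismRestrict_base_coe g U _).trans ((show g a = y from ha).trans
            (show g b = y from hb).symm)).trans (morphismRestrict_base_coe g U _).symm)
        exact congrArg Subtype.val ((g ∣_ U).homeomorph.injective this)
      have hne : ∀ w : W, g w = y → w ≠ genericPoint W := fun w hw h => hy (by rw [← hw, h, hgen])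
      refine (show (g.base ⁻¹' {y}) = Set.range (g.fiberι y) from (g.range_fiberι y).symm) ▸ ?_
      haveI : IsNoetherian W := {}
      haveI : LocallyOfFiniteType (g.fiberToSpecResidueField y) :=
        (inferInstance : LocallyOfFiniteType (pullback.snd g (X.fromSpecResidueField y)))
      haveI : IsLocallyNoetherian (g.fiber y) := LocallyOfFiniteType.isLocallyNoetherian (g.fiberToSpecResidueField y)
      haveI : IsNoetherian (g.fiber y) := {}
      have hmem : ∀ z : g.fiber y, g (g.fiberι y z) = y := fun z =>
        (g.range_fiberι y).le (Set.mem_range_self z)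
      have hclosed : ∀ z : g.fiber y, IsClosed ({z} : Set (g.fiber y)) := by
        intro z
        refine closure_eq_iff_isClosed.1 (Set.Subset.antisymm (fun v hv => ?_) subset_closure)
        have hs : g.fiberι y z ⤳ g.fiberι y v :=
          (specializes_iff_mem_closure.2 hv).map (g.fiberι y).continuous
        refine (g.fiberι y).isEmbedding.injective (by_contra fun hne' => ?_)
        by_cases hyc : IsClosed ({y} : Set X)
        · refine (Set.eq_empty_iff_forall_notMem.1 hempty) (g.fiberι y z) ⟨fun hc => hne' ?_, hne _ (hmem z), ?_⟩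
          · exact hs.mem_closed hc rfl
          · rw [hmem z]; exact hyc
        · by_cases hvc : IsClosed ({g.fiberι y v} : Set W)
          · exact hyc (by
              have h := g.isClosedMap _ hvc
              rw [Set.image_singleton, show g (g.fiberι y v) = y from hmem v] at h
              exact h)
          · rcases eq_or_eq_generic_of_dim_le_two hW.dim hs hvc with h | h
            · exact hne' h.symm
            · exact hne _ (hmem z) h
      have : (Set.univ : Set (g.fiber y)).Finite := by
        obtain ⟨S, hSf, hSc, hSi, hS⟩ :=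
          NoetherianSpace.exists_finite_set_isClosed_irreducible (isClosed_univ (X := g.fiber y))
        refine (hSf.biUnion (t := fun Z => Z) fun Z hZ => Set.Subsingleton.finite fun a ha b hb => ?_).subset
          fun z _ => ?_
        · obtain ⟨c, hc⟩ := QuasiSober.sober (hSi Z hZ) (hSc Z hZ)
          have hZc : Z = {c} := by rw [← hc.def, (hclosed c).closure_eq]
          rw [hZc] at ha hb
          exact ha.trans hb.symm
        · obtain ⟨Z, hZ, hz⟩ := Set.mem_sUnion.1 (hS.le (Set.mem_univ z))
          exact Set.mem_biUnion hZ hz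
      rw [← Set.image_univ]
      exact this.image _
    haveI : IsIso g := by
      haveI : IsIso (g ∣_ ⊤) := isIso_morphismRestrict_of_finite_fibres g
        (Coherent.isIso_app_of_birational g hXn hgen hbir) ⊤ (fun y _ => hfib y)
      exact isIso_of_restrict_top g
    exact PtSeq.iso (asIso g)
  · obtain ⟨w, hw⟩ := Set.nonempty_iff_ne_empty.2 hempty
    obtain ⟨hwnc, hw0, hyc⟩ := id hw
    let y := g w
    obtain ⟨v, hwv, hvw⟩ : ∃ v, w ⤳ v ∧ v ≠ w := by
      by_contra hall
      push Not at hall
      exact hwnc (closure_eq_iff_isClosed.1 (Set.Subset.antisymm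
        (fun v hv => hall v (specializes_iff_mem_closure.2 hv)) subset_closure))
    have hgv : g v = y := (hwv.map g.continuous).mem_closed hyc rfl
    have hy0 : y ≠ genericPoint X := by
      intro h
      have : w ∈ g ⁻¹ᵁ U := by show g w ∈ U; rw [show g w = genericPoint X from h]; exact hηX
      have hvU : v ∈ g ⁻¹ᵁ U := by show g v ∈ U; rw [hgv, h]; exact hηX
      have h2 : (g ∣_ U) ⟨v, hvU⟩ = (g ∣_ U) ⟨w, this⟩ :=
        Subtype.ext (((morphismRestrict_base_coe g U _).trans hgv).trans (morphismRestrict_base_coe g U _).symm)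
      exact hvw (congrArg Subtype.val ((g ∣_ U).homeomorph.injective h2))
    have hdim : ¬ ringKrullDim (X.presheaf.stalk y) ≤ 1 := fun h =>
      hvw (Coherent.eq_of_specializes_of_dim_le_one g hgen hbij y hy0 h w v rfl hgv hwv).symm
    let I := Scheme.IdealSheafData.vanishingIdeal ⟨{y}, hyc⟩
    obtain ⟨X', π, hπ⟩ := BlowUpLib.exists_isBlowUp I
    obtain ⟨hX', hπp, hπiso⟩ := hX.pointBlowUp y hyc hy0 π hπ
    haveI := hX'.integral
    haveI := hX'.noeth
    haveI := hπp
    haveI := hπiso
    have hcart := isEffCartier_comap_point hW.regular hX.regular hW.dim hX.dim hXn g hgen hbir y hyc hy0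
      ⟨w, v, Ne.symm hvw, rfl, hgv⟩
    obtain ⟨g', hg', -⟩ := hπ.2 W g hcart
    change g' ≫ π = g at hg'
    haveI : IsProper (g' ≫ π) := hg'.symm ▸ inferInstanceAs (IsProper g)
    haveI : IsProper g' := IsProper.of_comp g' π
    -- birationality of the new map
    let V : X.Opens := ⟨{y}ᶜ, hyc.isOpen_compl⟩
    have hUV : IsIso (g' ∣_ (π ⁻¹ᵁ (U ⊓ V))) := by
      haveI h1 : IsIso (g ∣_ (U ⊓ V)) := isIso_restrict_of_le g inf_le_left
      haveI h2 : IsIso (π ∣_ (U ⊓ V)) := isIso_restrict_of_le π inf_le_right
      haveI h3 : IsIso ((g' ≫ π) ∣_ (U ⊓ V)) := by rw [hg']; exact h1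
      rw [morphismRestrict_comp] at h3
      exact IsIso.of_isIso_comp_right _ (π ∣_ (U ⊓ V))
    have hUVne : ((π ⁻¹ᵁ (U ⊓ V) : X'.Opens) : Set X').Nonempty := by
      obtain ⟨hgπ, -⟩ := Coherent.birational_of_isIso_morphismRestrict π V ⟨genericPoint X, hy0.symm⟩
      exact ⟨genericPoint X', show π (genericPoint X') ∈ U ⊓ V by rw [hgπ]; exact ⟨hηX, hy0.symm⟩⟩
    -- a point over `y` which is not closed
    obtain ⟨x', hx', hx'c⟩ : ∃ x' : X', π x' = y ∧ ¬ IsClosed ({x'} : Set X') := by
      by_contra hall
      push Not at hall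
      apply hdim
      obtain ⟨hgπ, hbπ⟩ := Coherent.birational_of_isIso_morphismRestrict π V ⟨genericPoint X, hy0.symm⟩
      haveI : IsIso (π.stalkMap (genericPoint X')) := (ConcreteCategory.isIso_iff_bijective _).2 hbπ
      have hfib : ∀ z : X, (π.base ⁻¹' {z}).Finite := by
        intro z
        by_cases hz : z = y
        · subst hz
          haveI : CompactSpace X' := QuasiCompact.compactSpace_of_compactSpace π
          haveI : IsNoetherian X' := {}
          obtain ⟨S, hSf, hSc, hSi, hS⟩ :=
            NoetherianSpace.exists_finite_set_isClosed_irreducible (hyc.preimage π.continuous)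
          refine (hSf.biUnion (t := fun Z => Z) fun Z hZ => Set.Subsingleton.finite fun a ha b hb => ?_).subset
            fun z hz => ?_
          · obtain ⟨c, hc⟩ := QuasiSober.sober (hSi Z hZ) (hSc Z hZ)
            have hcy : π c = y := hS.ge (Set.mem_sUnion.2 ⟨Z, hZ, hc.mem⟩)
            have hZc : Z = {c} := by rw [← hc.def, (hall c hcy).closure_eq]
            rw [hZc] at ha hb
            exact ha.trans hb.symm
          · obtain ⟨Z, hZ, hz⟩ := Set.mem_sUnion.1 (hS.le hz)
            exact Set.mem_biUnion hZ hz
        · refine Set.Subsingleton.finite fun a ha b hb => ?_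
          have haV : a ∈ π ⁻¹ᵁ V := by show π a ∈ V; rw [show π a = z from ha]; exact hz
          have hbV : b ∈ π ⁻¹ᵁ V := by show π b ∈ V; rw [show π b = z from hb]; exact hz
          have h2 : (π ∣_ V) ⟨a, haV⟩ = (π ∣_ V) ⟨b, hbV⟩ :=
            Subtype.ext (((morphismRestrict_base_coe π V _).trans ((show π a = z from ha).trans
              (show π b = z from hb).symm)).trans (morphismRestrict_base_coe π V _).symm)
          exact congrArg Subtype.val ((π ∣_ V).homeomorph.injective h2)
      haveI : IsIso (π ∣_ ⊤) := isIso_morphismRestrict_of_finite_fibres π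
        (Coherent.isIso_app_of_birational π hXn hgπ inferInstance) ⊤ (fun z _ => hfib z)
      haveI : IsIso π := isIso_of_restrict_top π
      have hI : BlowUp.IsEffCartierIdeal I := by
        have h := FlatMor12.BlowUpDisjoint.isEffCartierIdeal_comap (I.comap π) hπ.1 (inv π)
        rwa [← Scheme.IdealSheafData.comap_comp, IsIso.inv_hom_id, Scheme.IdealSheafData.comap_id] at h
      obtain ⟨t, -, ht⟩ := exists_gen hI y
      rw [stk_vanishingIdeal_point y hyc] at ht
      refine (ringKrullDim_le_spanFinrank_maximalIdeal _).trans ?_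
      rw [ht]
      exact_mod_cast (Submodule.spanFinrank_span_le_ncard_of_finite (Set.finite_singleton t)).trans
        (Set.ncard_singleton t).le
    haveI : Surjective g' := surjective_of_gen' g' (π ⁻¹ᵁ (U ⊓ V)) hUVne
    obtain ⟨w', rfl⟩ := g'.surjective x'
    have hgw' : g w' = y := by rw [← hg', Scheme.Hom.comp_apply]; exact hx'
    have hw' : w' ∈ badPts g := by
      refine ⟨fun hc => hx'c ?_, fun h => hy0 ?_, by rw [hgw']; exact hyc⟩
      · have h := g'.isClosedMap _ hc
        rwa [Set.image_singleton] at h
      · rw [← hgw', h, hgen]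
    have hsub : badPts g' ⊆ badPts g := fun a ⟨ha, ha0, hac⟩ => ⟨ha, ha0, by
      rw [← hg', Scheme.Hom.comp_apply]
      have h := π.isClosedMap _ hac
      rwa [Set.image_singleton] at h⟩
    have hlt : (badPts g').ncard < n := by
      rw [← hn]
      exact Set.ncard_lt_ncard ((Set.ssubset_iff_of_subset hsub).2 ⟨w', hw', fun h => hx'c h.2.2⟩) hbfin
    rw [← hg']
    have hπseq : PtSeq π := by
      rw [← Category.comp_id π]
      exact PtSeq.step π (𝟙 X) y hyc (fun {_} => hy0) hπ (PtSeq.id X)
    exact (ih _ hlt g' hX' (fun {_} => rfl) ⟨_, hUVne, hUV⟩).trans hπseq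
where
  surjective_of_gen' {W X : Scheme.{u}} (g : W ⟶ X) [IsProper g] [IsIntegral W] [IsIntegral X] (U : X.Opens)
      (hU : (U : Set X).Nonempty) [IsIso (g ∣_ U)] : Surjective g :=
    ⟨fun x => (genericPoint_specializes x).mem_closed g.isClosedMap.isClosed_range
      ⟨_, (Coherent.birational_of_isIso_morphismRestrict g U hU).1⟩⟩

/-- A proper birational morphism of regular surfaces, no separatedness needed is a composite of point blow-ups. -/
theorem ptSeq_of_birational_regSurf {W X : Scheme.{u}} (g : W ⟶ X) [IsProper g] (hW : RegSurf W) (hX : RegSurf X)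
    (U : X.Opens) (hU : (U : Set X).Nonempty) (hiso : IsIso (g ∣_ U)) : PtSeq g := by
  haveI := hW.integral
  exact ptSeq_of_birational hW (badPts g).ncard g hX (fun {_} => rfl) ⟨U, hU, hiso⟩

end Groth.Agent.Resolve13
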