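import Groth.Agent.Coherent.Chow
import Mathlib

/-!
# The closure of a section defined over a dense open
-/

set_option autoImplicit false
set_option backward.isDefEq.respectTransparency.types false
universe u
open CategoryTheory CategoryTheory.Limits AlgebraicGeometry TopologicalSpace

namespace Groth.Agent.Resolve13

/-- A section of a separated morphism over a nonempty open of an integral scheme extends to an integral closed
subscheme which is an isomorphism over that open. -/
theorem exists_graph_closure {X P : Scheme.{u}} [IsIntegral X] [IsLocallyNoetherian X] (π : P ⟶ X) [IsSeparated π]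
    (U : X.Opens) (hU : (U : Set X).Nonempty) (σ : U.toScheme ⟶ P) (hσ : σ ≫ π = U.ι) :
    ∃ (Γ' : Scheme.{u}) (i : Γ' ⟶ P) (_ : IsIntegral Γ'), IsClosedImmersion i ∧ IsIso ((i ≫ π) ∣_ U) ∧
      ((i ≫ π) ⁻¹ᵁ U).ι ≫ i = ((i ≫ π) ∣_ U) ≫ σ := by
  haveI : Nonempty U.toScheme := ⟨⟨_, hU.some_mem⟩⟩
  haveI : IsIntegral U.toScheme := isIntegral_of_isOpenImmersion U.ι
  haveI hqc : QuasiCompact σ := by
    haveI : QuasiCompact (σ ≫ π) := hσ.symm ▸ inferInstance
    exact QuasiCompact.of_comp σ π
  haveI : IsImmersion σ := by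
    haveI : IsImmersion (σ ≫ π) := hσ.symm ▸ inferInstance
    exact IsImmersion.of_comp σ π
  let e := σ.toImage
  haveI : IsOpenImmersion e := inferInstance
  haveI : IsReduced σ.image := Coherent.isReduced_image σ
  haveI : IrreducibleSpace σ.image := by
    rw [irreducibleSpace_def]
    have h1 : closure (Set.range e) = ⊤ := e.denseRange.closure_range
    rw [← h1]
    exact ((IrreducibleSpace.isIrreducible_univ U.toScheme).image e e.continuous.continuousOn |>.closure) |> fun h => by
      rwa [Set.image_univ] at h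
  have hint : IsIntegral σ.image := isIntegral_of_irreducibleSpace_of_isReduced _
  let i := σ.imageι
  let γ := i ≫ π
  have he : e ≫ γ = U.ι := by rw [← hσ, ← Category.assoc, σ.toImage_imageι]
  -- the image over `U` is the section
  have hrange : Set.range e = (γ ⁻¹ᵁ U : Set σ.image) := by
    refine Set.Subset.antisymm ?_ fun w hw => ?_
    · rintro _ ⟨u, rfl⟩
      show γ (e u) ∈ U
      rw [← Scheme.Hom.comp_apply, he]
      exact u.2
    · let V : P.Opens := π ⁻¹ᵁ U
      let σ' : U.toScheme ⟶ V.toScheme := IsOpenImmersion.lift V.ι σ (by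
        rintro _ ⟨u, rfl⟩
        rw [V.range_ι]
        show π (σ u) ∈ U
        rw [← Scheme.Hom.comp_apply, hσ]
        exact u.2)
      have hσ' : σ' ≫ V.ι = σ := IsOpenImmersion.lift_fac _ _ _
      haveI : IsClosedImmersion σ' := by
        haveI : IsClosedImmersion (σ' ≫ (π ∣_ U)) := by
          rw [show σ' ≫ (π ∣_ U) = 𝟙 _ by
            rw [← cancel_mono U.ι, Category.assoc, morphismRestrict_ι, ← Category.assoc, hσ', hσ, Category.id_comp]]
          infer_instance
        exact IsClosedImmersion.of_comp σ' (π ∣_ U)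
      have hmem : i w ∈ closure (Set.range σ) := by
        have : w ∈ closure (Set.range e) := e.denseRange.closure_range ▸ trivial
        have h2 := image_closure_subset_closure_image i.continuous ⟨w, this, rfl⟩
        rwa [← Set.range_comp, show (⇑i ∘ ⇑e) = ⇑σ from funext fun u => by
          show i (e u) = σ u
          rw [← Scheme.Hom.comp_apply, σ.toImage_imageι]] at h2
      have hcl : IsClosed (Set.range σ') := σ'.isClosedEmbedding.isClosed_range
      obtain ⟨C, hC, hCV⟩ := isClosed_induced_iff.1 hcl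
      have hsub : Set.range σ ⊆ C := by
        rintro _ ⟨u, rfl⟩
        have : σ' u ∈ Subtype.val ⁻¹' C := hCV.ge ⟨u, rfl⟩
        rw [← hσ']
        exact this
      obtain ⟨u, hu⟩ := hCV.le (show (⟨i w, hw⟩ : V.toScheme) ∈ Subtype.val ⁻¹' C from
        hC.closure_subset (closure_mono hsub hmem))
      refine ⟨u, i.isEmbedding.injective ?_⟩
      refine (Scheme.Hom.comp_apply e i u).symm.trans ?_
      rw [σ.toImage_imageι]
      refine (congrArg (fun q : U.toScheme ⟶ P => q u) hσ'.symm).trans ?_
      show V.ι (σ' u) = i w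
      rw [hu]
      rfl
  let k : U.toScheme ⟶ (γ ⁻¹ᵁ U).toScheme := IsOpenImmersion.lift (γ ⁻¹ᵁ U).ι e (by
    rw [Scheme.Opens.range_ι]; exact hrange.le)
  have hk : k ≫ (γ ⁻¹ᵁ U).ι = e := IsOpenImmersion.lift_fac _ _ _
  haveI : IsIso k := by
    haveI : IsOpenImmersion (k ≫ (γ ⁻¹ᵁ U).ι) := hk.symm ▸ inferInstance
    haveI : IsOpenImmersion k := IsOpenImmersion.of_comp k (γ ⁻¹ᵁ U).ι
    refine (isIso_iff_isOpenImmersion_and_surjective k).2 ⟨inferInstance, ⟨fun v => ?_⟩⟩
    obtain ⟨u, hu⟩ := hrange.ge v.2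
    refine ⟨u, Subtype.ext ?_⟩
    rw [show (k u).1 = (k ≫ (γ ⁻¹ᵁ U).ι) u from rfl, hk, hu]
  have hkr : k ≫ (γ ∣_ U) = 𝟙 _ := by
    rw [← cancel_mono U.ι, Category.assoc, morphismRestrict_ι, ← Category.assoc, hk, he, Category.id_comp]
  haveI hiso : IsIso (γ ∣_ U) := by
    rw [show γ ∣_ U = inv k by rw [← cancel_epi k, IsIso.hom_inv_id, hkr]]
    infer_instance
  refine ⟨σ.image, i, hint, inferInstance, hiso, ?_⟩
  rw [← cancel_epi k, ← Category.assoc, hk, ← Category.assoc, hkr, Category.id_comp]
  exact σ.toImage_imageι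

end Groth.Agent.Resolve13
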