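import Groth.Agent.Resolve13.NormPtDominate
import Groth.Agent.Resolve13.NormFinite
import Groth.Agent.Resolve13.Principal
import Groth.Agent.Resolve13.GraphClosure
import Groth.Agent.Resolve13.SncSupport
import Groth.Agent.FlatMorAdm.Bir
import Mathlib

/-!
# Existence of a resolution makes normalisations of modifications finite
-/

set_option autoImplicit false
set_option backward.isDefEq.respectTransparency.types false
universe u
open CategoryTheory CategoryTheory.Limits AlgebraicGeometry TopologicalSpace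
open Groth.Agent.Models7 (RegSurf PtSeq)

namespace Groth.Agent.Resolve13.NormPt

/-- The dimension is bounded by the dimensions of the local rings. -/
theorem dim_le_of_stalks {X : Scheme.{u}} (n : ℕ) (h : ∀ x : X, ringKrullDim (X.presheaf.stalk x) ≤ n) :
    topologicalKrullDim X ≤ n := by
  rw [topologicalKrullDim, Order.krullDim_eq_of_orderIso (irreducibleSetEquivPoints (α := X))]
  rcases isEmpty_or_nonempty X with hX | hX
  · rw [Order.krullDim_eq_bot]; exact bot_le
  rw [Order.krullDim_eq_iSup_coheight_of_nonempty]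
  have : ∀ x : X, Order.coheight x ≤ (n : ℕ∞) := fun x => by
    have := h x
    rw [ringKrullDim_stalk_eq_coheight] at this
    exact_mod_cast this
  exact_mod_cast iSup_le this

/-- Point blow-up sequences of regular surfaces are birational. -/
theorem ptSeq_birational {Y X : Scheme.{u}} {r : Y ⟶ X} (hr : PtSeq r) (hX : RegSurf X) :
    RegSurf Y ∧ IsProper r ∧ ∃ U : X.Opens, (U : Set X).Nonempty ∧ IsIso (r ∣_ U) := by
  induction hr with
  | @iso Y' X' e =>
    haveI := hX.integral
    refine ⟨?_, inferInstance, ⊤, ⟨genericPoint X', trivial⟩, inferInstance⟩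
    haveI : Nonempty Y' := ⟨e.inv (genericPoint X')⟩
    haveI : IsIntegral Y' := isIntegral_of_isOpenImmersion e.hom
    haveI := hX.noeth
    haveI := hX.compact
    haveI : IsLocallyNoetherian Y' := LocallyOfFiniteType.isLocallyNoetherian e.hom
    haveI : CompactSpace Y' := QuasiCompact.compactSpace_of_compactSpace e.hom
    refine ⟨inferInstance, inferInstance, inferInstance, fun y => ?_, ?_⟩
    · haveI := hX.regular (e.hom y)
      exact IsRegularLocalRing.of_ringEquiv (R := X'.presheaf.stalk (e.hom y))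
        (asIso (e.hom.stalkMap y)).commRingCatIsoToRingEquiv
    · rw [(e.hom.homeomorph).isHomeomorph.topologicalKrullDim_eq]
      exact hX.dim
  | @step Y' Z X' b s z hz hz0 hb _ ih =>
    obtain ⟨hZ, hs, U, hU, hiso⟩ := ih hX
    haveI := hX.integral
    haveI := hX.noeth
    haveI := hZ.integral
    haveI := hZ.noeth
    obtain ⟨hY, hbp, hbiso⟩ := hZ.pointBlowUp z hz hz0 b hb
    haveI := hbp
    haveI := hs
    haveI := hiso
    haveI := hbiso
    exact ⟨hY, inferInstance, RatExt.exists_isIso_comp s b U hU (⟨{z}ᶜ, hz.isOpen_compl⟩ : Z.Opens)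
      ⟨genericPoint Z, fun h => hz0 (Set.mem_singleton_iff.1 h).symm⟩⟩

/-- A modification of the base is dominated by a regular one as soon as the base has a regular modification. -/
theorem exists_regular_dominating {X₀ X Z : Scheme.{u}} [IsIntegral X₀] [AlgebraicGeometry.IsNoetherian X₀]
    (hX : RegSurf X) (f : X ⟶ X₀) [IsProper f] (hf : ∃ W : X₀.Opens, (W : Set X₀).Nonempty ∧ IsIso (f ∣_ W))
    [IsIntegral Z] (m : Z ⟶ X₀) [IsProper m] (hm : ∃ W : X₀.Opens, (W : Set X₀).Nonempty ∧ IsIso (m ∣_ W)) :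
    ∃ (X' : Scheme.{u}) (bX : X' ⟶ X) (l : X' ⟶ Z), RegSurf X' ∧ IsProper bX ∧ IsProper l ∧
      l ≫ m = bX ≫ f ∧ (∃ U : X.Opens, (U : Set X).Nonempty ∧ IsIso (bX ∣_ U)) ∧
      ∀ [IsIntegral X'], l (genericPoint X') = genericPoint Z := by
  haveI := hX.integral
  haveI := hX.noeth
  haveI := hX.compact
  haveI : AlgebraicGeometry.IsNoetherian X := {}
  obtain ⟨Wf, hWfne, hWf⟩ := hf
  obtain ⟨Wm, hWmne, hWm⟩ := hm
  haveI := hWf
  haveI := hWm
  haveI : IsLocallyNoetherian Z := LocallyOfFiniteType.isLocallyNoetherian m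
  obtain ⟨hfη, -⟩ := Coherent.birational_of_isIso_morphismRestrict f Wf hWfne
  obtain ⟨hmη, hmb⟩ := Coherent.birational_of_isIso_morphismRestrict m Wm hWmne
  let W₀ : X₀.Opens := Wf ⊓ Wm
  have hW₀η : genericPoint X₀ ∈ W₀ :=
    ⟨(genericPoint_spec X₀).mem_open_set_iff Wf.2 |>.2 (by simpa using hWfne),
      (genericPoint_spec X₀).mem_open_set_iff Wm.2 |>.2 (by simpa using hWmne)⟩
  haveI : IsIso (f ∣_ W₀) := BMLib.isIso_restrict_of_le f (U := Wf) inf_le_left
  haveI : IsIso (m ∣_ W₀) := BMLib.isIso_restrict_of_le m (U := Wm) inf_le_right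
  let U₀ : X.Opens := f ⁻¹ᵁ W₀
  have hU₀η : genericPoint X ∈ U₀ := show f (genericPoint X) ∈ W₀ from hfη.symm ▸ hW₀η
  let σ : U₀.toScheme ⟶ pullback f m := pullback.lift U₀.ι ((f ∣_ W₀) ≫ inv (m ∣_ W₀) ≫ (m ⁻¹ᵁ W₀).ι) (by
    rw [Category.assoc, Category.assoc, ← morphismRestrict_ι m W₀, IsIso.inv_hom_id_assoc, morphismRestrict_ι])
  obtain ⟨Γ', i, hΓ, hicl, haiso, -⟩ := exists_graph_closure (pullback.fst f m) U₀ ⟨_, hU₀η⟩ σ (pullback.lift_fst _ _ _)
  haveI := hΓ
  haveI := hicl
  haveI := haiso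
  let a : Γ' ⟶ X := i ≫ pullback.fst f m
  let b : Γ' ⟶ Z := i ≫ pullback.snd f m
  haveI : IsProper a := inferInstance
  haveI : IsProper b := inferInstance
  obtain ⟨haη, hab⟩ := Coherent.birational_of_isIso_morphismRestrict a U₀ ⟨_, hU₀η⟩
  have hcomm : a ≫ f = b ≫ m := by rw [Category.assoc, Category.assoc, pullback.condition]
  have hbη : b (genericPoint Γ') = genericPoint Z :=
    Modification.eq_genericPoint m hmη hmb _ (by rw [← Scheme.Hom.comp_apply, ← hcomm, Scheme.Hom.comp_apply, haη, hfη])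
  haveI : IsLocallyNoetherian Γ' := LocallyOfFiniteType.isLocallyNoetherian a
  obtain ⟨J, A, B, b', c, j, -, -, hc, hadm, -, hjc, hjiso⟩ :=
    Groth.Agent.FlatMorAdm.exists_openImmersion_of_birational a U₀ (NoetherianSpace.isCompact _)
  have hJ : J ≠ ⊥ := fun h0 => by
    refine Set.disjoint_left.1 hadm.2 ?_ hU₀η
    rw [h0, Scheme.IdealSheafData.support_bot]
    trivial
  obtain ⟨X', bX, hX', hP, hbXp, hcart⟩ := exists_ptSeq_effCartier hX J hJ
  haveI := hbXp
  haveI := hX'.integral
  obtain ⟨-, -, U', hU'ne, hU'⟩ := ptSeq_birational hP hX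
  haveI := hU'
  obtain ⟨hbXη, -⟩ := Coherent.birational_of_isIso_morphismRestrict bX U' hU'ne
  obtain ⟨k, hk, -⟩ := hc.2 X' bX hcart
  haveI : IsIso j := hjiso inferInstance
  let k' : X' ⟶ Γ' := k ≫ inv j ≫ b'
  have hk' : k' ≫ a = bX := by
    simp only [k', Category.assoc]
    rw [← hjc, IsIso.inv_hom_id_assoc, hk]
  let l : X' ⟶ Z := k' ≫ b
  have hl : l ≫ m = bX ≫ f := by rw [Category.assoc, ← hcomm, ← Category.assoc, hk']
  haveI : IsProper (l ≫ m) := hl.symm ▸ inferInstance
  haveI : IsProper l := IsProper.of_comp l m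
  refine ⟨X', bX, l, hX', hbXp, inferInstance, hl, ⟨U', hU'ne, hU'⟩, fun {_} => ?_⟩
  have hk'η : k' (genericPoint X') = genericPoint Γ' :=
    Modification.eq_genericPoint a haη hab _ (by rw [← Scheme.Hom.comp_apply, hk', hbXη])
  show b (k' (genericPoint X')) = _
  rw [hk'η, hbη]

/-- A surface with a resolution has finite normalisations of modifications. -/
theorem finNorm_of_resolution {X₀ X : Scheme.{u}} [IsIntegral X₀] [AlgebraicGeometry.IsNoetherian X₀]
    (hX : RegSurf X) (f : X ⟶ X₀) [IsProper f] (hf : ∃ W : X₀.Opens, (W : Set X₀).Nonempty ∧ IsIso (f ∣_ W)) :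
    FinNorm X₀ := by
  intro Z m _ _ _ hmp hm
  haveI := hmp
  haveI : IsLocallyNoetherian Z := LocallyOfFiniteType.isLocallyNoetherian m
  obtain ⟨X', bX, l, hX', -, hlp, -, -, hlη⟩ := exists_regular_dominating hX f hf m hm
  haveI := hX'.integral
  haveI := hlp
  exact isFinite_normalizationι_of_proper hX'.isNormal l hlη

end Groth.Agent.Resolve13.NormPt
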