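import Groth.Agent.KoszPn17.PnUnit
import Groth.Agent.Coherent.RpushStalk

/-!
# The unit of `Lf^* ⊣ Rf_*` when `Rf_* O = O` over an affine base
-/

set_option autoImplicit false
set_option backward.isDefEq.respectTransparency false
set_option backward.isDefEq.respectTransparency.types false
set_option linter.style.haveILetI false

universe u

open CategoryTheory CategoryTheory.Limits CategoryTheory.Pretriangulated DerivedCategory AlgebraicGeometry Opposite
open Groth.Agent Groth.Agent.Coherent Groth.Agent.DCat Groth.Agent.Dual22Lib.WeakExact Groth.Agent.Dual22Lib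
open Groth.Agent.DQCoh Groth.Agent.SiteDer16 Groth.Agent.AmpleLib Groth.Agent.PicLib Groth.Agent.KoszPn17

namespace Groth.Agent.Resolve13

attribute [local instance] HasDerivedCategory.standard
attribute [-instance] Int.instConditionallyCompleteLinearOrder

variable {A : Type u} [CommRing A] {X : Scheme.{u}} (f : X ⟶ Spec (CommRingCat.of A))

/-- The comparison `O → f_* O`. -/
noncomputable abbrev unitPush : Coh.structureModule (Spec (CommRingCat.of A)) ⟶
    (Scheme.Modules.pushforward f).obj (Coh.structureModule X) :=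
  SheafOfModules.unitToPushforwardObjUnit f.toRingCatSheafHom

theorem isIso_unitPush [QuasiCompact f] [QuasiSeparated f] (h : IsIso f.appTop) : IsIso (unitPush f) := by
  haveI : Coh.IsQCoh ((Scheme.Modules.pushforward f).obj (Coh.structureModule X)) :=
    haveI := Coherent.isQCoh_structureModule (X := X)
    Coherent.isQCoh_push _ _
  haveI := Coherent.isQCoh_structureModule (X := Spec (CommRingCat.of A))
  refine Props12.isIso_of_bijective_top (M := Coh.structureModule (Spec (CommRingCat.of A)))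
    (N := (Scheme.Modules.pushforward f).obj (Coh.structureModule X)) _ ?_
  exact ConcreteCategory.bijective_of_isIso f.appTop

theorem isZero_of_subsingleton_top {S : Scheme.{u}} [IsAffine S] (M : S.Modules) [Coh.IsQCoh M]
    (h : Subsingleton Γ(M, ⊤)) : IsZero M := by
  haveI : IsIso (0 : M ⟶ M) := Props12.isIso_of_bijective_top _
    ⟨fun a b _ => Subsingleton.elim a b, fun a => ⟨a, Subsingleton.elim _ _⟩⟩
  rw [IsZero.iff_id_eq_zero, ← IsIso.inv_hom_id (0 : M ⟶ M), comp_zero]

/-- A higher direct image over an affine base vanishes when the cohomology does. -/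
theorem isZero_rpush_of_subsingleton_HH [CompactSpace X] [QuasiSeparatedSpace X] [QuasiCompact f] [QuasiSeparated f]
    [HasInjectiveResolutions X.Modules] (M : X.Modules) [Coh.IsQCoh M] (q : ℕ)
    (h : Subsingleton (Coh.HH X M q)) : IsZero ((Coh.Rpush f q).obj M) := by
  refine BlowUpCoh.isZero_rpush_of_rpushAb _ ?_
  haveI : Coh.IsQCoh ((Coh.Rpush f q).obj M) := isQCoh_rpush_of_isAffine f M q
  have hs : Subsingleton ((((Coh.RpushAb f q).obj (Coh.toAb M)).obj.obj (op ⊤)) : Type u) :=
    (rpushAbTopEquiv f M q).symm.toEquiv.subsingleton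
  have h0 : IsZero ((Coh.Rpush f q).obj M) := by
    refine isZero_of_subsingleton_top _ ?_
    let G := sheafToPresheaf (Opens.grothendieckTopology (Spec (CommRingCat.of A))) AddCommGrpCat.{u} ⋙
      (evaluation _ _).obj (op ⊤)
    haveI : Subsingleton (G.obj ((Coh.RpushAb f q).obj (Coh.toAb M))) := hs
    exact ((G.mapIso (toAbRpushIso f M q)).addCommGroupIsoToAddEquiv.toEquiv).subsingleton
  exact (Functor.map_isZero (toAbFunctor _) h0).of_iso (toAbRpushIso f M q).symm

variable [QuasiCompact f] [QuasiSeparated f]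

theorem nonempty_rpush_structure [DCoh.HasRpush f]
    (hac : ∀ q : ℕ, 0 < q → IsZero ((Coh.Rpush f q).obj (Coh.structureModule X))) :
    Nonempty ((DCoh.Rpush f).obj (DCoh.inD _ (Coh.structureModule X)) ≅
      DCoh.inD _ ((Scheme.Modules.pushforward f).obj (Coh.structureModule X))) := by
  let M := Coh.structureModule X
  haveI := Coherent.hasInjectiveResolutions_modules X
  obtain ⟨e⟩ := DQCoh.PerfFlatBC17.nonempty_rpush_acyclic f ((HomologicalComplex.single _ (ComplexShape.up ℤ) 0).obj M)
    (fun i => by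
      by_cases hi : i = 0
      · subst hi
        exact Coherent.isQCoh_of_iso (HomologicalComplex.singleObjXSelf (ComplexShape.up ℤ) 0 M).symm
          (h := Coherent.isQCoh_structureModule)
      · exact Coherent.isQCoh_of_isZero (HomologicalComplex.isZero_single_obj_X _ _ _ _ hi))
    (fun i q hq => by
      by_cases hi : i = 0
      · subst hi
        exact (hac q hq).of_iso
          ((Coh.Rpush f q).mapIso (HomologicalComplex.singleObjXSelf (ComplexShape.up ℤ) 0 M))
      · exact (Coh.Rpush f q).map_isZero (HomologicalComplex.isZero_single_obj_X _ _ _ _ hi))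
  exact ⟨(DCoh.Rpush f).mapIso ((singleFunctorIsoCompQ _ 0).app M) ≪≫ e ≪≫
    DerivedCategory.Q.mapIso ((HomologicalComplex.singleMapHomologicalComplex (Scheme.Modules.pushforward f)
      (ComplexShape.up ℤ) 0).app M) ≪≫ ((singleFunctorIsoCompQ _ 0).app _).symm⟩

variable [DCoh.HasLpull f] [DCoh.HasRpush f]

omit [DCoh.HasRpush f] [QuasiCompact f] [QuasiSeparated f] in
theorem exists_lift_pull (hu : IsIso (unitPush f)) :
    ∃ (θ : (DCoh.Lpull f).obj (DCoh.inD _ (Coh.structureModule (Spec (CommRingCat.of A)))) ≅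
      (DCoh.inD _ (Coh.structureModule X))),
      ∀ w' : (DCoh.Lpull f).obj (DCoh.inD _ (Coh.structureModule (Spec (CommRingCat.of A)))) ⟶
          DCoh.inD _ (Coh.structureModule X),
        ∃ v : DCoh.inD _ (Coh.structureModule (Spec (CommRingCat.of A))) ⟶ DCoh.inD _ (Coh.structureModule (Spec (CommRingCat.of A))),
          (DCoh.Lpull f).map v ≫ θ.hom = w' := by
  let S := Spec (CommRingCat.of A)
  let O := Coh.structureModule S
  let sS := HomologicalComplex.single S.Modules (ComplexShape.up ℤ) 0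
  let sX := HomologicalComplex.single X.Modules (ComplexShape.up ℤ) 0
  let pb := Scheme.Modules.pullback f
  have hN : IsKFlatFor (shT S) (sS.obj O) :=
    PullPerf.isKFlatFor_of_strictlyPerfect (strictlyPerfect_single (Coherent.CohBC.isFinLocFree_structureModule S))
  let cS := singleFunctorIsoCompQ S.Modules 0
  let cX := singleFunctorIsoCompQ X.Modules 0
  let sm := HomologicalComplex.singleMapHomologicalComplex pb (ComplexShape.up ℤ) 0
  let θ₀ := PicLoc.pullbackStructureIso f
  let θ : (DCoh.Lpull f).obj (DCoh.inD S O) ≅ DCoh.inD _ (Coh.structureModule _) :=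
    (DCoh.Lpull f).mapIso (cS.app O) ≪≫ PullPerf.lpullIso f hN ≪≫ DerivedCategory.Q.mapIso (sm.app O) ≪≫
      (cX.app _).symm ≪≫ (singleFunctor _ 0).mapIso θ₀
  refine ⟨θ, fun w' => ?_⟩
  obtain ⟨g, hg⟩ := (singleFunctor X.Modules 0).map_surjective (θ.inv ≫ w')
  let adj := Scheme.Modules.pullbackPushforwardAdjunction f
  let ψ : O ⟶ (Scheme.Modules.pushforward f).obj (Coh.structureModule _) :=
    SheafOfModules.unitToPushforwardObjUnit f.toRingCatSheafHom
  haveI : IsIso ψ := hu
  let v₀ : O ⟶ O := adj.homEquiv _ _ (θ₀.hom ≫ g) ≫ inv ψ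
  have hψ : θ₀.hom = (adj.homEquiv _ _).symm ψ := rfl
  have hv₀ : pb.map v₀ ≫ θ₀.hom = θ₀.hom ≫ g := by
    rw [hψ, ← adj.homEquiv_naturality_left_symm, Category.assoc, IsIso.inv_hom_id, Category.comp_id,
      Equiv.symm_apply_apply]
    rfl
  refine ⟨(singleFunctor S.Modules 0).map v₀, ?_⟩
  have hl : (DCoh.Lpull f).map (DerivedCategory.Q.map (sS.map v₀)) ≫ (PullPerf.lpullIso f hN).hom =
      (PullPerf.lpullIso f hN).hom ≫ DerivedCategory.Q.map ((pb.mapHomologicalComplex (ComplexShape.up ℤ)).map (sS.map v₀)) := by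
    simp only [PullPerf.lpullIso, Iso.trans_hom, Functor.mapIso_hom, Iso.symm_hom, asIso_hom, Category.assoc]
    have n₁ := (DerivedCategory.quotientCompQhIso S.Modules).inv.naturality (sS.map v₀)
    have n₂ := ((DCoh.pullKh f).totalLeftDerivedCounit DerivedCategory.Qh
      (HomotopyCategory.quasiIso S.Modules (ComplexShape.up ℤ))).naturality
        ((HomotopyCategory.quotient S.Modules (ComplexShape.up ℤ)).map (sS.map v₀))
    have n₃ := (DerivedCategory.quotientCompQhIso X.Modules).hom.naturality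
      ((pb.mapHomologicalComplex (ComplexShape.up ℤ)).map (sS.map v₀))
    simp only [Iso.app_inv, Iso.app_hom, Functor.comp_map] at n₁ n₂ n₃ ⊢
    rw [← Functor.map_comp_assoc, n₁, Functor.map_comp_assoc]
    refine congrArg (_ ≫ ·) ?_
    erw [reassoc_of% n₂]
    exact congrArg (_ ≫ ·) n₃
  have e₁ : (singleFunctor _ 0).map v₀ ≫ cS.hom.app O = cS.hom.app O ≫ DerivedCategory.Q.map (sS.map v₀) :=
    cS.hom.naturality v₀
  have e₂ : DerivedCategory.Q.map ((pb.mapHomologicalComplex (ComplexShape.up ℤ)).map (sS.map v₀)) ≫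
      DerivedCategory.Q.map (sm.hom.app O) = DerivedCategory.Q.map (sm.hom.app O) ≫ DerivedCategory.Q.map (sX.map (pb.map v₀)) := by
    rw [← Functor.map_comp, ← Functor.map_comp]
    exact congrArg _ (sm.hom.naturality v₀)
  have e₃ : DerivedCategory.Q.map (sX.map (pb.map v₀)) ≫ cX.inv.app (pb.obj O) =
      cX.inv.app (pb.obj O) ≫ (singleFunctor _ 0).map (pb.map v₀) := cX.inv.naturality (pb.map v₀)
  have hw : w' = θ.hom ≫ (singleFunctor _ 0).map g := by rw [hg, Iso.hom_inv_id_assoc]
  rw [hw]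
  simp only [θ, Iso.trans_hom, Functor.mapIso_hom, Iso.app_hom, Iso.symm_hom, Iso.app_inv, Category.assoc]
  rw [← Functor.map_comp_assoc, e₁, Functor.map_comp_assoc]
  refine congrArg (_ ≫ ·) ?_
  erw [reassoc_of% hl, reassoc_of% e₂, reassoc_of% e₃]
  rw [← Functor.map_comp, ← Functor.map_comp, hv₀]

/-- The unit is invertible on objects with quasi-coherent cohomology. -/
theorem isIso_unit_qcoh (hu : IsIso (unitPush f))
    (hac : ∀ q : ℕ, 0 < q → IsZero ((Coh.Rpush f q).obj (Coh.structureModule X))) (adj : DCoh.Lpull f ⊣ DCoh.Rpush f)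
    (M : DCoh.D (Spec (CommRingCat.of A))) (hM : DCoh.IsQCohD M) : IsIso (adj.unit.app M) := by
  let S := Spec (CommRingCat.of A)
  obtain ⟨_, _⟩ := PullPerf.exists_commShift_Lpull f
  refine isIso_of_gen (𝟭 _) (DCoh.Lpull f ⋙ DCoh.Rpush f) (triExact_of_isTriangulated _)
    ((TenLocal.triExact_Lpull f).comp (TenLocal.triExact_Rpush f)) (fun Z _ => inferInstance) (fun {κ} Z hZ => ?_)
    adj.unit (fun m => ?_) M hM
  · haveI := TenLocal.preservesCoproducts_Lpull f κ
    haveI := TenLocal.preservesColimit_Rpush f ((DCoh.Lpull f).obj ∘ Z) fun k => DQCoh.isQCohD_Lpull f _ (hZ k)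
    haveI : PreservesColimit (Discrete.functor Z ⋙ DCoh.Lpull f) (DCoh.Rpush f) :=
      preservesColimit_of_iso_diagram _ (Discrete.compNatIsoDiscrete Z (DCoh.Lpull f)).symm
    infer_instance
  · obtain ⟨_, _⟩ := exists_commShift_Rpush f
    let O₁ := DCoh.inD S (Coh.structureModule S)
    obtain ⟨θ, hθ⟩ := exists_lift_pull f hu
    let u := adj.homEquiv _ _ θ.hom
    have hsurj : ∀ x : O₁ ⟶ (DCoh.Rpush f).obj (DCoh.inD _ (Coh.structureModule X)),
        ∃ v, v ≫ u = x := fun x => by
      obtain ⟨v, hv⟩ := hθ ((adj.homEquiv _ _).symm x)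
      exact ⟨v, by rw [← Adjunction.homEquiv_naturality_left, hv, Equiv.apply_symm_apply]⟩
    obtain ⟨e⟩ := nonempty_rpush_structure f hac
    haveI := hu
    let e' : (DCoh.Rpush f).obj (DCoh.inD _ (Coh.structureModule X)) ≅ O₁ :=
      e ≪≫ (singleFunctor _ 0).mapIso (asIso (unitPush f)).symm
    obtain ⟨v, hv⟩ := hsurj e'.inv
    obtain ⟨v₀, rfl⟩ := (singleFunctor S.Modules 0).map_surjective v
    obtain ⟨c₀, hc₀⟩ := (singleFunctor S.Modules 0).map_surjective (u ≫ e'.hom)
    have h1 : v₀ ≫ c₀ = 𝟙 _ := (singleFunctor S.Modules 0).map_injective (by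
      rw [Functor.map_comp, hc₀, reassoc_of% hv, e'.inv_hom_id, CategoryTheory.Functor.map_id])
    have h2 : c₀ ≫ v₀ = 𝟙 _ := (end_unit_comm c₀ v₀).trans h1
    haveI : IsIso c₀ := ⟨v₀, h2, h1⟩
    haveI : IsIso (u ≫ e'.hom) := hc₀ ▸ inferInstance
    haveI hu : IsIso u := IsIso.of_isIso_comp_right u e'.hom
    haveI hO : IsIso (adj.unit.app O₁) := by
      have : u = adj.unit.app O₁ ≫ (DCoh.Rpush f).map θ.hom := Adjunction.homEquiv_unit _ _ _ _
      rw [this] at hu
      exact IsIso.of_isIso_comp_right _ ((DCoh.Rpush f).map θ.hom)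
    obtain ⟨_, _⟩ := PullPerf.exists_commShift_Lpull f
    letI := adj.rightAdjointCommShift ℤ
    haveI : adj.CommShift ℤ := adj.commShift_of_leftAdjoint ℤ
    rw [NatTrans.app_shift adj.unit m O₁]
    infer_instance

/-- If the unit is invertible on an object, the counit of a right adjoint of `RpushQ` is invertible there. -/
theorem isIso_trace (hu : IsIso (unitPush f))
    (hac : ∀ q : ℕ, 0 < q → IsZero ((Coh.Rpush f q).obj (Coh.structureModule X)))
    (h : DCoh.RpushPreservesQCoh f) [DCoh.HasShriek f h] (W : DCoh.DQCoh (Spec (CommRingCat.of A))) :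
    IsIso ((DCoh.trace f h).app W) := by
  obtain ⟨adj⟩ := nonempty_pullPushAdj f
  haveI : ∀ K : DCoh.DQCoh (Spec (CommRingCat.of A)), IsIso (adj.unit.app K.obj) :=
    fun K => isIso_unit_qcoh f hu hac adj K.obj K.property
  let G := DCoh.shriek f h
  let R := DCoh.RpushQ f h
  let a := DCoh.shriekAdj f h
  let P (K : DCoh.DQCoh (Spec (CommRingCat.of A))) : DCoh.DQCoh X :=
    ⟨(DCoh.Lpull f).obj K.obj, DQCoh.isQCohD_Lpull f _ K.property⟩
  let η (K : DCoh.DQCoh (Spec (CommRingCat.of A))) : K ≅ R.obj (P K) :=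
    (ObjectProperty.ι DCoh.IsQCohD).preimageIso (asIso (adj.unit.app K.obj))
  refine isIso_of_yoneda_map_bijective _ fun K => ?_
  let e : (K ⟶ R.obj (G.obj W)) ≃ (K ⟶ W) :=
    ((ObjectProperty.fullyFaithfulι DCoh.IsQCohD).homEquiv.trans
      ((adj.homEquiv K.obj (G.obj W).obj).symm.trans
        (((ObjectProperty.fullyFaithfulι DCoh.IsQCohD).homEquiv (X := P K) (Y := G.obj W)).symm.trans
          ((a.homEquiv (P K) W).symm.trans (η K).homFromEquiv.symm))))
  convert e.bijective using 1
  funext x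
  apply ObjectProperty.hom_ext
  show x.hom ≫ ((DCoh.shriekAdj f h).counit.app W).hom =
    ((η K).hom ≫ (a.homEquiv (P K) W).symm ⟨(adj.homEquiv K.obj (G.obj W).obj).symm x.hom⟩).hom
  rw [Adjunction.homEquiv_counit]
  show _ = ((η K).hom).hom ≫ ((DCoh.Rpush f).map ((adj.homEquiv K.obj (G.obj W).obj).symm x.hom) ≫
    ((DCoh.shriekAdj f h).counit.app W).hom)
  have hη : ((η K).hom).hom = adj.unit.app K.obj :=
    (ObjectProperty.ι DCoh.IsQCohD).map_preimage _
  rw [hη, ← Category.assoc, ← Adjunction.homEquiv_unit, Equiv.apply_symm_apply]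

end Groth.Agent.Resolve13
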