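import Groth.Agent.Resolve13.DualGR
import Groth.Agent.Resolve13.UnitIso
import Groth.Agent.Dual22Lib.RepLib
import Groth.Agent.Dual22Lib.SupportAdj
import Groth.Agent.Dual22Lib.RpushBound
import Groth.Agent.Props12.TildeFin
import Groth.Agent.DQCoh.Tilde
import Groth.Agent.FlatBC14.Main
import Groth.Agent.S7334
import Groth.Agent.Resolve13.Modification
import Groth.Agent.Coherent.BirationalFibre
import Groth.Agent.H8Lim.FibreDimVanish

/-!
# Grauert–Riemenschneider vanishing for normal modifications of surface singularities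
-/

set_option autoImplicit false
set_option backward.isDefEq.respectTransparency false
set_option backward.isDefEq.respectTransparency.types false
set_option linter.style.haveILetI false

universe u

open CategoryTheory CategoryTheory.Limits CategoryTheory.Pretriangulated DerivedCategory AlgebraicGeometry Opposite
open Groth.Agent Groth.Agent.Coherent Groth.Agent.DQCoh Groth.Agent.SiteDer16

namespace Groth.Agent.Resolve13.GR

attribute [local instance] HasDerivedCategory.standard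
attribute [-instance] Int.instConditionallyCompleteLinearOrder

variable {A : Type u} [CommRing A]

theorem subsingleton_homology_top {Z : DCoh.D (Spec (CommRingCat.of A))} (hZ : DCoh.IsQCohD Z)
    (h : Subsingleton (DCoh.inD _ (Coh.structureModule (Spec (CommRingCat.of A))) ⟶ Z)) :
    IsZero ((homologyFunctor _ 0).obj Z) := by
  let S := Spec (CommRingCat.of A)
  haveI : Coh.IsQCoh ((homologyFunctor S.Modules 0).obj Z) := hZ 0
  refine isZero_of_subsingleton_top _ ?_
  let a : DCoh.inD S (Coh.structureModule S) ≅ (sec S).pt.obj ⊤ :=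
    (singleFunctor _ 0).mapIso (DQCoh.topStructIso S).symm ≪≫ (singleFunctorIsoCompQ _ 0).app _ ≪≫
      (((SingleFunctors.evaluation _ _ 0).mapIso (DerivedCategory.singleFunctorsPostcompQIso S.Modules)).app
        ((freeModOn S).obj ⊤)).symm
  haveI : Subsingleton ((sec S).pt.obj ⊤ ⟶ Z) := a.homFromEquiv.symm.injective.subsingleton
  haveI : Subsingleton ((freeModOn S).obj ⊤ ⟶ (homologyFunctor S.Modules 0).obj Z) :=
    (bijective_θ Z hZ (isAffineOpen_top _)).2.subsingleton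
  exact (freeModOnEquiv (X := S) ⊤ _).symm.injective.subsingleton

theorem isQCohD_inD' {X : Scheme.{u}} {M : X.Modules} (hM : Coh.IsQCoh M) : DCoh.IsQCohD (DCoh.inD X M) :=
  haveI := hM
  FlatBC14.isQCohD_inD M

theorem isCohD_inD' {X : Scheme.{u}} [IsLocallyNoetherian X] {M : X.Modules} (hM : Coh.IsCoh M) :
    DCoh.IsCohD (DCoh.inD X M) := fun k => by
  by_cases hk : k = 0
  · subst hk
    exact Coherent.isCoh_iso ((singleFunctorCompHomologyFunctorIso X.Modules 0).app M).symm hM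
  · refine (DQCoh.coh_ops X).1 _ ?_
    rcases lt_or_gt_of_ne hk with hk | hk
    · exact DerivedCategory.isZero_of_isGE _ 0 k hk
    · exact DerivedCategory.isZero_of_isLE _ 0 k hk

variable {X : Scheme.{u}} (f : X ⟶ Spec (CommRingCat.of A)) [DCoh.HasRpush f]

/-- If `H^1(Rf_* G) = 0` and higher direct images of modules vanish above one, then `R^1 f_* H^0(G) = 0`. -/
theorem isZero_rpush_one (G : DCoh.D X) (hG : DCoh.IsQCohD G) (c : ℤ) [G.IsGE c]
    (hN : ∀ M : X.Modules, Coh.IsQCoh M → ∀ i : ℤ, 1 < i → IsZero (DCoh.HD ((DCoh.Rpush f).obj (DCoh.inD X M)) i))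
    (h1 : IsZero (DCoh.HD ((DCoh.Rpush f).obj G) 1)) :
    IsZero (DCoh.HD ((DCoh.Rpush f).obj (DCoh.inD X (DCoh.HD G 0))) 1) := by
  obtain ⟨_, _⟩ := DCat.exists_commShift_Rpush f
  let t : Triangulated.TStructure (DCoh.D X) := DerivedCategory.TStructure.t
  let R := DCoh.Rpush f
  let H := homologyFunctor (Spec (CommRingCat.of A)).Modules
  let T₁ := (t.triangleLTGE 0).obj G
  have hT₁ : T₁ ∈ distTriang _ := t.triangleLTGE_distinguished 0 G
  haveI hlt : ((t.truncLT 0).obj G).IsLE (-1) := t.isLE_truncLT_obj _ _ _ (by omega)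
  haveI : ((t.truncLT 0).obj G).IsGE c := CommAlg4.GhostLift.isGE_truncLT_obj' G c 0
  haveI hR1 : (R.obj ((t.truncLT 0).obj G)).IsLE (-1 + ((1 : ℕ) : ℤ)) :=
    Dual22Lib.RpushBound.isLE_Rpush_of_modules f 1 hN _ c (-1) (isQCohD_truncLT G hG 0)
  -- H^1 of the nonnegative truncation
  have hU : IsZero ((H 1).obj (R.obj T₁.obj₃)) := by
    have hT := R.map_distinguished _ hT₁
    have he := HomologySequence.exact₃ (R.mapTriangle.obj T₁) hT 1 2 (by norm_num)
    refine he.isZero_X₂ (h1.eq_of_src _ _) ?_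
    exact IsZero.eq_of_tgt (DerivedCategory.isZero_of_isLE _ (-1 + ((1 : ℕ) : ℤ)) 2 (by norm_num) (hX := hR1)) _ _
  let U := (t.truncGE 0).obj G
  let T₂ := (t.triangleLTGE 1).obj U
  have hT₂ : T₂ ∈ distTriang _ := t.triangleLTGE_distinguished 1 U
  haveI : U.IsGE 0 := inferInstanceAs (((t.truncGE 0).obj G).IsGE 0)
  haveI : ((t.truncLT 1).obj U).IsGE 0 := CommAlg4.GhostLift.isGE_truncLT_obj' U 0 1
  haveI : ((t.truncLT 1).obj U).IsLE 0 := t.isLE_truncLT_obj _ _ _ (by omega)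
  haveI h3 : (R.obj ((t.truncGE 1).obj U)).IsGE 1 :=
    Dual22Lib.RepLib.isGE_Rpush f ((t.truncGE 1).obj U) 1
  have hV : IsZero ((H 1).obj (R.obj ((t.truncLT 1).obj U))) := by
    have hT := R.map_distinguished _ hT₂
    have he := HomologySequence.exact₁ (R.mapTriangle.obj T₂) hT 0 1 (by norm_num)
    refine he.isZero_X₂ ?_ (hU.eq_of_tgt _ _)
    exact IsZero.eq_of_src (DerivedCategory.isZero_of_isGE _ 1 0 (by norm_num) (hX := h3)) _ _
  obtain ⟨M, ⟨iso⟩⟩ := DerivedCategory.exists_iso_singleFunctor_obj_of_isGE_of_isLE ((t.truncLT 1).obj U) 0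
  have eM : DCoh.HD G 0 ≅ M := by
    refine ?_ ≪≫ (homologyFunctor X.Modules 0).mapIso iso ≪≫ (singleFunctorCompHomologyFunctorIso X.Modules 0).app M
    haveI : IsIso ((homologyFunctor X.Modules 0).map ((t.truncGEπ 0).app G)) :=
      CommAlg4.GhostLift.isIso_homology_truncGEπ G le_rfl
    haveI : IsIso ((homologyFunctor X.Modules 0).map ((t.truncLTι 1).app U)) :=
      CommAlg4.GhostLift.isIso_homology_truncLTι U (by norm_num)
    exact asIso ((homologyFunctor X.Modules 0).map ((t.truncGEπ 0).app G)) ≪≫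
      (asIso ((homologyFunctor X.Modules 0).map ((t.truncLTι 1).app U))).symm
  exact hV.of_iso ((H 1).mapIso (R.mapIso ((singleFunctor X.Modules 0).mapIso eM ≪≫ iso.symm)))

variable [IsLocalRing A] [IsDomain A] [IsNoetherianRing A] [IsIntegrallyClosed A]

omit [DCoh.HasRpush f] [IsNoetherianRing A] [IsLocalRing A] in
theorem isIso_appTop [IsProper f] [IsIntegral X] [IsNoetherianRing A]
    (hbir : ∃ U : (Spec (CommRingCat.of A)).Opens, (U : Set (Spec (CommRingCat.of A))).Nonempty ∧ IsIso (f ∣_ U)) :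
    IsIso f.appTop := by
  obtain ⟨U, hU, hUi⟩ := id hbir
  obtain ⟨hη, hb⟩ := Coherent.birational_of_isIso_morphismRestrict f U hU
  have hAn : Pi1.IsNormalScheme (Spec (CommRingCat.of A)) := fun y => by
    refine ⟨inferInstance, ?_⟩
    exact isIntegrallyClosed_of_isLocalization ((Spec.structureSheaf A).presheaf.stalk y) y.asIdeal.primeCompl
      y.asIdeal.primeCompl_le_nonZeroDivisors
  exact Coherent.isIso_app_of_birational f hAn hη ((ConcreteCategory.isIso_iff_bijective _).2 hb) ⊤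

omit [DCoh.HasRpush f] [IsIntegrallyClosed A] in
theorem subsingleton_HH_two_le (hdim : ringKrullDim A = 2) [IsProper f] [IsIntegral X]
    (hbir : ∃ U : (Spec (CommRingCat.of A)).Opens, (U : Set (Spec (CommRingCat.of A))).Nonempty ∧ IsIso (f ∣_ U))
    (F : X.Modules) (hF : Coh.IsQCoh F) (p : ℕ) (hp : 2 ≤ p) : Subsingleton (Coh.HH X F p) := by
  obtain ⟨U, hUne, hU⟩ := hbir
  obtain ⟨hξ, hb⟩ := Coherent.birational_of_isIso_morphismRestrict f U hUne
  have hA2 : ∀ y : Spec (CommRingCat.of A), ringKrullDim ((Spec (CommRingCat.of A)).presheaf.stalk y) ≤ 2 := by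
    intro y
    letI : Algebra A ((Spec (CommRingCat.of A)).presheaf.stalk y) := StructureSheaf.stalkAlgebra A y
    haveI : IsLocalization.AtPrime ((Spec (CommRingCat.of A)).presheaf.stalk y) (y : PrimeSpectrum A).asIdeal :=
      StructureSheaf.IsLocalization.to_stalk A y
    rw [IsLocalization.AtPrime.ringKrullDim_eq_height (y : PrimeSpectrum A).asIdeal, ← hdim]
    exact Ideal.height_le_ringKrullDim_of_ne_top ((y : PrimeSpectrum A).isPrime.ne_top)
  have hfib : ∀ y, topologicalKrullDim ↥(f.fiber y) ≤ ((1 : ℕ) : WithBot ℕ∞) := fun y =>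
    Resolve13.Modification.fiber_dim_le_one f hξ hb hA2
      ((ringKrullDim_eq_zero_of_field (Spec (CommRingCat.of A)).functionField).le.trans zero_le_one) y
  exact H8Lim.subsingleton_HH_of_fibre_dim f 1 hfib F p hp

/-- Maps from `Rf_* O` to the first shift of the dualizing module vanish. -/
theorem subsingleton_hom_shift (hN : CAlg.IsNagata A) (hdim : ringKrullDim A = 2)
    [IsProper f] [IsIntegral X] (hXn : Pi1.IsNormalScheme X)
    (hbir : ∃ U : (Spec (CommRingCat.of A)).Opens, (U : Set (Spec (CommRingCat.of A))).Nonempty ∧ IsIso (f ∣_ U))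
    {ωA : Type u} [AddCommGroup ωA] [Module A ωA] (hω : Dual.IsDualizing A (Dual.inD A ωA))
    [PreservesFiniteLimits (tilde.functor (CommRingCat.of A))] (h : DCoh.RpushPreservesQCoh f) :
    Subsingleton ((DCoh.Rpush f).obj (DCoh.inD X (Coh.structureModule X)) ⟶
      ((DCoh.tildeD (CommRingCat.of A)).obj (Dual.inD A ωA))⟦(1 : ℤ)⟧) := by
  let T := DCoh.tildeD (CommRingCat.of A)
  obtain ⟨hfull, hfaith, hess⟩ := DQCoh.tildeD_main (CommRingCat.of A)
  haveI := hfull
  haveI := hfaith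
  haveI : IsLocallyNoetherian X := LocallyOfFiniteType.isLocallyNoetherian f
  let Q := (DCoh.Rpush f).obj (DCoh.inD X (Coh.structureModule X))
  have hOX : DCoh.IsQCohD (DCoh.inD X (Coh.structureModule X)) :=
    isQCohD_inD' Coherent.isQCoh_structureModule
  obtain ⟨q, ⟨eq⟩⟩ := (hess Q).1 (h _ hOX)
  have hcoh : DCoh.IsCohD Q :=
    Dual22Lib.SupportAdj.isCohD_Rpush f _ 0 (isCohD_inD' (Coherent.isCoh_structureModule X))
  haveI : (tilde.functor (CommRingCat.of A)).Additive := inferInstance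
  haveI : PreservesFiniteColimits (tilde.functor (CommRingCat.of A)) :=
    haveI := (tilde.adjunction (R := CommRingCat.of A)).leftAdjoint_preservesColimits
    inferInstance
  have hfin : ∀ i, Module.Finite A (Dual.HD A q i) := fun i => by
    obtain ⟨η⟩ := DQCoh.nonempty_homology_natIso (tilde.functor (CommRingCat.of A)) i
    have h1 : Coh.IsCoh ((tilde.functor (CommRingCat.of A)).obj ((homologyFunctor (ModuleCat.{u} A) i).obj q)) :=
      Coherent.isCoh_iso (((homologyFunctor _ i).mapIso eq).symm ≪≫ η.app q) (hcoh i)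
    exact (Props12.isFT_tilde_iff _).1 h1.2
  haveI hκ : Subsingleton (Dual.inD A (IsLocalRing.ResidueField A) ⟶ q⟦(1 : ℤ)⟧) := by
    haveI := Groth.Agent.S7334.result A hN hdim X f hXn hbir
    refine Function.Injective.subsingleton (β := ((T.obj (Dual.inD A (IsLocalRing.ResidueField A)))⟦(-1 : ℤ)⟧ ⟶ Q))
      (f := fun φ => (T.map φ ≫ (T.commShiftIso (1 : ℤ)).hom.app q ≫ eq.hom⟦(1 : ℤ)⟧')⟦(-1 : ℤ)⟧' ≫
        (shiftFunctorCompIsoId (DCoh.D _) (1 : ℤ) (-1) (by norm_num)).hom.app Q) ?_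
    intro φ ψ hφψ
    simp only [cancel_mono] at hφψ
    have := (shiftFunctor (DCoh.D _) (-1 : ℤ)).map_injective hφψ
    rw [cancel_mono] at this
    exact T.map_injective this
  haveI := DualGR.subsingleton_hom_shift_one hdim hω q hfin hκ
  refine Function.Surjective.subsingleton
    (f := fun φ : q ⟶ (Dual.inD A ωA)⟦(1 : ℤ)⟧ => eq.inv ≫ T.map φ ≫ (T.commShiftIso (1 : ℤ)).hom.app _) ?_
  intro ψ
  obtain ⟨φ, hφ⟩ := T.map_surjective (eq.hom ≫ ψ ≫ (T.commShiftIso (1 : ℤ)).inv.app _)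
  exact ⟨φ, by simp [hφ]; exact Category.comp_id ψ⟩

/-- `R^1 f_* ω_X = 0`. -/
theorem subsingleton_HH_dualizing (hN : CAlg.IsNagata A) (hdim : ringKrullDim A = 2)
    [IsProper f] [IsIntegral X] (hXn : Pi1.IsNormalScheme X)
    (hbir : ∃ U : (Spec (CommRingCat.of A)).Opens, (U : Set (Spec (CommRingCat.of A))).Nonempty ∧ IsIso (f ∣_ U))
    {ωA : Type u} [AddCommGroup ωA] [Module A ωA] (hω : Dual.IsDualizing A (Dual.inD A ωA))
    [PreservesFiniteLimits (tilde.functor (CommRingCat.of A))] (h : DCoh.RpushPreservesQCoh f)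
    [DCoh.HasShriek f h]
    (happ : IsIso f.appTop)
    (hvan : ∀ M : X.Modules, Coh.IsQCoh M → ∀ p : ℕ, 2 ≤ p → Subsingleton (Coh.HH X M p))
    (WA : DCoh.DQCoh (Spec (CommRingCat.of A)))
    (hWA : Nonempty (WA.obj ≅ (DCoh.tildeD (CommRingCat.of A)).obj (Dual.inD A ωA))) :
    Subsingleton (Coh.HH X (DCoh.dualizingMod f h WA 0) 1) := by
  obtain ⟨eW⟩ := hWA
  haveI := DCat.hasLpull f
  obtain ⟨_, _⟩ := DCat.exists_commShift_Rpush f
  haveI : CompactSpace X := QuasiCompact.compactSpace_of_compactSpace f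
  haveI : QuasiSeparatedSpace X := quasiSeparatedSpace_of_quasiSeparated f
  haveI := Coherent.hasInjectiveResolutions_modules X
  let S := Spec (CommRingCat.of A)
  let G : DCoh.DQCoh X := (DCoh.shriek f h).obj WA
  let OX := DCoh.inD X (Coh.structureModule X)
  let Q := (DCoh.Rpush f).obj OX
  haveI := subsingleton_hom_shift f hN hdim hXn hbir hω h
  haveI : Subsingleton (Q ⟶ WA.obj⟦(1 : ℤ)⟧) :=
    ((Iso.refl Q).homCongr ((shiftFunctor (DCoh.D S) (1 : ℤ)).mapIso eW)).injective.subsingleton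
  have hOX1 : DCoh.IsQCohD (OX⟦(-1 : ℤ)⟧) :=
    DQCoh.isQCohD_shift (isQCohD_inD' Coherent.isQCoh_structureModule) _
  haveI : Subsingleton ((DCoh.Rpush f).obj (OX⟦(-1 : ℤ)⟧) ⟶ WA.obj) := by
    refine Function.Injective.subsingleton (β := (Q ⟶ WA.obj⟦(1 : ℤ)⟧))
      (f := fun φ => (shiftFunctorCompIsoId (DCoh.D S) (-1 : ℤ) 1 (by norm_num)).inv.app Q ≫
        (((DCoh.Rpush f).commShiftIso (-1 : ℤ)).inv.app OX ≫ φ)⟦(1 : ℤ)⟧') ?_
    intro φ ψ hφψ
    simp only [cancel_epi] at hφψ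
    exact (cancel_epi _).1 ((shiftFunctor (DCoh.D S) (1 : ℤ)).map_injective hφψ)
  haveI : Subsingleton ((ObjectProperty.ι DCoh.IsQCohD).obj ((DCoh.RpushQ f h).obj ⟨OX⟦(-1 : ℤ)⟧, hOX1⟩) ⟶
      (ObjectProperty.ι DCoh.IsQCohD).obj WA) := ‹Subsingleton ((DCoh.Rpush f).obj (OX⟦(-1 : ℤ)⟧) ⟶ WA.obj)›
  haveI : Subsingleton ((DCoh.RpushQ f h).obj ⟨OX⟦(-1 : ℤ)⟧, hOX1⟩ ⟶ WA) :=
    (ObjectProperty.fullyFaithfulι DCoh.IsQCohD).homEquiv.injective.subsingleton
  haveI : Subsingleton ((⟨OX⟦(-1 : ℤ)⟧, hOX1⟩ : DCoh.DQCoh X) ⟶ G) :=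
    (DCoh.shriekAdj f h).homEquiv _ _ |>.symm.injective.subsingleton
  haveI : Subsingleton (OX⟦(-1 : ℤ)⟧ ⟶ G.obj) :=
    (ObjectProperty.fullyFaithfulι DCoh.IsQCohD).homEquiv (X := (⟨OX⟦(-1 : ℤ)⟧, hOX1⟩ : DCoh.DQCoh X)) (Y := G)
      |>.symm.injective.subsingleton
  haveI : Subsingleton (OX ⟶ G.obj⟦(1 : ℤ)⟧) := by
    refine Function.Injective.subsingleton (β := (OX⟦(-1 : ℤ)⟧ ⟶ G.obj))
      (f := fun φ => φ⟦(-1 : ℤ)⟧' ≫ (shiftFunctorCompIsoId (DCoh.D X) (1 : ℤ) (-1) (by norm_num)).hom.app G.obj) ?_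
    intro φ ψ hφψ
    simp only [cancel_mono] at hφψ
    exact (shiftFunctor (DCoh.D X) (-1 : ℤ)).map_injective hφψ
  obtain ⟨adj⟩ := DCat.nonempty_pullPushAdj f
  obtain ⟨θ, -⟩ := exists_lift_pull f (isIso_unitPush f happ)
  haveI : Subsingleton (DCoh.inD S (Coh.structureModule S) ⟶ (DCoh.Rpush f).obj (G.obj⟦(1 : ℤ)⟧)) :=
    (θ.homFromEquiv.symm.trans (adj.homEquiv _ _)).symm.injective.subsingleton
  have h0 := subsingleton_homology_top (h _ (DQCoh.isQCohD_shift G.property 1)) ‹_›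
  have h1 : IsZero (DCoh.HD ((DCoh.Rpush f).obj G.obj) 1) :=
    h0.of_iso ((((homologyFunctor S.Modules 0).shiftIso (1 : ℤ) 0 1 (by norm_num)).app ((DCoh.Rpush f).obj G.obj)).symm ≪≫
      (homologyFunctor S.Modules 0).mapIso (((DCoh.Rpush f).commShiftIso (1 : ℤ)).app G.obj).symm)
  haveI : PreservesFiniteColimits (tilde.functor (CommRingCat.of A)) :=
    haveI := (tilde.adjunction (R := CommRingCat.of A)).leftAdjoint_preservesColimits
    inferInstance
  obtain ⟨c, hc⟩ : ∃ c : ℤ, G.obj.IsGE c := by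
    haveI hW0 : WA.obj.IsGE 0 := by
      refine (DerivedCategory.TStructure.t).isGE_of_iso ?_ 0 (X := (singleFunctor S.Modules 0).obj
        ((tilde.functor (CommRingCat.of A)).obj (ModuleCat.of A ωA)))
      exact (((tilde.functor (CommRingCat.of A)).mapDerivedCategorySingleFunctor 0).app _).symm ≪≫ eW.symm
    refine Dual22Lib.SupportAdj.exists_isGE_rep f (Q := WA.obj) 0 ((DCoh.trace f h).app WA).hom
      G.property fun K hK => ?_
    let e : (K ⟶ G.obj) ≃ ((DCoh.Rpush f).obj K ⟶ WA.obj) :=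
      ((ObjectProperty.fullyFaithfulι DCoh.IsQCohD).homEquiv (X := (⟨K, hK⟩ : DCoh.DQCoh X)) (Y := G)).symm.trans
        (((DCoh.shriekAdj f h).homEquiv _ _).symm.trans (ObjectProperty.fullyFaithfulι DCoh.IsQCohD).homEquiv)
    unfold Dual22Lib.AdjGlue.Rep
    convert e.bijective using 1
    funext φ
    simp only [e, Equiv.trans_apply, Adjunction.homEquiv_counit]
    rfl
  have hN2 : ∀ M : X.Modules, Coh.IsQCoh M → ∀ i : ℤ, 1 < i → IsZero (DCoh.HD ((DCoh.Rpush f).obj (DCoh.inD X M)) i) := by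
    intro M hM i hi
    obtain ⟨p, rfl⟩ := Int.eq_ofNat_of_zero_le (show 0 ≤ i by omega)
    obtain ⟨b⟩ := FlatBC14.nonempty_homology_Rpush f M p
    exact (isZero_rpush_of_subsingleton_HH f M p (hvan M hM p (by omega))).of_iso b
  have h2 := isZero_rpush_one f G.obj G.property c hN2 h1
  let F := DCoh.dualizingMod f h WA 0
  have eF : DCoh.HD G.obj 0 ≅ F := eqToIso (by simp [F, G, DCoh.dualizingMod])
  haveI : Coh.IsQCoh F := Coherent.isQCoh_of_iso eF (h := G.property 0)
  obtain ⟨b⟩ := FlatBC14.nonempty_homology_Rpush f F 1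
  have h3 : IsZero ((Coh.Rpush f 1).obj F) :=
    (h2.of_iso ((homologyFunctor S.Modules 1).mapIso ((DCoh.Rpush f).mapIso ((singleFunctor X.Modules 0).mapIso eF))).symm).of_iso b.symm
  have h4 : IsZero ((Coh.RpushAb f 1).obj (Coh.toAb F)) :=
    (Functor.map_isZero (toAbFunctor _) h3).of_iso (toAbRpushIso f F 1).symm
  haveI : Subsingleton ((((Coh.RpushAb f 1).obj (Coh.toAb F)).obj.obj (op ⊤)) : Type u) :=
    AddCommGrpCat.subsingleton_of_isZero
      (Functor.map_isZero (sheafToPresheaf _ _ ⋙ (evaluation _ _).obj (op ⊤)) h4)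
  exact (rpushAbTopEquiv f F 1).toEquiv.subsingleton

end Groth.Agent.Resolve13.GR
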