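import Groth.Agent.Resolve13.HHFree
import Groth.Agent.Clifford24.Lipman.GG
import Groth.Agent.AmpleLib.Power
import Groth.Agent.AmpleLib.Twist2
import Groth.Agent.AmpleLib.FTIdeal
import Groth.Agent.EulerLib.Twist
import Groth.Agent.Coherent.FiniteType

/-!
# Vanishing of top cohomology after twisting by a globally generated invertible module
-/

set_option autoImplicit false
set_option backward.isDefEq.respectTransparency.types false
universe u
open CategoryTheory CategoryTheory.Limits AlgebraicGeometry Opposite TopologicalSpace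
open Groth.Agent.Coherent Groth.Agent.PicLib Groth.Agent.AmpleLib

namespace Groth.Agent.Resolve13

variable {X : Scheme.{u}} (P L : X.Modules)

/-- Multiplication by a global section on the right. -/
noncomputable def mulSec (k : Γ(L, ⊤)) : P ⟶ CohB1.tensorMod P L :=
  ⟨PresheafOfModules.homMk
    { app := fun W => AddCommGrpCat.ofHom (AddMonoidHom.mk'
        (fun b => tmul b (resM L (le_top : W.unop ≤ ⊤) k))
        (fun b b' => tmul_add_left b b' _))
      naturality := fun V W i => ConcreteCategory.hom_ext _ _ fun b => by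
        show tmul (resM P (leOfHom i.unop) b) _ = resM _ (leOfHom i.unop) (tmul b _)
        rw [resM_tmul, resM_resM] }
    (fun W r b => tmul_smul_left r b _)⟩

theorem mulSec_app (k : Γ(L, ⊤)) (W : X.Opens) (b : Γ(P, W)) :
    (mulSec P L k).app W b = tmul b (resM L (le_top : W ≤ ⊤) k) := rfl

variable {L}

/-- `L` is generated by the sections `k`. -/
def GenBy (L : X.Modules) {ι : Type u} [Fintype ι] (k : ι → Γ(L, ⊤)) : Prop :=
  ∀ y : X, ∃ (W : X.Opens), y ∈ W ∧ ∀ (V : X.Opens) (_ : V ≤ W) (g : Γ(L, V)),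
    ∃ c : ι → Γ(X, V), ∑ i, c i • resM L (le_top : V ≤ ⊤) (k i) = g

theorem subsingleton_HH_twist [NoetherianSpace X] (q : ℕ)
    (hq : ∀ F : X.Modules, Coh.IsQCoh F → Subsingleton (Coh.HH X F (q + 1)))
    {ι : Type u} [Fintype ι] {k : ι → Γ(L, ⊤)} (hk : GenBy L k) (hL : PicF.IsInvertible L)
    {P : X.Modules} (hP : PicF.IsInvertible P) (M : X.Modules) [Coh.IsQCoh M]
    (h : Subsingleton (Coh.HH X (CohB1.tensorMod M P) q)) :
    Subsingleton (Coh.HH X (CohB1.tensorMod M (CohB1.tensorMod P L)) q) := by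
  classical
  let E : ι → X.Modules := fun _ => CohB1.tensorMod M P
  let Φ : ∐ E ⟶ CohB1.tensorMod M (CohB1.tensorMod P L) :=
    Sigma.desc fun i => tensorMap (𝟙 M) (mulSec P L (k i))
  haveI : Epi Φ := by
    refine epi_of_locally_surjective _ fun U a y hy => ?_
    obtain ⟨W₁, hy₁, gP, hgP⟩ := exists_isGen hP y
    obtain ⟨W₂, hy₂, gL, hgL⟩ := exists_isGen hL y
    obtain ⟨W₃, hy₃, hgen⟩ := hk y
    let V := U ⊓ (W₁ ⊓ W₂ ⊓ W₃)
    have h₁ : V ≤ W₁ := inf_le_right.trans (inf_le_left.trans inf_le_left)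
    have h₂ : V ≤ W₂ := inf_le_right.trans (inf_le_left.trans inf_le_right)
    have h₃ : V ≤ W₃ := inf_le_right.trans inf_le_right
    have hgP' : IsGen P V (resM P h₁ gP) := fun V' h' => by simpa [resM_resM] using hgP V' (h'.trans h₁)
    have hgL' : IsGen L V (resM L h₂ gL) := fun V' h' => by simpa [resM_resM] using hgL V' (h'.trans h₂)
    have hg := isGen_tmul hgP' hgL'
    obtain ⟨m, hm⟩ := (bijective_tmul_gen (M := M) hg V le_rfl).2 (resM _ inf_le_left a)
    obtain ⟨c, hc⟩ := hgen V h₃ (resM L h₂ gL)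
    let p : Γ(P, V) := resM P h₁ gP
    refine ⟨V, inf_le_left, ⟨hy, ⟨hy₁, hy₂⟩, hy₃⟩,
      ∑ i, (Sigma.ι E i).app V (c i • tmul m p), ?_⟩
    rw [map_sum, ← hm]
    have e : ∀ i, Φ.app V ((Sigma.ι E i).app V (c i • tmul m p)) =
        tmul m (c i • tmul p (resM L (le_top : V ≤ ⊤) (k i))) := fun i => by
      show (Sigma.ι E i ≫ Φ).app V (c i • tmul m p) = _
      rw [show Sigma.ι E i ≫ Φ = tensorMap (𝟙 M) (mulSec P L (k i)) from Sigma.ι_desc _ _,
        Scheme.Modules.Hom.app_smul, tensorMap_tmul, mulSec_app, tmul_smul_right]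
      rfl
    simp only [e]
    show ∑ i, tmul m _ = tmul m (resM _ le_rfl (tmul (resM P h₁ gP) (resM L h₂ gL)))
    rw [resM_self, ← hc]
    let T : Γ(L, V) →+ Γ(CohB1.tensorMod M (CohB1.tensorMod P L), V) :=
      AddMonoidHom.mk' (fun z => tmul m (tmul p z)) fun z z' => by rw [tmul_add_right, tmul_add_right]
    refine Eq.trans ?_ (map_sum T (fun i => c i • resM L (le_top : V ≤ ⊤) (k i)) Finset.univ).symm
    refine Finset.sum_congr rfl fun i _ => ?_
    exact congrArg (tmul m) (tmul_smul_right _ _ _).symm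
  haveI : Coh.IsQCoh (CohB1.tensorMod M P) := isQCoh_tensor_invertible M hP
  haveI : Coh.IsQCoh (CohB1.tensorMod M (CohB1.tensorMod P L)) :=
    isQCoh_tensor_invertible M (AmpleLib.isInvertible_tensorMod hP hL)
  haveI : HasFiniteBiproducts X.Modules := HasFiniteBiproducts.of_hasFiniteProducts
  haveI : Coh.IsQCoh (∐ E) :=
    haveI := isQCoh_biproduct (fun _ : Fin (Fintype.card ι) => CohB1.tensorMod M P) fun _ => inferInstance
    isQCoh_of_iso ((biproduct.whiskerEquiv (f := fun _ : Fin (Fintype.card ι) => CohB1.tensorMod M P) (g := E)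
      (Fintype.equivFin ι).symm fun _ => Iso.refl _) ≪≫ biproduct.isoCoproduct _)
  let S : ShortComplex X.Modules := ShortComplex.mk (kernel.ι Φ) Φ (kernel.condition _)
  have hS : S.ShortExact := { exact := ShortComplex.exact_of_f_is_kernel _ (kernelIsKernel Φ) }
  exact Lipman24.subsingleton_HH_X₃ hS q (subsingleton_HH_sigma q E fun _ => h)
    (hq _ (Coherent.isQCoh_kernel Φ))

end Groth.Agent.Resolve13
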