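import Groth.Agent.SDiv28.CartierPart
import Groth.Agent.Inters29.PrimeDiv
import Groth.Agent.Inters29.Class
import Groth.Agent.Resolve13.IdealPowerSections
import Groth.Agent.Resolve13.FinNormResolution
import Groth.Agent.Resolve13.RatExt
import Groth.Agent.Resolve13.ModBase
import Groth.Agent.Resolve13.LocalBase
import Groth.Agent.CommAlg4.SupportZero
import Groth.Agent.CurveRR24.Sky
import Groth.Agent.Coherent.CohOps
import Mathlib

/-!
# On a regular modification without `H¹(O)` the closed fibre is a divisor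
-/

set_option autoImplicit false
set_option backward.isDefEq.respectTransparency.types false
universe u
open CategoryTheory CategoryTheory.Limits AlgebraicGeometry TopologicalSpace Opposite
open Groth.Agent.Misc15.DivDescent Groth.Agent.SDiv28.CartierPart Groth.Agent.Models7
open Groth.Agent.Coherent Groth.Agent.InjMod14.Kosz Groth.Agent.AmpleLib

namespace Groth.Agent.Resolve13.NormPt

local notation "rs" => Groth.Agent.ModPairLib.res

/-- On a regular surface an ideal lies in a divisor with which it agrees outside finitely many points. -/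
theorem exists_divisorial_part {P : Scheme.{u}} (hP : RegSurf P) (J : P.IdealSheafData) (hJ : J ≠ ⊥) :
    ∃ (E : P.IdealSheafData) (U : P.Opens), BlowUp.IsEffCartierIdeal E ∧ J ≤ E ∧
      E.comap U.ι = J.comap U.ι ∧
      ∀ x ∈ (J.support : Set P) \ (U : Set P), (2 : WithBot ℕ∞) ≤ ringKrullDim (P.presheaf.stalk x) := by
  classical
  haveI := hP.integral
  haveI := hP.noeth
  haveI := hP.compact
  haveI : AlgebraicGeometry.IsNoetherian P := {}
  let ι := {d : P // d ∈ J.support ∧ Order.coheight d = 1}
  let D : ι → P.IdealSheafData := fun d =>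
    Scheme.IdealSheafData.vanishingIdeal ⟨closure {d.1}, isClosed_closure⟩
  have hDsupp : ∀ d : ι, ((D d).support : Set P) = closure {d.1} := fun d =>
    Scheme.IdealSheafData.coe_support_vanishingIdeal _
  haveI hDint : ∀ d, IsIntegral (D d).subscheme := fun d => by
    haveI : IsReduced (D d).subscheme := Props12.isReduced_subscheme_vanishingIdeal _
    haveI : IrreducibleSpace (D d).subscheme := by
      rw [irreducibleSpace_def]
      obtain ⟨ζ, hζ⟩ := ((D d).range_subschemeι).ge (show d.1 ∈ ((D d).support : Set P) from (hDsupp d).ge (subset_closure rfl))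
      have : (⊤ : Set ↥(D d).subscheme) = closure {ζ} := (Set.eq_univ_of_forall fun w => by
        refine specializes_iff_mem_closure.1 ((D d).subschemeι.isEmbedding.isInducing.specializes_iff.1 ?_)
        rw [hζ]
        exact specializes_iff_mem_closure.2 ((hDsupp d).le ((D d).range_subschemeι.le ⟨w, rfl⟩))).symm
      rw [this]
      exact isIrreducible_singleton.closure
    exact isIntegral_of_irreducibleSpace_of_isReduced _
  have hgen : ∀ d : ι, gen (D d) = d.1 := fun d =>
    (isGenericPoint_gen (D d)).eq (show IsGenericPoint d.1 ((D d).support : Set P) from (hDsupp d).symm)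
  have hne : ∀ d : ι, d.1 ≠ genericPoint P := fun d e =>
    Resolve13.genericPoint_notMem_support J hJ (e ▸ d.2.1)
  have hDeff : ∀ d, BlowUp.IsEffCartierIdeal (D d) := fun d =>
    Inters29.isEffCartier_of_coheight_one hP.regular (D d) ((hgen d).symm ▸ d.2.2.le) ((hgen d).symm ▸ hne d)
  obtain ⟨T, n, hle, U, hU, hcod⟩ := SDiv28.CartierPart.main J D hDeff
    {x | x ∈ J.support ∧ 2 ≤ Order.coheight x}
    (fun z hz _ => by rw [ringKrullDim_stalk_eq_coheight]; exact WithBot.coe_le_coe.2 hz.2)
    (fun x hx => by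
      by_cases h2 : 2 ≤ Order.coheight x
      · exact Or.inl ⟨hx, h2⟩
      · refine Or.inr (Set.mem_iUnion.2 ?_)
        have h1 : Order.coheight x = 1 := by
          refine le_antisymm (Order.le_of_lt_succ (lt_of_lt_of_eq (not_le.1 h2) one_add_one_eq_two.symm)) ?_
          refine le_add_self.trans (dim_add_one_le (genericPoint_specializes x) fun e => ?_)
          exact Resolve13.genericPoint_notMem_support J hJ (e ▸ hx)
        exact ⟨⟨x, hx, h1⟩, (hDsupp _).ge (subset_closure rfl)⟩)
  refine ⟨_, U, ?_, hle, hU, hcod⟩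
  clear hle hU hcod
  induction T using Finset.induction_on with
  | empty => rw [Finset.prod_empty]; exact Inters29.isEffCartier_one
  | insert d s hd ih =>
    rw [Finset.prod_insert hd]
    refine ModPairLib.isEffCartier_mul ?_ ih
    induction n d with
    | zero => rw [pow_zero]; exact Inters29.isEffCartier_one
    | succ m ihm => rw [pow_succ]; exact ModPairLib.isEffCartier_mul ihm (hDeff d)

/-- If `H¹(O) = 0` on a regular modification of a normal surface singularity with an exceptional curve then
the closed fibre is a divisor. -/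
theorem isEffCartier_comap_closedPoint {O : Type u} [CommRing O] [IsDomain O] [IsLocalRing O] [IsNoetherianRing O]
    [IsIntegrallyClosed O] (hdim : ringKrullDim O ≤ 2) {P : Scheme.{u}} (h : P ⟶ Spec (CommRingCat.of O))
    [IsProper h] (hP : RegSurf P) [IsIntegral P]
    (hbir : ∃ U : (Spec (CommRingCat.of O)).Opens, (U : Set (Spec (CommRingCat.of O))).Nonempty ∧ IsIso (h ∣_ U))
    (hη : genericPoint (Spec (CommRingCat.of O)) ≠ IsLocalRing.closedPoint O)
    (h1 : Subsingleton (Coh.HH P (Coh.structureModule P) 1))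
    (hd : ∃ d : P, h d = IsLocalRing.closedPoint O ∧ ¬ IsClosed ({d} : Set P)) :
    BlowUp.IsEffCartierIdeal
      ((Scheme.IdealSheafData.vanishingIdeal
        ⟨{IsLocalRing.closedPoint O}, IsLocalRing.isClosed_singleton_closedPoint O⟩ :
          (Spec (CommRingCat.of O)).IdealSheafData).comap h) := by
  classical
  haveI := hP.noeth
  haveI := hP.compact
  haveI : AlgebraicGeometry.IsNoetherian P := {}
  let S := Spec (CommRingCat.of O)
  let V : S.IdealSheafData := Scheme.IdealSheafData.vanishingIdeal
    ⟨{IsLocalRing.closedPoint O}, IsLocalRing.isClosed_singleton_closedPoint O⟩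
  have hVsupp : (V.support : Set S) = {IsLocalRing.closedPoint O} :=
    Scheme.IdealSheafData.coe_support_vanishingIdeal _
  let J := V.comap h
  obtain ⟨U₀, hU₀ne, hU₀⟩ := hbir
  haveI := hU₀
  obtain ⟨hξ, hb⟩ := Coherent.birational_of_isIso_morphismRestrict h U₀ hU₀ne
  have hJsupp : ∀ x : P, x ∈ J.support ↔ h x = IsLocalRing.closedPoint O := fun x => by
    rw [show J.support = _ from Scheme.IdealSheafData.support_comap V h]
    show h x ∈ (V.support : Set S) ↔ _
    rw [hVsupp]
    exact Iff.rfl
  have hJne : J ≠ ⊥ := fun h0 => by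
    have h2 : genericPoint P ∈ J.support := by
      rw [h0, Scheme.IdealSheafData.support_bot]; trivial
    exact hη (hξ ▸ (hJsupp _).1 h2)
  obtain ⟨E, U, hE, hle, hU, hcod⟩ := exists_divisorial_part hP J hJne
  have hP2 : ∀ y : P, ringKrullDim (P.presheaf.stalk y) ≤ 2 := fun y =>
    (CurvesLib24.stalk_dim_le_topologicalKrullDim y).trans hP.dim
  have hJE : ∀ x : P, x ∈ U → stk E x = stk J x := fun x hx => by
    have e := congrArg (fun I => stk I (⟨x, hx⟩ : U.toScheme)) hU
    simp only [stk_comap] at e
    let φ := (asIso (U.ι.stalkMap ⟨x, hx⟩)).commRingCatIsoToRingEquiv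
    have e' := congrArg (Ideal.comap (U.ι.stalkMap ⟨x, hx⟩).hom) e
    have hbij : Function.Bijective (U.ι.stalkMap ⟨x, hx⟩).hom := φ.bijective
    rwa [Ideal.comap_map_of_bijective _ hbij, Ideal.comap_map_of_bijective _ hbij] at e'
  -- the generators
  obtain ⟨K, hK⟩ := RatExt.exists_eq_idealSheaf V
  obtain ⟨t, gx, hgx⟩ := Submodule.fg_iff_exists_fin_generating_family.1 (IsNoetherian.noetherian K)
  replace hgx : Ideal.span (Set.range gx) = K := hgx
  have hI : IdealPow.GenBy J (fun i => Coh.toGlobal h (gx i)) := fun W => by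
    show (V.comap h).ideal W = _
    rw [hK, S7299.ideal_comap_eq h K W, ← hgx, Ideal.map_span, ← Set.range_comp]
    rfl
  have hmK : ∀ a ∈ IsLocalRing.maximalIdeal O, ∀ W : P.affineOpens,
      rs (le_top : W.1 ≤ ⊤) (Coh.toGlobal h a) ∈ J.ideal W := fun a ha W => by
    have h3 : Curv2.idealSheaf O (IsLocalRing.maximalIdeal O) ≤ V := by
      refine Scheme.IdealSheafData.le_support_iff_le_vanishingIdeal.1 ?_
      intro x hx
      rw [show x = IsLocalRing.closedPoint O from hx]
      refine (Scheme.IdealSheafData.mem_support_iff_of_mem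
        (U := ⟨⊤, isAffineOpen_top S⟩) (show IsLocalRing.closedPoint O ∈ (⊤ : S.Opens) from trivial)).2 ?_
      rw [RatExt.ideal_top, Scheme.mem_zeroLocus_iff]
      intro r hr
      rw [Ideal.map, ← Ideal.map] at hr
      obtain ⟨r', hr', rfl⟩ := (Ideal.mem_map_iff_of_surjective _
        (ConcreteCategory.bijective_of_isIso (Scheme.ΓSpecIso (CommRingCat.of O)).inv).2).1 hr
      rw [basicOpen_eq_of_affine]
      exact fun hn => hn hr'
    refine (Scheme.IdealSheafData.comap_mono h h3) W ?_
    rw [S7299.ideal_comap_eq h _ W]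
    exact Ideal.mem_map_of_mem _ ha
  have hv : Lipman24.NoH2 P := fun M hM =>
    haveI := hM; Resolve13.subsingleton_HH_of_modification h hdim ⟨U₀, hU₀ne, hU₀⟩ M 2 le_rfl
  have hJ1 : Subsingleton (Coh.HH P (ClSub.idealMod J) 1) := by
    have := IdealPow.subsingleton_H1_pow hI hv h1 1
    rwa [pow_one] at this
  -- global sections
  haveI : IsIso (h.app ⊤) := Coherent.isIso_app_of_birational h
    (CommAlg4.Cone.isNormalScheme_spec (CommRingCat.of O)) hξ ((ConcreteCategory.isIso_iff_bijective _).2 hb) ⊤
  let i : ClSub.idealMod J ⟶ ClSub.idealMod E := IdealPow.mulHom J E 1 fun W b hb => by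
    rw [map_one, mul_one]; exact hle W hb
  have hival : ∀ (O' : P.Opens) (z : Γ(ClSub.idealMod J, O')), ival E O' (i.app O' z) = ival J O' z := fun O' z => by
    rw [show i = _ from rfl, IdealPow.ival_mulHom, map_one, mul_one]
  haveI : Mono i := by
    haveI := mono_idealModι J
    haveI : Mono (i ≫ ClSub.idealModι E) := by
      rw [show i ≫ ClSub.idealModι E = ClSub.idealModι J from
        InjMod14.Kosz.hom_ext_affine _ _ fun W z => hival W.1 z]
      infer_instance
    exact mono_of_mono i (ClSub.idealModι E)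
  haveI hJq := MorProj.isQCoh_idealMod J
  haveI hEq := MorProj.isQCoh_idealMod E
  let T : ShortComplex P.Modules := ShortComplex.mk i (cokernel.π i) (cokernel.condition i)
  have hT : T.ShortExact := { exact := ShortComplex.exact_cokernel i }
  have hsec : ∀ k : Γ(ClSub.idealMod E, ⊤), (cokernel.π i).app ⊤ k = 0 := fun k => by
    obtain ⟨c, hc⟩ := (ConcreteCategory.bijective_of_isIso (h.app ⊤)).2 (ival E ⊤ k)
    let a : O := (Scheme.ΓSpecIso (CommRingCat.of O)).hom.hom c
    have ha : Coh.toGlobal h a = ival E ⊤ k := (congrArg (h.app ⊤)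
      (ConcreteCategory.congr_hom (Scheme.ΓSpecIso (CommRingCat.of O)).hom_inv_id c)).trans hc
    have ham : a ∈ IsLocalRing.maximalIdeal O := by
      by_contra hau
      obtain ⟨d, hdc, hdnc⟩ := hd
      obtain ⟨d', hdd', hne, -⟩ := exists_closed_specialization hdnc
      have hdU : d ∈ U := by
        by_contra hdU
        have h2 := (hcod d ⟨(hJsupp d).2 hdc, hdU⟩).trans (of_specializes hP2 hdd' hne).1
        exact absurd h2 (by decide)
      have htop : stk J d = ⊤ := by
        rw [← hJE d hdU]
        obtain ⟨W, hW, hdW, -⟩ := exists_isAffineOpen_mem_and_subset (x := d) (U := (⊤ : P.Opens)) trivial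
        rw [stk_eq E ⟨W, hW⟩ hdW]
        refine Ideal.eq_top_of_isUnit_mem _ (Ideal.mem_map_of_mem _
          (InjMod14.Kosz.ival_mem E ⟨W, hW⟩ (resM _ le_top k))) ?_
        rw [IdealPow.ival_resM, ← ha]
        exact (((IsLocalRing.notMem_maximalIdeal.1 hau).map (Coh.toGlobal h)).map _).map _
      have := (mem_support_iff_stk J d).1 ((hJsupp d).2 hdc)
      rw [htop] at this
      exact (IsLocalRing.maximalIdeal.isMaximal _).ne_top (top_le_iff.1 this)
    obtain ⟨k', hk'⟩ := IdealPow.exists_top J (Coh.toGlobal h a) (hmK a ham)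
    rw [show k = i.app ⊤ k' from IdealPow.ival_inj E ⊤ (by rw [hival, hk', ha])]
    exact ConcreteCategory.congr_hom (congrArg (fun φ => Scheme.Modules.Hom.app φ ⊤) (cokernel.condition i)) k'
  -- the quotient vanishes
  let Q := cokernel i
  let Z : Set P := (J.support : Set P) \ (U : Set P)
  have hZcl : IsClosed Z := J.support.isClosed.sdiff U.2
  have hZpt : ∀ z ∈ Z, IsClosed ({z} : Set P) := fun z hz => by
    by_contra hn
    obtain ⟨d', hdd', hne, -⟩ := exists_closed_specialization hn
    exact absurd ((hcod z hz).trans (of_specializes hP2 hdd' hne).1) (by decide)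
  have hZfin : Z.Finite := (finite_maximal hZcl).subset fun z hz => ⟨hz, fun y hy hyz => by
    have := (hZpt y hy).closure_eq ▸ specializes_iff_mem_closure.1 hyz
    exact (Set.mem_singleton_iff.1 this).symm⟩
  have hQsupp : CohB1.support Q ⊆ Z := by
    intro x hx
    by_contra hxZ
    refine hx ?_
    refine subsingleton_of_forall_eq 0 fun q => ?_
    obtain ⟨V, hxV, r, rfl⟩ := Q.presheaf.germ_exist q
    obtain ⟨W, hW, hxW, k, hk⟩ := exists_lift_of_epi (cokernel.π i) V r x hxV
    have hO : ∀ y : P, y ∉ Z → stk E y = stk J y := fun y hy => by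
      by_cases hyU : y ∈ U
      · exact hJE y hyU
      · have hyJ : y ∉ J.support := fun hm => hy ⟨hm, hyU⟩
        refine le_antisymm (le_top.trans (stk_eq_top hyJ).ge) ?_
        obtain ⟨W', hW', hyW', -⟩ := exists_isAffineOpen_mem_and_subset (x := y) (U := (⊤ : P.Opens)) trivial
        rw [stk_eq J ⟨W', hW'⟩ hyW', stk_eq E ⟨W', hW'⟩ hyW']
        exact Ideal.map_mono (hle ⟨W', hW'⟩)
    obtain ⟨W', hW', hxW', hsub⟩ := exists_isAffineOpen_mem_and_subset (x := x)
      (U := W ⊓ ⟨Zᶜ, hZcl.isOpen_compl⟩) ⟨hxW, hxZ⟩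
    have hleW : W' ≤ W := fun y hy => (hsub hy).1
    have hmem : ival E W' (resM _ hleW k) ∈ J.ideal ⟨W', hW'⟩ := by
      have h2 : E.ideal ⟨W', hW'⟩ ≤ J.ideal ⟨W', hW'⟩ := hW'.ideal_le_iff.2 fun y hy => by
        rw [← stk_eq E ⟨W', hW'⟩ hy, ← stk_eq J ⟨W', hW'⟩ hy, hO y (hsub hy).2]
      exact h2 (InjMod14.Kosz.ival_mem E ⟨W', hW'⟩ _)
    obtain ⟨k', hk'⟩ := (mem_range_idealModι J W' (ival E W' (resM _ hleW k))).2 (by
      show J.subschemeι.app W' (ival E W' (resM _ hleW k)) = 0
      exact RingHom.mem_ker.1 ((J.ker_subschemeι_app ⟨W', hW'⟩).symm ▸ hmem))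
    rw [← Q.presheaf.germ_res_apply (homOfLE (hleW.trans hW)) x hxW' r]
    show Q.presheaf.germ W' x hxW' (resM Q (hleW.trans hW) r) = 0
    rw [← resM_resM Q hW hleW, ← hk, ← app_resM,
      show resM _ hleW k = i.app W' k' from IdealPow.ival_inj E W' (by rw [hival]; exact hk'.symm)]
    rw [show (cokernel.π i).app W' (i.app W' k') = 0 from
      ConcreteCategory.congr_hom (congrArg (fun φ => Scheme.Modules.Hom.app φ W') (cokernel.condition i)) k', map_zero]
  have hQft : CohB1.IsFT Q := Coherent.isFT_of_epi (cokernel.π i) (CurveRR24.isCoh_idealMod' E).2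
  have hQgg : Curv2.IsGloballyGenerated Q := CommAlg4.isGloballyGenerated_of_support_finite Q
    (locallyFinGen_of_isFT Q hQft) Z hZfin hZpt hQsupp
  have hQz : IsZero Q := LocalBase.isZero_of_globallyGenerated hQgg fun τ => by
    obtain ⟨k, hk⟩ := Lipman24.surjective_app_top hT hJ1 τ
    rw [← hk]
    exact hsec k
  haveI : Epi i := Abelian.epi_of_cokernel_π_eq_zero i (hQz.eq_of_tgt _ _)
  haveI : IsIso i := isIso_of_mono_of_epi i
  have hEJ : E ≤ J := fun W b hb => by
    obtain ⟨k, hk⟩ := (mem_range_idealModι E W.1 b).2 (by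
      show E.subschemeι.app W.1 b = 0
      exact RingHom.mem_ker.1 ((E.ker_subschemeι_app W).symm ▸ hb))
    have hk0 : ival E W.1 k = b := hk
    have h2 : k = i.app W.1 ((inv i).app W.1 k) :=
      (ConcreteCategory.congr_hom (congrArg (fun φ => Scheme.Modules.Hom.app φ W.1) (IsIso.inv_hom_id i)) k).symm
    rw [← hk0, h2, hival]
    exact InjMod14.Kosz.ival_mem J W _
  show BlowUp.IsEffCartierIdeal J
  rwa [← le_antisymm hEJ hle]

end Groth.Agent.Resolve13.NormPt
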