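import Groth.Agent.S7359
import Groth.Agent.Resolve13.RatExt
import Groth.Agent.Resolve13.PtLift
import Groth.Agent.Models7.PointBlowUp
import Groth.Agent.H8Top.FiniteTypePoints
import Groth.Prelude.Def_ResolveSeq
import Mathlib

/-!
# Sequences of normalised point blow-ups and centres of valuations

If a discrete valuation has a residue field transcendental over a closed point of a surface, then after
finitely many normalised blow-ups of its centre the centre is no longer a closed point.
-/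

set_option autoImplicit false
set_option backward.isDefEq.respectTransparency.types false
universe u
open CategoryTheory CategoryTheory.Limits AlgebraicGeometry TopologicalSpace
open Groth.Agent.Misc15.DivDescent

namespace Groth.Agent.Resolve13.NormPt

/-- A normalised point blow-up sequence with the expected properties. -/
structure IsSeq {X₀ Z : Scheme.{u}} (g : Z ⟶ X₀) : Prop where
  seq : Resolve.IsNormPtBlowupSeq g
  integral : IsIntegral Z
  noeth : AlgebraicGeometry.IsNoetherian Z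
  normal : Pi1.IsNormalScheme Z
  proper : IsProper g
  bir : ∃ W : X₀.Opens, (W : Set X₀).Nonempty ∧ IsIso (g ∣_ W)

/-- Modifications of `X₀` have finite normalisations. -/
def FinNorm (X₀ : Scheme.{u}) : Prop :=
  ∀ (Z : Scheme.{u}) (m : Z ⟶ X₀) [IsIntegral Z] [QuasiCompact (Z.fromSpecStalk (genericPoint Z))]
    [QuasiSeparated (Z.fromSpecStalk (genericPoint Z))], IsProper m →
    (∃ W : X₀.Opens, (W : Set X₀).Nonempty ∧ IsIso (m ∣_ W)) → IsFinite (Curv2.normalizationι Z)

/-- `g'` lies over `g`, and valuations lift. -/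
def Ext {X₀ Z Z' : Scheme.{u}} [IsIntegral X₀] (g : Z ⟶ X₀) (g' : Z' ⟶ X₀) : Prop :=
  ∃ k : Z' ⟶ Z, IsProper k ∧ k ≫ g = g' ∧
    ∀ (R : Type u) [CommRing R] [IsDomain R] [IsPrincipalIdealRing R] (h : Spec (CommRingCat.of R) ⟶ Z),
      g (h (genericPoint (Spec (CommRingCat.of R)))) = genericPoint X₀ →
        ∃ h' : Spec (CommRingCat.of R) ⟶ Z', h' ≫ k = h

variable {X₀ : Scheme.{u}} [IsIntegral X₀]

theorem Ext.refl {Z : Scheme.{u}} (g : Z ⟶ X₀) : Ext g g :=
  ⟨𝟙 Z, inferInstance, Category.id_comp g, fun _ _ _ _ h _ => ⟨h, Category.comp_id h⟩⟩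

theorem Ext.trans {Z Z' Z'' : Scheme.{u}} {g : Z ⟶ X₀} {g' : Z' ⟶ X₀} {g'' : Z'' ⟶ X₀} (h₁ : Ext g g')
    (h₂ : Ext g' g'') : Ext g g'' := by
  obtain ⟨k, hk, e, hl⟩ := h₁
  obtain ⟨k', hk', e', hl'⟩ := h₂
  haveI := hk
  haveI := hk'
  refine ⟨k' ≫ k, inferInstance, by rw [Category.assoc, e, e'], fun R _ _ _ h hh => ?_⟩
  obtain ⟨h', hh'⟩ := hl R h hh
  subst hh'
  obtain ⟨h'', hh''⟩ := hl' R h' (by rw [← e, Scheme.Hom.comp_apply, ← Scheme.Hom.comp_apply]; exact hh)
  exact ⟨h'', by rw [← Category.assoc, hh'']⟩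

/-- One normalised blow-up in a closed point. -/
theorem exists_step [AlgebraicGeometry.IsNoetherian X₀] (hFN : FinNorm X₀) (hη₀ : ¬ IsClosed ({genericPoint X₀} : Set X₀))
    {Z : Scheme.{u}} (g : Z ⟶ X₀) (hg : IsSeq g) (z : Z) (hz : IsClosed ({z} : Set Z)) :
    ∃ (Z' : Scheme.{u}) (g' : Z' ⟶ X₀) (k : Z' ⟶ Z), IsSeq g' ∧ IsProper k ∧ k ≫ g = g' ∧
      (∀ (R : Type u) [CommRing R] [IsDomain R] [IsPrincipalIdealRing R] (h : Spec (CommRingCat.of R) ⟶ Z),
        g (h (genericPoint (Spec (CommRingCat.of R)))) = genericPoint X₀ →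
          ∃ h' : Spec (CommRingCat.of R) ⟶ Z', h' ≫ k = h) ∧
      (∀ z' : Z', ∃ t, stk ((Scheme.IdealSheafData.vanishingIdeal ⟨{z}, hz⟩).comap k) z' = Ideal.span {t}) ∧
      ∀ (T : Scheme.{u}) [IsIntegral T] (h : T ⟶ Z), Pi1.IsNormalScheme T → g (h (genericPoint T)) = genericPoint X₀ →
        BlowUp.IsEffCartierIdeal ((Scheme.IdealSheafData.vanishingIdeal ⟨{z}, hz⟩).comap h) →
          ∃ h' : T ⟶ Z', h' ≫ k = h := by
  haveI := hg.integral
  haveI := hg.noeth
  haveI := hg.proper
  obtain ⟨W, hWne, hW⟩ := hg.bir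
  haveI := hW
  obtain ⟨hgη, hgb⟩ := Coherent.birational_of_isIso_morphismRestrict g W hWne
  have hgzcl : IsClosed ({g z} : Set X₀) := by
    simpa using g.isClosedMap _ hz
  have hzη : z ≠ genericPoint Z := fun e => hη₀ (by rw [← hgη, ← e]; exact hgzcl)
  let J := Scheme.IdealSheafData.vanishingIdeal ⟨{z}, hz⟩
  have hsupp : (J.support : Set Z) = {z} := Scheme.IdealSheafData.coe_support_vanishingIdeal _
  have hη : genericPoint Z ∈ J.support.compl := fun h => hzη ((Set.mem_singleton_iff.1 (hsupp.le h)).symm)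
  obtain ⟨X', b, hb⟩ := BlowUpLib.exists_isBlowUp (X := Z) (I := J)
  have hft : BlowUp.IsFiniteTypeIdeal J := fun U => by
    haveI : IsNoetherianRing Γ(Z, U.1) := IsLocallyNoetherian.component_noetherian U
    exact IsNoetherian.noetherian _
  haveI : IsIntegral X' := Resolve13.isIntegral_blowUp hb hη
  haveI : IsProper b := BlowUpLib.isProper_of_isBlowUp hb hft
  haveI : IsLocallyNoetherian X' := LocallyOfFiniteType.isLocallyNoetherian b
  haveI : CompactSpace X' := QuasiCompact.compactSpace_of_compactSpace b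
  haveI : AlgebraicGeometry.IsNoetherian X' := {}
  haveI := SDiv28.isIso_off_center hb
  haveI hνfin : IsFinite (Curv2.normalizationι X') :=
    hFN X' (b ≫ g) inferInstance (RatExt.exists_isIso_comp g b W hWne J.support.compl ⟨_, hη⟩)
  have hn : Pi1.IsNormalScheme (Curv2.normalization X') :=
    NormalizationLib.isNormal (RingHom.id X'.functionField) (X'.fromSpecStalk (genericPoint X')) (by
      show _ = Spec.map (𝟙 _) ≫ _
      simp)
  let ν := Curv2.normalizationι X'
  haveI hkp : IsProper (ν ≫ b) := inferInstance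
  let k : Curv2.normalization X' ⟶ Z := ν ≫ b
  haveI hint : IsIntegral (Curv2.normalization X') :=
    inferInstanceAs (IsIntegral (X'.fromSpecStalk (genericPoint X')).normalization)
  haveI : IsLocallyNoetherian (Curv2.normalization X') := LocallyOfFiniteType.isLocallyNoetherian k
  haveI : CompactSpace (Curv2.normalization X') := QuasiCompact.compactSpace_of_compactSpace k
  obtain ⟨V, hV, hiso⟩ := BMLib.exists_isIso_normalization (X := X')
  haveI := hiso
  obtain ⟨hνη, -⟩ := Coherent.birational_of_isIso_morphismRestrict ν V hV.nonempty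
  obtain ⟨hbη, hbb⟩ := Coherent.birational_of_isIso_morphismRestrict b J.support.compl ⟨_, hη⟩
  obtain ⟨V', hV'ne, hV'⟩ := RatExt.exists_isIso_comp b ν J.support.compl ⟨_, hη⟩ V hV.nonempty
  haveI := hV'
  have hbir := RatExt.exists_isIso_comp g k W hWne V' hV'ne
  refine ⟨_, k ≫ g, k, ⟨?_, hint, {}, hn, inferInstance, hbir⟩, hkp, rfl, ?_, fun z' => ?_, ?_⟩
  · rw [show k ≫ g = ν ≫ b ≫ g from Category.assoc _ _ _]
    exact Resolve.IsNormPtBlowupSeq.step b g z hz hb hg.seq
  · intro R _ _ _ h hh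
    let S := Spec (CommRingCat.of R)
    have hhη : h (genericPoint S) = genericPoint Z :=
      Resolve13.Modification.eq_genericPoint g hgη hgb _ hh
    have heff : BlowUp.IsEffCartierIdeal (J.comap h) := by
      obtain ⟨K, hK⟩ := RatExt.exists_eq_idealSheaf (J.comap h)
      obtain ⟨f, hf⟩ := (IsPrincipalIdealRing.principal K).principal
      have hf0 : f ≠ 0 := fun h0 => by
        have h1 : genericPoint S ∈ (J.comap h).support := by
          rw [hK, hf, h0, Submodule.span_singleton_eq_bot.2 rfl, show Curv2.idealSheaf R (⊥ : Ideal R) = ⊥ from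
            Scheme.IdealSheafData.ext_of_isAffine (by rw [RatExt.ideal_top, Ideal.map_bot]; rfl),
            Scheme.IdealSheafData.support_bot]
          trivial
        rw [Scheme.IdealSheafData.support_comap] at h1
        exact hη (hhη ▸ h1)
      rw [hK, show K = Ideal.span {f} from hf]
      have := RatExt.isEff_comap_span (𝟙 S) rfl hf0
      rwa [Scheme.IdealSheafData.comap_id] at this
    obtain ⟨h₀, hh₀, -⟩ := hb.2 S h heff
    have h₀η : h₀ (genericPoint S) = genericPoint X' :=
      Resolve13.Modification.eq_genericPoint b hbη hbb _ (by rw [← Scheme.Hom.comp_apply, hh₀, hhη])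
    have hgood : CAlgSmall.NormalFactor.Good h₀ := by
      haveI : IsIntegrallyClosed R := inferInstance
      refine CAlgSmall.NormalFactor.good_of_normal h₀ (CommAlg4.Cone.isNormalScheme_spec (CommRingCat.of R)) fun t ht => ?_
      rw [irreducibleComponents_eq_singleton] at ht
      rw [show t = genericPoint S from ((genericPoint_spec S).eq (show IsGenericPoint t Set.univ from ht)).symm]
      exact h₀η
    obtain ⟨h', hh', -⟩ := CAlgSmall.NormalFactor.existsUnique_fac hgood
    exact ⟨h', by rw [← Category.assoc, hh', hh₀]⟩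
  · have heff : BlowUp.IsEffCartierIdeal (J.comap k) := by
      rw [Scheme.IdealSheafData.comap_comp]
      exact S1650.isEff_comap ν hνη hb.1
    obtain ⟨U, hzU, f, -, hfU⟩ := heff z'
    exact ⟨_, by rw [stk_eq _ U hzU, hfU, Ideal.map_span, Set.image_singleton]⟩
  · intro T _ h hT hh heff
    have hhη : h (genericPoint T) = genericPoint Z := Resolve13.Modification.eq_genericPoint g hgη hgb _ hh
    obtain ⟨h₀, hh₀, -⟩ := hb.2 T h heff
    have h₀η : h₀ (genericPoint T) = genericPoint X' :=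
      Resolve13.Modification.eq_genericPoint b hbη hbb _ (by rw [← Scheme.Hom.comp_apply, hh₀, hhη])
    have hgood : CAlgSmall.NormalFactor.Good h₀ := CAlgSmall.NormalFactor.good_of_normal h₀ hT fun t ht => by
      rw [irreducibleComponents_eq_singleton] at ht
      rw [show t = genericPoint T from ((genericPoint_spec T).eq (show IsGenericPoint t Set.univ from ht)).symm]
      exact h₀η
    obtain ⟨h', hh', -⟩ := CAlgSmall.NormalFactor.existsUnique_fac hgood
    exact ⟨h', by rw [← Category.assoc, hh', hh₀]⟩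

variable {R : Type u} [CommRing R] [IsDomain R] [IsPrincipalIdealRing R] [IsLocalRing R]

/-- `u` is transcendental over the point of `X₀` below the closed point. -/
def Transcendental (h₀ : Spec (CommRingCat.of R) ⟶ X₀) (u : R) : Prop :=
  ∀ P : Polynomial (X₀.presheaf.stalk (h₀ (IsLocalRing.closedPoint R))), P.Monic →
    IsUnit (P.eval₂ (Scheme.stalkClosedPointTo h₀).hom u)

/-- A transcendental element does not come from the local ring of a closed centre. -/
theorem not_mem_range {Z : Scheme.{u}} (g : Z ⟶ X₀) [LocallyOfFiniteType g]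
    (h : Spec (CommRingCat.of R) ⟶ Z) (hz : IsClosed ({h (IsLocalRing.closedPoint R)} : Set Z)) (u : R)
    (hu : Transcendental (h ≫ g) u) (o : Z.presheaf.stalk (h (IsLocalRing.closedPoint R))) :
    (Scheme.stalkClosedPointTo h).hom o ≠ u := by
  intro ho
  let z := h (IsLocalRing.closedPoint R)
  obtain ⟨p, hp, hpo⟩ := (H8Top.residueFieldMap_finite g hz).to_isIntegral (Z.residue z o)
  obtain ⟨q, hq, -, hqm⟩ := Polynomial.lifts_and_degree_eq_and_monic
    (show p ∈ Polynomial.lifts (X₀.residue (g z)).hom from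
      (Polynomial.lifts_iff_coeff_lifts p).2 fun n => Scheme.residue_surjective _ _ _) hp
  have h1 : ¬ IsUnit (q.eval₂ (g.stalkMap z).hom o) := fun hunit => by
    have h2 : (Z.residue z).hom (q.eval₂ (g.stalkMap z).hom o) = 0 := by
      rw [Polynomial.hom_eval₂, ← CommRingCat.hom_comp, ← Scheme.residue_residueFieldMap, CommRingCat.hom_comp,
        ← Polynomial.eval₂_map, hq]
      exact hpo
    exact not_isUnit_zero (h2 ▸ hunit.map (Z.residue z).hom)
  refine h1 ((isUnit_map_iff (Scheme.stalkClosedPointTo h).hom _).1 ?_)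
  rw [Polynomial.hom_eval₂, ho, ← CommRingCat.hom_comp]
  have h3 := hu q hqm
  rwa [Scheme.stalkClosedPointTo_comp] at h3

/-- Finitely many normalised blow-ups of centres make the centre a non-closed point. -/
theorem exists_nonclosed [AlgebraicGeometry.IsNoetherian X₀] (hFN : FinNorm X₀) (hη₀ : ¬ IsClosed ({genericPoint X₀} : Set X₀))
    (h₀ : Spec (CommRingCat.of R) ⟶ X₀) (hh₀ : h₀ (genericPoint (Spec (CommRingCat.of R))) = genericPoint X₀)
    (u : R) (hu : Transcendental h₀ u) : ∀ (I : Ideal R) (a : R), a ≠ 0 → I = Ideal.span {a} →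
      ∀ {Z : Scheme.{u}} (g : Z ⟶ X₀), IsSeq g → ∀ h : Spec (CommRingCat.of R) ⟶ Z, h ≫ g = h₀ →
        (∃ o, (Scheme.stalkClosedPointTo h).hom o = a) → (∃ o, (Scheme.stalkClosedPointTo h).hom o = u * a) →
        ∃ (Z' : Scheme.{u}) (g' : Z' ⟶ X₀), IsSeq g' ∧ Ext g g' ∧
          ∃ h' : Spec (CommRingCat.of R) ⟶ Z', h' ≫ g' = h₀ ∧
            ¬ IsClosed ({h' (IsLocalRing.closedPoint R)} : Set Z') := by
  intro I
  induction I using IsNoetherian.induction with
  | hgt I ih =>
    intro a ha hI Z g hg h hhg ⟨o₁, ho₁⟩ ⟨o₂, ho₂⟩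
    by_cases hz : IsClosed ({h (IsLocalRing.closedPoint R)} : Set Z)
    swap
    · exact ⟨Z, g, hg, Ext.refl g, h, hhg, hz⟩
    haveI := hg.proper
    subst hhg
    obtain ⟨Z', g', k, hg', hkp, hkg, hlift, hprin, -⟩ := exists_step hFN hη₀ g hg _ hz
    obtain ⟨h', hh'⟩ := hlift R h hh₀
    subst hh'
    haveI := hkp
    -- the element `a` is not a unit at the centre
    have ho₁u : ¬ IsUnit o₁ := fun hu₁ => by
      refine not_mem_range g (h' ≫ k) hz u hu (o₂ * ↑hu₁.unit⁻¹) (mul_right_cancel₀ ha ?_)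
      rw [map_mul, ho₂, mul_assoc, ← ho₁, ← map_mul, hu₁.val_inv_mul, map_one, mul_one]
    have ho₂u : ¬ IsUnit o₂ := fun hu₂ => by
      have h1 : IsUnit (u * a) := ho₂ ▸ hu₂.map _
      exact ho₁u ((isUnit_map_iff (Scheme.stalkClosedPointTo (h' ≫ k)).hom o₁).1 (ho₁.symm ▸ isUnit_of_mul_isUnit_right h1))
    let z' := h' (IsLocalRing.closedPoint R)
    let φ' := (Scheme.stalkClosedPointTo h').hom
    obtain ⟨t, ht⟩ := hprin z'
    rw [stk_comap] at ht
    have hJ : stk (Scheme.IdealSheafData.vanishingIdeal ⟨_, hz⟩) (k z') = IsLocalRing.maximalIdeal _ :=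
      Models7.stk_vanishingIdeal_point (k z') hz
    rw [hJ] at ht
    have htm : ¬ IsUnit t := fun htu => by
      have h1 : (IsLocalRing.maximalIdeal (Z.presheaf.stalk (k z'))).map (k.stalkMap z').hom = ⊤ :=
        ht.trans (Ideal.span_singleton_eq_top.2 htu)
      have h2 : (IsLocalRing.maximalIdeal (Z.presheaf.stalk (k z'))).map (k.stalkMap z').hom ≤
          IsLocalRing.maximalIdeal _ := Ideal.map_le_iff_le_comap.2 fun x hx =>
        (IsLocalRing.mem_maximalIdeal _).2 fun hxu =>
          (IsLocalRing.mem_maximalIdeal x).1 hx ((isUnit_map_iff (k.stalkMap z').hom x).1 hxu)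
      exact (IsLocalRing.maximalIdeal.isMaximal _).ne_top (top_le_iff.1 (h1.ge.trans h2))
    have hφ : ∀ o, (Scheme.stalkClosedPointTo (h' ≫ k)).hom o = φ' ((k.stalkMap z').hom o) := fun o => by
      rw [Scheme.stalkClosedPointTo_comp]; rfl
    obtain ⟨α, hα⟩ : ∃ α, α * t = (k.stalkMap z').hom o₁ :=
      Ideal.mem_span_singleton'.1 (ht.le (Ideal.mem_map_of_mem _ ((IsLocalRing.mem_maximalIdeal _).2 ho₁u)))
    obtain ⟨β, hβ⟩ : ∃ β, β * t = (k.stalkMap z').hom o₂ :=
      Ideal.mem_span_singleton'.1 (ht.le (Ideal.mem_map_of_mem _ ((IsLocalRing.mem_maximalIdeal _).2 ho₂u)))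
    have ha' : a = φ' α * φ' t := by rw [← map_mul, hα, ← hφ, ho₁]
    have hb' : u * a = φ' β * φ' t := by rw [← map_mul, hβ, ← hφ, ho₂]
    have hα0 : φ' α ≠ 0 := fun h0 => ha (by rw [ha', h0, zero_mul])
    have ht0 : φ' t ≠ 0 := fun h0 => ha (by rw [ha', h0, mul_zero])
    have hβ' : φ' β = u * φ' α := mul_right_cancel₀ ht0 (by rw [← hb', ha', mul_assoc])
    have htu : ¬ IsUnit (φ' t) := fun hh => htm ((isUnit_map_iff φ' t).1 hh)
    obtain ⟨Z'', g'', hg'', hext, h'', hh'', hcl⟩ := ih (Ideal.span {φ' α})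
      (hI ▸ Ideal.span_singleton_lt_span_singleton.2 ⟨hα0, φ' t, htu, ha'⟩) (φ' α) hα0 rfl g' hg' h'
      (by rw [← hkg, Category.assoc]) ⟨α, rfl⟩ ⟨β, hβ'⟩
    exact ⟨Z'', g'', hg'', Ext.trans ⟨k, hkp, hkg, hlift⟩ hext, h'', hh'', hcl⟩

end Groth.Agent.Resolve13.NormPt
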