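import Groth.Agent.S11555
import Groth.Agent.Resolve13.NormPtStep
import Groth.Agent.Resolve13.GraphClosure
import Groth.Agent.Resolve13.SncSupport
import Groth.Agent.Resolve13.Modification
import Mathlib

/-!
# Normalised point blow-ups dominate modifications of normal surfaces
-/

set_option autoImplicit false
set_option backward.isDefEq.respectTransparency.types false
universe u
open CategoryTheory CategoryTheory.Limits AlgebraicGeometry TopologicalSpace

namespace Groth.Agent.Resolve13.NormPt

/-- The height of the prime of a point computes the dimension of its local ring. -/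
theorem dim_stalk_eq {Y : Scheme.{u}} {W : Y.Opens} (hW : IsAffineOpen W) (z : Y) (hz : z ∈ W) :
    ringKrullDim (Y.presheaf.stalk z) = ((hW.primeIdealOf ⟨z, hz⟩).asIdeal.height : WithBot ℕ∞) := by
  have := hW.isLocalization_stalk ⟨z, hz⟩
  let := Y.presheaf.algebra_section_stalk (⟨z, hz⟩ : W)
  exact IsLocalization.AtPrime.ringKrullDim_eq_height _ (Y.presheaf.stalk (⟨z, hz⟩ : W).1)

/-- On a surface a point with a proper specialisation has at most one-dimensional local ring and no
proper generalisation but the generic one. -/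
theorem of_specializes {Y : Scheme.{u}} [IsIntegral Y] (hY : ∀ y : Y, ringKrullDim (Y.presheaf.stalk y) ≤ 2)
    {d d' : Y} (h : d ⤳ d') (hne : d ≠ d') :
    ringKrullDim (Y.presheaf.stalk d) ≤ 1 ∧ ∀ c : Y, c ⤳ d → c ≠ genericPoint Y → c = d := by
  obtain ⟨W, hW, hd'W, -⟩ := exists_isAffineOpen_mem_and_subset (x := d') (U := (⊤ : Y.Opens)) trivial
  have hdW : d ∈ W := h.mem_open W.2 hd'W
  have h1 := Ideal.height_add_one_le_of_lt_of_isPrime (Modification.primeIdealOf_lt hW hdW hd'W h hne)
  have h2 := WithBot.coe_le_coe.1 ((dim_stalk_eq hW d' hd'W).symm.le.trans (hY d'))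
  have h3 : (hW.primeIdealOf ⟨d, hdW⟩).asIdeal.height ≤ 1 :=
    WithTop.le_of_add_le_add_right WithTop.one_ne_top ((h1.trans h2).trans_eq one_add_one_eq_two.symm)
  refine ⟨(dim_stalk_eq hW d hdW).le.trans (WithBot.coe_le_coe.2 h3), fun c hc hcη => ?_⟩
  by_contra hcd
  have hcW : c ∈ W := hc.mem_open W.2 hdW
  have hηW : genericPoint Y ∈ W := (genericPoint_specializes c).mem_open W.2 hcW
  have h4 := Ideal.height_add_one_le_of_lt_of_isPrime (Modification.primeIdealOf_lt hW hcW hdW hc hcd)
  have h5 := Ideal.height_add_one_le_of_lt_of_isPrime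
    (Modification.primeIdealOf_lt hW hηW hcW (genericPoint_specializes c) (Ne.symm hcη))
  have h6 : (2 : ℕ∞) ≤ 1 := (one_add_one_eq_two.symm.le.trans
    ((add_le_add ((le_add_self).trans h5) le_rfl).trans h4)).trans h3
  exact absurd h6 (by decide)

/-- A non-closed point has a proper closed specialisation. -/
theorem exists_closed_specialization {Y : Type*} [TopologicalSpace Y] [CompactSpace Y] [T0Space Y] {d : Y}
    (hd : ¬ IsClosed ({d} : Set Y)) : ∃ d' : Y, d ⤳ d' ∧ d ≠ d' ∧ IsClosed ({d'} : Set Y) := by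
  obtain ⟨d', hd', hcl⟩ := (isClosed_closure (s := ({d} : Set Y))).exists_closed_singleton
    ⟨d, subset_closure rfl⟩
  exact ⟨d', specializes_iff_mem_closure.2 hd', fun e => hd (e ▸ hcl), hcl⟩

/-- A point with finite residue field over a closed point is closed. -/
theorem isClosed_of_finite_residueFieldMap {Y X : Scheme.{u}} (p : Y ⟶ X) [IsSeparated p] (d : Y)
    (hx : IsClosed ({p d} : Set X)) (hfin : (p.residueFieldMap d).hom.Finite) : IsClosed ({d} : Set Y) := by
  haveI : IsClosedImmersion (X.fromSpecResidueField (p d)) := isClosed_singleton_iff_isClosedImmersion.1 hx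
  haveI : IsFinite (Spec.map (p.residueFieldMap d)) := (IsFinite.SpecMap_iff _).2 hfin
  haveI : IsFinite (Y.fromSpecResidueField d ≫ p) := by
    rw [← Scheme.Hom.SpecMap_residueFieldMap_fromSpecResidueField]; infer_instance
  haveI : IsProper (Y.fromSpecResidueField d) := IsProper.of_comp (Y.fromSpecResidueField d) p
  have h := (Y.fromSpecResidueField d).isClosedMap.isClosed_range
  rwa [Scheme.range_fromSpecResidueField] at h

/-- A non-closed point over a closed point has an element in its local ring with transcendental residue. -/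
theorem exists_transcendental {Y X : Scheme.{u}} (p : Y ⟶ X) [IsSeparated p] [LocallyOfFiniteType p] (d : Y)
    (hx : IsClosed ({p d} : Set X)) (hd : ¬ IsClosed ({d} : Set Y)) :
    ∃ u : Y.presheaf.stalk d, ∀ P : Polynomial (X.presheaf.stalk (p d)), P.Monic →
      IsUnit (P.eval₂ (p.stalkMap d).hom u) := by
  by_contra hno
  simp only [not_exists, not_forall] at hno
  refine hd (isClosed_of_finite_residueFieldMap p d hx ?_)
  let _ : Algebra (X.residueField (p d)) (Y.residueField d) := (p.residueFieldMap d).hom.toAlgebra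
  let _ : Algebra (X.presheaf.stalk (p d)) (Y.presheaf.stalk d) := (p.stalkMap d).hom.toAlgebra
  haveI : Algebra.EssFiniteType (X.presheaf.stalk (p d)) (Y.presheaf.stalk d) := by
    rw [← RingHom.essFiniteType_algebraMap, RingHom.algebraMap_toAlgebra]
    exact LocallyOfFiniteType.stalkMap p d
  let _ : Algebra (Y.presheaf.stalk d) (Y.residueField d) := (Y.residue d).hom.toAlgebra
  let _ : Algebra (X.presheaf.stalk (p d)) (X.residueField (p d)) := (X.residue (p d)).hom.toAlgebra
  let _ : Algebra (X.presheaf.stalk (p d)) (Y.residueField d) :=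
    ((Y.residue d).hom.comp (p.stalkMap d).hom).toAlgebra
  haveI : IsScalarTower (X.presheaf.stalk (p d)) (Y.presheaf.stalk d) (Y.residueField d) := .of_algebraMap_eq' rfl
  haveI : IsScalarTower (X.presheaf.stalk (p d)) (X.residueField (p d)) (Y.residueField d) :=
    .of_algebraMap_eq fun a => by
      exact (ConcreteCategory.congr_hom (Scheme.residue_residueFieldMap p d) a).symm
  haveI : Algebra.FiniteType (Y.presheaf.stalk d) (Y.residueField d) :=
    RingHom.finiteType_algebraMap.1 (RingHom.FiniteType.of_surjective _ IsLocalRing.residue_surjective)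
  haveI : Algebra.EssFiniteType (X.presheaf.stalk (p d)) (Y.residueField d) :=
    Algebra.EssFiniteType.comp _ (Y.presheaf.stalk d) _
  haveI : Algebra.EssFiniteType (X.residueField (p d)) (Y.residueField d) :=
    Algebra.EssFiniteType.of_comp (X.presheaf.stalk (p d)) _ _
  haveI : Algebra.IsAlgebraic (X.residueField (p d)) (Y.residueField d) := ⟨fun w => by
    obtain ⟨u, rfl⟩ := Scheme.residue_surjective Y d w
    obtain ⟨P, hP, hPu⟩ := hno u
    refine IsIntegral.isAlgebraic ⟨P.map (X.residue (p d)).hom, hP.map _, ?_⟩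
    rw [Polynomial.eval₂_map]
    show Polynomial.eval₂ ((p.residueFieldMap d).hom.comp (X.residue (p d)).hom) ((Y.residue d).hom u) P = 0
    rw [← CommRingCat.hom_comp, Scheme.residue_residueFieldMap, CommRingCat.hom_comp, ← Polynomial.hom_eval₂]
    exact (IsLocalRing.residue_eq_zero_iff _).2 ((IsLocalRing.mem_maximalIdeal _).2 hPu)⟩
  show Module.Finite (X.residueField (p d)) (Y.residueField d)
  exact Algebra.finite_of_essFiniteType_of_isAlgebraic

/-- Transcendence for a map to the local ring of a point. -/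
theorem transcendental_fromSpecStalk {X₀ : Scheme.{u}} [IsIntegral X₀] {R : Type u} [CommRing R] [IsDomain R]
    [IsPrincipalIdealRing R] [IsLocalRing R] (x₀ : X₀) (f : X₀.presheaf.stalk x₀ ⟶ CommRingCat.of R)
    [IsLocalHom f.hom] (u : R) (hu : ∀ P : Polynomial (X₀.presheaf.stalk x₀), P.Monic → IsUnit (P.eval₂ f.hom u)) :
    Transcendental (Spec.map f ≫ X₀.fromSpecStalk x₀) u := by
  have key : ∀ (x' : X₀) (e : x' = x₀) (ψ : X₀.presheaf.stalk x' ⟶ CommRingCat.of R),
      (∀ (U : X₀.Opens) (hU : x' ∈ U), X₀.presheaf.germ U x' hU ≫ ψ = X₀.presheaf.germ U x₀ (e ▸ hU) ≫ f) →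
      ∀ P : Polynomial (X₀.presheaf.stalk x'), P.Monic → IsUnit (P.eval₂ ψ.hom u) := by
    intro x' e ψ hψ P hP
    subst e
    rw [TopCat.Presheaf.stalk_hom_ext X₀.presheaf hψ]
    exact hu P hP
  exact key _ (by rw [Scheme.Hom.comp_apply, Spec_closedPoint, Scheme.fromSpecStalk_closedPoint]) _
    fun U hU => Scheme.germ_stalkClosedPointTo_Spec_fromSpecStalk f U hU

/-- Only finitely many non-closed points of a modification of a surface lie over closed points. -/
theorem finite_nonclosed_over_closed {X₀ Y' : Scheme.{u}} [IsIntegral X₀] [AlgebraicGeometry.IsNoetherian X₀]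
    [IsIntegral Y'] (p : Y' ⟶ X₀) [IsProper p] (hpη : p (genericPoint Y') = genericPoint X₀)
    (hpb : Function.Bijective (p.stalkMap (genericPoint Y')))
    (hdim : ∀ x : X₀, ringKrullDim (X₀.presheaf.stalk x) ≤ 2) (hη₀ : ¬ IsClosed ({genericPoint X₀} : Set X₀)) :
    {d : Y' | IsClosed ({p d} : Set X₀) ∧ ¬ IsClosed ({d} : Set Y')}.Finite := by
  classical
  haveI : IsLocallyNoetherian Y' := LocallyOfFiniteType.isLocallyNoetherian p
  haveI : CompactSpace Y' := QuasiCompact.compactSpace_of_compactSpace p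
  haveI : AlgebraicGeometry.IsNoetherian Y' := {}
  have hY2 : ∀ y : Y', ringKrullDim (Y'.presheaf.stalk y) ≤ 2 := fun y =>
    (Modification.ringKrullDim_stalk_le p hpη hpb y).trans (hdim _)
  obtain ⟨Zex, hZfin, hZcl, hZ⟩ := Modification.exists_finite_exceptional p hpη hpb hdim
  let E : Set Y' := {d | IsClosed ({p d} : Set X₀) ∧ ¬ IsClosed ({d} : Set Y')}
  have hsub : E ⊆ ⋃ y ∈ Zex, {d | d ∈ E ∧ p d = y} := fun d hd => by
    refine Set.mem_biUnion (x := p d) ?_ ⟨hd, rfl⟩
    by_contra hyZ
    obtain ⟨d', hdd', hne, -⟩ := exists_closed_specialization hd.2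
    have hpd' : p d' = p d := by
      have := specializes_iff_mem_closure.1 (hdd'.map p.continuous)
      rw [hd.1.closure_eq] at this
      exact this
    obtain ⟨a, ha⟩ := (p.range_fiberι (p d)).ge (show d ∈ p ⁻¹' {p d} from rfl)
    obtain ⟨b, hb⟩ := (p.range_fiberι (p d)).ge (show d' ∈ p ⁻¹' {p d} from hpd')
    haveI : LocallyOfFiniteType (p.fiberToSpecResidueField (p d)) :=
      (inferInstance : LocallyOfFiniteType (Limits.pullback.snd p (X₀.fromSpecResidueField (p d))))
    haveI : IsLocallyNoetherian (p.fiber (p d)) :=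
      LocallyOfFiniteType.isLocallyNoetherian (p.fiberToSpecResidueField (p d))
    haveI : AlgebraicGeometry.IsNoetherian (p.fiber (p d)) := {}
    have hdim0 : topologicalKrullDim (Set.univ : Set ↥(p.fiber (p d))) ≤ 0 := by
      rw [(Homeomorph.Set.univ _).isHomeomorph.topologicalKrullDim_eq]
      exact hZ _ hyZ
    have hab : a ⤳ b := (p.fiberι (p d)).isEmbedding.isInducing.specializes_iff.1 (by rw [ha, hb]; exact hdd')
    have hacl := (CommAlg4.finite_and_isClosed_singleton_of_dim_le_zero isClosed_univ hdim0).2 a trivial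
    have hba : b = a := by
      have := specializes_iff_mem_closure.1 hab
      rwa [hacl.closure_eq] at this
    exact hne (by rw [← ha, ← hb, hba])
  refine Set.Finite.subset (hZfin.biUnion fun y hy => ?_) hsub
  let S : Set Y' := p ⁻¹' {y}
  haveI : NoetherianSpace S := inferInstance
  haveI : QuasiSober S := ((hZcl y hy).preimage p.continuous).isClosedEmbedding_subtypeVal.quasiSober
  refine ((NoetherianSpace.finite_irreducibleComponents (α := S)).image fun C =>
    if h : IsIrreducible C ∧ IsClosed C then (QuasiSober.sober h.1 h.2).choose.1 else genericPoint Y').subset ?_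
  rintro d ⟨hdE, hdy⟩
  let dS : S := ⟨d, hdy⟩
  let C := irreducibleComponent dS
  have hC : IsIrreducible C ∧ IsClosed C := ⟨isIrreducible_irreducibleComponent, isClosed_irreducibleComponent⟩
  refine ⟨C, irreducibleComponent_mem_irreducibleComponents dS, ?_⟩
  simp only [dif_pos hC]
  obtain ⟨d', hdd', hne, -⟩ := exists_closed_specialization hdE.2
  have hspec : (QuasiSober.sober hC.1 hC.2).choose ⤳ dS :=
    (QuasiSober.sober hC.1 hC.2).choose_spec.specializes mem_irreducibleComponent
  refine (of_specializes hY2 hdd' hne).2 _ (hspec.map continuous_subtype_val) fun e => ?_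
  have h1 : p (genericPoint Y') = y := by rw [← e]; exact (QuasiSober.sober hC.1 hC.2).choose.2
  exact hη₀ (by rw [← hpη, h1]; exact hZcl y hy)

/-- Two maps from an integral scheme which agree over the base coincide if the target is isomorphic to the base
over an open met by the maps. -/
theorem eq_of_birational {T Z X₀ : Scheme.{u}} [IsIntegral T] (g : Z ⟶ X₀) [IsSeparated g] (W : X₀.Opens)
    [IsIso (g ∣_ W)] (t₁ t₂ : T ⟶ Z) (h : t₁ ≫ g = t₂ ≫ g) (hne : ∃ t : T, (t₁ ≫ g) t ∈ W) : t₁ = t₂ := by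
  let T₀ : T.Opens := (t₁ ≫ g) ⁻¹ᵁ W
  haveI : Nonempty T₀.toScheme := ⟨⟨hne.choose, hne.choose_spec⟩⟩
  haveI : IsDominant T₀.ι := ⟨by
    rw [denseRange_iff_closure_range, T₀.range_ι]
    exact (T₀.2.dense ⟨_, hne.choose_spec⟩).closure_eq⟩
  refine ext_of_isDominant_of_isSeparated g h T₀.ι ?_
  have hle₁ : T₀ ≤ t₁ ⁻¹ᵁ (g ⁻¹ᵁ W) := fun x hx => hx
  have hle₂ : T₀ ≤ t₂ ⁻¹ᵁ (g ⁻¹ᵁ W) := fun x hx => by
    show (t₂ ≫ g) x ∈ W
    rw [← h]
    exact hx
  have hk : t₁.resLE (g ⁻¹ᵁ W) T₀ hle₁ = t₂.resLE (g ⁻¹ᵁ W) T₀ hle₂ := by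
    rw [← cancel_mono (g ∣_ W), ← cancel_mono W.ι, Category.assoc, Category.assoc, morphismRestrict_ι,
      Scheme.Hom.resLE_comp_ι_assoc, Scheme.Hom.resLE_comp_ι_assoc, h]
  rw [← Scheme.Hom.resLE_comp_ι t₁ hle₁, hk, Scheme.Hom.resLE_comp_ι]

/-- Normalised point blow-ups of a normal surface whose modifications have finite normalisations dominate every
modification, by a sequence with all the expected properties. -/
theorem exists_dominating {X₀ Y' : Scheme.{u}} [IsIntegral X₀] [AlgebraicGeometry.IsNoetherian X₀]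
    (hn₀ : Pi1.IsNormalScheme X₀) (hFN : FinNorm X₀)
    (hdim : ∀ x : X₀, ringKrullDim (X₀.presheaf.stalk x) ≤ 2) (hη₀ : ¬ IsClosed ({genericPoint X₀} : Set X₀))
    [IsIntegral Y'] (hYn : Pi1.IsNormalScheme Y') (p : Y' ⟶ X₀) [IsProper p] (Wp : X₀.Opens)
    (hWp : (Wp : Set X₀).Nonempty) [IsIso (p ∣_ Wp)] :
    ∃ (Xn : Scheme.{u}) (g : Xn ⟶ X₀), IsSeq g ∧ ∃ h : Xn ⟶ Y', h ≫ p = g := by
  classical
  obtain ⟨hpη, hpb⟩ := Coherent.birational_of_isIso_morphismRestrict p Wp hWp
  haveI : IsLocallyNoetherian Y' := LocallyOfFiniteType.isLocallyNoetherian p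
  haveI : CompactSpace Y' := QuasiCompact.compactSpace_of_compactSpace p
  haveI : AlgebraicGeometry.IsNoetherian Y' := {}
  have hY2 : ∀ y : Y', ringKrullDim (Y'.presheaf.stalk y) ≤ 2 := fun y =>
    (Modification.ringKrullDim_stalk_le p hpη hpb y).trans (hdim _)
  let E : Set Y' := {d | IsClosed ({p d} : Set X₀) ∧ ¬ IsClosed ({d} : Set Y')}
  -- the exceptional points are finitely many
  have hEfin : E.Finite := finite_nonclosed_over_closed p hpη hpb hdim hη₀
  -- the exceptional valuations
  let h₀ : ∀ d : Y', Spec (Y'.presheaf.stalk d) ⟶ X₀ := fun d => Y'.fromSpecStalk d ≫ p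
  have hh₀η : ∀ d : Y', h₀ d (genericPoint (Spec (Y'.presheaf.stalk d))) = genericPoint X₀ := fun d => by
    obtain ⟨w, hw⟩ : genericPoint Y' ∈ Set.range (Y'.fromSpecStalk d) := by
      rw [Scheme.range_fromSpecStalk]; exact genericPoint_specializes d
    have h1 : Y'.fromSpecStalk d (genericPoint (Spec (Y'.presheaf.stalk d))) = genericPoint Y' := by
      have h2 := (genericPoint_specializes w).map (Y'.fromSpecStalk d).continuous
      rw [hw] at h2
      exact (h2.antisymm (genericPoint_specializes _)).eq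
    show p (Y'.fromSpecStalk d _) = _
    rw [h1, hpη]
  have main : ∀ S : Finset Y', (∀ d ∈ S, d ∈ E) → ∃ (Z : Scheme.{u}) (g : Z ⟶ X₀), IsSeq g ∧ Ext (𝟙 X₀) g ∧
      ∀ d ∈ S, ∃ h : Spec (Y'.presheaf.stalk d) ⟶ Z, h ≫ g = h₀ d ∧
        ¬ IsClosed ({h (IsLocalRing.closedPoint (Y'.presheaf.stalk d))} : Set Z) := by
    intro S
    induction S using Finset.induction_on with
    | empty =>
      exact fun _ => ⟨X₀, 𝟙 X₀, ⟨Resolve.IsNormPtBlowupSeq.iso (Iso.refl X₀), inferInstance, inferInstance, hn₀,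
        inferInstance, ⊤, ⟨genericPoint X₀, trivial⟩, inferInstance⟩, Ext.refl _,
        fun d hd => absurd hd (Finset.notMem_empty d)⟩
    | insert d S _ ih =>
      intro hS
      obtain ⟨Z, g, hg, hext, hdone⟩ := ih fun e he => hS e (Finset.mem_insert_of_mem he)
      obtain ⟨hdcl, hdnc⟩ := hS d (Finset.mem_insert_self d S)
      let R := Y'.presheaf.stalk d
      haveI hRd : IsDomain R := (hYn d).1
      haveI hRi : IsIntegrallyClosed R := (hYn d).2
      obtain ⟨d', hdd', hne, -⟩ := exists_closed_specialization hdnc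
      have hd1 : ringKrullDim R ≤ 1 := (of_specializes hY2 hdd' hne).1
      haveI : IsPrincipalIdealRing R := ((tfae_of_isNoetherianRing_of_isLocalRing_of_isDomain R).out 3 0 :
        (IsIntegrallyClosed R ∧ ∀ P : Ideal R, P ≠ ⊥ → P.IsPrime → P = IsLocalRing.maximalIdeal R) ↔ _).1
        ⟨hRi, fun P hP hPp => haveI := hPp; eq_max_of_dim_le_one hd1 hP⟩
      obtain ⟨w, hw⟩ := exists_transcendental p d hdcl hdnc
      obtain ⟨_, ⟨U, hU, rfl⟩, hxU, -⟩ :=
        X₀.isBasis_affineOpens.exists_subset_of_mem_open (Set.mem_univ (p d)) isOpen_univ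
      obtain ⟨W, hW, hdW, hWU⟩ := exists_isAffineOpen_mem_and_subset (x := d) (U := p ⁻¹ᵁ U) hxU
      have hWU' : W ≤ p ⁻¹ᵁ U := fun x hx => hWU hx
      haveI : Nonempty W := ⟨⟨d, hdW⟩⟩
      haveI : Nonempty U := ⟨⟨p d, hxU⟩⟩
      let G := (Y'.presheaf.germ W d hdW).hom
      obtain ⟨c, s, hs, hcs⟩ : ∃ c s : Γ(Y', W), IsUnit (G s) ∧ w * G s = G c := by
        letI := Y'.presheaf.algebra_section_stalk (⟨d, hdW⟩ : W)
        haveI := hW.isLocalization_stalk ⟨d, hdW⟩
        obtain ⟨⟨c, s⟩, hcs⟩ := IsLocalization.surj (hW.primeIdealOf ⟨d, hdW⟩).asIdeal.primeCompl w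
        exact ⟨c, s.1, IsLocalization.map_units R s, hcs⟩
      obtain ⟨a₁, b₁, hb₁, hab₁⟩ := Coherent.isAlgebraic_appLE p hpη hpb (U := U) hU hWU' c
      obtain ⟨a₂, b₂, hb₂, hab₂⟩ := Coherent.isAlgebraic_appLE p hpη hpb (U := U) hU hWU' s
      let α := (p.appLE U W hWU').hom
      have hαinj : Function.Injective α := Resolve13.appLE_injective p hpη U
        ((genericPoint_specializes (p d)).mem_open U.2 hxU) W ((genericPoint_specializes d).mem_open W.2 hdW) hWU'
      have hs0 : s ≠ 0 := fun e => not_isUnit_zero (by rwa [e, map_zero] at hs)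
      have ha2 : a₂ ≠ 0 := fun e => by
        have h1 : s * α b₂ = α a₂ := hab₂
        rw [e, map_zero] at h1
        exact hb₂ (hαinj ((mul_eq_zero.1 h1).resolve_left hs0 |>.trans (map_zero α).symm))
      have ha0 : G (α (a₂ * b₁)) ≠ 0 := fun e => mul_ne_zero ha2 hb₁ (hαinj
        ((germ_injective_of_isIntegral Y' d hdW (e.trans (map_zero G).symm)).trans (map_zero α).symm))
      have hua : w * G (α (a₂ * b₁)) = G (α (a₁ * b₂)) := by
        have h1 : c * α b₁ = α a₁ := hab₁
        have h2 : s * α b₂ = α a₂ := hab₂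
        rw [map_mul α a₁, ← h1, map_mul α, ← h2]
        simp only [map_mul, ← hcs]
        ring
      let f₀ : X₀.presheaf.stalk (p d) ⟶ CommRingCat.of R := p.stalkMap d
      haveI : IsLocalHom f₀.hom := inferInstanceAs (IsLocalHom (p.stalkMap d).hom)
      have hT : Transcendental (Spec.map f₀ ≫ X₀.fromSpecStalk (p d)) w := transcendental_fromSpecStalk (p d) f₀ w hw
      have heq : Spec.map f₀ ≫ X₀.fromSpecStalk (p d) = h₀ d := Scheme.SpecMap_stalkMap_fromSpecStalk p
      obtain ⟨k, hkp, hkg, hlift⟩ := id hext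
      obtain ⟨h', hh'⟩ := hlift R (Spec.map f₀ ≫ X₀.fromSpecStalk (p d)) (by
        show (𝟙 X₀ : X₀ ⟶ X₀) _ = _
        rw [heq]; exact hh₀η d)
      have hg' : h' ≫ g = Spec.map f₀ ≫ X₀.fromSpecStalk (p d) := by
        rw [← hkg, Category.comp_id]; exact hh'
      have hrange : ∀ r : Γ(X₀, U), ∃ o, (Scheme.stalkClosedPointTo h').hom o = G (α r) := fun r => by
        have hcl : (Spec.map f₀ ≫ X₀.fromSpecStalk (p d)) (IsLocalRing.closedPoint R) = p d := by
          rw [Scheme.Hom.comp_apply, Spec_closedPoint, Scheme.fromSpecStalk_closedPoint]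
        have h1 := ConcreteCategory.congr_hom
          (Scheme.germ_stalkClosedPointTo_Spec_fromSpecStalk f₀ U (show _ ∈ U from hcl.symm ▸ hxU)) r
        have h2 : f₀.hom (X₀.presheaf.germ U (p d) hxU r) = G (α r) := by
          show (p.stalkMap d) (X₀.presheaf.germ U (p d) hxU r) = _
          rw [Scheme.Hom.germ_stalkMap_apply]
          exact (Y'.presheaf.germ_res_apply (homOfLE hWU') d hdW _).symm
        have key : ∀ (m : Spec (CommRingCat.of R) ⟶ X₀), h' ≫ g = m → ∀ o,
            ∃ o', (Scheme.stalkClosedPointTo h').hom o' = (Scheme.stalkClosedPointTo m).hom o := by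
          rintro _ rfl o
          exact ⟨(g.stalkMap _).hom o, by rw [Scheme.stalkClosedPointTo_comp]; rfl⟩
        obtain ⟨o', ho'⟩ := key _ hg' (X₀.presheaf.germ U _ (show _ ∈ U from hcl.symm ▸ hxU) r)
        exact ⟨o', ho'.trans (h1.trans h2)⟩
      obtain ⟨Z', g', hg'seq, hext', h'', hh'', hcl''⟩ := exists_nonclosed hFN hη₀
        (Spec.map f₀ ≫ X₀.fromSpecStalk (p d)) (heq ▸ hh₀η d) w hT _ _ ha0 rfl g hg h' hg' (hrange _)
        (hua ▸ hrange _)
      refine ⟨Z', g', hg'seq, hext.trans hext', fun e he => ?_⟩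
      rcases Finset.mem_insert.1 he with rfl | he
      · exact ⟨h'', hh''.trans heq, hcl''⟩
      · obtain ⟨h, hh, hhcl⟩ := hdone e he
        obtain ⟨d'', hd'', hne'', -⟩ := exists_closed_specialization (hS e (Finset.mem_insert_of_mem he)).2
        haveI : IsDomain (Y'.presheaf.stalk e) := (hYn e).1
        haveI : IsPrincipalIdealRing (Y'.presheaf.stalk e) :=
          ((tfae_of_isNoetherianRing_of_isLocalRing_of_isDomain _).out 3 0 :
            (IsIntegrallyClosed (Y'.presheaf.stalk e) ∧ ∀ P : Ideal (Y'.presheaf.stalk e), P ≠ ⊥ → P.IsPrime →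
              P = IsLocalRing.maximalIdeal (Y'.presheaf.stalk e)) ↔ _).1
            ⟨(hYn e).2, fun P hP hPp => haveI := hPp; eq_max_of_dim_le_one (of_specializes hY2 hd'' hne'').1 hP⟩
        obtain ⟨k', hk'p, hk'g, hlift'⟩ := hext'
        haveI := hk'p
        obtain ⟨m, hm⟩ := @hlift' (Y'.presheaf.stalk e) _ (hYn e).1 _ h
          ((congrArg (fun t : _ ⟶ X₀ => t _) hh).trans (hh₀η e))
        refine ⟨m, by rw [← hk'g, ← Category.assoc, hm, hh], fun hcl => hhcl ?_⟩
        have := k'.isClosedMap _ hcl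
        rw [Set.image_singleton, ← Scheme.Hom.comp_apply, hm] at this
        exact this
  obtain ⟨Xn, g, hg, -, hdone⟩ := main hEfin.toFinset fun d hd => hEfin.mem_toFinset.1 hd
  haveI := hg.integral
  haveI := hg.noeth
  haveI := hg.proper
  obtain ⟨Wg, hWgne, hWg⟩ := hg.bir
  haveI := hWg
  obtain ⟨hgη, hgb⟩ := Coherent.birational_of_isIso_morphismRestrict g Wg hWgne
  let W₀ : X₀.Opens := Wg ⊓ Wp
  have hW₀η : genericPoint X₀ ∈ W₀ :=
    ⟨(genericPoint_spec X₀).mem_open_set_iff Wg.2 |>.2 (by simpa using hWgne),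
      (genericPoint_spec X₀).mem_open_set_iff Wp.2 |>.2 (by simpa using hWp)⟩
  haveI : IsIso (g ∣_ W₀) := BMLib.isIso_restrict_of_le g (U := Wg) inf_le_left
  haveI : IsIso (p ∣_ W₀) := BMLib.isIso_restrict_of_le p (U := Wp) inf_le_right
  let U₀ : Xn.Opens := g ⁻¹ᵁ W₀
  have hU₀η : genericPoint Xn ∈ U₀ := show g (genericPoint Xn) ∈ W₀ from hgη.symm ▸ hW₀η
  let π : pullback g p ⟶ Xn := pullback.fst g p
  let σ : U₀.toScheme ⟶ pullback g p := pullback.lift U₀.ι ((g ∣_ W₀) ≫ inv (p ∣_ W₀) ≫ (p ⁻¹ᵁ W₀).ι) (by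
    rw [Category.assoc, Category.assoc, ← morphismRestrict_ι p W₀, IsIso.inv_hom_id_assoc, morphismRestrict_ι])
  obtain ⟨Γ', i, hΓ, hicl, hγiso, -⟩ := exists_graph_closure π U₀ ⟨_, hU₀η⟩ σ (pullback.lift_fst _ _ _)
  haveI := hΓ
  haveI := hicl
  haveI := hγiso
  let γ : Γ' ⟶ Xn := i ≫ π
  let q : Γ' ⟶ Y' := i ≫ pullback.snd g p
  have hcomm : γ ≫ g = q ≫ p := by rw [Category.assoc, Category.assoc, pullback.condition]
  haveI : IsProper γ := inferInstance
  obtain ⟨hγη, hγb⟩ := Coherent.birational_of_isIso_morphismRestrict γ U₀ ⟨_, hU₀η⟩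
  obtain ⟨V, hV, hVfib, -⟩ := Groth.Agent.S11555.result γ hg.normal hγη hγb
  have hVtop : V = ⊤ := by
    by_contra hVne
    obtain ⟨y, hyV, hycl⟩ := (V.2.isClosed_compl).exists_closed_singleton (by
      rw [Set.nonempty_compl]
      exact fun h => hVne (Opens.ext h))
    obtain ⟨c₀, hc₀⟩ : y ∈ Set.range γ := by
      have h1 : closure ({genericPoint Xn} : Set Xn) ⊆ Set.range γ :=
        γ.isClosedMap.isClosed_range.closure_subset_iff.2 (Set.singleton_subset_iff.2 ⟨_, hγη⟩)
      exact h1 (specializes_iff_mem_closure.1 (genericPoint_specializes y))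
    have key : ∀ c c' : Γ', γ c = y → γ c' = y → c ⤳ c' → c = c' := by
      intro c c' hc hc' hcc'
      by_cases hq : q c = q c'
      · let iy := Xn.fromSpecResidueField y
        haveI : IsClosedImmersion iy := isClosed_singleton_iff_isClosedImmersion.1 hycl
        have hgy : IsClosed ({g y} : Set X₀) := by simpa using g.isClosedMap _ hycl
        haveI : IsClosedImmersion (X₀.fromSpecResidueField (g y)) := isClosed_singleton_iff_isClosedImmersion.1 hgy
        haveI : IsFinite (Spec.map (g.residueFieldMap y)) :=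
          (IsFinite.SpecMap_iff _).2 (H8Top.residueFieldMap_finite g hycl)
        haveI : IsFinite (iy ≫ g) := by rw [← Scheme.Hom.SpecMap_residueFieldMap_fromSpecResidueField]; infer_instance
        let Q := pullback π iy
        let j : Q ⟶ Y' := pullback.fst π iy ≫ pullback.snd g p
        haveI : IsFinite j := MorphismProperty.of_isPullback (P := @IsFinite)
          ((IsPullback.of_hasPullback π iy).flip.paste_vert (IsPullback.of_hasPullback g p))
          (inferInstance : IsFinite (iy ≫ g))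
        have hr : ∀ z : Γ', γ z = y → ∃ v : Q, pullback.fst π iy v = i z := fun z hz => by
          have : i z ∈ Set.range (pullback.fst π iy) := by
            rw [Scheme.Pullback.range_fst, Scheme.range_fromSpecResidueField]
            exact hz
          exact this
        obtain ⟨v, hv⟩ := hr c hc
        obtain ⟨v', hv'⟩ := hr c' hc'
        have hvv : v ⤳ v' := (pullback.fst π iy).isEmbedding.isInducing.specializes_iff.1
          (by rw [hv, hv']; exact hcc'.map i.continuous)
        have hj : j v = j v' := by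
          show pullback.snd g p (pullback.fst π iy v) = pullback.snd g p (pullback.fst π iy v')
          rw [hv, hv']
          exact hq
        have hvv' : v = v' := by
          haveI := (j.isDiscrete_preimage_singleton (j v)).to_subtype
          exact congrArg Subtype.val (Specializes.eq ((subtype_specializes_iff _ _).2 hvv :
            (⟨v, rfl⟩ : j ⁻¹' {j v}) ⤳ ⟨v', hj.symm⟩))
        exact i.isEmbedding.injective (by rw [← hv, ← hv', hvv'])
      · exfalso
        have hpq : p (q c) = g y := by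
          rw [← Scheme.Hom.comp_apply, ← hcomm, Scheme.Hom.comp_apply, hc]
        have hqE : q c ∈ E := by
          refine ⟨hpq ▸ (by simpa using g.isClosedMap _ hycl), fun hcl => hq ?_⟩
          have := specializes_iff_mem_closure.1 (hcc'.map q.continuous)
          rw [hcl.closure_eq] at this
          exact (Set.mem_singleton_iff.1 this).symm
        obtain ⟨h, hh, hhcl⟩ := hdone (q c) (hEfin.mem_toFinset.2 hqE)
        let t₁ : Spec (Γ'.presheaf.stalk c) ⟶ Xn := Γ'.fromSpecStalk c ≫ γ
        let t₂ : Spec (Γ'.presheaf.stalk c) ⟶ Xn := Spec.map (q.stalkMap c) ≫ h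
        have ht : t₁ ≫ g = t₂ ≫ g := by
          show (Γ'.fromSpecStalk c ≫ γ) ≫ g = (Spec.map (q.stalkMap c) ≫ h) ≫ g
          rw [Category.assoc (Γ'.fromSpecStalk c) γ, hcomm, Category.assoc _ h, hh]
          exact (Scheme.SpecMap_stalkMap_fromSpecStalk_assoc q p).symm
        have hgen : ∃ t, (t₁ ≫ g) t ∈ W₀ := by
          obtain ⟨t, ht⟩ : genericPoint Γ' ∈ Set.range (Γ'.fromSpecStalk c) := by
            rw [Scheme.range_fromSpecStalk]; exact genericPoint_specializes c
          refine ⟨t, ?_⟩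
          show g (γ (Γ'.fromSpecStalk c t)) ∈ W₀
          rw [ht, hγη]
          exact hU₀η
        have heq := eq_of_birational g W₀ t₁ t₂ ht hgen
        refine hhcl ?_
        have h1 : t₁ (IsLocalRing.closedPoint (Γ'.presheaf.stalk c)) = y := by
          rw [Scheme.Hom.comp_apply, Scheme.fromSpecStalk_closedPoint, hc]
        rw [heq, Scheme.Hom.comp_apply, Spec_closedPoint] at h1
        rw [h1]
        exact hycl
    obtain ⟨x, -⟩ := (γ.range_fiberι y).ge (show c₀ ∈ γ ⁻¹' {y} from hc₀)
    haveI : LocallyOfFiniteType (γ.fiberToSpecResidueField y) :=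
      (inferInstance : LocallyOfFiniteType (Limits.pullback.snd γ (Xn.fromSpecResidueField y)))
    haveI : IsLocallyNoetherian (γ.fiber y) := LocallyOfFiniteType.isLocallyNoetherian (γ.fiberToSpecResidueField y)
    haveI : AlgebraicGeometry.IsNoetherian (γ.fiber y) := {}
    have hmem : ∀ z, γ (γ.fiberι y z) = y := fun z => (γ.range_fiberι y).le ⟨z, rfl⟩
    have hd0 : topologicalKrullDim (Set.univ : Set ↥(γ.fiber y)) ≤ 0 := by
      rw [(Homeomorph.Set.univ _).isHomeomorph.topologicalKrullDim_eq]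
      exact Modification.dim_le_zero fun a b hab => (γ.fiberι y).isEmbedding.injective
        (key _ _ (hmem a) (hmem b) (hab.map (γ.fiberι y).continuous))
    obtain ⟨hf1, hf2⟩ := CommAlg4.finite_and_isClosed_singleton_of_dim_le_zero isClosed_univ hd0
    haveI : T1Space ↥(γ.fiber y) := ⟨fun z => hf2 z trivial⟩
    haveI : Finite ↥(γ.fiber y) := Set.finite_univ_iff.1 hf1
    exact hVfib y hyV x (isOpen_discrete _)
  subst hVtop
  haveI : IsIso γ := by
    haveI := hV
    have h1 : IsIso ((γ ⁻¹ᵁ (⊤ : Xn.Opens)).ι ≫ γ) := by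
      rw [← morphismRestrict_ι γ ⊤, ← Scheme.topIso_hom]
      infer_instance
    haveI : IsIso (γ ⁻¹ᵁ (⊤ : Xn.Opens)).ι := by
      show IsIso (⊤ : Γ'.Opens).ι
      rw [← Scheme.topIso_hom]
      infer_instance
    exact @IsIso.of_isIso_comp_left _ _ _ _ _ (γ ⁻¹ᵁ (⊤ : Xn.Opens)).ι γ _ h1
  refine ⟨Xn, g, hg, inv γ ≫ q, ?_⟩
  rw [Category.assoc, ← hcomm, IsIso.inv_hom_id_assoc]

end Groth.Agent.Resolve13.NormPt
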