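import Groth.Agent.S11555
import Groth.Agent.S7338
import Groth.Agent.S1649
import Groth.Agent.Resolve13.LipmanInvertible
import Groth.Agent.Resolve13.LocalBase
import Groth.Agent.CommAlg4.RatSingRegular
import Groth.Agent.CAlgH3.Serre
import Mathlib

/-!
# Resolutions by normalised point blow-ups

If a normal surface has a resolution of singularities, finitely many normalised blow-ups in closed points make it
regular.
-/

set_option autoImplicit false
set_option backward.isDefEq.respectTransparency.types false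
universe u
open CategoryTheory CategoryTheory.Limits AlgebraicGeometry TopologicalSpace Opposite
open Groth.Agent.Misc15.DivDescent Groth.Agent.Models7

namespace Groth.Agent.Resolve13.NormPt

/-- Over a closed point at which a proper birational map is nowhere an isomorphism there is a non-closed point. -/
theorem exists_nonclosed_over {Z' Z : Scheme.{u}} [IsIntegral Z'] [IsIntegral Z] [IsLocallyNoetherian Z]
    (k : Z' ⟶ Z) [IsProper k] (hZn : Pi1.IsNormalScheme Z) (hkη : k (genericPoint Z') = genericPoint Z)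
    (hkb : Function.Bijective (k.stalkMap (genericPoint Z'))) (z : Z) (hz : IsClosed ({z} : Set Z))
    (hno : ∀ z', k z' = z → ¬ IsIso (k.stalkMap z')) :
    ∃ w, k w = z ∧ ¬ IsClosed ({w} : Set Z') := by
  by_contra hall
  simp only [not_exists, not_and, not_not] at hall
  obtain ⟨V, hV, hVfib, -⟩ := Groth.Agent.S11555.result k hZn hkη hkb
  obtain ⟨c₀, hc₀⟩ : z ∈ Set.range k := by
    have h1 : closure ({genericPoint Z} : Set Z) ⊆ Set.range k :=
      k.isClosedMap.isClosed_range.closure_subset_iff.2 (Set.singleton_subset_iff.2 ⟨_, hkη⟩)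
    exact h1 (specializes_iff_mem_closure.1 (genericPoint_specializes z))
  have hzV : z ∉ (V : Set Z) := fun h => hno c₀ hc₀ (by
    haveI := hV
    exact Models7.isIso_stalkMap_of_isIso_restrict k V c₀ (show k c₀ ∈ (V : Set Z) from hc₀.symm ▸ h))
  obtain ⟨x, -⟩ := (k.range_fiberι z).ge (show c₀ ∈ k ⁻¹' {z} from hc₀)
  haveI : LocallyOfFiniteType (k.fiberToSpecResidueField z) :=
    (inferInstance : LocallyOfFiniteType (Limits.pullback.snd k (Z.fromSpecResidueField z)))
  haveI : IsLocallyNoetherian (k.fiber z) := LocallyOfFiniteType.isLocallyNoetherian (k.fiberToSpecResidueField z)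
  haveI : AlgebraicGeometry.IsNoetherian (k.fiber z) := {}
  have hmem : ∀ t, k (k.fiberι z t) = z := fun t => (k.range_fiberι z).le ⟨t, rfl⟩
  haveI : T1Space ↥(k.fiber z) := ⟨fun t => by
    have h1 := (hall _ (hmem t)).preimage (k.fiberι z).continuous
    rwa [show (k.fiberι z) ⁻¹' {k.fiberι z t} = {t} from
      Set.ext fun t' => ⟨fun h => (k.fiberι z).isEmbedding.injective h, fun h => by rw [Set.mem_singleton_iff.1 h]; rfl⟩]
      at h1⟩
  have hd0 : topologicalKrullDim (Set.univ : Set ↥(k.fiber z)) ≤ 0 := by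
    rw [(Homeomorph.Set.univ _).isHomeomorph.topologicalKrullDim_eq]
    exact Modification.dim_le_zero fun a b hab => hab.eq
  haveI : Finite ↥(k.fiber z) :=
    Set.finite_univ_iff.1 (CommAlg4.finite_and_isClosed_singleton_of_dim_le_zero isClosed_univ hd0).1
  exact hVfib z hzV x (isOpen_discrete _)

/-- A noetherian normal domain with principal maximal ideal has dimension at most one. -/
theorem dim_le_one_of_principal {R : Type u} [CommRing R] [IsLocalRing R] [IsNoetherianRing R] (t : R)
    (ht : IsLocalRing.maximalIdeal R = Ideal.span {t}) : ringKrullDim R ≤ 1 := by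
  rw [← IsLocalRing.maximalIdeal_height_eq_ringKrullDim]
  have h := Ideal.height_le_one_of_isPrincipal_of_mem_minimalPrimes (Ideal.span {t}) (IsLocalRing.maximalIdeal R)
    (by rw [← ht, Ideal.minimalPrimes_eq_subsingleton_self]; exact Set.mem_singleton _)
  exact_mod_cast h

/-- The localisation of the source of a modification at a closed point of the target is a regular surface. -/
theorem regSurf_pullback {X' Z : Scheme.{u}} [IsIntegral X'] [IsIntegral Z] [IsLocallyNoetherian Z]
    (hX : RegSurf X') (h : X' ⟶ Z) [IsProper h] (hhη : h (genericPoint X') = genericPoint Z)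
    (hhb : Function.Bijective (h.stalkMap (genericPoint X')))
    (hdim : ∀ y : Z, ringKrullDim (Z.presheaf.stalk y) ≤ 2) (z : Z) :
    RegSurf (pullback h (Z.fromSpecStalk z)) := by
  let P := pullback h (Z.fromSpecStalk z)
  let q : P ⟶ Spec (Z.presheaf.stalk z) := pullback.snd h (Z.fromSpecStalk z)
  haveI : IsProper q := MorphismProperty.pullback_snd _ _ inferInstance
  obtain ⟨hPi, -⟩ := LocalBase.isIntegral h z hhη
  haveI := hX.noeth
  haveI hPn : IsLocallyNoetherian P := LocallyOfFiniteType.isLocallyNoetherian q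
  have hPc : CompactSpace P := QuasiCompact.compactSpace_of_compactSpace q
  refine ⟨hPi, hPn, hPc, fun t => ?_, dim_le_of_stalks 2 fun t => ?_⟩
  · haveI := hX.regular (pullback.fst h (Z.fromSpecStalk z) t)
    haveI := Props12.isIso_stalkMap_fst h z t
    exact IsRegularLocalRing.of_ringEquiv (R := X'.presheaf.stalk (pullback.fst h (Z.fromSpecStalk z) t))
      (asIso ((pullback.fst h (Z.fromSpecStalk z)).stalkMap t)).commRingCatIsoToRingEquiv
  · haveI := Props12.isIso_stalkMap_fst h z t
    rw [← ringKrullDim_eq_of_ringEquiv (asIso ((pullback.fst h (Z.fromSpecStalk z)).stalkMap t)).commRingCatIsoToRingEquiv]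
    exact (Modification.ringKrullDim_stalk_le h hhη hhb _).trans (hdim _)

/-- Between a regular modification and a regular surface there is no first cohomology over a closed point. -/
theorem subsingleton_H1_aux {X X' Z : Scheme.{u}} [IsIntegral X] [IsIntegral X'] [IsIntegral Z]
    [AlgebraicGeometry.IsNoetherian X] (hXr : ∀ x : X, IsRegularLocalRing (X.presheaf.stalk x))
    (hX'n : Pi1.IsNormalScheme X') (hZn : Pi1.IsNormalScheme Z)
    (fn : Z ⟶ X) [IsProper fn] (U : X.Opens) (hUne : (U : Set X).Nonempty) [IsIso (fn ∣_ U)]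
    (h : X' ⟶ Z) [IsProper h] (W : X.Opens) (hWne : (W : Set X).Nonempty) [IsIso ((h ≫ fn) ∣_ W)]
    (x : X) (hx2 : ringKrullDim (X.presheaf.stalk x) = 2) (zt : ↥(pullback fn (X.fromSpecStalk x))) :
    Subsingleton (Coh.HH (pullback h (Z.fromSpecStalk (pullback.fst fn (X.fromSpecStalk x) zt)))
      (Coh.structureModule (pullback h (Z.fromSpecStalk (pullback.fst fn (X.fromSpecStalk x) zt)))) 1) := by
  haveI : IsLocallyNoetherian Z := LocallyOfFiniteType.isLocallyNoetherian fn
  haveI : CompactSpace Z := QuasiCompact.compactSpace_of_compactSpace fn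
  haveI : IsLocallyNoetherian X' := LocallyOfFiniteType.isLocallyNoetherian h
  haveI : CompactSpace X' := QuasiCompact.compactSpace_of_compactSpace h
  haveI : AlgebraicGeometry.IsNoetherian X' := {}
  obtain ⟨hfη, -⟩ := Coherent.birational_of_isIso_morphismRestrict fn U hUne
  obtain ⟨hcη, -⟩ := Coherent.birational_of_isIso_morphismRestrict (h ≫ fn) W hWne
  let O := X.presheaf.stalk x
  let s := X.fromSpecStalk x
  haveI := hXr x
  haveI : IsDomain O := CAlgH3.isDomain_of_isRegularLocalRing O
  haveI : IsIntegrallyClosed O := (isNormalScheme_of_regular hXr x).2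
  let M := pullback fn s
  let P' := pullback (h ≫ fn) s
  let hx : P' ⟶ M := pullback.lift (pullback.fst (h ≫ fn) s ≫ h) (pullback.snd (h ≫ fn) s)
    (by rw [Category.assoc, pullback.condition])
  letI : M.Over (Spec (CommRingCat.of O)) := ⟨pullback.snd fn s⟩
  letI : P'.Over (Spec (CommRingCat.of O)) := ⟨pullback.snd (h ≫ fn) s⟩
  haveI : IsProper (M ↘ Spec (CommRingCat.of O)) := MorphismProperty.pullback_snd (P := @IsProper) fn s inferInstance
  haveI : IsProper (P' ↘ Spec (CommRingCat.of O)) := MorphismProperty.pullback_snd (P := @IsProper) (h ≫ fn) s inferInstance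
  obtain ⟨hMi, -⟩ := LocalBase.isIntegral fn x hfη
  obtain ⟨hPi, -⟩ := LocalBase.isIntegral (h ≫ fn) x hcη
  haveI : IsIntegral M := hMi
  haveI : IsIntegral P' := hPi
  have hMn : Pi1.IsNormalScheme M := LocalBase.isNormal fn x hZn
  have hPn : Pi1.IsNormalScheme P' := LocalBase.isNormal (h ≫ fn) x hX'n
  have hne : ∀ U' : X.Opens, (U' : Set X).Nonempty → ((s ⁻¹ᵁ U' : (Spec O).Opens) : Set (Spec O)).Nonempty := by
    intro U' hU'
    obtain ⟨w, hw⟩ : genericPoint X ∈ Set.range s := by
      rw [Scheme.range_fromSpecStalk]; exact genericPoint_specializes x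
    exact ⟨w, show s w ∈ U' from hw.symm ▸ (genericPoint_spec X).mem_open_set_iff U'.2 |>.2 (by simpa using hU')⟩
  have hMb := LocalBase.exists_isIso_restrict fn x U
  have hPb := LocalBase.exists_isIso_restrict (h ≫ fn) x W
  haveI : HasInjectiveResolutions P'.Modules := Coherent.hasInjectiveResolutions_modules P'
  obtain ⟨hgg, -, -, hlen⟩ := S7338.result O hx2 M P' ⟨_, hne U hUne, hMb⟩ ⟨_, hne W hWne, hPb⟩ hMn hx
    (pullback.lift_snd _ _ _)
  haveI hP0 : Subsingleton (Coh.HH P' (Coh.structureModule P') 1) :=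
    CommAlg4.isRationalSing_of_regular O hx2 P' (P' ↘ Spec (CommRingCat.of O)) inferInstance hPi hPn
      ⟨_, hne W hWne, hPb⟩
  rw [Module.length_eq_zero_iff.2 hP0] at hlen
  have hR0 := Module.length_eq_zero_iff.1 (add_eq_zero.1 hlen.symm).2
  have hRz : IsZero ((Coh.Rpush hx 1).obj (Coh.structureModule P')) :=
    LocalBase.isZero_of_globallyGenerated hgg fun τ => by
      rw [← (Coherent.Existence.hSec _).apply_symm_apply τ,
        hR0.elim ((Coherent.Existence.hSec _).symm τ) 0, map_zero]
  haveI : IsProper (hx ≫ pullback.snd fn s) := by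
    rw [pullback.lift_snd]; exact ‹IsProper (P' ↘ Spec (CommRingCat.of O))›
  haveI : IsProper hx := IsProper.of_comp hx (pullback.snd fn s)
  have hX1 := LocalBase.subsingleton_HH hx zt 1 (S1649.subsingleton_stalk_of_isZero hRz zt)
  let fstM := pullback.fst fn s
  let z := fstM zt
  have sq2 : IsPullback (pullback.fst (h ≫ fn) s) hx h fstM :=
    IsPullback.of_bot (by rw [pullback.lift_snd]; exact IsPullback.of_hasPullback (h ≫ fn) s)
      (pullback.lift_fst _ _ _).symm (IsPullback.of_hasPullback fn s)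
  have sq3 := (IsPullback.of_hasPullback hx (M.fromSpecStalk zt)).paste_horiz sq2
  rw [← Scheme.SpecMap_stalkMap_fromSpecStalk fstM] at sq3
  haveI := Props12.isIso_stalkMap_fst fn x zt
  let X₁ := pullback hx (M.fromSpecStalk zt)
  letI : X₁.Over (Spec (CommRingCat.of (Z.presheaf.stalk z))) :=
    ⟨pullback.snd hx (M.fromSpecStalk zt) ≫ Spec.map (fstM.stalkMap zt)⟩
  have sq4 : IsPullback (pullback.fst hx (M.fromSpecStalk zt) ≫ pullback.fst (h ≫ fn) s)
      (X₁ ↘ Spec (CommRingCat.of (Z.presheaf.stalk z))) h (Z.fromSpecStalk z) :=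
    sq3.of_iso (Iso.refl _) (Iso.refl _) (asIso (Spec.map (fstM.stalkMap zt))) (Iso.refl _)
      (by simp) (by simp; rfl) (by simp) (by simp only [Iso.refl_hom, asIso_hom, Category.comp_id]; rfl)
  haveI : Coh.IsQCoh (Coh.structureModule X') := Coherent.isQCoh_structureModule
  haveI : HasInjectiveResolutions X'.Modules := Coherent.hasInjectiveResolutions_modules X'
  obtain ⟨e⟩ := Coherent.nonempty_stalk_rpush_equiv h (Coh.structureModule X') 1 z X₁ _ sq4
  obtain ⟨i⟩ := CAlgH.PicPunct.nonempty_pullback_unit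
    (pullback.fst hx (M.fromSpecStalk zt) ≫ pullback.fst (h ≫ fn) s)
  haveI := FlatMorStrat.subsingleton_HH_of_iso i.symm 1 hX1
  exact LocalBase.subsingleton_HH h z 1 e.toEquiv.subsingleton

/-- Between a regular modification and a regular surface there is no first cohomology over a closed point. -/
theorem subsingleton_H1_over_point {X X' Z : Scheme.{u}} [IsIntegral X] [IsIntegral X'] [IsIntegral Z]
    [AlgebraicGeometry.IsNoetherian X] (hXr : ∀ x : X, IsRegularLocalRing (X.presheaf.stalk x))
    (hX'n : Pi1.IsNormalScheme X') (hZn : Pi1.IsNormalScheme Z)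
    (fn : Z ⟶ X) [IsProper fn] (hfn : ∃ U : X.Opens, (U : Set X).Nonempty ∧ IsIso (fn ∣_ U))
    (h : X' ⟶ Z) [IsProper h] (hh : ∃ V : Z.Opens, (V : Set Z).Nonempty ∧ IsIso (h ∣_ V))
    (hdim : ∀ x : X, ringKrullDim (X.presheaf.stalk x) ≤ 2) (z : Z) (hz : 2 ≤ ringKrullDim (Z.presheaf.stalk z)) :
    Subsingleton (Coh.HH (pullback h (Z.fromSpecStalk z))
      (Coh.structureModule (pullback h (Z.fromSpecStalk z))) 1) := by
  haveI : IsLocallyNoetherian Z := LocallyOfFiniteType.isLocallyNoetherian fn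
  obtain ⟨U, hUne, hU⟩ := hfn
  obtain ⟨V, hVne, hV⟩ := hh
  haveI := hU
  haveI := hV
  obtain ⟨hfη, hfb⟩ := Coherent.birational_of_isIso_morphismRestrict fn U hUne
  obtain ⟨W, hWne, hW⟩ := RatExt.exists_isIso_comp fn h U hUne V hVne
  haveI := hW
  have hx2 : ringKrullDim (X.presheaf.stalk (fn z)) = 2 :=
    le_antisymm (hdim _) (hz.trans (Modification.ringKrullDim_stalk_le fn hfη hfb z))
  obtain ⟨zt, hzt⟩ := LocalBase.mem_range_fst fn (fn z) (z := z) (specializes_refl _)
  have key := subsingleton_H1_aux hXr hX'n hZn fn U hUne h W hWne (fn z) hx2 zt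
  exact hzt ▸ key

/-- The inverse image of a closed point is a divisor as soon as this holds over the local ring. -/
theorem isEff_comap_of_local {X' Z : Scheme.{u}} [IsLocallyNoetherian X'] [IsLocallyNoetherian Z]
    (h : X' ⟶ Z) [IsProper h] (z : Z) (hz : IsClosed ({z} : Set Z)) (hdom : ∀ x : X', IsDomain (X'.presheaf.stalk x))
    (heff : BlowUp.IsEffCartierIdeal
      ((Scheme.IdealSheafData.vanishingIdeal (X := Spec (CommRingCat.of (Z.presheaf.stalk z)))
        ⟨{IsLocalRing.closedPoint (Z.presheaf.stalk z)}, IsLocalRing.isClosed_singleton_closedPoint _⟩).comap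
          (pullback.snd h (Z.fromSpecStalk z)))) :
    BlowUp.IsEffCartierIdeal ((Scheme.IdealSheafData.vanishingIdeal ⟨{z}, hz⟩).comap h) := by
  let J := Scheme.IdealSheafData.vanishingIdeal (⟨{z}, hz⟩ : Closeds Z)
  let s := Z.fromSpecStalk z
  let p := pullback.fst h s
  let q := pullback.snd h s
  have hJs : J.comap s = Scheme.IdealSheafData.vanishingIdeal (X := Spec (CommRingCat.of (Z.presheaf.stalk z)))
      ⟨{IsLocalRing.closedPoint (Z.presheaf.stalk z)}, IsLocalRing.isClosed_singleton_closedPoint _⟩ := by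
    have key : ∀ (w : Z) (hw : IsClosed ({w} : Set Z)), w = z →
        Scheme.IdealSheafData.vanishingIdeal (⟨{w}, hw⟩ : Closeds Z) = J := by
      rintro w hw rfl; rfl
    have hs : IsClosed ({s (IsLocalRing.closedPoint (Z.presheaf.stalk z))} : Set Z) := by
      rw [Scheme.fromSpecStalk_closedPoint]; exact hz
    rw [← key _ hs Scheme.fromSpecStalk_closedPoint]
    haveI : Flat s := inferInstance
    exact Resolve13.comap_vanishingIdeal_point s (IsLocalRing.closedPoint (Z.presheaf.stalk z))
      (IsLocalRing.isClosed_singleton_closedPoint _) hs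
  rw [← hJs, ← Scheme.IdealSheafData.comap_comp, ← pullback.condition, Scheme.IdealSheafData.comap_comp] at heff
  refine Resolve13.isEffCartier_of_cartierAt _ fun x hx => ?_
  rw [Scheme.IdealSheafData.support_comap] at hx
  have hxz : h x = z := (Scheme.IdealSheafData.coe_support_vanishingIdeal _).le hx
  obtain ⟨t, rfl⟩ : x ∈ Set.range p := by
    rw [Scheme.Pullback.range_fst]
    show h x ∈ Set.range s
    rw [hxz, Scheme.range_fromSpecStalk]
    exact specializes_refl z
  haveI := Props12.isIso_stalkMap_fst h z t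
  rw [← Resolve13.cartierAt_comap_iff]
  obtain ⟨U, htU, f, hf, hfU⟩ := heff t
  refine ⟨(pullback h s).presheaf.germ U t htU f, ?_, ?_⟩
  · have := hdom (p t)
    have : IsDomain ((pullback h s).presheaf.stalk t) :=
      (asIso (p.stalkMap t)).commRingCatIsoToRingEquiv.symm.toMulEquiv.isDomain
    refine mem_nonZeroDivisors_of_ne_zero fun h0 => ?_
    haveI := U.2.isLocalization_stalk ⟨t, htU⟩
    let _ := (pullback h s).presheaf.algebra_section_stalk (⟨t, htU⟩ : (U : (pullback h s).Opens))
    obtain ⟨⟨c, hc⟩, hcf⟩ := (IsLocalization.map_eq_zero_iff (U.2.primeIdealOf ⟨t, htU⟩).asIdeal.primeCompl _ f).1 h0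
    exact hc (by rw [show c = 0 from (mul_right_mem_nonZeroDivisors_eq_zero_iff hf).1 hcf]; exact Ideal.zero_mem _)
  · rw [stk_eq _ U htU, hfU, Ideal.map_span, Set.image_singleton]

/-- At a closed singular point of a surface between a regular modification and a regular surface the inverse image
of the point is a divisor. -/
theorem isEff_comap_singular {X X' Z : Scheme.{u}} [IsIntegral X] [IsIntegral Z]
    [AlgebraicGeometry.IsNoetherian X] (hXr : ∀ x : X, IsRegularLocalRing (X.presheaf.stalk x))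
    (hX' : RegSurf X') (hZn : Pi1.IsNormalScheme Z)
    (fn : Z ⟶ X) [IsProper fn] (hfn : ∃ U : X.Opens, (U : Set X).Nonempty ∧ IsIso (fn ∣_ U))
    (h : X' ⟶ Z) [IsProper h] (hh : ∃ V : Z.Opens, (V : Set Z).Nonempty ∧ IsIso (h ∣_ V))
    (hdim : ∀ x : X, ringKrullDim (X.presheaf.stalk x) ≤ 2) (z : Z) (hz : IsClosed ({z} : Set Z))
    (hreg : ¬ IsRegularLocalRing (Z.presheaf.stalk z)) (hz2 : 2 ≤ ringKrullDim (Z.presheaf.stalk z)) :
    BlowUp.IsEffCartierIdeal ((Scheme.IdealSheafData.vanishingIdeal ⟨{z}, hz⟩).comap h) ∧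
      ∃ w, h w = z ∧ ¬ IsClosed ({w} : Set X') := by
  haveI := hX'.integral
  haveI := hX'.noeth
  haveI : IsLocallyNoetherian Z := LocallyOfFiniteType.isLocallyNoetherian fn
  obtain ⟨U, hUne, hU⟩ := hfn
  obtain ⟨V, hVne, hV⟩ := hh
  haveI := hU
  haveI := hV
  obtain ⟨hfη, hfb⟩ := Coherent.birational_of_isIso_morphismRestrict fn U hUne
  obtain ⟨hhη, hhb⟩ := Coherent.birational_of_isIso_morphismRestrict h V hVne
  have hZ2 : ∀ y : Z, ringKrullDim (Z.presheaf.stalk y) ≤ 2 := fun y =>
    (Modification.ringKrullDim_stalk_le fn hfη hfb y).trans (hdim _)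
  obtain ⟨w, hwz, hwcl⟩ := exists_nonclosed_over h hZn hhη hhb z hz fun x hxz hiso => hreg (by
    subst hxz
    haveI := hiso
    haveI := hX'.regular x
    exact IsRegularLocalRing.of_ringEquiv (R := X'.presheaf.stalk x) (asIso (h.stalkMap x)).commRingCatIsoToRingEquiv.symm)
  refine ⟨isEff_comap_of_local h z hz (fun x => (hX'.isNormal x).1) ?_, w, hwz, hwcl⟩
  let O := Z.presheaf.stalk z
  haveI : IsDomain O := (hZn z).1
  haveI : IsIntegrallyClosed O := (hZn z).2
  let P := pullback h (Z.fromSpecStalk z)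
  let q : P ⟶ Spec (CommRingCat.of O) := pullback.snd h (Z.fromSpecStalk z)
  haveI : IsProper q := MorphismProperty.pullback_snd _ _ inferInstance
  have hP : RegSurf P := regSurf_pullback hX' h hhη hhb hZ2 z
  haveI := hP.integral
  obtain ⟨v, hv⟩ : genericPoint Z ∈ Set.range (Z.fromSpecStalk z) := by
    rw [Scheme.range_fromSpecStalk]; exact genericPoint_specializes z
  have hne : ((Z.fromSpecStalk z ⁻¹ᵁ V : (Spec O).Opens) : Set (Spec O)).Nonempty :=
    ⟨v, show Z.fromSpecStalk z v ∈ V from hv.symm ▸ (genericPoint_spec Z).mem_open_set_iff V.2 |>.2 (by simpa using hVne)⟩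
  refine isEffCartier_comap_closedPoint (hZ2 z) q hP ⟨_, hne, LocalBase.exists_isIso_restrict h z V⟩ (fun e => ?_)
    (subsingleton_H1_over_point hXr hX'.isNormal hZn fn ⟨U, hUne, hU⟩ h ⟨V, hVne, hV⟩ hdim z hz2) ?_
  · have h0 : ringKrullDim O ≤ 1 := by
      refine dim_le_one_of_principal (0 : O) ?_
      rw [Ideal.span_singleton_eq_bot.2 rfl]
      have h1 : IsGenericPoint (IsLocalRing.closedPoint O) (Set.univ : Set (Spec (CommRingCat.of O))) :=
        e ▸ genericPoint_spec _
      have h2 : IsLocalRing.closedPoint O ⤳ (⊥ : PrimeSpectrum O) := h1.specializes trivial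
      exact le_bot_iff.1 ((PrimeSpectrum.le_iff_specializes _ _).2 h2)
    exact absurd (hz2.trans h0) (by decide)
  · obtain ⟨d, rfl⟩ := LocalBase.mem_range_fst h z (z := w) (hwz ▸ specializes_refl _)
    let p := pullback.fst h (Z.fromSpecStalk z)
    haveI : IsPreimmersion p := MorphismProperty.pullback_fst _ _ inferInstance
    refine ⟨d, (Z.fromSpecStalk z).isEmbedding.injective ?_, fun hd => hwcl ?_⟩
    · show (q ≫ Z.fromSpecStalk z) d = _
      rw [← pullback.condition, Scheme.fromSpecStalk_closedPoint]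
      exact hwz
    · refine isClosed_of_closure_subset fun w' hw' => ?_
      obtain ⟨d', rfl⟩ := LocalBase.mem_range_fst h z (z := w') (by
        have := (specializes_iff_mem_closure.2 hw').map h.continuous
        rw [hwz] at this
        have h1 := specializes_iff_mem_closure.1 this
        rw [hz.closure_eq] at h1
        rw [Set.mem_singleton_iff.1 h1])
      have := specializes_iff_mem_closure.1 (p.isEmbedding.isInducing.specializes_iff.1 (specializes_iff_mem_closure.2 hw'))
      rw [hd.closure_eq] at this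
      exact Set.mem_singleton_iff.2 (congrArg p (Set.mem_singleton_iff.1 this))

/-- A factor of a birational map through a birational map is birational. -/
theorem exists_isIso_of_comp {A B C : Scheme.{u}} [IsIntegral B] [IsIntegral C] (a : A ⟶ B) (v : B ⟶ C)
    (h : ∃ W : C.Opens, (W : Set C).Nonempty ∧ IsIso ((a ≫ v) ∣_ W))
    (hv : ∃ W : C.Opens, (W : Set C).Nonempty ∧ IsIso (v ∣_ W)) :
    ∃ U : B.Opens, (U : Set B).Nonempty ∧ IsIso (a ∣_ U) := by
  obtain ⟨W, hWne, hW⟩ := h
  obtain ⟨Wv, hWvne, hWv⟩ := hv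
  haveI := hW
  haveI := hWv
  obtain ⟨hvη, -⟩ := Coherent.birational_of_isIso_morphismRestrict v Wv hWvne
  let W₀ : C.Opens := W ⊓ Wv
  have hη : genericPoint C ∈ W₀ :=
    ⟨(genericPoint_spec C).mem_open_set_iff W.2 |>.2 (by simpa using hWne),
      (genericPoint_spec C).mem_open_set_iff Wv.2 |>.2 (by simpa using hWvne)⟩
  haveI : IsIso ((a ≫ v) ∣_ W₀) := BMLib.isIso_restrict_of_le (a ≫ v) (U := W) inf_le_left
  haveI : IsIso (v ∣_ W₀) := BMLib.isIso_restrict_of_le v (U := Wv) inf_le_right
  refine ⟨v ⁻¹ᵁ W₀, ⟨genericPoint B, show v (genericPoint B) ∈ W₀ from hvη.symm ▸ hη⟩, ?_⟩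
  have h2 : IsIso ((a ≫ v) ∣_ W₀) := inferInstance
  rw [morphismRestrict_comp] at h2
  exact @IsIso.of_isIso_comp_right _ _ _ _ _ _ (v ∣_ W₀) inferInstance h2

theorem two_le_of_one_lt {a : WithBot ℕ∞} (h : ¬ a ≤ 1) : 2 ≤ a := by
  induction a using WithBot.recBotCoe with
  | bot => exact absurd bot_le h
  | coe b =>
    refine WithBot.coe_le_coe.2 ?_
    have h1 : (1 : ℕ∞) < b := not_le.1 fun hb => h (WithBot.coe_le_coe.2 hb)
    exact one_add_one_eq_two.symm.le.trans (Order.add_one_le_of_lt h1)

/-- If a normal surface has a resolution, normalised blow-ups in closed points make it regular. -/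
theorem exists_regular_seq {X₀ X : Scheme.{u}} [IsIntegral X₀] [AlgebraicGeometry.IsNoetherian X₀]
    (hn₀ : Pi1.IsNormalScheme X₀) (hdim : ∀ x : X₀, ringKrullDim (X₀.presheaf.stalk x) ≤ 2)
    (hη₀ : ¬ IsClosed ({genericPoint X₀} : Set X₀)) (hX : RegSurf X) (f : X ⟶ X₀) [IsProper f]
    (hf : ∃ W : X₀.Opens, (W : Set X₀).Nonempty ∧ IsIso (f ∣_ W)) :
    ∃ (Xn : Scheme.{u}) (g : Xn ⟶ X₀), IsSeq g ∧ ∀ y : Xn, IsRegularLocalRing (Xn.presheaf.stalk y) := by
  have hFN := finNorm_of_resolution hX f hf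
  haveI := hX.integral
  haveI := hX.noeth
  haveI := hX.compact
  haveI : AlgebraicGeometry.IsNoetherian X := {}
  obtain ⟨Wf, hWfne, hWf⟩ := id hf
  haveI := hWf
  obtain ⟨hfη, hfb⟩ := Coherent.birational_of_isIso_morphismRestrict f Wf hWfne
  have hX2 : ∀ x : X, ringKrullDim (X.presheaf.stalk x) ≤ 2 := fun x =>
    (Modification.ringKrullDim_stalk_le f hfη hfb x).trans (hdim _)
  obtain ⟨Z₁, g₁, hg₁, fn₁, hfn₁⟩ := exists_dominating hn₀ hFN hdim hη₀ hX.isNormal f Wf hWfne
  haveI := hg₁.integral
  haveI := hg₁.proper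
  obtain ⟨X', bX, l₁, hX', hbXp, hl₁p, hl₁g, hbX, -⟩ := exists_regular_dominating hX f hf g₁ hg₁.bir
  haveI := hX'.integral
  haveI := hX'.noeth
  have hl₁bir : ∃ V : Z₁.Opens, (V : Set Z₁).Nonempty ∧ IsIso (l₁ ∣_ V) := by
    refine exists_isIso_of_comp l₁ g₁ ?_ hg₁.bir
    rw [hl₁g]
    obtain ⟨U, hUne, hU⟩ := hbX
    haveI := hU
    exact RatExt.exists_isIso_comp f bX Wf hWfne U hUne
  have main : ∀ (n : ℕ) (Z : Scheme.{u}) (g : Z ⟶ X₀), IsSeq g → ∀ (fn : Z ⟶ X), fn ≫ f = g →
      ∀ (l : X' ⟶ Z), IsProper l → (∃ V : Z.Opens, (V : Set Z).Nonempty ∧ IsIso (l ∣_ V)) →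
      {d : X' | IsClosed ({l d} : Set Z) ∧ ¬ IsClosed ({d} : Set X')}.ncard ≤ n →
      ∃ (Xn : Scheme.{u}) (g : Xn ⟶ X₀), IsSeq g ∧ ∀ y : Xn, IsRegularLocalRing (Xn.presheaf.stalk y) := by
    intro n
    induction n using Nat.strong_induction_on with
    | _ n ih =>
      intro Z g hg fn hfn l hlp hlb hcard
      by_cases hreg : ∀ y : Z, IsRegularLocalRing (Z.presheaf.stalk y)
      · exact ⟨Z, g, hg, hreg⟩
      obtain ⟨y, hy⟩ := not_forall.1 hreg
      haveI := hg.integral
      haveI := hg.noeth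
      haveI := hg.proper
      haveI := hlp
      haveI : IsProper (fn ≫ f) := hfn.symm ▸ hg.proper
      haveI : IsProper fn := IsProper.of_comp fn f
      obtain ⟨Wg, hWgne, hWg⟩ := id hg.bir
      haveI := hWg
      obtain ⟨hgη, hgb⟩ := Coherent.birational_of_isIso_morphismRestrict g Wg hWgne
      have hZ2 : ∀ z : Z, ringKrullDim (Z.presheaf.stalk z) ≤ 2 := fun z =>
        (Modification.ringKrullDim_stalk_le g hgη hgb z).trans (hdim _)
      haveI := (hg.normal y).1
      haveI := (hg.normal y).2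
      have hy1 : ¬ ringKrullDim (Z.presheaf.stalk y) ≤ 1 := fun h1 =>
        hy (CAlgH3.isRegularLocalRing_of_normal_dim_le_one h1)
      have hycl : IsClosed ({y} : Set Z) := by
        by_contra hn
        obtain ⟨d', hdd', hne, -⟩ := exists_closed_specialization hn
        exact hy1 (of_specializes hZ2 hdd' hne).1
      obtain ⟨heff, -⟩ := isEff_comap_singular hX.regular hX' hg.normal fn
        (exists_isIso_of_comp fn f (hfn.symm ▸ hg.bir) hf) l hlb hX2 y hycl hy (two_le_of_one_lt hy1)
      obtain ⟨Z', g', k, hg', hkp, hkg, -, hprin, huniv⟩ := exists_step hFN hη₀ g hg y hycl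
      haveI := hg'.integral
      haveI := hg'.noeth
      haveI := hkp
      obtain ⟨Vl, hVlne, hVl⟩ := id hlb
      haveI := hVl
      obtain ⟨hlη, hlbij⟩ := Coherent.birational_of_isIso_morphismRestrict l Vl hVlne
      obtain ⟨l', hl'⟩ := huniv X' l hX'.isNormal (by rw [hlη, hgη]) heff
      haveI : IsProper (l' ≫ k) := hl'.symm ▸ hlp
      haveI : IsProper l' := IsProper.of_comp l' k
      have hkbir := exists_isIso_of_comp k g (hkg.symm ▸ hg'.bir) hg.bir
      have hl'b := exists_isIso_of_comp l' k (hl'.symm ▸ hlb) hkbir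
      obtain ⟨Vk, hVkne, hVk⟩ := id hkbir
      haveI := hVk
      obtain ⟨hkη, hkb⟩ := Coherent.birational_of_isIso_morphismRestrict k Vk hVkne
      obtain ⟨Vl', hVl'ne, hVl'⟩ := id hl'b
      haveI := hVl'
      obtain ⟨hl'η, -⟩ := Coherent.birational_of_isIso_morphismRestrict l' Vl' hVl'ne
      obtain ⟨w, hwy, hwcl⟩ := exists_nonclosed_over k hg.normal hkη hkb y hycl fun w hwy hiso => hy1 (by
        subst hwy
        haveI := hiso
        obtain ⟨t, ht⟩ := hprin w
        rw [stk_comap, Models7.stk_vanishingIdeal_point (k w) hycl] at ht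
        let e := (asIso (k.stalkMap w)).commRingCatIsoToRingEquiv
        refine dim_le_one_of_principal (e.symm t) ?_
        have h1 := congrArg (Ideal.map e.symm.toRingHom) ht
        rw [Ideal.map_map, Ideal.map_span, Set.image_singleton] at h1
        rw [show e.symm.toRingHom.comp (k.stalkMap w).hom = RingHom.id _ from
          RingHom.ext fun r => e.symm_apply_apply r, Ideal.map_id] at h1
        exact h1)
      obtain ⟨d, hd⟩ : w ∈ Set.range l' := by
        have h1 : closure ({genericPoint Z'} : Set Z') ⊆ Set.range l' :=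
          l'.isClosedMap.isClosed_range.closure_subset_iff.2 (Set.singleton_subset_iff.2 ⟨_, hl'η⟩)
        exact h1 (specializes_iff_mem_closure.1 (genericPoint_specializes w))
      have hη : ¬ IsClosed ({genericPoint Z} : Set Z) := fun hc => hη₀ (by
        have := g.isClosedMap _ hc
        rwa [Set.image_singleton, hgη] at this)
      have hfin := finite_nonclosed_over_closed l hlη hlbij hZ2 hη
      have hsub : {e : X' | IsClosed ({l' e} : Set Z') ∧ ¬ IsClosed ({e} : Set X')} ⊆
          {e : X' | IsClosed ({l e} : Set Z) ∧ ¬ IsClosed ({e} : Set X')} := by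
        rintro e ⟨he, he'⟩
        refine ⟨?_, he'⟩
        have := k.isClosedMap _ he
        rwa [Set.image_singleton, ← Scheme.Hom.comp_apply, hl'] at this
      refine ih _ (lt_of_lt_of_le (Set.ncard_lt_ncard ((Set.ssubset_iff_of_subset hsub).2 ⟨d, ⟨?_, ?_⟩, ?_⟩)
        hfin) hcard) Z' g' hg' (k ≫ fn) (by rw [Category.assoc, hfn, hkg]) l' inferInstance hl'b le_rfl
      · rw [← hl', Scheme.Hom.comp_apply, hd, hwy]; exact hycl
      · intro hc
        have := l'.isClosedMap _ hc
        rw [Set.image_singleton, hd] at this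
        exact hwcl this
      · exact fun hc => hwcl (hd ▸ hc.1)
  exact main _ Z₁ g₁ hg₁ fn₁ hfn₁ l₁ hl₁p hl₁bir le_rfl

end Groth.Agent.Resolve13.NormPt
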