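import Mathlib
import Groth.Agent.CAlgH.RegularPowerSeries
import Groth.Agent.CAlgH.PowerSeriesComplete
import Groth.Agent.CAlgH.GenericFibre

/-!
Power series over a field of characteristic `p` which are not `p`-th powers: after subtracting a `p`-th power and
changing coordinates (possibly the coefficient field) some exponent of a nonzero coefficient is prime to `p`.
Derivations of power series rings into Hausdorff modules are determined by the variables and constants.
-/
universe u
open IsLocalRing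

namespace Groth.Agent.Resolve13.NotPth

section basic
variable {k : Type u} [Field k] {n : ℕ}

/-- The ideal of the variables. -/
noncomputable def varIdeal (k : Type u) [Field k] (n : ℕ) : Ideal (MvPowerSeries (Fin n) k) :=
  Ideal.span (Set.range MvPowerSeries.X)

theorem X_mem_varIdeal (i : Fin n) : (MvPowerSeries.X i : MvPowerSeries (Fin n) k) ∈ varIdeal k n :=
  Ideal.subset_span ⟨i, rfl⟩

theorem le_order_of_mem_pow {j : ℕ} {f : MvPowerSeries (Fin n) k} (hf : f ∈ varIdeal k n ^ j) :
    (j : ℕ∞) ≤ f.order := by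
  induction j generalizing f with
  | zero => exact le_trans (le_of_eq Nat.cast_zero) bot_le
  | succ j ih =>
    rw [pow_succ] at hf
    refine Submodule.mul_induction_on hf (fun a ha b hb => ?_) (fun a b ha hb => ?_)
    · refine le_trans ?_ MvPowerSeries.le_order_mul
      rw [Nat.cast_succ]
      refine add_le_add (ih ha) ?_
      have hle : varIdeal k n ≤ RingHom.ker (MvPowerSeries.constantCoeff (σ := Fin n) (R := k)) := by
        rw [varIdeal, Ideal.span_le]
        rintro _ ⟨i, rfl⟩
        exact MvPowerSeries.constantCoeff_X i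
      exact (MvPowerSeries.one_le_order_iff_constCoeff_eq_zero).mpr (hle hb)
    · exact le_trans (le_min ha hb) MvPowerSeries.min_order_le_add

theorem coeff_eq_zero_of_mem_pow {j : ℕ} {f : MvPowerSeries (Fin n) k} (hf : f ∈ varIdeal k n ^ j)
    {d : Fin n →₀ ℕ} (hd : d.degree < j) : MvPowerSeries.coeff d f = 0 :=
  MvPowerSeries.coeff_of_lt_order (lt_of_lt_of_le (by exact_mod_cast hd) (le_order_of_mem_pow hf))

theorem mem_pow_of_coeff (j : ℕ) : ∀ {f : MvPowerSeries (Fin n) k},
    (∀ d : Fin n →₀ ℕ, d.degree < j → MvPowerSeries.coeff d f = 0) → f ∈ varIdeal k n ^ j := by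
  induction j with
  | zero => intro f _; rw [pow_zero, Ideal.one_eq_top]; trivial
  | succ j ih =>
    intro f hf
    obtain ⟨g, hg, hfg⟩ := CAlgH.exists_eq_C_add_sum_X_mul f
    have h0 : MvPowerSeries.constantCoeff f = 0 := by
      rw [← MvPowerSeries.coeff_zero_eq_constantCoeff_apply]
      exact hf 0 (by simp)
    rw [hfg, h0, map_zero, zero_add, pow_succ']
    refine Ideal.sum_mem _ fun i _ => Ideal.mul_mem_mul (X_mem_varIdeal i) (ih fun d hd => ?_)
    rcases hg i d with h | h
    · exact h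
    · rw [h]
      refine hf _ ?_
      rw [map_add, Finsupp.degree_single]
      omega

theorem exists_poly_sub_mem (j : ℕ) : ∀ f : MvPowerSeries (Fin n) k,
    ∃ q : MvPolynomial (Fin n) k, f - (q : MvPowerSeries (Fin n) k) ∈ varIdeal k n ^ j := by
  induction j with
  | zero => exact fun f => ⟨0, by rw [pow_zero, Ideal.one_eq_top]; trivial⟩
  | succ j ih =>
    intro f
    obtain ⟨g, -, hfg⟩ := CAlgH.exists_eq_C_add_sum_X_mul f
    choose q hq using fun i => ih (g i)
    refine ⟨MvPolynomial.C (MvPowerSeries.constantCoeff f) + ∑ i, MvPolynomial.X i * q i, ?_⟩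
    have h : ((MvPolynomial.C (MvPowerSeries.constantCoeff f) + ∑ i, MvPolynomial.X i * q i :
        MvPolynomial (Fin n) k) : MvPowerSeries (Fin n) k) =
        MvPowerSeries.C (MvPowerSeries.constantCoeff f) + ∑ i, MvPowerSeries.X i * (q i : MvPowerSeries (Fin n) k) := by
      rw [← MvPolynomial.coeToMvPowerSeries.ringHom_apply, map_add, map_sum]
      simp [MvPolynomial.coeToMvPowerSeries.ringHom_apply]
    rw [h]
    nth_rewrite 1 [hfg]
    rw [add_sub_add_left_eq_sub, ← Finset.sum_sub_distrib, pow_succ']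
    exact Ideal.sum_mem _ fun i _ => by
      rw [← mul_sub]
      exact Ideal.mul_mem_mul (X_mem_varIdeal i) (hq i)

/-- A derivation killing constants and variables, with values in a Hausdorff finite module, vanishes. -/
theorem derivation_eq_zero {N : Type u} [AddCommGroup N] [Module (MvPowerSeries (Fin n) k) N]
    (D : Derivation ℤ (MvPowerSeries (Fin n) k) N) (hC : ∀ c, D (MvPowerSeries.C c) = 0)
    (hX : ∀ i, D (MvPowerSeries.X i) = 0) (M : Submodule (MvPowerSeries (Fin n) k) N) [Module.Finite (MvPowerSeries (Fin n) k) M]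
    [IsNoetherianRing (MvPowerSeries (Fin n) k)] [IsLocalRing (MvPowerSeries (Fin n) k)]
    (hM : ∀ f, D f ∈ M) (f : MvPowerSeries (Fin n) k) : D f = 0 := by
  let J := varIdeal k n
  have hpow : ∀ j, ∀ g ∈ J ^ (j + 1), D g ∈ J ^ j • M := by
    intro j
    induction j with
    | zero => intro g _; rw [pow_zero, Ideal.one_eq_top, Submodule.top_smul]; exact hM g
    | succ j ih =>
      intro g hg
      rw [pow_succ] at hg
      refine Submodule.mul_induction_on hg (fun a ha b hb => ?_) (fun a b ha hb => ?_)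
      · rw [Derivation.leibniz]
        refine add_mem (Submodule.smul_mem_smul ha (hM b)) ?_
        rw [pow_succ', Submodule.mul_smul]
        exact Submodule.smul_mem_smul hb (ih a ha)
      · rw [map_add]; exact add_mem ha hb
  have hpoly : ∀ q : MvPolynomial (Fin n) k, D (q : MvPowerSeries (Fin n) k) = 0 := by
    intro q
    induction q using MvPolynomial.induction_on with
    | C a => rw [MvPolynomial.coe_C]; exact hC a
    | add a b ha hb => rw [MvPolynomial.coe_add, map_add, ha, hb, add_zero]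
    | mul_X a i ha => rw [MvPolynomial.coe_mul, MvPolynomial.coe_X, Derivation.leibniz, ha, hX, smul_zero, smul_zero, add_zero]
  have hj : ∀ j, (⟨D f, hM f⟩ : M) ∈ J ^ j • (⊤ : Submodule (MvPowerSeries (Fin n) k) M) := by
    intro j
    obtain ⟨q, hq⟩ := exists_poly_sub_mem (j + 1) f
    have h1 : D f ∈ J ^ j • M := by
      have h2 := hpow j _ hq
      rwa [map_sub, hpoly, sub_zero] at h2
    have h3 : J ^ j • M = Submodule.map M.subtype (J ^ j • ⊤) := by
      rw [Submodule.map_smul'', Submodule.map_top, Submodule.range_subtype]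
    rw [h3] at h1
    obtain ⟨z, hz, hzf⟩ := h1
    have h4 : z = ⟨D f, hM f⟩ := Subtype.ext hzf
    rwa [← h4]
  have hne : J ≠ ⊤ := by
    intro h
    have h1 : (1 : MvPowerSeries (Fin n) k) ∈ J ^ 1 := by rw [pow_one, h]; trivial
    have h2 := coeff_eq_zero_of_mem_pow h1 (d := 0) (by simp)
    simp at h2
  have h := Ideal.iInf_pow_smul_eq_bot_of_isLocalRing (M := M) J hne
  have h5 : (⟨D f, hM f⟩ : M) ∈ (⊥ : Submodule (MvPowerSeries (Fin n) k) M) := h ▸ (Submodule.mem_iInf _).mpr hj
  exact congrArg Subtype.val ((Submodule.mem_bot _).mp h5)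

/-- A derivation killing the constants, with values in a Hausdorff finite module, is given by the partials. -/
theorem derivation_eq_sum {N : Type u} [AddCommGroup N] [Module (MvPowerSeries (Fin n) k) N]
    (D : Derivation ℤ (MvPowerSeries (Fin n) k) N) (hC : ∀ c, D (MvPowerSeries.C c) = 0)
    (M : Submodule (MvPowerSeries (Fin n) k) N) [Module.Finite (MvPowerSeries (Fin n) k) M]
    [IsNoetherianRing (MvPowerSeries (Fin n) k)] [IsLocalRing (MvPowerSeries (Fin n) k)]
    (hM : ∀ f, D f ∈ M) (f : MvPowerSeries (Fin n) k) :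
    D f = ∑ i, MvPowerSeries.pderiv k i f • D (MvPowerSeries.X i) := by
  classical
  let P := MvPowerSeries (Fin n) k
  let E0 : P →ₗ[ℤ] N := (AddMonoidHom.mk' (fun g => D g - ∑ i, MvPowerSeries.pderiv k i g • D (MvPowerSeries.X i))
    fun a b => by
      simp only [map_add, add_smul, Finset.sum_add_distrib]
      abel).toIntLinearMap
  have hE0 : ∀ g, E0 g = D g - ∑ i, MvPowerSeries.pderiv k i g • D (MvPowerSeries.X i) := fun g => rfl
  let E : Derivation ℤ P N := Derivation.mk' E0 fun a b => by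
    change D (a * b) - ∑ i, MvPowerSeries.pderiv k i (a * b) • D (MvPowerSeries.X i) =
      a • (D b - ∑ i, MvPowerSeries.pderiv k i b • D (MvPowerSeries.X i)) +
        b • (D a - ∑ i, MvPowerSeries.pderiv k i a • D (MvPowerSeries.X i))
    simp only [Derivation.leibniz, smul_eq_mul, add_smul, mul_smul, Finset.sum_add_distrib, smul_sub,
      Finset.smul_sum]
    abel
  have hE : ∀ g, E g = D g - ∑ i, MvPowerSeries.pderiv k i g • D (MvPowerSeries.X i) := fun g => by
    rfl
  have h := derivation_eq_zero E (fun c => by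
      rw [hE, hC, zero_sub, neg_eq_zero]
      exact Finset.sum_eq_zero fun i _ => by rw [MvPowerSeries.pderiv_C, zero_smul])
    (fun i => by
      rw [hE, Finset.sum_eq_single i (fun j _ hji => by rw [MvPowerSeries.pderiv_X, Pi.single_eq_of_ne hji.symm, zero_smul])
        (fun hi => absurd (Finset.mem_univ i) hi), MvPowerSeries.pderiv_X, Pi.single_eq_same, one_smul, sub_self]) M
    (fun g => by rw [hE]; exact sub_mem (hM g) (Submodule.sum_mem _ fun i _ => M.smul_mem _ (hM _))) f
  rw [hE, sub_eq_zero] at h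
  exact h

end basic

section main
variable (p : ℕ) [hp : Fact p.Prime] {k : Type u} [Field k] [CharP k p]

include p in
theorem exists_perturbation (δ : Derivation ℤ k k) :
    ∃ σ : MvPowerSeries (Fin 2) k ≃+* MvPowerSeries (Fin 2) k, (∀ i, σ (MvPowerSeries.X i) = MvPowerSeries.X i) ∧
      ∀ c, σ (MvPowerSeries.C c) - (MvPowerSeries.C c - MvPowerSeries.C (δ c) * MvPowerSeries.X 0) ∈ varIdeal k 2 ^ 2 := by
  classical
  let P := MvPowerSeries (Fin 2) k
  let J : Ideal P := varIdeal k 2
  haveI : IsAdicComplete J P := CAlgH.isAdicComplete_mvPowerSeries (Fin 2) k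
  haveI : IsAdicComplete (J ^ 2) P := CAlgH.AdicSmooth.isAdicComplete_pow J 2 two_ne_zero
  have hXX : (MvPowerSeries.X 0 * MvPowerSeries.X 0 : P) ∈ J ^ 2 := by
    rw [pow_two]; exact Ideal.mul_mem_mul (X_mem_varIdeal 0) (X_mem_varIdeal 0)
  let ρ : k →+* P ⧸ J ^ 2 :=
    { toFun := fun c => Ideal.Quotient.mk (J ^ 2) (MvPowerSeries.C c - MvPowerSeries.C (δ c) * MvPowerSeries.X 0)
      map_one' := by simp
      map_zero' := by simp
      map_add' := fun a b => by simp [map_add, add_mul]; abel
      map_mul' := fun a b => by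
        rw [← map_mul, Ideal.Quotient.eq, Derivation.leibniz, smul_eq_mul, smul_eq_mul, map_add, map_mul, map_mul, map_mul]
        have h : MvPowerSeries.C a * MvPowerSeries.C b -
            (MvPowerSeries.C a * MvPowerSeries.C (δ b) + MvPowerSeries.C b * MvPowerSeries.C (δ a)) * MvPowerSeries.X 0 -
            (MvPowerSeries.C a - MvPowerSeries.C (δ a) * MvPowerSeries.X 0) *
              (MvPowerSeries.C b - MvPowerSeries.C (δ b) * MvPowerSeries.X 0) =
            (-(MvPowerSeries.C (δ a) * MvPowerSeries.C (δ b))) * (MvPowerSeries.X 0 * MvPowerSeries.X 0 : P) := by ring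
        rw [h]
        exact Ideal.mul_mem_left _ _ hXX }
  haveI := CAlgH.AdicSmooth.perfectField_ulift_zmod.{u} p
  letI : Algebra (ULift.{u} (ZMod p)) k := ((ZMod.castHom dvd_rfl k).comp ULift.ringEquiv.toRingHom).toAlgebra
  haveI : Algebra.FormallySmooth (ULift.{u} (ZMod p)) k := CAlgH.formallySmooth_of_perfectField_any _ _
  have hhom : ∀ {T : Type u} [CommRing T] (g g' : ULift.{u} (ZMod p) →+* T), g = g' := by
    intro T _ g g'
    have h : g.comp ULift.ringEquiv.symm.toRingHom = g'.comp ULift.ringEquiv.symm.toRingHom := Subsingleton.elim _ _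
    ext z
    exact RingHom.congr_fun h z.down
  obtain ⟨χ, -, hχ⟩ := CAlgH.AdicSmooth.exists_lift_complete
    (CAlgH.AdicSmooth.of_formallySmooth (R := ULift.{u} (ZMod p)) (S := k) (𝔫 := ⊥))
    (MvPowerSeries.C.comp (algebraMap (ULift.{u} (ZMod p)) k)) (J ^ 2) ρ (hhom _ _)
    ⟨1, fun x hx => by rw [pow_one, Ideal.mem_bot] at hx; rw [hx, map_zero]⟩
  obtain ⟨f, hfC, hfX⟩ := CAlgH.exists_mvPowerSeries_eval χ J (MvPowerSeries.X : Fin 2 → P) X_mem_varIdeal
  have hcong : ∀ c, χ c - (MvPowerSeries.C c - MvPowerSeries.C (δ c) * MvPowerSeries.X 0) ∈ J ^ 2 := fun c =>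
    Ideal.Quotient.eq.mp (RingHom.congr_fun hχ c)
  have hfs : Function.Surjective f := by
    refine CAlgH.surjective_mvPowerSeries_hom f J (fun i => by rw [hfX]; exact X_mem_varIdeal i) ?_
    intro y
    obtain ⟨a, rfl⟩ := Ideal.Quotient.mk_surjective y
    refine ⟨MvPowerSeries.constantCoeff a, ?_⟩
    rw [RingHom.comp_apply, hfC, Ideal.Quotient.eq, show (fun i => f (MvPowerSeries.X i)) = MvPowerSeries.X from funext hfX]
    show χ (MvPowerSeries.constantCoeff a) - a ∈ J
    have h2 : χ (MvPowerSeries.constantCoeff a) - MvPowerSeries.C (MvPowerSeries.constantCoeff a) ∈ J := by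
      have h := Ideal.pow_le_self two_ne_zero (hcong (MvPowerSeries.constantCoeff a))
      have h' := sub_mem h (Ideal.mul_mem_left J (MvPowerSeries.C (δ (MvPowerSeries.constantCoeff a))) (X_mem_varIdeal 0))
      convert h' using 1
      ring
    obtain ⟨g, -, hg⟩ := CAlgH.exists_eq_C_add_sum_X_mul a
    have h3 : a - MvPowerSeries.C (MvPowerSeries.constantCoeff a) ∈ J := by
      nth_rewrite 1 [hg]
      rw [add_sub_cancel_left]
      exact Ideal.sum_mem _ fun i _ => Ideal.mul_mem_right _ _ (X_mem_varIdeal i)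
    convert sub_mem h2 h3 using 1
    ring
  obtain ⟨hreg, -⟩ := CAlgH.isRegularLocalRing_mvPowerSeries k 2
  haveI := hreg
  haveI : IsDomain P := CAlgH3.isDomain_of_isRegularLocalRing _
  have hfi : Function.Injective f := CAlgH.injective_mvPowerSeries_hom f (RingHom.Finite.of_surjective f hfs) (by
    rw [ringKrullDim_eq_zero_of_isField (Field.toIsField k), zero_add]
    exact CAlgH.AdicSmooth.le_ringKrullDim_mvPowerSeries k 2)
  refine ⟨RingEquiv.ofBijective f ⟨hfi, hfs⟩, hfX, fun c => ?_⟩
  show f (MvPowerSeries.C c) - _ ∈ _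
  rw [show f (MvPowerSeries.C c) = χ c from RingHom.congr_fun hfC c]
  exact hcong c

/-- A power series which is not a `p`-th power can be moved to one with an exponent prime to `p`. -/
theorem exists_exponent (G : MvPowerSeries (Fin 2) k) (hG : ∀ H, H ^ p ≠ G) :
    ∃ (H : MvPowerSeries (Fin 2) k) (σ : MvPowerSeries (Fin 2) k ≃+* MvPowerSeries (Fin 2) k)
      (m : Fin 2 →₀ ℕ) (i : Fin 2), MvPowerSeries.coeff m (σ (G - H ^ p)) ≠ 0 ∧ ¬ p ∣ m i := by
  classical
  by_cases hgood : ∃ (m : Fin 2 →₀ ℕ) (i : Fin 2), MvPowerSeries.coeff m G ≠ 0 ∧ ¬ p ∣ m i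
  · obtain ⟨m, i, hm, hi⟩ := hgood
    exact ⟨0, RingEquiv.refl _, m, i, by rw [zero_pow hp.out.ne_zero, sub_zero]; exact hm, hi⟩
  push Not at hgood
  let H : MvPowerSeries (Fin 2) k := fun m =>
    if h : ∃ r : k, r ^ p = MvPowerSeries.coeff (p • m) G then h.choose else 0
  have hHc : ∀ m, MvPowerSeries.coeff m H = if h : ∃ r : k, r ^ p = MvPowerSeries.coeff (p • m) G then h.choose else 0 :=
    fun m => rfl
  let G1 := G - H ^ p
  have hH1 : ∀ (m : Fin 2 →₀ ℕ) (i : Fin 2), ¬ p ∣ m i → MvPowerSeries.coeff m G1 = 0 := by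
    intro m i hi
    show MvPowerSeries.coeff m (G - H ^ p) = 0
    rw [map_sub, ← MvPowerSeries.map_frobenius_expand p hp.out.ne_zero, MvPowerSeries.coeff_map,
      MvPowerSeries.coeff_expand_of_not_dvd p _ H hi, map_zero, sub_zero]
    by_contra h
    exact hi (hgood m i h)
  have hH2 : ∀ m, MvPowerSeries.coeff m G1 ≠ 0 → ¬ ∃ r : k, r ^ p = MvPowerSeries.coeff m G1 := by
    intro m hm
    have hdvd : ∀ i, p ∣ m i := fun i => by
      by_contra hi
      exact hm (hH1 m i hi)
    let m' : Fin 2 →₀ ℕ := Finsupp.equivFunOnFinite.symm fun i => m i / p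
    have hm' : p • m' = m := by
      ext i
      simp [m', Nat.mul_div_cancel' (hdvd i)]
    have hc : MvPowerSeries.coeff m G1 = MvPowerSeries.coeff m G - (MvPowerSeries.coeff m' H) ^ p := by
      show MvPowerSeries.coeff m (G - H ^ p) = _
      rw [map_sub]
      conv_lhs => rw [← MvPowerSeries.map_frobenius_expand p hp.out.ne_zero, MvPowerSeries.coeff_map, ← hm',
        MvPowerSeries.coeff_expand_smul, frobenius_def, hm']
    rintro ⟨r, hr⟩
    by_cases h : ∃ r : k, r ^ p = MvPowerSeries.coeff m G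
    · apply hm
      rw [hc, hHc, hm', dif_pos h, h.choose_spec, sub_self]
    · rw [hc, hHc, hm', dif_neg h, zero_pow hp.out.ne_zero, sub_zero] at hr
      exact h ⟨r, hr⟩
  have hne : G1 ≠ 0 := fun h => hG H (sub_eq_zero.mp h).symm
  have hex : ∃ d : ℕ, ∃ m : Fin 2 →₀ ℕ, m.degree = d ∧ MvPowerSeries.coeff m G1 ≠ 0 := by
    obtain ⟨m, hm⟩ : ∃ m, MvPowerSeries.coeff m G1 ≠ 0 := by
      by_contra h
      push Not at h
      exact hne (MvPowerSeries.ext fun m => by rw [h m, map_zero])
    exact ⟨_, m, rfl, hm⟩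
  let d0 := Nat.find hex
  obtain ⟨m0, hm0d, hm0⟩ := Nat.find_spec hex
  have hlow : ∀ m : Fin 2 →₀ ℕ, m.degree < d0 → MvPowerSeries.coeff m G1 = 0 := fun m hm => by
    by_contra h
    exact Nat.find_min hex hm ⟨m, rfl, h⟩
  let c0 := MvPowerSeries.coeff m0 G1
  let F : Subfield k := (frobenius k p).fieldRange
  have hpF : ∀ x : k, x ^ p ∈ (⊥ : IntermediateField F k) := fun x => by
    rw [IntermediateField.mem_bot]
    exact ⟨⟨x ^ p, ⟨x, frobenius_def p x⟩⟩, rfl⟩
  have hc0F : c0 ∉ (⊥ : IntermediateField F k) := by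
    rw [IntermediateField.mem_bot]
    rintro ⟨⟨y, r, hr⟩, hy⟩
    exact hH2 m0 hm0 ⟨r, by rw [← frobenius_def, hr]; exact hy⟩
  obtain ⟨δ, -, hδ⟩ := CAlgH.exists_derivation_kill p F k ⊥ hpF c0 hc0F
  obtain ⟨σ, hσX, hσC⟩ := exists_perturbation p δ
  let N := m0 + Finsupp.single (0 : Fin 2) 1
  have hdvd0 : ∀ i, p ∣ m0 i := fun i => by
    by_contra hi
    exact hm0 (hH1 m0 i hi)
  have hN0 : ¬ p ∣ N 0 := by
    simp only [N, Finsupp.add_apply, Finsupp.single_eq_same]
    intro h
    exact hp.out.one_lt.ne' (Nat.dvd_one.mp ((Nat.dvd_add_right (hdvd0 0)).mp h))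
  refine ⟨H, σ, N, 0, ?_, hN0⟩
  let S : Finset (Fin 2 →₀ ℕ) := Finset.finsuppAntidiag Finset.univ d0
  have hS : ∀ m : Fin 2 →₀ ℕ, m ∈ S ↔ m.degree = d0 := fun m => by
    simp [S, Finset.mem_finsuppAntidiag, Finsupp.degree_eq_sum]
  let R := G1 - ∑ m ∈ S, MvPowerSeries.monomial m (MvPowerSeries.coeff m G1)
  have hR : R ∈ varIdeal k 2 ^ (d0 + 2) := by
    refine mem_pow_of_coeff _ fun m hm => ?_
    show MvPowerSeries.coeff m (G1 - ∑ m' ∈ S, _) = 0
    rw [map_sub, map_sum]
    by_cases hmS : m ∈ S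
    · rw [Finset.sum_eq_single m (fun m' _ h => MvPowerSeries.coeff_monomial_ne h.symm _) (fun h => absurd hmS h),
        MvPowerSeries.coeff_monomial_same, sub_self]
    · rw [Finset.sum_eq_zero (fun m' hm' => MvPowerSeries.coeff_monomial_ne (fun h : m = m' => hmS (h.symm ▸ hm')) _), sub_zero]
      rcases Nat.lt_or_ge m.degree d0 with h | h
      · exact hlow m h
      · have hdeg : m.degree = d0 + 1 := by
          have : m.degree ≠ d0 := fun h' => hmS ((hS m).mpr h')
          omega
        by_contra hne'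
        have hdm : p ∣ m.degree := by
          rw [Finsupp.degree_eq_sum]
          exact Finset.dvd_sum fun i _ => by
            by_contra hi
            exact hne' (hH1 m i hi)
        have hdd : p ∣ d0 := by
          rw [show d0 = m0.degree from hm0d.symm, Finsupp.degree_eq_sum]
          exact Finset.dvd_sum fun i _ => hdvd0 i
        rw [hdeg] at hdm
        exact hp.out.one_lt.ne' (Nat.dvd_one.mp ((Nat.dvd_add_right hdd).mp hdm))
  have hσJ : (varIdeal k 2).map σ.toRingHom ≤ varIdeal k 2 := by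
    rw [varIdeal, Ideal.map_span, Ideal.span_le]
    rintro _ ⟨_, ⟨i, rfl⟩, rfl⟩
    show σ (MvPowerSeries.X i) ∈ _
    rw [hσX]
    exact X_mem_varIdeal i
  have hσR : MvPowerSeries.coeff N (σ R) = 0 := by
    refine coeff_eq_zero_of_mem_pow (j := d0 + 2) ?_ ?_
    · have h := Ideal.mem_map_of_mem σ.toRingHom hR
      rw [Ideal.map_pow] at h
      exact Ideal.pow_right_mono hσJ _ h
    · simp only [N, map_add, Finsupp.degree_single, hm0d]
      omega
  have hσmono : ∀ (m : Fin 2 →₀ ℕ) (c : k), σ (MvPowerSeries.monomial m c) =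
      σ (MvPowerSeries.C c) * MvPowerSeries.monomial m 1 := by
    intro m c
    have hm2 : m = Finsupp.single 0 (m 0) + Finsupp.single 1 (m 1) := by
      ext i; fin_cases i <;> simp
    have hmono : (MvPowerSeries.monomial m 1 : MvPowerSeries (Fin 2) k) = MvPowerSeries.X 0 ^ m 0 * MvPowerSeries.X 1 ^ m 1 := by
      rw [MvPowerSeries.X_pow_eq, MvPowerSeries.X_pow_eq, MvPowerSeries.monomial_mul_monomial, ← hm2, one_mul]
    have hC : MvPowerSeries.monomial m c = MvPowerSeries.C c * MvPowerSeries.monomial m 1 := by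
      rw [← MvPowerSeries.monomial_zero_eq_C_apply, MvPowerSeries.monomial_mul_monomial, zero_add, mul_one]
    rw [hC, map_mul, hmono, map_mul, map_pow, map_pow, hσX, hσX]
  have hG1 : G1 = ∑ m ∈ S, MvPowerSeries.monomial m (MvPowerSeries.coeff m G1) + R := by
    show G1 = _ + (G1 - _)
    ring
  have hlin : ∀ (c : k) (i : Fin 2), MvPowerSeries.coeff (Finsupp.single i 1) (σ (MvPowerSeries.C c)) =
      if i = 0 then -δ c else 0 := by
    intro c i
    have h := coeff_eq_zero_of_mem_pow (hσC c) (d := Finsupp.single i 1) (by simp)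
    rw [map_sub, sub_eq_zero] at h
    rw [h, map_sub, MvPowerSeries.coeff_C, if_neg (by simp), zero_sub, MvPowerSeries.coeff_C_mul, MvPowerSeries.coeff_X]
    fin_cases i <;> simp [Finsupp.single_eq_single_iff]
  show MvPowerSeries.coeff N (σ G1) ≠ 0
  rw [hG1, map_add, map_add, hσR, add_zero, map_sum, map_sum, Finset.sum_eq_single m0]
  · rw [hσmono, MvPowerSeries.coeff_mul_monomial, if_pos (le_add_right le_rfl), mul_one,
      show N - m0 = Finsupp.single 0 1 from add_tsub_cancel_left m0 _, hlin, if_pos rfl, hδ]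
    exact neg_ne_zero.mpr one_ne_zero
  · intro m hmS hmne
    rw [hσmono, MvPowerSeries.coeff_mul_monomial]
    split_ifs with hle
    · have hd : m.degree = m0.degree := ((hS m).mp hmS).trans hm0d.symm
      rw [Finsupp.degree_eq_sum, Finsupp.degree_eq_sum, Fin.sum_univ_two, Fin.sum_univ_two] at hd
      have h0 := hle 0
      have h1 := hle 1
      simp [N] at h0 h1
      have hm00 : m 0 = m0 0 + 1 := by
        by_contra h
        apply hmne
        ext i
        fin_cases i <;> simp <;> omega
      rw [show MvPowerSeries.coeff m G1 = 0 from hH1 m 0 (by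
        rw [hm00]
        intro h
        exact hp.out.one_lt.ne' (Nat.dvd_one.mp ((Nat.dvd_add_right (hdvd0 0)).mp h)))]
      simp
    · rfl
  · exact fun h => absurd ((hS m0).mpr hm0d) h

end main

end Groth.Agent.Resolve13.NotPth
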