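import Groth.Agent.BlowUpKoszul.ToBundle
import Groth.Agent.BlowUpLib.Proper
import Groth.Agent.P1Lib24.Basic
import Groth.Agent.EmbLib24.Coord
import Groth.Agent.FlatMor12.IdealModGen
import Groth.Agent.PnEmb.Criterion
import Groth.Agent.UPLib.ProjSpace
import Groth.Agent.Coherent.ProjSpaceBase
import Groth.Agent.Quot8.TwistMap

/-!
# The blow-up of an ideal with two Koszul regular generators inside the projective line
-/

set_option autoImplicit false
set_option linter.style.haveILetI false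
set_option backward.isDefEq.respectTransparency.types false
set_option maxHeartbeats 1000000

universe u

open CategoryTheory CategoryTheory.Limits AlgebraicGeometry TopologicalSpace Opposite HomogeneousLocalization
open Groth.Agent.Coherent Groth.Agent.PicLib Groth.Agent.AmpleLib Groth.Agent.CAlgH.KoszulRegular

namespace Groth.Agent.Resolve13

variable {B : Type u} [CommRing B]

/-- The chart ring of the line is generated by the coordinate. -/
theorem surjective_chartCoord (i : Fin (1 + 1)) :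
    Function.Surjective (MvPolynomial.eval₂Hom (EmbLib24.awayConst 1 B i)
      (fun _ : Fin 1 => EmbLib24.coordFrac 1 B i i.rev)) := by
  intro z
  let e := P1Lib24.chartEquiv B i
  let ψ := MvPolynomial.eval₂Hom (EmbLib24.awayConst 1 B i) (fun _ : Fin 1 => EmbLib24.coordFrac 1 B i i.rev)
  let τ : MvPolynomial PUnit.{u + 1} B →+* MvPolynomial (Fin 1) B :=
    MvPolynomial.eval₂Hom MvPolynomial.C fun _ => MvPolynomial.X 0
  have h : (e.toRingHom.comp ψ).comp τ = RingHom.id _ := by
    refine MvPolynomial.ringHom_ext (fun c => ?_) fun _ => ?_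
    · show e (ψ (τ (MvPolynomial.C c))) = _
      simp only [τ, ψ, MvPolynomial.eval₂Hom_C, RingHom.id_apply]
      exact P1Lib24.chartEquiv_toAway B i c
    · show e (ψ (τ (MvPolynomial.X _))) = _
      simp only [τ, ψ, MvPolynomial.eval₂Hom_X', RingHom.id_apply]
      show P1Lib24.dehomAlgEquiv B i (ProjLib.evalOne (algebraMap _ _ (EmbLib24.coordFrac 1 B i i.rev))) = _
      rw [show (algebraMap (Away (CohB1.polyGrading 1 B) (MvPolynomial.X i))
          (Localization.Away (MvPolynomial.X i : MvPolynomial (Fin (1 + 1)) B)) (EmbLib24.coordFrac 1 B i i.rev)) =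
        Localization.mk (MvPolynomial.X i.rev) ⟨MvPolynomial.X i ^ 1, (Submonoid.mem_powers_iff _ _).2 ⟨1, rfl⟩⟩ from by
          rw [HomogeneousLocalization.algebraMap_apply]; exact Away.val_mk _ _ _ _ _]
      rw [ProjLib.evalOne_mk]
      have hne : i.rev ≠ i := (by decide : ∀ j : Fin (1 + 1), j.rev ≠ j) i
      simp [P1Lib24.dehomAlgEquiv, AlgEquiv.ofAlgHom, hne]
  exact ⟨τ (e z), e.injective (RingHom.congr_fun h (e z))⟩

/-- The data of the line containing the blow-up. -/
theorem exists_toProjLine {X : Scheme.{u}} (I : (Spec (CommRingCat.of B)).IdealSheafData)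
    (b : X ⟶ Spec (CommRingCat.of B)) (hb : BlowUp.IsBlowUp b I) [CompactSpace X] [QuasiCompact b]
    (g : Fin (1 + 1) → B)
    (hI : I.ideal ⟨⊤, isAffineOpen_top _⟩ =
      Ideal.span (Set.range fun i => (Scheme.ΓSpecIso (CommRingCat.of B)).inv.hom (g i)))
    (hg : KReg fun i => (Scheme.ΓSpecIso (CommRingCat.of B)).inv.hom (g i)) :
    ∃ r : X ⟶ CohB1.ProjSpace 1 B, IsClosedImmersion r ∧ r ≫ CohB1.ProjSpace.toSpec 1 B = b ∧
      Nonempty ((Scheme.Modules.pullback r).obj (Twist.twistProjSpace 1 B 1) ≅ ClSub.idealMod (I.comap b)) ∧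
      ∀ y : CohB1.ProjSpace 1 B, (∀ i, CohB1.ProjSpace.toSpec 1 B y ∉ PrimeSpectrum.basicOpen (g i)) →
        y ∈ Set.range r.base := by
  classical
  let T : (Spec (CommRingCat.of B)).affineOpens := ⟨⊤, isAffineOpen_top _⟩
  let eB := Scheme.ΓSpecIso (CommRingCat.of B)
  let F : Fin (1 + 1) → Γ(Spec (CommRingCat.of B), ⊤) := fun i => eB.inv.hom (g i)
  let J := I.comap b
  -- the sections
  have hs : ∀ i, ∃ k : Γ(ClSub.idealMod J, ⊤),
      (ClSub.idealModι J).app ⊤ k = (show Γ(X, ⊤) from b.appTop (F i)) := by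
    intro i
    refine (mem_range_idealModι J ⊤ _).2 ?_
    have h1 : F i ∈ I.ideal T := hI ▸ Ideal.subset_span ⟨i, rfl⟩
    have h2 := Scheme.IdealSheafData.le_def.1 (I.le_map_comap b) T h1
    rw [Scheme.IdealSheafData.map, Scheme.Hom.ker_apply, RingHom.mem_ker, Scheme.Hom.comp_app] at h2
    exact h2
  choose s hs using hs
  have hL : PicF.IsInvertible (ClSub.idealMod J) := FlatMor12.IdealModGen.isInvertible_idealMod J hb.1
  have hle : ∀ V : X.Opens, V ≤ b ⁻¹ᵁ (⊤ : (Spec (CommRingCat.of B)).Opens) := fun _ _ _ => trivial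
  have hF : ∀ i (V : X.Opens), (ClSub.idealModι J).app V (resM _ (le_top : V ≤ ⊤) (s i)) =
      (show Γ(X, V) from b.appLE ⊤ V (hle V) (F i)) := fun i V => by
    rw [app_resM, hs]
    rfl
  have hloc : ∀ i, glocus (ClSub.idealMod J) (s i) = BlowUpLib.locus I b T (F i) := by
    intro i
    refine le_antisymm (fun x hx => ?_) fun x hx => ?_
    · obtain ⟨_, ⟨V, hV, rfl⟩, hxV, hVg⟩ :=
        X.isBasis_affineOpens.exists_subset_of_mem_open hx (glocus (ClSub.idealMod J) (s i)).isOpen
      refine BlowUpLib.mem_locus.2 ⟨⟨V, hV⟩, hxV, hle V, le_antisymm (fun a ha => ?_) ?_⟩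
      · obtain ⟨k, hk⟩ := (mem_range_idealModι J V a).2 (RingHom.mem_ker.1
          ((J.ker_subschemeι_app ⟨V, hV⟩).symm ▸ ha))
        have hgen := (le_glocus_iff (L := ClSub.idealMod J) (s i) V).1 hVg
        obtain ⟨c, hc⟩ := (hgen V le_rfl).2 k
        refine Ideal.mem_span_singleton'.2 ⟨c, ?_⟩
        rw [← hk, ← hc, resM_self, Scheme.Modules.Hom.app_smul, hF]
        rfl
      · refine Ideal.span_le.2 (Set.singleton_subset_iff.2 ?_)
        show _ ∈ J.ideal ⟨V, hV⟩
        rw [← J.ker_subschemeι_app ⟨V, hV⟩, RingHom.mem_ker]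
        exact (mem_range_idealModι J V _).1 ⟨_, hF i V⟩
    · obtain ⟨V, hxV, e, hV⟩ := BlowUpLib.mem_locus.1 hx
      have hd := BlowUpLib.mem_nonZeroDivisors_of_eff hb.1 hV
      have hreg : IsLeftRegular (b.appLE ⊤ V.1 (hle V.1) (F i)) :=
        fun c d (h : _ * c = _ * d) => sub_eq_zero.1
          ((mem_nonZeroDivisors_iff.1 hd).2 _ (by rw [sub_mul, mul_comm c, mul_comm d]; exact sub_eq_zero.2 h))
      exact (le_glocus_iff (L := ClSub.idealMod J) (s i) V.1).2
        (FlatMor12.IdealModGen.bijective_smul_of_affine_gen J V.2 (hF i V.1) hreg hV) hxV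
  have hcov : ∀ x : X, ∃ i, x ∈ glocus (ClSub.idealMod J) (s i) := fun x => by
    obtain ⟨a, ⟨i, rfl⟩, hx⟩ := BlowUpLib.exists_mem_locus b hb.1 (y := x) T trivial _ hI.symm
    exact ⟨i, (hloc i).ge hx⟩
  obtain ⟨r, hr, τ, hτ⟩ := UPLib.exists_hom_projSpace 1 b hL s hcov
  have hpre : ∀ i, r ⁻¹ᵁ EmbLib24.chart 1 B i = BlowUpLib.locus I b T (F i) := fun i =>
    (PnEmb.preimage_chartOpen r τ hτ i).trans (hloc i)
  -- the charts
  have hchart : ∀ i, IsAffineOpen (BlowUpLib.locus I b T (F i)) ∧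
      ∃ ψ : MvPolynomial (Fin 1) Γ(Spec (CommRingCat.of B), ⊤) →+* Γ(CohB1.ProjSpace 1 B, EmbLib24.chart 1 B i),
        Function.Surjective ψ ∧
        (∀ a, ψ (MvPolynomial.C a) = EmbLib24.gl (CohB1.ProjSpace.toSpec 1 B) (EmbLib24.chart 1 B i) (eB.hom.hom a)) ∧
        Function.Surjective ((r.app (EmbLib24.chart 1 B i)).hom.comp ψ) ∧
        RingHom.ker ((r.app (EmbLib24.chart 1 B i)).hom.comp ψ) ≤
          Ideal.span (Set.range fun j : Fin (1 + 1) => MvPolynomial.C (F j)) := by
    intro i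
    have ha : F i ∈ I.ideal T := hI ▸ Ideal.subset_span ⟨i, rfl⟩
    obtain ⟨W, hWdef⟩ : ∃ W, BlowUpLib.locus I b T (F i) = W := ⟨_, rfl⟩
    obtain ⟨e, he⟩ := SDiv28.exists_locus_iso hb T ha
    revert e
    rw [hWdef]
    intro e he
    refine ⟨IsAffine.of_isIso e.hom, ?_⟩
    have hWU : W ≤ b ⁻¹ᵁ (⊤ : (Spec (CommRingCat.of B)).Opens) := hle W
    let A := Γ(Spec (CommRingCat.of B), ⊤)
    let R := BlowUpLib.ChartRing I T (F i)
    let σ : CommRingCat.of R ⟶ Γ(X, W) :=
      ((Scheme.ΓSpecIso (CommRingCat.of R)).inv ≫ e.hom.appTop) ≫ W.topIso.hom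
    have : IsIso e.hom.appTop := inferInstanceAs (IsIso (e.hom.app ⊤))
    have : IsIso σ := by simp only [σ]; infer_instance
    have hσb : Function.Bijective σ := ConcreteCategory.bijective_of_isIso σ
    have eT : (⊤ : (BlowUpLib.chart I T (F i)).Opens) ≤ BlowUpLib.chartMap I T (F i) ⁻¹ᵁ T.1 := fun _ _ => trivial
    have hσA : CommRingCat.ofHom (algebraMap A R) ≫ σ = b.appLE ⊤ W hWU := by
      rw [← BlowUpKoszul.ι_appLE_topIso b W hWU]
      simp only [← he]
      rw [← Scheme.Hom.appLE_comp_appLE e.hom (BlowUpLib.chartMap I T (F i)) T.1 ⊤ ⊤ eT le_top,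
        BlowUpLib.chartMap_appLE eT, Category.assoc]
      have e2 : e.hom.appLE ⊤ ⊤ le_top = e.hom.appTop := Scheme.Hom.appLE_eq_app (f := e.hom) (U := ⊤)
      rw [e2]
      simp only [σ, Category.assoc]
      rfl
    let σe : R ≃+* Γ(X, W) := RingEquiv.ofBijective σ.hom hσb
    let D := EmbLib24.chart 1 B i
    have hWD : W ≤ r ⁻¹ᵁ D := (hWdef ▸ hpre i).ge
    let ψ₀ : MvPolynomial (Fin 1) A →+* Away (CohB1.polyGrading 1 B) (MvPolynomial.X i) :=
      (MvPolynomial.eval₂Hom (EmbLib24.awayConst 1 B i) (fun _ : Fin 1 => EmbLib24.coordFrac 1 B i i.rev)).comp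
        (MvPolynomial.map eB.hom.hom)
    let ψ : MvPolynomial (Fin 1) A →+* Γ(CohB1.ProjSpace 1 B, D) :=
      (Proj.awayToSection (CohB1.polyGrading 1 B) (MvPolynomial.X i)).hom.comp ψ₀
    have hψ : Function.Surjective ψ := by
      have haw : Function.Surjective (Proj.awayToSection (CohB1.polyGrading 1 B) (MvPolynomial.X i)).hom := by
        haveI : IsIso (Proj.awayToSection (CohB1.polyGrading 1 B) (MvPolynomial.X i)) :=
          inferInstanceAs (IsIso (Proj.basicOpenIsoAway (CohB1.polyGrading 1 B) (MvPolynomial.X i)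
            (MvPolynomial.isHomogeneous_X B i) one_pos).hom)
        exact (ConcreteCategory.bijective_of_isIso _).2
      exact haw.comp ((surjective_chartCoord i).comp
        (MvPolynomial.map_surjective _ (ConcreteCategory.bijective_of_isIso eB.hom).2))
    have hψC : ∀ a, ψ (MvPolynomial.C a) = EmbLib24.gl (CohB1.ProjSpace.toSpec 1 B) D (eB.hom.hom a) := fun a => by
      show (Proj.awayToSection (CohB1.polyGrading 1 B) (MvPolynomial.X i)).hom (ψ₀ (MvPolynomial.C a)) = _
      rw [show ψ₀ (MvPolynomial.C a) = EmbLib24.awayConst 1 B i (eB.hom.hom a) by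
        show MvPolynomial.eval₂Hom _ _ (MvPolynomial.map eB.hom.hom (MvPolynomial.C a)) = _
        rw [MvPolynomial.map_C, MvPolynomial.eval₂Hom_C]]
      exact EmbLib24.awayToSection_const 1 B i _
    let ρ : MvPolynomial (Fin 1) A →+* Γ(X, W) := (r.appLE D W hWD).hom.comp ψ
    have hgl : ∀ a : A, ρ (MvPolynomial.C a) = σ (algebraMap A R a) := fun a => by
      show r.appLE D W hWD (ψ (MvPolynomial.C a)) = (CommRingCat.ofHom (algebraMap A R) ≫ σ) a
      rw [hψC, EmbLib24.appLE_gl hr, hσA]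
      show X.presheaf.map _ ((b.appTop).hom (eB.inv.hom (eB.hom.hom a))) = _
      rw [← CommRingCat.comp_apply eB.hom, Iso.hom_inv_id]
      rfl
    let θ : MvPolynomial (Fin 1) A →+* R := σe.symm.toRingHom.comp ρ
    let val : R →+* Localization.Away (F i) := (BlowUp.affineAlgebra A (I.ideal T) (F i)).val.toRingHom
    have hC : ∀ a : A, θ (MvPolynomial.C a) = algebraMap A R a := fun a => by
      apply σe.injective
      simp only [θ, RingHom.comp_apply, RingEquiv.toRingHom_eq_coe, RingEquiv.coe_toRingHom,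
        RingEquiv.apply_symm_apply]
      exact hgl a
    have hrev : ∀ j : Fin 1, i.succAbove j = i.rev :=
      (by decide : ∀ (l : Fin (1 + 1)) (j : Fin 1), l.succAbove j = l.rev) i
    have hrel : ∀ j : Fin 1, ρ (MvPolynomial.X j) * σ (algebraMap A R (F i)) =
        σ (algebraMap A R (F (i.succAbove j))) := by
      intro j
      rw [hrev j]
      have h2 : ∀ a, σ (algebraMap A R a) = b.appLE ⊤ W hWU a := fun a => ConcreteCategory.congr_hom hσA a
      rw [h2, h2]
      have hX : ρ (MvPolynomial.X j) = (Proj.awayToSection (CohB1.polyGrading 1 B) (MvPolynomial.X i) ≫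
          r.appLE D W hWD).hom (EmbLib24.coordFrac 1 B i i.rev) := by
        show r.appLE D W hWD ((Proj.awayToSection (CohB1.polyGrading 1 B) (MvPolynomial.X i)).hom
          (MvPolynomial.eval₂Hom _ _ (MvPolynomial.map eB.hom.hom (MvPolynomial.X j)))) = _
        rw [MvPolynomial.map_X, MvPolynomial.eval₂Hom_X']
        rfl
      let P1 := (Scheme.Modules.pullback r).obj (Twist.twistProjSpace 1 B 1)
      have hA0 : (ρ (MvPolynomial.X j)) •
          resM P1 (le_top : W ≤ ⊤) (ProjUP.pullSec r (Twist.twistProjSpace 1 B 1) (ProjUP.coord 1 B i)) =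
          resM P1 (le_top : W ≤ ⊤) (ProjUP.pullSec r (Twist.twistProjSpace 1 B 1) (ProjUP.coord 1 B i.rev)) := by
        rw [hX]
        exact UPLib.appLE_smul_sec (𝒜 := CohB1.polyGrading 1 B) (MvPolynomial.isHomogeneous_X B i) r W hWD
          (MvPolynomial.X i.rev) (by simpa using MvPolynomial.isHomogeneous_X B i.rev)
      have hA' : (ρ (MvPolynomial.X j)) • resM (ClSub.idealMod J) (le_top : W ≤ ⊤) (s i) =
          resM (ClSub.idealMod J) (le_top : W ≤ ⊤) (s i.rev) := by
        have hA := congrArg (τ.hom.app W) hA0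
        rw [Scheme.Modules.Hom.app_smul, app_resM, app_resM, hτ, hτ] at hA
        exact hA
      have h3 := congrArg ((ClSub.idealModι J).app W) hA'
      rw [Scheme.Modules.Hom.app_smul, hF, hF] at h3
      exact h3
    have hval : val.comp θ = (MvPolynomial.aeval (R := A) (BlowUpKoszul.ratio F i)).toRingHom := by
      refine MvPolynomial.ringHom_ext (fun a => ?_) fun j => ?_
      · rw [RingHom.comp_apply, hC, AlgHom.toRingHom_eq_coe, RingHom.coe_coe, MvPolynomial.aeval_C]
        rfl
      · rw [RingHom.comp_apply, AlgHom.toRingHom_eq_coe, RingHom.coe_coe, MvPolynomial.aeval_X]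
        have h3 : θ (MvPolynomial.X j) * algebraMap A R (F i) = algebraMap A R (F (i.succAbove j)) := by
          apply σe.injective
          rw [map_mul]
          simp only [θ, RingHom.comp_apply, RingEquiv.toRingHom_eq_coe, RingEquiv.coe_toRingHom,
            RingEquiv.apply_symm_apply]
          exact hrel j
        have h4 := congrArg val h3
        rw [map_mul] at h4
        refine (IsLocalization.Away.algebraMap_isUnit (S := Localization.Away (F i)) (F i)).mul_right_cancel ?_
        refine h4.trans ?_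
        rw [mul_comm, BlowUpKoszul.algebraMap_mul_ratio]
        rfl
    have hvalinj : Function.Injective val := Subtype.val_injective
    have hθs : Function.Surjective θ := fun z => by
      have hz : val z ∈ (MvPolynomial.aeval (R := A) (BlowUpKoszul.ratio F i)).range := by
        rw [BlowUpKoszul.range_aeval_ratio F i hI]; exact z.2
      obtain ⟨p, hp⟩ := hz
      exact ⟨p, hvalinj ((RingHom.congr_fun hval p).trans hp)⟩
    have hρs : Function.Surjective ρ := fun z => by
      obtain ⟨p, hp⟩ := hθs (σe.symm z)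
      exact ⟨p, σe.symm.injective hp⟩
    have hρk : RingHom.ker ρ ≤ Ideal.span (Set.range fun j : Fin (1 + 1) => MvPolynomial.C (F j)) := by
      intro p hp
      have h1 : p ∈ RingHom.ker (MvPolynomial.aeval (R := A) (BlowUpKoszul.ratio F i)) := by
        rw [RingHom.mem_ker] at hp ⊢
        refine (RingHom.congr_fun hval p).symm.trans ?_
        show val (σe.symm (ρ p)) = 0
        rw [hp, map_zero, map_zero]
      rw [BlowUpKoszul.ker_aeval_ratio F i hg] at h1
      refine (Ideal.span_le.2 ?_) h1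
      rintro _ ⟨j, rfl⟩
      exact sub_mem (Ideal.mul_mem_right _ _ (Ideal.subset_span ⟨i, rfl⟩)) (Ideal.subset_span ⟨_, rfl⟩)
    refine ⟨ψ, hψ, hψC, ?_⟩
    suffices H : ∀ (W' : X.Opens) (h : W' ≤ r ⁻¹ᵁ D) (_ : r ⁻¹ᵁ D = W'),
        Function.Surjective ((r.appLE D W' h).hom.comp ψ) →
        RingHom.ker ((r.appLE D W' h).hom.comp ψ) ≤ Ideal.span (Set.range fun j : Fin (1 + 1) => MvPolynomial.C (F j)) →
          Function.Surjective ((r.app D).hom.comp ψ) ∧
            RingHom.ker ((r.app D).hom.comp ψ) ≤ Ideal.span (Set.range fun j : Fin (1 + 1) => MvPolynomial.C (F j)) from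
      H W hWD (hWdef ▸ hpre i) hρs hρk
    rintro W' h rfl hs hk
    rw [Scheme.Hom.app_eq_appLE]
    exact ⟨hs, hk⟩
  haveI hcl : IsClosedImmersion r := by
    refine (IsZariskiLocalAtTarget.iff_of_iSup_eq_top (P := @IsClosedImmersion) (EmbLib24.chart 1 B)
      (eq_top_iff.2 fun y _ => ?_)).2 fun i => ?_
    · obtain ⟨j, hj⟩ := UPLib.exists_degOne_projSpace (R := CommRingCat.of B) 1 y
      exact Opens.mem_iSup.2 ⟨j, hj⟩
    · obtain ⟨hW, ψ, -, -, hs', -⟩ := hchart i
      haveI : IsAffine (EmbLib24.chart 1 B i).toScheme := EmbLib24.isAffineOpen_chart 1 B i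
      haveI : IsAffine (r ⁻¹ᵁ EmbLib24.chart 1 B i).toScheme := by rw [hpre i]; exact hW
      refine IsClosedImmersion.of_surjective_of_isAffine _ ?_
      rw [morphismRestrict_appTop]
      have hb1 := ConcreteCategory.bijective_of_isIso
        (X.presheaf.map (eqToHom (image_morphismRestrict_preimage r (EmbLib24.chart 1 B i) ⊤)).op)
      have hs : Function.Surjective (r.app ((EmbLib24.chart 1 B i).ι ''ᵁ ⊤)) := by
        rw [Scheme.Opens.ι_image_top]; exact Function.Surjective.of_comp hs'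
      exact hb1.2.comp hs
  refine ⟨r, hcl, hr, ⟨τ⟩, fun y hy => ?_⟩
  obtain ⟨i, hi⟩ := UPLib.exists_degOne_projSpace (R := CommRingCat.of B) 1 y
  obtain ⟨-, ψ, hψ, hψC, -, hk⟩ := hchart i
  let D : (CohB1.ProjSpace 1 B).affineOpens := ⟨EmbLib24.chart 1 B i, EmbLib24.isAffineOpen_chart 1 B i⟩
  have hyD : y ∈ D.1 := hi
  rw [← r.isClosedEmbedding.isClosed_range.closure_eq, ← Scheme.Hom.support_ker]
  have key : y ∈ (CohB1.ProjSpace 1 B).zeroLocus (U := D.1) (r.ker.ideal D : Set Γ(CohB1.ProjSpace 1 B, D.1)) := by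
    refine (Scheme.mem_zeroLocus_iff _ _ _).2 fun a ha => ?_
    obtain ⟨p, rfl⟩ := hψ a
    rw [SetLike.mem_coe, Scheme.Hom.ker_apply, RingHom.mem_ker] at ha
    have hp := hk (RingHom.mem_ker.2 ha)
    let P : Ideal Γ(CohB1.ProjSpace 1 B, D.1) :=
      (IsLocalRing.maximalIdeal ((CohB1.ProjSpace 1 B).presheaf.stalk y)).comap
        ((CohB1.ProjSpace 1 B).presheaf.germ D.1 y hyD).hom
    have hP : ψ p ∈ P := by
      refine (Ideal.span_le (I := P.comap ψ)).2 ?_ hp
      rintro _ ⟨j, rfl⟩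
      show (CohB1.ProjSpace 1 B).presheaf.germ D.1 y hyD (ψ (MvPolynomial.C (F j))) ∈ IsLocalRing.maximalIdeal _
      rw [hψC, show eB.hom.hom (F j) = g j from ConcreteCategory.congr_hom eB.inv_hom_id (g j)]
      refine (IsLocalRing.mem_maximalIdeal _).2 fun hu => hy j ?_
      have h1 : y ∈ (CohB1.ProjSpace 1 B).basicOpen (ProjUP.toGlobal (CohB1.ProjSpace.toSpec 1 B) (g j)) := by
        rw [Scheme.mem_basicOpen_top]
        rw [show (CohB1.ProjSpace 1 B).presheaf.germ D.1 y hyD (EmbLib24.gl (CohB1.ProjSpace.toSpec 1 B) D.1 (g j)) =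
          (CohB1.ProjSpace 1 B).presheaf.Γgerm y (ProjUP.toGlobal (CohB1.ProjSpace.toSpec 1 B) (g j)) from
            TopCat.Presheaf.germ_res_apply _ _ _ _ _] at hu
        exact hu
      rw [show ProjUP.toGlobal (CohB1.ProjSpace.toSpec 1 B) (g j) = (CohB1.ProjSpace.toSpec 1 B).appTop (F j) from rfl,
        ← Scheme.preimage_basicOpen_top, basicOpen_eq_of_affine'] at h1
      rw [← show eB.hom.hom (F j) = g j from ConcreteCategory.congr_hom eB.inv_hom_id (g j)]
      exact h1
    rw [Scheme.mem_basicOpen _ _ _ hyD]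
    exact fun hu => (IsLocalRing.mem_maximalIdeal _).1 hP hu
  exact ((r.ker.coe_support_inter D).ge ⟨key, hyD⟩).1

end Groth.Agent.Resolve13
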