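import Groth.Agent.Resolve13.TorsionVal
import Mathlib

/-!
# Lifting functions from the divisor of an element up to a uniform multiplier
-/

set_option autoImplicit false
set_option backward.isDefEq.respectTransparency.types false
universe u
open CategoryTheory CategoryTheory.Limits AlgebraicGeometry TopologicalSpace

namespace Groth.Agent.Resolve13.Torsion

open DivisorPts IsDiscreteValuationRing

variable {A : Type u} [CommRing A] [IsDomain A] [IsNoetherianRing A] [IsLocalRing A] [IsIntegrallyClosed A]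
  {X : Scheme.{u}} [IsIntegral X] (f : X ⟶ Spec (CommRingCat.of A)) [IsProper f]
  (hmod : ∃ U : (Spec (CommRingCat.of A)).Opens, (U : Set (Spec (CommRingCat.of A))).Nonempty ∧ IsIso (f ∣_ U))
  (hX : Pi1.IsNormalScheme X) (hdim : ringKrullDim A = 2) {a : A} (ha : a ≠ 0)

include hmod hX hdim ha in
/-- The point over a height one prime containing `a`. -/
theorem exists_strict_chart {p : Ideal A} (hpr : p.IsPrime) (hap : a ∈ p) (hpm : p ≠ IsLocalRing.maximalIdeal A)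
    (D : PData a p) :
    ∃ ξ : X, (f ξ).asIdeal = p ∧ ξ ∈ Div f a ∧ vA f a ξ = D.V ∧ Irreducible (γ f ξ D.c) ∧
      (∀ t : X.presheaf.stalk ξ, ∃ r s : A, s ∉ p ∧ t * γ f ξ s = γ f ξ r) ∧
      ∀ ξ' : X, (f ξ').asIdeal = p → ξ' = ξ := by
  let q : PrimeSpectrum A := ⟨p, hpr⟩
  obtain ⟨ξ, hfξ, ⟨hξdim, hfrac⟩, huniq⟩ := exists_strict f hmod hdim q hpm
  have hp : (f ξ).asIdeal = p := congrArg PrimeSpectrum.asIdeal hfξ
  have hu : ∀ r : A, IsUnit (γ f ξ r) ↔ r ∉ p := fun r => (isUnit_γ f ξ r).trans (iff_of_eq (by rw [hp]))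
  have hξ : ξ ∈ Div f a := ⟨by
    haveI := hpr
    rw [hξdim, show q.asIdeal.height = 1 from (height_eq_one_iff hdim ha hap).2 hpm]; rfl,
    fun h => (hu a).1 h hap⟩
  haveI := isDVR f hX ξ hξ.1
  have hmax : IsLocalRing.maximalIdeal (X.presheaf.stalk ξ) = Ideal.span {γ f ξ D.c} := by
    refine le_antisymm (fun t ht => ?_) ((Ideal.span_singleton_le_iff_mem _).2 fun h => (hu D.c).1 h D.hc)
    obtain ⟨r, s, hs, hrs⟩ := hfrac t
    have hr : r ∈ p := by
      by_contra h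
      exact (IsLocalRing.mem_maximalIdeal t).1 ht (isUnit_of_mul_isUnit_left (hrs ▸ (hu r).2 h))
    obtain ⟨s', hs', hdvd⟩ := D.hgen r hr
    obtain ⟨v, hv⟩ := hdvd
    have h1 : γ f ξ D.c ∣ t * (γ f ξ s * γ f ξ s') := ⟨γ f ξ v, by rw [← mul_assoc, hrs, ← map_mul, ← map_mul, mul_comm r, hv]⟩
    exact Ideal.mem_span_singleton.2 ((((hu s).2 hs).mul ((hu s').2 hs')).dvd_mul_right.1 h1)
  have hirr : Irreducible (γ f ξ D.c) := (irreducible_iff_uniformizer _).2 hmax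
  refine ⟨ξ, hp, hξ, ?_, hirr, hfrac, fun ξ' h' => huniq ξ' (PrimeSpectrum.ext h')⟩
  have h1 := (vA_pos f hmod hX ha hξ).2
  have h2 := congrArg (fun r => addVal (X.presheaf.stalk ξ) (γ f ξ r)) D.heq
  simp only [map_mul, map_pow, addVal_mul, addVal_eq_zero_iff.2 ((hu D.z).2 D.hz),
    addVal_eq_zero_iff.2 ((hu D.y).2 D.hy), addVal_pow, addVal_uniformizer hirr, add_zero, zero_add, nsmul_one] at h2
  rw [val_eq, h2] at h1
  exact_mod_cast h1

variable (G : ∀ x : X, X.presheaf.stalk x)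

theorem le_vG {ξ : X} {k : ℕ} (h1 : k ≤ vA f a ξ) (h2 : (k : ℕ∞) ≤ val ξ (G ξ)) : k ≤ vG f a G ξ := by
  rw [← Nat.cast_le (α := ℕ∞), coe_vG]
  exact le_min h2 (by exact_mod_cast h1)

omit [IsDomain A] [IsNoetherianRing A] [IsLocalRing A] [IsIntegrallyClosed A] [IsIntegral X] [IsProper f] in
theorem isSec_mul_sub (hG : IsSec f a G) (s b : A) : IsSec f a (fun x => γ f x s * G x - γ f x b) := by
  intro ξ x h
  have e : sp h (γ f x s * G x - γ f x b) - (γ f ξ s * G ξ - γ f ξ b) = γ f ξ s * (sp h (G x) - G ξ) := by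
    rw [map_sub, map_mul, sp_γ, sp_γ]; ring
  show γ f ξ a ∣ sp h (γ f x s * G x - γ f x b) - (γ f ξ s * G ξ - γ f ξ b)
  rw [e]
  exact (hG ξ x h).mul_left _

variable {G} (P : Finset (Ideal A)) (D : ∀ p ∈ P, PData a p) (θ S : ∀ p ∈ P, A)
  (hP : ∀ p ∈ P, p.IsPrime ∧ a ∈ p ∧ p ≠ IsLocalRing.maximalIdeal A)
  (hall : ∀ q : Ideal A, q.IsPrime → a ∈ q → q ≠ IsLocalRing.maximalIdeal A → q ∈ P)
  (hθ : ∀ p hp, θ p hp ∉ p ∧ ∀ q hq, q ≠ p → θ p hp ∈ q ^ (D q hq).V)
  (hS : ∀ p hp, S p hp - θ p hp * (D p hp).w * (D p hp).z ∈ p ∧ ∀ q ∈ P, S p hp ∉ q)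

/-- The product of the multipliers. -/
noncomputable abbrev S0 : A := ∏ q ∈ P.attach, S q.1 q.2

include hmod hX hdim ha hP hall hθ hS

/-- One step: the total deficit drops after multiplying by `S0` and subtracting a function on the base. -/
theorem step (hne : P.Nonempty) (hG : IsSec f a G) (pt : ∀ p ∈ P, X)
    (hpt : ∀ p hp, (f (pt p hp)).asIdeal = p)
    (hdef : ∃ ξ ∈ Div f a, vG f a G ξ < vA f a ξ) :
    ∃ b : A, ∑ q ∈ P.attach, ((D q.1 q.2).V - vG f a (fun x => γ f x (S0 P S) * G x - γ f x b) (pt q.1 q.2)) <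
      ∑ q ∈ P.attach, ((D q.1 q.2).V - vG f a G (pt q.1 q.2)) := by
  classical
  obtain ⟨ξd, hξd, hltd⟩ := hdef
  obtain ⟨ξ₀, hξ₀, hmin'⟩ := (finite_Div f hmod hX ha).toFinset.exists_min_image
    (fun η => (vG f a G η : ℚ) / vA f a η) ⟨ξd, (Set.Finite.mem_toFinset _).2 hξd⟩
  rw [Set.Finite.mem_toFinset] at hξ₀
  have hmin : ∀ η ∈ Div f a, vG f a G ξ₀ * vA f a η ≤ vG f a G η * vA f a ξ₀ := fun η hη => by
    have h := hmin' η ((Set.Finite.mem_toFinset _).2 hη)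
    rw [div_le_div_iff₀ (by exact_mod_cast (vA_pos f hmod hX ha hξ₀).1) (by exact_mod_cast (vA_pos f hmod hX ha hη).1)] at h
    exact_mod_cast h
  have hV₀ : vG f a G ξ₀ < vA f a ξ₀ := by
    refine lt_of_le_of_ne (vG_le f a G ξ₀) fun h' => ?_
    have := hmin ξd hξd
    rw [h', mul_comm] at this
    exact absurd (Nat.le_of_mul_le_mul_right this (vA_pos f hmod hX ha hξ₀).1) (not_le.2 hltd)
  obtain ⟨ξ, hξ, heq, hne'⟩ := exists_strict_minimiser f hmod hX ha hG hV₀ hmin hdim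
    (by obtain ⟨p, hp⟩ := hne; exact IsLocalRing.le_maximalIdeal (hP p hp).1.ne_top (hP p hp).2.1)
    (by obtain ⟨p, hp⟩ := hne; exact ⟨⟨p, (hP p hp).1⟩, (hP p hp).2.1, (hP p hp).2.2⟩)
    ⟨ξ₀, hξ₀, rfl⟩
  have hap : a ∈ (f ξ).asIdeal := by
    by_contra h
    exact hξ.2 ((isUnit_γ f ξ a).2 h)
  have hp : (f ξ).asIdeal ∈ P := hall _ (f ξ).isPrime hap hne'
  generalize hpdef : (f ξ).asIdeal = p at hp
  have hu : ∀ r : A, IsUnit (γ f ξ r) ↔ r ∉ p := fun r => (isUnit_γ f ξ r).trans (iff_of_eq (by rw [hpdef]))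
  have huniq : ∀ q hq, ∃ η : X, (f η).asIdeal = q ∧ η ∈ Div f a ∧ vA f a η = (D q hq).V ∧
      Irreducible (γ f η (D q hq).c) ∧
      (∀ t : X.presheaf.stalk η, ∃ r s : A, s ∉ q ∧ t * γ f η s = γ f η r) ∧
      ∀ ξ' : X, (f ξ').asIdeal = q → ξ' = η := fun q hq =>
    exists_strict_chart f hmod hX hdim ha (hP q hq).1 (hP q hq).2.1 (hP q hq).2.2 (D q hq)
  obtain ⟨η, -, -, hV, hirr, hfrac, hη⟩ := huniq p hp
  obtain rfl : ξ = η := hη ξ hpdef
  have hptξ : pt p hp = ξ := hη _ (hpt p hp)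
  set E := D p hp with hE
  set i := vG f a G ξ with hi
  haveI := isDVR f hX ξ hξ.1
  have hVA := vA_pos f hmod hX ha hξ
  have hiV : i < vA f a ξ := by
    refine lt_of_le_of_ne (vG_le f a G ξ) fun h' => ?_
    rw [h', mul_comm] at heq
    exact (ne_of_lt hV₀) (Nat.eq_of_mul_eq_mul_left hVA.1 heq)
  obtain ⟨c', hc'⟩ : Associated (γ f ξ E.c ^ i) (G ξ) := by
    rw [← addVal_eq_iff_associated, hirr.addVal_pow, hi, coe_vG, val_eq, min_eq_left]
    by_contra hle
    have := coe_vG f a G ξ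
    rw [val_eq, min_eq_right (not_le.1 hle).le, Nat.cast_inj] at this
    omega
  have hc : G ξ = (c' : X.presheaf.stalk ξ) * γ f ξ E.c ^ i := by rw [← hc', mul_comm]
  obtain ⟨zu, hzu⟩ := (hu E.z).2 E.hz
  let e : X.presheaf.stalk ξ := γ f ξ E.y * (zu⁻¹ : (X.presheaf.stalk ξ)ˣ)
  have he : γ f ξ a = e * γ f ξ E.c ^ vA f a ξ := by
    have h := congrArg (γ f ξ) E.heq
    rw [map_mul, map_mul, map_pow, ← hzu] at h
    rw [hV]
    calc γ f ξ a = γ f ξ a * (zu : X.presheaf.stalk ξ) * (zu⁻¹ : (X.presheaf.stalk ξ)ˣ) := by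
          rw [Units.mul_inv_cancel_right]
      _ = _ := by rw [h]; simp only [e]; ring
  obtain ⟨k, hkint, hk, -⟩ := exists_integral f hmod hX ha hG hV₀ hmin hξ heq hirr hc he
    (((hu E.y).2 E.hy).mul zu⁻¹.isUnit)
  obtain ⟨r, s, hs, hrs⟩ := hfrac (c' : X.presheaf.stalk ξ)
  let φ : A →+* X.residueField ξ := (X.residue ξ).hom.comp (γ f ξ)
  have hker : RingHom.ker φ = p := by
    ext t
    rw [RingHom.mem_ker, ← not_iff_not, ← hu t]
    exact IsLocalRing.residue_ne_zero_iff_isUnit _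
  have hφ0 : ∀ {t : A}, t ∉ p → φ t ≠ 0 := fun h h0 => h (hker ▸ RingHom.mem_ker.2 h0)
  have hcr : (X.residue ξ).hom (c' : X.presheaf.stalk ξ) = φ r / φ s := by
    rw [eq_div_iff (hφ0 hs)]
    show _ * (X.residue ξ).hom (γ f ξ s) = (X.residue ξ).hom (γ f ξ r)
    rw [← map_mul, hrs]
  have her : (X.residue ξ).hom e = φ E.y / φ E.z := by
    rw [eq_div_iff (hφ0 E.hz)]
    show _ * (X.residue ξ).hom (γ f ξ E.z) = (X.residue ξ).hom (γ f ξ E.y)
    rw [← map_mul, ← hzu]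
    simp only [e, Units.inv_mul_cancel_right]
  have hVpos := E.hV
  have hiV' : vG f a G ξ₀ ≤ vA f a ξ₀ := hV₀.le
  have hint : φ.IsIntegralElem (φ (E.z * r) / φ s) := by
    letI : Algebra A (X.residueField ξ) := φ.toAlgebra
    have hk' : _root_.IsIntegral A k := hkint
    have hm : ∀ t : A, _root_.IsIntegral A (φ t) := fun t => isIntegral_algebraMap
    refine IsIntegral.of_pow (n := vA f a ξ₀) (Nat.zero_lt_of_lt hV₀) ?_
    have e1 : (φ (E.z * r) / φ s) ^ vA f a ξ₀ =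
        k * φ E.y ^ vG f a G ξ₀ * φ E.z ^ (vA f a ξ₀ - vG f a G ξ₀) := by
      rw [map_mul, mul_div_assoc, ← hcr, mul_pow, ← hk, her, div_pow]
      obtain ⟨d, hd⟩ := Nat.exists_eq_add_of_le hiV'
      rw [hd, Nat.add_sub_cancel_left, pow_add]
      field_simp [hφ0 E.hz]
    rw [e1]
    exact (hk'.mul ((hm _).pow _)).mul ((hm _).pow _)
  obtain ⟨b', hb'⟩ := E.hint (X.residueField ξ) φ hker (E.z * r) s hs hint
  let T : A := ∏ q ∈ P.attach.erase ⟨p, hp⟩, S q.1 q.2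
  have hS0 : S0 P S = T * S p hp :=
    (Finset.prod_erase_mul P.attach (fun q => S q.1 q.2) (Finset.mem_attach _ ⟨p, hp⟩)).symm
  refine ⟨T * (θ p hp * b' * E.c ^ i), Finset.sum_lt_sum (fun q _ => ?_) ⟨⟨p, hp⟩, Finset.mem_attach _ _, ?_⟩⟩
  · obtain ⟨ζ, hfζ, hζ, hVζ, -, -, hζu⟩ := huniq q.1 q.2
    rw [hζu _ (hpt q.1 q.2)]
    refine Nat.sub_le_sub_left (le_vG f _ (vG_le f a G ζ) ?_) _
    haveI := isDVR f hX ζ hζ.1
    rw [val_eq]
    refine le_trans (le_min ?_ ?_) ((addVal (X.presheaf.stalk ζ)).map_sub _ _)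
    · rw [addVal_mul]
      exact le_trans (by rw [coe_vG, val_eq]; exact min_le_left _ _) le_add_self
    · by_cases hqp : q.1 = p
      · obtain rfl : ζ = ξ := hη ζ (hfζ.trans hqp)
        rw [map_mul, addVal_mul, map_mul, map_pow, addVal_mul, hirr.addVal_pow]
        exact le_add_of_nonneg_of_le zero_le (le_add_of_nonneg_of_le zero_le le_rfl)
      · have h1 : γ f ζ (T * (θ p hp * b' * E.c ^ i)) ∈
            IsLocalRing.maximalIdeal (X.presheaf.stalk ζ) ^ (D q.1 q.2).V := by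
          have h2 : (Ideal.map (γ f ζ) (q.1 ^ (D q.1 q.2).V)) ≤
              IsLocalRing.maximalIdeal (X.presheaf.stalk ζ) ^ (D q.1 q.2).V := by
            rw [Ideal.map_pow]
            refine Ideal.pow_right_mono (Ideal.map_le_iff_le_comap.2 fun t ht => ?_) _
            exact (IsLocalRing.mem_maximalIdeal _).2 fun h => (isUnit_γ f ζ t).1 h (hfζ.symm ▸ ht)
          exact h2 (Ideal.mem_map_of_mem _ (Ideal.mul_mem_left _ _ (Ideal.mul_mem_right _ _
            (Ideal.mul_mem_right _ _ ((hθ p hp).2 q.1 q.2 hqp)))))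
        obtain ⟨π, hπ⟩ := exists_irreducible (X.presheaf.stalk ζ)
        rw [hπ.maximalIdeal_eq, Ideal.span_singleton_pow, Ideal.mem_span_singleton, ← addVal_le_iff_dvd,
          hπ.addVal_pow] at h1
        exact le_trans (by rw [← hVζ]; exact_mod_cast vG_le f a G ζ) h1
  · rw [hptξ]
    refine Nat.sub_lt_sub_left (by rw [← hV]; exact hiV) (Nat.lt_of_lt_of_le (Nat.lt_succ_self i) (le_vG f _ hiV ?_))
    rw [val_eq]
    have hin : ¬ IsUnit (γ f ξ (S p hp) * c' - γ f ξ (θ p hp * b')) := fun h => by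
      refine (h.map (X.residue ξ).hom).ne_zero ?_
      have hSp : φ (S p hp) = φ (θ p hp * E.w * E.z) := by
        rw [← sub_eq_zero, ← map_sub, ← RingHom.mem_ker, hker]; exact (hS p hp).1
      rw [map_sub, map_mul, hcr]
      show φ (S p hp) * (φ r / φ s) - φ (θ p hp * b') = 0
      rw [hSp, map_mul, map_mul, map_mul, ← hb', map_mul]
      ring
    have hfac : γ f ξ (S0 P S) * G ξ - γ f ξ (T * (θ p hp * b' * E.c ^ i)) =
        γ f ξ T * ((γ f ξ (S p hp) * c' - γ f ξ (θ p hp * b')) * γ f ξ E.c ^ i) := by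
      rw [hS0, hc]
      simp only [map_mul, map_pow]
      ring
    show ((i + 1 : ℕ) : ℕ∞) ≤ addVal _ (γ f ξ (S0 P S) * G ξ - γ f ξ (T * (θ p hp * b' * E.c ^ i)))
    rw [hfac, addVal_mul, addVal_mul, hirr.addVal_pow, Nat.cast_add, add_comm (i : ℕ∞)]
    refine le_trans (add_le_add_left ?_ _) le_add_self
    rw [Nat.cast_one, Order.one_le_iff_pos, pos_iff_ne_zero]
    exact fun h => hin (addVal_eq_zero_iff.1 h)

/-- The main statement: a section lifts to the base after multiplying by a fixed element, injectively. -/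
theorem exists_lift (hne : P.Nonempty) (hG : IsSec f a G) :
    (∃ b : A, ∀ x, γ f x a ∣ γ f x (S0 P S ^ ∑ q ∈ P.attach, (D q.1 q.2).V) * G x - γ f x b) ∧
      ((∀ x, γ f x a ∣ γ f x (S0 P S ^ ∑ q ∈ P.attach, (D q.1 q.2).V) * G x) → ∀ x, γ f x a ∣ G x) := by
  classical
  have huniq := fun q hq =>
    exists_strict_chart f hmod hX hdim ha (hP q hq).1 (hP q hq).2.1 (hP q hq).2.2 (D q hq)
  choose pt hpt hDiv hV hirr hfrac hu using huniq
  have full : ∀ (G : ∀ x : X, X.presheaf.stalk x), IsSec f a G →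
      ∑ q ∈ P.attach, ((D q.1 q.2).V - vG f a G (pt q.1 q.2)) = 0 → ∀ x, γ f x a ∣ G x := fun G hG h0 x => by
    by_cases hdef : ∃ ξ ∈ Div f a, vG f a G ξ < vA f a ξ
    · obtain ⟨b, hb⟩ := step f hmod hX hdim ha P D θ S hP hall hθ hS hne hG pt hpt hdef
      rw [h0] at hb
      exact absurd hb (Nat.not_lt_zero _)
    · push Not at hdef
      exact full_dvd f hmod hX ha hG (fun ξ hξ => le_antisymm (vG_le f a G ξ) (hdef ξ hξ)) x
  have main : ∀ (k : ℕ) (G : ∀ x : X, X.presheaf.stalk x), IsSec f a G →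
      ∑ q ∈ P.attach, ((D q.1 q.2).V - vG f a G (pt q.1 q.2)) ≤ k →
      ∃ b : A, ∀ x, γ f x a ∣ γ f x (S0 P S ^ k) * G x - γ f x b := by
    intro k
    induction k with
    | zero =>
      intro G hG hk
      refine ⟨0, fun x => ?_⟩
      rw [pow_zero, map_one, one_mul, map_zero, sub_zero]
      exact full G hG (Nat.le_zero.1 hk) x
    | succ k ih =>
      intro G hG hk
      by_cases hdef : ∃ ξ ∈ Div f a, vG f a G ξ < vA f a ξ
      · obtain ⟨b₁, hb₁⟩ := step f hmod hX hdim ha P D θ S hP hall hθ hS hne hG pt hpt hdef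
        obtain ⟨b₂, hb₂⟩ := ih _ (isSec_mul_sub f G hG (S0 P S) b₁) (by omega)
        refine ⟨S0 P S ^ k * b₁ + b₂, fun x => ?_⟩
        convert hb₂ x using 1
        simp only [map_add, map_mul, map_pow]
        ring
      · push Not at hdef
        refine ⟨0, fun x => ?_⟩
        rw [map_zero, sub_zero]
        exact (full_dvd f hmod hX ha hG (fun ξ hξ => le_antisymm (vG_le f a G ξ) (hdef ξ hξ)) x).mul_left _
  refine ⟨main _ G hG (Finset.sum_le_sum fun q _ => Nat.sub_le _ _), fun h x => full G hG ?_ x⟩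
  refine Finset.sum_eq_zero fun q _ => Nat.sub_eq_zero_of_le (le_vG f _ (hV q.1 q.2).ge ?_)
  haveI := isDVR f hX _ (hDiv q.1 q.2).1
  have hS' : IsUnit (γ f (pt q.1 q.2) (S0 P S ^ ∑ q ∈ P.attach, (D q.1 q.2).V)) := by
    rw [isUnit_γ, hpt q.1 q.2]
    intro hmem
    haveI := (hP q.1 q.2).1
    obtain ⟨q', -, hq'⟩ := ((hP q.1 q.2).1.prod_mem_iff).1 ((hP q.1 q.2).1.mem_of_pow_mem _ hmem)
    exact (hS q'.1 q'.2).2 q.1 q.2 hq'
  have h2 := addVal_le_iff_dvd.2 (h (pt q.1 q.2))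
  have h3 := (vA_pos f hmod hX ha (hDiv q.1 q.2)).2
  rw [addVal_mul, addVal_eq_zero_iff.2 hS', zero_add] at h2
  rw [val_eq] at h3 ⊢
  rw [← hV q.1 q.2, h3]
  exact h2

omit hP hall hθ hS in
/-- A function on the base divisible by `a` on the whole modification is divisible by `a`. -/
theorem dvd_of_forall_dvd (b : A) (h : ∀ x, γ f x a ∣ γ f x b) : a ∣ b := by
  have hF : algebraMap A (FractionRing A) a ≠ 0 := fun e =>
    ha (IsFractionRing.injective A (FractionRing A) (e.trans (map_zero _).symm))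
  obtain ⟨c, hc⟩ := CAlgMisc2.mem_range_of_forall_height_one (algebraMap A (FractionRing A) b / algebraMap A _ a)
    fun p hpr hp => by
      have hpm : p ≠ IsLocalRing.maximalIdeal A := by
        rintro rfl
        have := IsLocalRing.maximalIdeal_height_eq_ringKrullDim (R := A)
        rw [hdim, hp] at this
        exact absurd (WithBot.coe_inj.1 this) (by decide)
      obtain ⟨ξ, -, ⟨-, hfrac⟩, -⟩ := exists_strict f hmod hdim ⟨p, hpr⟩ hpm
      obtain ⟨t, ht⟩ := h ξ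
      obtain ⟨r, s, hs, hrs⟩ := hfrac t
      refine ⟨r, s, hs, ?_⟩
      have h1 : b * s = a * r := γ_injective f hmod ξ (by rw [map_mul, map_mul, ht, mul_assoc, hrs])
      rw [div_mul_eq_mul_div, div_eq_iff hF, ← map_mul, ← map_mul, h1, mul_comm]
  rw [eq_div_iff hF, ← map_mul] at hc
  exact ⟨c, by rw [mul_comm]; exact (IsFractionRing.injective A _ hc).symm⟩

end Groth.Agent.Resolve13.Torsion
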