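import Groth.Agent.Resolve13.GRVanish
import Groth.Agent.EulerLib.Additive
import Groth.Agent.Coherent.FormalSupport
import Groth.Agent.DCat.ProjHomology
import Groth.Agent.Dual22Lib.AdjExists

/-!
# A function annihilating the cokernel of the trace annihilates `H¹(X, O_X)`
-/

set_option autoImplicit false
set_option backward.isDefEq.respectTransparency false
set_option backward.isDefEq.respectTransparency.types false
set_option linter.style.haveILetI false
set_option maxHeartbeats 1000000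

universe u

open CategoryTheory CategoryTheory.Limits CategoryTheory.Pretriangulated DerivedCategory AlgebraicGeometry Opposite
open TopologicalSpace
open Groth.Agent Groth.Agent.Coherent Groth.Agent.DQCoh Groth.Agent.SiteDer16

namespace Groth.Agent.Resolve13.GR

attribute [local instance] HasDerivedCategory.standard
attribute [-instance] Int.instConditionallyCompleteLinearOrder

variable {A : Type u} [CommRing A]

/-- The global section of `M~` given by an element. -/
noncomputable def tt (M : ModuleCat.{u} A) (x : M) : Γ((tilde.functor (CommRingCat.of A)).obj M, ⊤) :=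
  (tilde.toOpen (R := CommRingCat.of A) M ⊤).hom x

theorem tt_smul (M : ModuleCat.{u} A) (r : A) (x : M) :
    tt M (r • x) = ((Scheme.ΓSpecIso (CommRingCat.of A)).inv.hom r) • tt M x :=
  (tilde.toOpen (R := CommRingCat.of A) M ⊤).hom.map_smul r x

theorem tt_bijective (M : ModuleCat.{u} A) : Function.Bijective (tt M) :=
  ConcreteCategory.bijective_of_isIso (tilde.isoTop (R := CommRingCat.of A) M).hom

theorem tt_natural {M N : ModuleCat.{u} A} (g : M ⟶ N) (x : M) :
    ((tilde.functor (CommRingCat.of A)).map g).app ⊤ (tt M x) = tt N (g x) :=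
  ConcreteCategory.congr_hom (tilde.toOpen_map_app (R := CommRingCat.of A) g ⊤) x

theorem hom_tt_bijective (N : (Spec (CommRingCat.of A)).Modules) :
    Function.Bijective (fun f : (tilde.functor (CommRingCat.of A)).obj (ModuleCat.of A A) ⟶ N =>
      f.app ⊤ (tt (ModuleCat.of A A) (1 : A))) := by
  let e := ((tilde.adjunction (R := CommRingCat.of A)).homEquiv (ModuleCat.of A A) N).trans
    ((ModuleCat.homEquiv).trans (LinearMap.ringLmapEquivSelf A ℕ _).toEquiv)
  refine (congrArg Function.Bijective (funext fun f => ?_)).mp e.bijective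
  simp only [e, Equiv.trans_apply, Adjunction.homEquiv_unit]
  rfl

/-- The map to the shift of the residue field vanishes. -/
theorem subsingleton_residue_shift [IsLocalRing A] [IsDomain A] [IsNoetherianRing A] [IsIntegrallyClosed A]
    (hN : CAlg.IsNagata A) (hdim : ringKrullDim A = 2) {X : Scheme.{u}} (f : X ⟶ Spec (CommRingCat.of A))
    [DCoh.HasRpush f] [IsProper f] [IsIntegral X] (hXn : Pi1.IsNormalScheme X)
    (hbir : ∃ U : (Spec (CommRingCat.of A)).Opens, (U : Set (Spec (CommRingCat.of A))).Nonempty ∧ IsIso (f ∣_ U))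
    [PreservesFiniteLimits (tilde.functor (CommRingCat.of A))] (q : Dual.D A)
    (eq : (DCoh.tildeD (CommRingCat.of A)).obj q ≅ (DCoh.Rpush f).obj (DCoh.inD X (Coh.structureModule X))) :
    Subsingleton (Dual.inD A (IsLocalRing.ResidueField A) ⟶ q⟦(1 : ℤ)⟧) := by
  let T := DCoh.tildeD (CommRingCat.of A)
  obtain ⟨hfull, hfaith, -⟩ := DQCoh.tildeD_main (CommRingCat.of A)
  haveI := hfull
  haveI := hfaith
  let Q := (DCoh.Rpush f).obj (DCoh.inD X (Coh.structureModule X))
  haveI : PreservesFiniteColimits (tilde.functor (CommRingCat.of A)) :=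
    haveI := (tilde.adjunction (R := CommRingCat.of A)).leftAdjoint_preservesColimits
    inferInstance
  haveI := Groth.Agent.S7334.result A hN hdim X f hXn hbir
  refine Function.Injective.subsingleton (β := ((T.obj (Dual.inD A (IsLocalRing.ResidueField A)))⟦(-1 : ℤ)⟧ ⟶ Q))
    (f := fun φ => (T.map φ ≫ (T.commShiftIso (1 : ℤ)).hom.app q ≫ eq.hom⟦(1 : ℤ)⟧')⟦(-1 : ℤ)⟧' ≫
      (shiftFunctorCompIsoId (DCoh.D _) (1 : ℤ) (-1) (by norm_num)).hom.app Q) ?_
  intro φ ψ hφψ
  simp only [cancel_mono] at hφψ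
  have := (shiftFunctor (DCoh.D _) (-1 : ℤ)).map_injective hφψ
  rw [cancel_mono] at this
  exact T.map_injective this

/-- The stalks of `R^1 f_*` of a modification vanish off the closed point, so its sections are torsion. -/
theorem exists_pow_smul_eq_zero_rpush [IsLocalRing A] [IsDomain A] [IsNoetherianRing A] (hdim : ringKrullDim A = 2)
    {X : Scheme.{u}} (f : X ⟶ Spec (CommRingCat.of A)) [IsProper f] [IsIntegral X] [HasInjectiveResolutions X.Modules]
    (hbir : ∃ U : (Spec (CommRingCat.of A)).Opens, (U : Set (Spec (CommRingCat.of A))).Nonempty ∧ IsIso (f ∣_ U))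
    (F : X.Modules) (hF : Coh.IsCoh F) (σ : Γ((Coh.Rpush f 1).obj F, ⊤)) {a : A}
    (ha : a ∈ IsLocalRing.maximalIdeal A) :
    ∃ k : ℕ, (((Scheme.ΓSpecIso (CommRingCat.of A)).inv.hom a) ^ k) • σ = 0 := by
  let S := Spec (CommRingCat.of A)
  haveI : IsLocallyNoetherian X := LocallyOfFiniteType.isLocallyNoetherian f
  haveI : CompactSpace X := QuasiCompact.compactSpace_of_compactSpace f
  haveI : QuasiSeparatedSpace X := quasiSeparatedSpace_of_quasiSeparated f
  haveI := hF.1
  let R := (Coh.Rpush f 1).obj F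
  haveI : Coh.IsQCoh R := isQCoh_rpush_of_isAffine f F 1
  obtain ⟨U, hUne, hU⟩ := id hbir
  obtain ⟨hξ, hb⟩ := Coherent.birational_of_isIso_morphismRestrict f U hUne
  have hA2 : ∀ y : S, ringKrullDim (S.presheaf.stalk y) ≤ 2 := by
    intro y
    letI : Algebra A (S.presheaf.stalk y) := StructureSheaf.stalkAlgebra A y
    haveI : IsLocalization.AtPrime (S.presheaf.stalk y) (y : PrimeSpectrum A).asIdeal :=
      StructureSheaf.IsLocalization.to_stalk A y
    rw [IsLocalization.AtPrime.ringKrullDim_eq_height (y : PrimeSpectrum A).asIdeal, ← hdim]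
    exact Ideal.height_le_ringKrullDim_of_ne_top ((y : PrimeSpectrum A).isPrime.ne_top)
  obtain ⟨Z, -, hZc, hZ⟩ := Modification.exists_finite_exceptional f hξ hb hA2
  let r := (Scheme.ΓSpecIso (CommRingCat.of A)).inv.hom a
  refine qcoh_exists_pow_smul_eq_zero (isAffineOpen_top S) R r σ ?_
  refine TopCat.Presheaf.section_ext ⟨R.presheaf, R.isSheaf⟩ _ _ _ fun y hy => ?_
  have hyZ : y ∉ Z := fun hyZ => by
    have hmax : (y : PrimeSpectrum A).asIdeal.IsMaximal :=
      (PrimeSpectrum.isClosed_singleton_iff_isMaximal y).1 (hZc y hyZ)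
    have hy' : y ∈ PrimeSpectrum.basicOpen a := by
      rw [show PrimeSpectrum.basicOpen a = S.basicOpen r from
        (AlgebraicGeometry.basicOpen_eq_of_affine (R := CommRingCat.of A) a).symm]
      exact hy
    exact hy' (IsLocalRing.eq_maximalIdeal hmax ▸ ha)
  have hz : IsZero (R.presheaf.stalk y) := by
    have h0 := H8Lim.isZero_stalk_rpushAb_of_fibre_dim f hF y 0 (by simpa using hZ y hyZ) 1 one_pos
    exact h0.of_iso ((TopCat.Presheaf.stalkFunctor AddCommGrpCat.{u} y).mapIso
      ((sheafToPresheaf _ _).mapIso (toAbRpushIso f F 1)))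
  exact @Subsingleton.elim _ (AddCommGrpCat.subsingleton_of_isZero hz) _ _

/-- A map from `A` through which all others factor is invertible on `H⁰ ≅ A`. -/
theorem isIso_homology_of_factor [IsNoetherianRing A] (q : Dual.D A)
    (e0 : (homologyFunctor (ModuleCat.{u} A) 0).obj q ≅ ModuleCat.of A A) (u : Dual.inD A A ⟶ q)
    (hfac : ∀ y : Dual.inD A A ⟶ q, ∃ v, v ≫ u = y) :
    IsIso ((homologyFunctor (ModuleCat.{u} A) 0).map u) := by
  let F := homologyFunctor (ModuleCat.{u} A) 0
  let c : ModuleCat.of A A ≅ F.obj (Dual.inD A A) :=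
    ((singleFunctorCompHomologyFunctorIso (ModuleCat.{u} A) 0).app (ModuleCat.of A A)).symm
  let g : (ModuleCat.of A A : ModuleCat.{u} A) ⟶ ModuleCat.of A A := c.hom ≫ F.map u ≫ e0.hom
  have hsurj : Function.Surjective g := fun m => by
    obtain ⟨y, hy⟩ := (DCat.ProjHomology.bijective_toH (P := ModuleCat.of A A) q).2
      (ModuleCat.ofHom (LinearMap.toSpanSingleton A _ (e0.inv m)))
    obtain ⟨v, hv⟩ := hfac y
    subst hv
    refine ⟨(c.hom ≫ F.map v ≫ c.inv) (1 : A), ?_⟩
    have e3 : (c.hom ≫ F.map v ≫ c.inv) ≫ g =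
        ModuleCat.ofHom (LinearMap.toSpanSingleton A _ (e0.inv m)) ≫ e0.hom := by
      rw [← hy]
      simp only [g, DCat.ProjHomology.toH, Category.assoc, Iso.inv_hom_id_assoc, Functor.map_comp]
      rfl
    have e4 := ConcreteCategory.congr_hom e3 (1 : A)
    rw [ConcreteCategory.comp_apply, ConcreteCategory.comp_apply (ModuleCat.ofHom (LinearMap.toSpanSingleton A _ (e0.inv m)))] at e4
    refine e4.trans ?_
    have e5 : ∀ (N : ModuleCat.{u} A) (x : N), (ModuleCat.ofHom (LinearMap.toSpanSingleton A N x)) (1 : A) = x :=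
      fun N x => one_smul A x
    rw [e5, Iso.inv_hom_id_apply]
  have hbij : Function.Bijective g :=
    ⟨IsNoetherian.injective_of_surjective_endomorphism (g.hom : A →ₗ[A] A) hsurj, hsurj⟩
  haveI : IsIso g := (ConcreteCategory.isIso_iff_bijective g).2 hbij
  haveI : IsIso (F.map u ≫ e0.hom) := IsIso.of_isIso_comp_left c.hom _
  exact IsIso.of_isIso_comp_right _ e0.hom

variable [IsLocalRing A] [IsDomain A] [IsNoetherianRing A] [IsIntegrallyClosed A]

/-- If `d` kills the cokernel of the trace then `d` kills `H¹(X, O_X)`. -/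
theorem smul_HH_one_eq_zero (hN : CAlg.IsNagata A) (hdim : ringKrullDim A = 2)
    {X : Scheme.{u}} [X.Over (Spec (CommRingCat.of A))] [IsProper (X ↘ Spec (CommRingCat.of A))] [IsIntegral X]
    (hXn : Pi1.IsNormalScheme X)
    (hbir : ∃ U : (Spec (CommRingCat.of A)).Opens, (U : Set (Spec (CommRingCat.of A))).Nonempty ∧
      IsIso ((X ↘ Spec (CommRingCat.of A)) ∣_ U))
    {ωA : Type u} [AddCommGroup ωA] [Module A ωA] (hω : Dual.IsDualizing A (Dual.inD A ωA))
    [PreservesFiniteLimits (tilde.functor (CommRingCat.of A))] (d : A)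
    [DCoh.HasRpush (X ↘ Spec (CommRingCat.of A))] (h : DCoh.RpushPreservesQCoh (X ↘ Spec (CommRingCat.of A)))
    [DCoh.HasShriek (X ↘ Spec (CommRingCat.of A)) h] (WA : DCoh.DQCoh (Spec (CommRingCat.of A)))
    (eW : WA.obj ≅ (DCoh.tildeD (CommRingCat.of A)).obj (Dual.inD A ωA))
    (htr : ∀ s : ((DerivedCategory.homologyFunctor (Spec (CommRingCat.of A)).Modules 0).obj WA.obj).val.obj (Opposite.op ⊤),
      ∃ t, (((DerivedCategory.homologyFunctor (Spec (CommRingCat.of A)).Modules 0).map
          ((ObjectProperty.ι DCoh.IsQCohD).map ((DCoh.trace (X ↘ Spec (CommRingCat.of A)) h).app WA))).val.app (Opposite.op ⊤)) t =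
        ((Scheme.ΓSpecIso (CommRingCat.of A)).inv.hom d) • s)
    (x : Coh.HH X (Coh.structureModule X) 1) : d • x = 0 := by
  classical
  let f := X ↘ Spec (CommRingCat.of A)
  let S := Spec (CommRingCat.of A)
  let TF := tilde.functor (CommRingCat.of A)
  let T := DCoh.tildeD (CommRingCat.of A)
  let H := homologyFunctor S.Modules
  let HA' := homologyFunctor (ModuleCat.{u} A)
  let iso := (Scheme.ΓSpecIso (CommRingCat.of A)).inv.hom
  obtain ⟨hfull, hfaith, hess⟩ := DQCoh.tildeD_main (CommRingCat.of A)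
  haveI := hfull
  haveI := hfaith
  haveI hTFf : TF.Full := (tilde.fullyFaithfulFunctor (R := CommRingCat.of A)).full
  haveI hTFa : TF.Faithful := (tilde.fullyFaithfulFunctor (R := CommRingCat.of A)).faithful
  haveI := DCat.hasLpull f
  obtain ⟨_, _⟩ := DCat.exists_commShift_Rpush f
  haveI : IsLocallyNoetherian X := LocallyOfFiniteType.isLocallyNoetherian f
  haveI : CompactSpace X := QuasiCompact.compactSpace_of_compactSpace f
  haveI : QuasiSeparatedSpace X := quasiSeparatedSpace_of_quasiSeparated f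
  haveI := Coherent.hasInjectiveResolutions_modules X
  haveI : PreservesFiniteColimits TF :=
    haveI := (tilde.adjunction (R := CommRingCat.of A)).leftAdjoint_preservesColimits
    inferInstance
  let OX := DCoh.inD X (Coh.structureModule X)
  let Q := (DCoh.Rpush f).obj OX
  obtain ⟨q, ⟨eq⟩⟩ := (hess Q).1 (h _ (isQCohD_inD' Coherent.isQCoh_structureModule))
  have happ := isIso_appTop f hbir
  -- cohomology of `q`
  have ηi : ∀ i : ℤ, Nonempty ((H i).obj Q ≅ TF.obj ((HA' i).obj q)) := fun i => by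
    obtain ⟨η⟩ := DQCoh.nonempty_homology_natIso TF i
    exact ⟨((H i).mapIso eq).symm ≪≫ η.app q⟩
  have hz : ∀ i : ℤ, (i < 0 ∨ 1 < i) → IsZero ((HA' i).obj q) := fun i hi => by
    have hQ : IsZero ((H i).obj Q) := by
      rcases hi with hi | hi
      · exact DerivedCategory.isZero_of_isGE _ 0 i hi (hX := Dual22Lib.RepLib.isGE_Rpush f _ 0)
      · obtain ⟨p, rfl⟩ := Int.eq_ofNat_of_zero_le (show 0 ≤ i by omega)
        obtain ⟨b⟩ := FlatBC14.nonempty_homology_Rpush f (Coh.structureModule X) p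
        haveI := Coherent.isQCoh_structureModule (X := X)
        exact (isZero_rpush_of_subsingleton_HH f _ p
          (subsingleton_HH_two_le f hdim hbir _ inferInstance p (by omega))).of_iso b
    rw [IsZero.iff_id_eq_zero]
    refine TF.map_injective ?_
    rw [TF.map_id, TF.map_zero, ← IsZero.iff_id_eq_zero]
    exact hQ.of_iso (ηi i).some.symm
  haveI : q.IsGE 0 := (DerivedCategory.isGE_iff _ _).2 fun i hi => hz i (Or.inl hi)
  haveI : q.IsLE 1 := (DerivedCategory.isLE_iff _ _).2 fun i hi => hz i (Or.inr hi)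
  -- the unit
  obtain ⟨adj⟩ := DCat.nonempty_pullPushAdj f
  obtain ⟨θ, hθ⟩ := exists_lift_pull f (isIso_unitPush f happ)
  let O₁ := DCoh.inD S (Coh.structureModule S)
  let u' : O₁ ⟶ Q := adj.homEquiv _ _ θ.hom
  let G₀ := Dual.inD A A
  let a₀ : T.obj G₀ ≅ O₁ := (TF.mapDerivedCategorySingleFunctor 0).app (ModuleCat.of A A) ≪≫
    (singleFunctor _ 0).mapIso ((DQCoh.topIso (CommRingCat.of A)).symm ≪≫ DQCoh.topStructIso S)
  let u : G₀ ⟶ q := T.preimage (a₀.hom ≫ u' ≫ eq.inv)
  have hTu : T.map u = a₀.hom ≫ u' ≫ eq.inv := T.map_preimage _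
  have hfac : ∀ y : G₀ ⟶ q, ∃ v, v ≫ u = y := fun y => by
    obtain ⟨v₁, hv₁⟩ := hθ ((adj.homEquiv _ _).symm (a₀.inv ≫ T.map y ≫ eq.hom))
    have h1 : v₁ ≫ u' = a₀.inv ≫ T.map y ≫ eq.hom := by
      rw [← Adjunction.homEquiv_naturality_left, hv₁, Equiv.apply_symm_apply]
    refine ⟨T.preimage (a₀.hom ≫ v₁ ≫ a₀.inv), T.map_injective ?_⟩
    rw [Functor.map_comp, T.map_preimage, hTu]
    simp [reassoc_of% h1]
  have hu : IsIso ((HA' 0).map u) := by
    obtain ⟨b₀⟩ := FlatBC14.nonempty_homology_Rpush f (Coh.structureModule X) 0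
    haveI := isIso_unitPush f happ
    let e : TF.obj ((HA' 0).obj q) ≅ TF.obj (ModuleCat.of A A) :=
      (ηi 0).some.symm ≪≫ b₀ ≪≫ (Scheme.Modules.pushforward f).rightDerivedZeroIsoSelf.app _ ≪≫
        (asIso (unitPush f)).symm ≪≫ (DQCoh.topStructIso S).symm ≪≫ DQCoh.topIso (CommRingCat.of A)
    exact isIso_homology_of_factor q (TF.preimageIso e) u hfac
  -- the extension property
  have hd : ∀ φ : G₀ ⟶ Dual.inD A ωA, ∃ ψ : q ⟶ Dual.inD A ωA, u ≫ ψ = d • φ := fun φ => by
    let Gs := (DCoh.shriek f h).obj WA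
    let ε : (DCoh.Rpush f).obj Gs.obj ⟶ WA.obj := ((DCoh.trace f h).app WA).hom
    obtain ⟨η⟩ := DQCoh.nonempty_homology_natIso TF 0
    let eg : (H 0).obj (T.obj G₀) ≅ TF.obj (ModuleCat.of A A) :=
      η.app G₀ ≪≫ TF.mapIso ((singleFunctorCompHomologyFunctorIso (ModuleCat.{u} A) 0).app (ModuleCat.of A A))
    let c₁ : Γ((H 0).obj (T.obj G₀), ⊤) := eg.inv.app ⊤ (tt (ModuleCat.of A A) (1 : A))
    let ev : ∀ Z : DCoh.D S, (T.obj G₀ ⟶ Z) → Γ((H 0).obj Z, ⊤) := fun Z g => ((H 0).map g).app ⊤ c₁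
    have hev : ∀ Z : DCoh.D S, DCoh.IsQCohD Z → Function.Bijective (ev Z) := fun Z hZ => by
      have hc : Function.Bijective (fun k : (H 0).obj (T.obj G₀) ⟶ (H 0).obj Z => eg.inv ≫ k) :=
        ⟨fun _ _ hk => (cancel_epi eg.inv).1 hk, fun k => ⟨eg.hom ≫ k, eg.inv_hom_id_assoc k⟩⟩
      refine (congrArg Function.Bijective (funext fun g => ?_)).mp
        ((hom_tt_bijective ((H 0).obj Z)).comp (hc.comp (DQCoh.bijective_homology_map_gen (CommRingCat.of A) hZ)))
      show (eg.inv ≫ (H 0).map g).app ⊤ (tt (ModuleCat.of A A) (1 : A)) = ((H 0).map g).app ⊤ c₁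
      rfl
    let ml : G₀ ⟶ G₀ := d • 𝟙 G₀
    have hml : ((H 0).map (T.map ml)).app ⊤ c₁ = iso d • c₁ := by
      have e1 : eg.inv ≫ (H 0).map (T.map ml) = TF.map (d • 𝟙 (ModuleCat.of A A)) ≫ eg.inv := by
        rw [Iso.inv_comp_eq, ← Category.assoc, Iso.eq_comp_inv]
        have := η.hom.naturality ml
        simp only [Functor.comp_map] at this
        simp only [eg, Iso.trans_hom, Iso.app_hom, Functor.mapIso_hom]
        erw [← Category.assoc, this, Category.assoc, Category.assoc, ← Functor.map_comp, ← Functor.map_comp]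
        refine congrArg (_ ≫ ·) (congrArg TF.map ?_)
        have hmlS : ml = (singleFunctor (ModuleCat.{u} A) 0).map (d • 𝟙 (ModuleCat.of A A)) := by
          rw [Functor.map_smul, CategoryTheory.Functor.map_id]
        rw [hmlS]
        exact (singleFunctorCompHomologyFunctorIso (ModuleCat.{u} A) 0).hom.naturality (d • 𝟙 (ModuleCat.of A A))
      have e2 := ConcreteCategory.congr_hom (congrArg (fun α => α.app ⊤) e1) (tt (ModuleCat.of A A) (1 : A))
      refine e2.trans ?_
      show eg.inv.app ⊤ ((TF.map (d • 𝟙 (ModuleCat.of A A))).app ⊤ (tt (ModuleCat.of A A) (1 : A))) = _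
      rw [tt_natural]
      show eg.inv.app ⊤ (tt (ModuleCat.of A A) (d • (1 : A))) = _
      rw [tt_smul, Scheme.Modules.Hom.app_smul]
    obtain ⟨t, ht⟩ := htr (ev WA.obj (T.map φ ≫ eW.inv))
    obtain ⟨χ, hχ⟩ := (hev _ (h _ Gs.property)).2 t
    have hχε : χ ≫ ε = T.map ml ≫ T.map φ ≫ eW.inv := by
      refine (hev _ WA.property).1 ?_
      show ((H 0).map (χ ≫ ε)).app ⊤ c₁ = ((H 0).map (T.map ml ≫ T.map φ ≫ eW.inv)).app ⊤ c₁
      rw [Functor.map_comp, Functor.map_comp]
      show ((H 0).map ε).app ⊤ (ev _ χ) = ((H 0).map (T.map φ ≫ eW.inv)).app ⊤ (((H 0).map (T.map ml)).app ⊤ c₁)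
      rw [hχ, hml, Scheme.Modules.Hom.app_smul]
      exact ht
    let g₀ : OX ⟶ Gs.obj := θ.inv ≫ (adj.homEquiv _ _).symm (a₀.inv ≫ χ)
    have hg : a₀.hom ≫ u' ≫ (DCoh.Rpush f).map g₀ = χ := by
      rw [← Adjunction.homEquiv_naturality_right, Iso.hom_inv_id_assoc, Equiv.apply_symm_apply, Iso.hom_inv_id_assoc]
    refine ⟨T.preimage (eq.hom ≫ ((DCoh.Rpush f).map g₀ ≫ ε) ≫ eW.hom), T.map_injective ?_⟩
    rw [T.map_comp, hTu, T.map_preimage, show d • φ = ml ≫ φ by simp [ml], T.map_comp]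
    rw [show (a₀.hom ≫ u' ≫ eq.inv) ≫ eq.hom ≫ ((DCoh.Rpush f).map g₀ ≫ ε) ≫ eW.hom =
      (a₀.hom ≫ u' ≫ (DCoh.Rpush f).map g₀) ≫ ε ≫ eW.hom by simp only [Category.assoc, Iso.inv_hom_id_assoc],
      hg, ← Category.assoc, hχε, Category.assoc, Category.assoc, Iso.inv_hom_id, Category.comp_id]
  -- torsion and conclusion
  obtain ⟨b₁⟩ := FlatBC14.nonempty_homology_Rpush f (Coh.structureModule X) 1
  let R := (Coh.Rpush f 1).obj (Coh.structureModule X)
  let eR : R ≅ TF.obj ((HA' 1).obj q) := b₁.symm ≪≫ (ηi 1).some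
  let M := (HA' 1).obj q
  have heR : ∀ σ : Γ(R, ⊤), ∃ m : M, eR.hom.app ⊤ σ = tt M m := fun σ =>
    ((tt_bijective M).2 (eR.hom.app ⊤ σ)).imp fun _ h => h.symm
  have heRinj : Function.Injective (eR.hom.app ⊤) :=
    Function.LeftInverse.injective (g := eR.inv.app ⊤) fun σ =>
      ConcreteCategory.congr_hom (congrArg (fun α => α.app ⊤) eR.hom_inv_id) σ
  have htors : ∀ m : Dual.HD A q 1, ∃ n : ℕ, ∀ a ∈ IsLocalRing.maximalIdeal A ^ n, a • m = 0 := fun m => by
    let J := Module.annihilator A ↥(Submodule.span A ({m} : Set M))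
    have hmem : ∀ a : A, a ∈ J ↔ a • (m : M) = 0 := fun a => by
      rw [Submodule.mem_annihilator]
      exact ⟨fun h => h m (Submodule.mem_span_singleton_self _), fun h y hy => by
        obtain ⟨r, rfl⟩ := Submodule.mem_span_singleton.1 hy
        rw [smul_comm, h, smul_zero]⟩
    have hle : IsLocalRing.maximalIdeal A ≤ J.radical := fun a ha => by
      obtain ⟨k, hk⟩ := exists_pow_smul_eq_zero_rpush hdim f hbir _ (Coherent.isCoh_structureModule X)
        (eR.inv.app ⊤ (tt M m)) ha
      refine ⟨k, (hmem _).2 ((tt_bijective M).1 ?_)⟩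
      rw [tt_smul, map_pow]
      have h1 := congrArg (eR.hom.app ⊤) hk
      rw [Scheme.Modules.Hom.app_smul, map_zero, show eR.hom.app ⊤ (eR.inv.app ⊤ (tt M m)) = tt M m from
        ConcreteCategory.congr_hom (congrArg (fun α => α.app ⊤) eR.inv_hom_id) (tt M m)] at h1
      rw [h1]
      exact ((tilde.toOpen (R := CommRingCat.of A) M ⊤).hom.map_zero).symm
    obtain ⟨n, hn⟩ := Ideal.exists_radical_pow_le_of_fg J (IsNoetherian.noetherian _)
    exact ⟨n, fun a ha => (hmem a).1 (hn (Ideal.pow_right_mono hle n ha))⟩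
  have hkill := DualGR.smul_eq_zero_of_extends hdim hω q u hu
    (subsingleton_residue_shift hN hdim f hXn hbir q eq) d hd htors
  let y := EulerLib.HHBaseEquiv A (Coh.structureModule X) 1 x
  have hy0 : toRpush f (Coh.structureModule X) 1 ⊤
      (EulerLib.HHBaseEquiv A (Coh.structureModule X) 1 (d • x)) = 0 := by
    have h1 : toRpush f (Coh.structureModule X) 1 ⊤
        (EulerLib.HHBaseEquiv A (Coh.structureModule X) 1 (d • x)) = iso d • toRpush f (Coh.structureModule X) 1 ⊤ y := by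
      refine Eq.trans ?_ ((congrArg (fun z : Γ(S, ⊤) => z • toRpush f (Coh.structureModule X) 1 ⊤ y)
        (ConcreteCategory.congr_hom (S.presheaf.map_id (op ⊤)) (iso d))))
      refine Eq.trans ?_ (toRpush_smul f (Coh.structureModule X) 1 (iso d) ⊤ y).symm
      rw [map_smul]
      rfl
    rw [h1]
    refine heRinj ?_
    obtain ⟨m, hm⟩ := heR (toRpush f (Coh.structureModule X) 1 ⊤ y)
    rw [Scheme.Modules.Hom.app_smul, hm, ← tt_smul, show d • m = 0 from hkill m, map_zero]
    exact (tilde.toOpen (R := CommRingCat.of A) M ⊤).hom.map_zero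
  haveI := Coherent.isQCoh_structureModule (X := X)
  exact (EulerLib.HHBaseEquiv A (Coh.structureModule X) 1).injective
    (((toRpush_bijective f (Coh.structureModule X) 1).1 (hy0.trans (map_zero _).symm)).trans (map_zero _).symm)

end Groth.Agent.Resolve13.GR
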