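import Groth.Agent.Resolve13.TorsionVal
import Mathlib

/-!
# Principalising an ideal of a finite extension by an ideal of the base
-/

set_option autoImplicit false
universe u

open Polynomial

namespace Groth.Agent.Resolve13.UpContent

/-- An ideal of a finite extension is the content of a polynomial dividing one from the base. -/
theorem exists_poly {A B : Type u} [CommRing A] [CommRing B] [IsDomain A] [IsDomain B] [IsNoetherianRing B]
    [Algebra A B] [Module.Finite A B] (hinj : Function.Injective (algebraMap A B)) (I : Ideal B) (hI : I ≠ ⊥) :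
    ∃ (g Q : B[X]) (P : A[X]), g.contentIdeal = I ∧ P ≠ 0 ∧ P.map (algebraMap A B) = g * Q := by
  classical
  obtain ⟨k, v, hv⟩ := Submodule.fg_iff_exists_fin_generating_family.1 (IsNoetherian.noetherian I)
  let g : B[X] := ∑ i : Fin k, monomial i (v i)
  have hcoeff : ∀ i : Fin k, g.coeff i = v i := fun i => by
    simp only [g, finset_sum_coeff, coeff_monomial]
    rw [Finset.sum_eq_single i (fun j _ hj => if_neg fun h => hj (Fin.ext h)) (fun h => absurd (Finset.mem_univ i) h),
      if_pos rfl]
  have hg : g.contentIdeal = I := by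
    refine le_antisymm ?_ ?_
    · rw [contentIdeal_def, Ideal.span_le]
      intro r hr
      obtain ⟨n, -, rfl⟩ := mem_coeffs_iff.1 hr
      simp only [g, finset_sum_coeff, coeff_monomial]
      refine Ideal.sum_mem _ fun i _ => ?_
      split_ifs
      · exact hv ▸ Submodule.subset_span ⟨i, rfl⟩
      · exact Ideal.zero_mem _
    · conv_lhs => rw [← hv]
      rw [Submodule.span_le]
      rintro r ⟨i, rfl⟩
      exact hcoeff i ▸ g.coeff_mem_contentIdeal i
  have hg0 : g ≠ 0 := fun h => hI (by rw [← hg, h, contentIdeal_zero])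
  letI : Algebra A[X] B[X] := (mapRingHom (algebraMap A B)).toAlgebra
  have hint : _root_.IsIntegral A[X] g := by
    refine IsIntegral.sum _ fun i _ => ?_
    rw [← C_mul_X_pow_eq_monomial]
    refine IsIntegral.mul ?_ ?_
    · obtain ⟨p, hp, hp0⟩ := Algebra.IsIntegral.isIntegral (R := A) (v i)
      refine ⟨p.map C, hp.map _, ?_⟩
      rw [eval₂_map]
      have e : (algebraMap A[X] B[X]).comp C = (C : B →+* B[X]).comp (algebraMap A B) :=
        RingHom.ext fun a => map_C (algebraMap A B)
      rw [e, ← hom_eval₂, hp0, map_zero]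
    · refine IsIntegral.pow ?_ _
      have e : algebraMap A[X] B[X] X = X := map_X (algebraMap A B)
      exact e ▸ isIntegral_algebraMap
  obtain ⟨P, hP, hP0⟩ := Submodule.exists_mem_ne_zero_of_ne_bot
    (Ideal.comap_ne_bot_of_integral_mem hg0 (Ideal.mem_span_singleton_self g) hint)
  obtain ⟨Q, hQ⟩ := Ideal.mem_span_singleton.1 (Ideal.mem_comap.1 hP)
  exact ⟨g, Q, P, hg, hP0, hQ⟩

/-- Gauss: in a principal ideal domain contents multiply. -/
theorem dvd_coeff_mul {R : Type u} [CommRing R] [IsDomain R] [IsPrincipalIdealRing R] (g Q : R[X]) (c : R)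
    (h : ∀ n, c ∣ (g * Q).coeff n) (i m : ℕ) : c ∣ g.coeff i * Q.coeff m := by
  have key : ∀ p : R[X], ∃ (x : R) (p' : R[X]), p = C x * p' ∧ p'.contentIdeal = ⊤ := fun p => by
    by_cases hp : p = 0
    · exact ⟨0, 1, by rw [hp, map_zero, zero_mul], contentIdeal_one⟩
    obtain ⟨p', hp'⟩ := (IsPrincipalIdealRing.principal p.contentIdeal).contentIdeal_generator_dvd
    generalize hx : Submodule.IsPrincipal.generator p.contentIdeal = x at hp'
    refine ⟨x, p', hp', ?_⟩
    have hx' : p.contentIdeal = Ideal.span {x} := by rw [← hx, Ideal.span_singleton_generator]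
    have hx0 : x ≠ 0 := fun h0 => hp (by rw [hp', h0, map_zero, zero_mul])
    have h1 : p.contentIdeal ≤ Ideal.span {x} * p'.contentIdeal := by
      conv_lhs => rw [hp']
      rw [← contentIdeal_C x]
      exact contentIdeal_mul_le_mul_contentIdeal _ _
    obtain ⟨t, ht, hxt⟩ := Ideal.mem_span_singleton_mul.1 (h1 (hx' ▸ Ideal.mem_span_singleton_self x))
    exact (Ideal.eq_top_iff_one _).2 ((mul_right_eq_self₀.1 hxt).resolve_right hx0 ▸ ht)
  obtain ⟨x, g', hg, hg'⟩ := key g
  obtain ⟨y, Q', hQ, hQ'⟩ := key Q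
  have h1 : Ideal.span {x * y} * (g' * Q').contentIdeal ≤ Ideal.span {c} := by
    rw [contentIdeal_def, Ideal.span_mul_span', Ideal.span_le]
    rintro z ⟨a, ha, b, hb, rfl⟩
    rw [Set.mem_singleton_iff] at ha
    subst ha
    obtain ⟨n, -, rfl⟩ := mem_coeffs_iff.1 hb
    refine Ideal.mem_span_singleton.2 ((h n).trans (dvd_of_eq ?_))
    rw [hg, hQ, show C x * g' * (C y * Q') = C (x * y) * (g' * Q') by rw [map_mul]; ring, coeff_C_mul]
  rw [contentIdeal_mul_eq_top_of_contentIdeal_eq_top hg' hQ', Ideal.mul_top, Ideal.span_singleton_le_span_singleton] at h1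
  rw [hg, hQ, coeff_C_mul, coeff_C_mul, mul_mul_mul_comm]
  exact h1.mul_right _

/-- Gauss for integrally closed Noetherian domains. -/
theorem dvd_coeff_mul' {R : Type u} [CommRing R] [IsDomain R] [IsNoetherianRing R] [IsIntegrallyClosed R]
    (g Q : R[X]) (c : R) (hc : c ≠ 0) (h : ∀ n, c ∣ (g * Q).coeff n) (i m : ℕ) : c ∣ g.coeff i * Q.coeff m := by
  have hc' : algebraMap R (FractionRing R) c ≠ 0 := fun e => hc (IsFractionRing.injective R _ (e.trans (map_zero _).symm))
  obtain ⟨t, ht⟩ := CAlgMisc2.mem_range_of_forall_height_one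
    (algebraMap R (FractionRing R) (g.coeff i * Q.coeff m) / algebraMap R _ c) fun P hPp hP => by
      let S := Localization.AtPrime P
      haveI : IsIntegrallyClosed S := isIntegrallyClosed_of_isLocalization S P.primeCompl P.primeCompl_le_nonZeroDivisors
      haveI : IsNoetherianRing S := IsLocalization.isNoetherianRing P.primeCompl S inferInstance
      haveI : IsDiscreteValuationRing S := Torsion.isDVR_of_dim_one (by
        rw [IsLocalization.AtPrime.ringKrullDim_eq_height P S, hP]; rfl)
      have hinj : Function.Injective (algebraMap R S) := IsLocalization.injective S P.primeCompl_le_nonZeroDivisors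
      obtain ⟨q, hq⟩ := dvd_coeff_mul (g.map (algebraMap R S)) (Q.map (algebraMap R S)) (algebraMap R S c)
        (fun n => by rw [← Polynomial.map_mul, coeff_map]; exact (algebraMap R S).map_dvd (h n)) i m
      obtain ⟨⟨r, s⟩, hrs⟩ := IsLocalization.surj P.primeCompl q
      refine ⟨r, s, s.2, ?_⟩
      have h1 : g.coeff i * Q.coeff m * s = c * r := hinj (by
        rw [map_mul, map_mul, map_mul, ← show q * algebraMap R S s = algebraMap R S r from hrs, ← mul_assoc]
        rw [coeff_map, coeff_map] at hq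
        rw [hq])
      rw [div_mul_eq_mul_div, div_eq_iff hc', ← map_mul, ← map_mul, h1, mul_comm]
  rw [eq_div_iff hc', ← map_mul] at ht
  exact ⟨t, by rw [mul_comm c]; exact (IsFractionRing.injective R _ ht).symm⟩

/-- If the content of a product is principal, so is that of each factor. -/
theorem exists_span_of_mul {R : Type u} [CommRing R] [IsDomain R] [IsLocalRing R] [IsNoetherianRing R]
    [IsIntegrallyClosed R] (g Q : R[X]) {c : R} (hc : c ≠ 0) (h : (g * Q).contentIdeal = Ideal.span {c}) :
    ∃ x, x ≠ 0 ∧ g.contentIdeal = Ideal.span {x} := by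
  have hle : g.contentIdeal * Q.contentIdeal ≤ Ideal.span {c} := by
    rw [contentIdeal_def, contentIdeal_def, Ideal.span_mul_span', Ideal.span_le]
    rintro z ⟨a, ha, b, hb, rfl⟩
    obtain ⟨i, -, rfl⟩ := mem_coeffs_iff.1 ha
    obtain ⟨m, -, rfl⟩ := mem_coeffs_iff.1 hb
    exact Ideal.mem_span_singleton.2 (dvd_coeff_mul' g Q c hc
      (fun n => Ideal.mem_span_singleton.1 (h ▸ coeff_mem_contentIdeal _ n)) i m)
  by_contra hcon
  push Not at hcon
  have hm : g.contentIdeal * Q.contentIdeal ≤ Ideal.span {c} * IsLocalRing.maximalIdeal R := by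
    refine Ideal.mul_le.2 fun x hx y hy => ?_
    obtain ⟨r, hr⟩ := Ideal.mem_span_singleton.1 (hle (Ideal.mul_mem_mul hx hy))
    refine Ideal.mem_span_singleton_mul.2 ⟨r, (IsLocalRing.mem_maximalIdeal r).2 fun hru => ?_, hr.symm⟩
    have hxy : x * y ≠ 0 := by rw [hr]; exact mul_ne_zero hc hru.ne_zero
    refine hcon x (left_ne_zero_of_mul hxy) (le_antisymm (fun x' hx' => ?_) ((Ideal.span_singleton_le_iff_mem _).2 hx))
    obtain ⟨r', hr'⟩ := Ideal.mem_span_singleton.1 (hle (Ideal.mul_mem_mul hx' hy))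
    obtain ⟨w, hw⟩ := hru
    refine Ideal.mem_span_singleton.2 ⟨r' * (w⁻¹ : Rˣ), mul_right_cancel₀ (right_ne_zero_of_mul hxy) ?_⟩
    rw [show x * (r' * (w⁻¹ : Rˣ)) * y = x * y * (w⁻¹ : Rˣ) * r' by ring, hr, ← hw, Units.mul_inv_cancel_right, hr']
  obtain ⟨t, ht, htc⟩ := Ideal.mem_span_singleton_mul.1 (hm (contentIdeal_mul_le_mul_contentIdeal g Q
    (h ▸ Ideal.mem_span_singleton_self c)))
  exact (IsLocalRing.mem_maximalIdeal t).1 ht (((mul_right_eq_self₀.1 htc).resolve_right hc).symm ▸ isUnit_one)

end Groth.Agent.Resolve13.UpContent
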